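import Cfsg.Agent.H5.OutSolv
import Cfsg.Agent.H9.RankOne
import Cfsg.Agent.H3.Bound
import Cfsg.Agent.H2.LinGroup

/-! Anisotropic quadratic maps between elementary abelian `2`-groups and their automorphisms. -/

set_option autoImplicit false

namespace Cfsg.H5.GA

open Subgroup Cfsg.L0 Cfsg.H8

/-- an anisotropic quadratic map `q` with polar map `β` -/
structure QD {V Ω : Type*} [CommGroup V] [CommGroup Ω] (q : V → Ω) (β : V → V → Ω) : Prop where
  sqV : ∀ v : V, v * v = 1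
  sqΩ : ∀ t : Ω, t * t = 1
  mul : ∀ u v, q (u * v) = q u * q v * β u v
  left : ∀ u u' v, β (u * u') v = β u v * β u' v
  one : q 1 = 1
  anis : ∀ v, q v = 1 → v = 1

theorem arith_fib {n m f : ℕ} (hn : 1 ≤ n) (h1 : 2 ^ m = 1 + (2 ^ n - 1) * f)
    (h2 : (2 : ℤ) ^ m ∣ (1 - (f : ℤ)) ^ 2) : f = 0 ∨ f = 1 ∨ f = 2 ^ n + 1 := by
  obtain ⟨N, hN⟩ : ∃ N, 2 ^ n = N + 1 := ⟨2 ^ n - 1, (Nat.sub_add_cancel Nat.one_le_two_pow).symm⟩
  have hN1 : 1 ≤ N := by
    have : 2 ^ 1 ≤ 2 ^ n := Nat.pow_le_pow_right (by norm_num) hn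
    omega
  rw [hN, Nat.add_sub_cancel] at h1
  rcases Nat.eq_zero_or_pos f with rfl | hf
  · exact Or.inl rfl
  have hmn : n ≤ m := by
    have : 2 ^ n ≤ 2 ^ m := by rw [h1, hN]; nlinarith
    exact (Nat.pow_le_pow_iff_right (by norm_num)).1 this
  obtain ⟨j, rfl⟩ := Nat.exists_eq_add_of_le hmn
  obtain ⟨g, rfl⟩ : ∃ g, f = g + 1 := ⟨f - 1, by omega⟩
  obtain ⟨J, hJ⟩ : ∃ J, 2 ^ j = J + 1 := ⟨2 ^ j - 1, (Nat.sub_add_cancel Nat.one_le_two_pow).symm⟩
  have e1 : N * g = 2 ^ n * J := by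
    rw [pow_add, hJ, hN] at h1
    rw [hN]; nlinarith
  rcases Nat.eq_zero_or_pos j with rfl | hj
  · have : J = 0 := by simpa using hJ.symm
    rw [this, mul_zero] at e1
    right; left
    rcases Nat.mul_eq_zero.1 e1 with h | h <;> omega
  have hJodd : Odd J := by
    have : Even (J + 1) := by rw [← hJ]; exact (Nat.even_pow.2 ⟨even_two, hj.ne'⟩)
    exact Nat.not_even_iff_odd.1 (Nat.even_add_one.1 this)
  have h3 : 2 ^ (n + j) ∣ g ^ 2 := by
    have : (1 - ((g + 1 : ℕ) : ℤ)) ^ 2 = ((g ^ 2 : ℕ) : ℤ) := by push_cast; ring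
    rw [this] at h2
    exact_mod_cast h2
  have h4 : 2 ^ (n + j) ∣ 2 ^ (n + n) * J ^ 2 := by
    have : 2 ^ (n + n) * J ^ 2 = N ^ 2 * g ^ 2 := by rw [← mul_pow, e1]; ring
    rw [this]; exact h3.mul_left _
  have h5 : 2 ^ (n + j) ∣ 2 ^ (n + n) :=
    Nat.Coprime.dvd_of_dvd_mul_right (((Nat.coprime_two_left.2 hJodd).pow_right 2).pow_left _) h4
  have h6 : j ≤ n := by
    have := (Nat.pow_dvd_pow_iff_le_right (by norm_num)).1 h5
    omega
  have h7 : N ∣ J := by
    refine Nat.Coprime.dvd_of_dvd_mul_left ?_ (Dvd.intro _ e1)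
    rw [hN]; simp
  have h8 : J ≤ N := by
    have : 2 ^ j ≤ 2 ^ n := Nat.pow_le_pow_right (by norm_num) h6
    omega
  have h9 : J = N := le_antisymm h8 (Nat.le_of_dvd hJodd.pos h7)
  rw [h9, mul_comm (2 ^ n)] at e1
  right; right
  rw [Nat.eq_of_mul_eq_mul_left hN1 e1]

namespace QD

variable {V Ω : Type*} [CommGroup V] [CommGroup Ω] {q : V → Ω} {β : V → V → Ω}

theorem symm (h : QD q β) (u v : V) : β u v = β v u := by
  have h1 := h.mul u v
  rw [mul_comm u v, h.mul, mul_comm (q v)] at h1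
  exact (mul_left_cancel h1).symm

theorem right (h : QD q β) (u v v' : V) : β u (v * v') = β u v * β u v' := by
  rw [h.symm, h.left, h.symm v, h.symm v']

theorem inv (h : QD q β) {g : MulAut V} (hg : ∀ v, q (g v) = q v) (u v : V) : β (g u) (g v) = β u v := by
  have h1 := h.mul (g u) (g v)
  rw [← map_mul, hg, hg, hg, h.mul] at h1
  exact (mul_left_cancel h1).symm

theorem eq_of (h : QD q β) {u v : V} (h1 : q u = q v) (h2 : β u v = 1) : u = v := by
  have := h.anis (u * v) (by rw [h.mul, h1, h.sqΩ, h2, one_mul])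
  rw [← h.sqV v] at this
  exact mul_right_cancel this

theorem sub (h : QD q β) (W : Subgroup V) : QD (fun w : W => q w) (fun u v : W => β u v) where
  sqV v := Subtype.ext (h.sqV v)
  sqΩ := h.sqΩ
  mul u v := h.mul u v
  left u u' v := h.left u u' v
  one := h.one
  anis v hv := Subtype.ext (h.anis v hv)

theorem pV (h : QD q β) : IsPGroup 2 V := fun v => ⟨1, by rw [pow_one, pow_two, h.sqV]⟩

theorem pΩ (h : QD q β) : IsPGroup 2 Ω := fun v => ⟨1, by rw [pow_one, pow_two, h.sqΩ]⟩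

variable [Finite V] [Finite Ω]

theorem fib (h : QD q β) {n f : ℕ} (hn : 1 ≤ n) (hΩ : Nat.card Ω = 2 ^ n)
    (hf : ∀ t, t ≠ 1 → Nat.card {v // q v = t} = f) :
    Nat.card V = 1 + (2 ^ n - 1) * f ∧ (f = 0 ∨ f = 1 ∨ f = 2 ^ n + 1) := by
  classical
  have := Fintype.ofFinite V
  have := Fintype.ofFinite Ω
  have hsum : ∀ F : Ω → ℤ, ∑ v, F (q v) = F 1 + f * ∑ t ∈ Finset.univ.erase 1, F t := fun F => by
    rw [← Finset.sum_fiberwise' Finset.univ q, ← Finset.add_sum_erase _ _ (Finset.mem_univ 1), Finset.mul_sum]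
    congr 1
    · have : (Finset.univ.filter fun v => q v = 1) = {1} := by
        ext v
        simp only [Finset.mem_filter, Finset.mem_univ, true_and, Finset.mem_singleton]
        exact ⟨h.anis v, fun e => e ▸ h.one⟩
      rw [this, Finset.sum_singleton]
    · refine Finset.sum_congr rfl fun t ht => ?_
      rw [Finset.sum_const, ← hf t (Finset.ne_of_mem_erase ht), Nat.card_eq_fintype_card,
        Fintype.card_subtype, nsmul_eq_mul]
  have hV : Nat.card V = 1 + (2 ^ n - 1) * f := by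
    have := hsum fun _ => 1
    simp only [Finset.sum_const, Finset.card_univ, nsmul_eq_mul, mul_one,
      Finset.card_erase_of_mem (Finset.mem_univ _)] at this
    rw [← Nat.card_eq_fintype_card, ← Nat.card_eq_fintype_card, hΩ] at this
    rw [mul_comm]
    exact_mod_cast this
  refine ⟨hV, ?_⟩
  obtain ⟨m, hm⟩ := h.pV.exists_card_eq
  refine arith_fib hn (hm ▸ hV) ?_
  obtain ⟨M, -, hM, -, hi⟩ := exists_lt_of_ne_bot (p := 2) (U := (⊤ : Subgroup Ω)) (V := ⊥)
    (h.pΩ.to_subgroup ⊤) (bot_lt_iff_ne_bot.2 fun e => by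
      have := card_top (G := Ω)
      rw [e, card_bot, hΩ] at this
      exact absurd this.symm (Nat.one_lt_two_pow (by omega)).ne')
  rw [relIndex_top_right] at hi
  let l : Ω →* ℤ := MonoidHom.mk (OneHom.mk (fun t => if t ∈ M then 1 else -1) (by simp)) fun a b => by
    simp only [mul_mem_iff_of_index_two hi]
    by_cases ha : a ∈ M <;> by_cases hb : b ∈ M <;> simp [ha, hb]
  have hl1 : l ≠ 1 := fun e => by
    obtain ⟨t, -, ht⟩ := SetLike.exists_of_lt hM
    have : l t = 1 := by rw [e]; rfl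
    simp [l, ht] at this
  have h1 : ∑ v, l (q v) = 1 - f := by
    have h0 := sum_hom_units_eq_zero l hl1
    rw [← Finset.add_sum_erase _ _ (Finset.mem_univ 1), map_one] at h0
    rw [hsum l, map_one, eq_neg_of_add_eq_zero_right h0]; ring
  have h2 : (∑ v, l (q v)) ^ 2 = ∑ v, l (q v) * ∑ u, l (β u v) := by
    rw [pow_two, Finset.sum_mul]
    simp_rw [Finset.mul_sum]
    rw [Finset.sum_comm (f := fun v u => l (q v) * l (β u v))]
    refine Finset.sum_congr rfl fun u _ => ?_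
    rw [← Equiv.sum_comp (Equiv.mulLeft u)]
    refine Finset.sum_congr rfl fun v _ => ?_
    rw [Equiv.coe_mulLeft, h.mul, ← map_mul, ← map_mul, ← mul_assoc, ← mul_assoc, h.sqΩ, one_mul]
  rw [← h1, h2]
  refine Finset.dvd_sum fun v _ => Dvd.dvd.mul_left ?_ _
  let b : V →* ℤ := l.comp (MonoidHom.mk' (fun u => β u v) fun a c => h.left a c v)
  have h3 := sum_hom_units b
  have h4 : ∑ u, l (β u v) = ∑ u, b u := rfl
  rw [h4, h3]
  split_ifs
  · rw [← Nat.card_eq_fintype_card, hm]; simp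
  · simp

omit [Finite V] [Finite Ω] in
theorem invol (h : QD q β) {σ : MulAut V} (hq : ∀ v, q (σ v) = q v) (h1 : σ ≠ 1) (h2 : σ * σ = 1)
    (Pi0 : Set (MulAut V × MulAut Ω)) (hP : ∀ π ∈ Pi0, (∀ v, q (π.1 v) = π.2 (q v)) ∧ π.1 * σ = σ * π.1)
    (hirr : ∀ S : Subgroup Ω, (∀ π ∈ Pi0, ∀ s ∈ S, π.2 s ∈ S) → S = ⊥ ∨ S = ⊤) :
    (∀ u w, σ u = u → σ w = w → β u w = 1) ∧ (∀ y, (∀ w, σ w = w → β y w = 1) → σ y = y) := by
  have hσ : ∀ x, σ (σ x) = x := fun x => by rw [← MulAut.mul_apply, h2, MulAut.one_apply]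
  have f1 : ∀ x, σ (σ x * x) = σ x * x := fun x => by rw [map_mul, hσ, mul_comm]
  have f2 : ∀ u x, σ u = u → β u (σ x * x) = 1 := fun u x hu => by
    have := h.inv hq u x
    rw [hu] at this
    rw [h.right, this, h.sqΩ]
  let S : Subgroup Ω :=
    { carrier := {t | ∃ x, t = q (σ x * x)}
      one_mem' := ⟨1, by simp [h.one]⟩
      mul_mem' := by
        rintro _ _ ⟨x, rfl⟩ ⟨y, rfl⟩
        refine ⟨x * y, ?_⟩
        rw [map_mul, mul_mul_mul_comm, h.mul (σ x * x), f2 _ _ (f1 x), mul_one]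
      inv_mem' := by
        rintro t ht
        rwa [inv_eq_of_mul_eq_one_right (h.sqΩ t)] }
  have hS : S = ⊤ := by
    refine (hirr S ?_).resolve_left fun e => h1 ?_
    · rintro π hπ _ ⟨x, rfl⟩
      refine ⟨π.1 x, ?_⟩
      rw [← (hP π hπ).1, map_mul, ← MulAut.mul_apply, (hP π hπ).2, MulAut.mul_apply]
    · ext x
      have : q (σ x * x) ∈ S := ⟨x, rfl⟩
      rw [e, mem_bot] at this
      have h3 := h.anis _ this
      rw [← h.sqV x] at h3
      exact mul_right_cancel h3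
  have f3 : ∀ y, (∀ x, β y (σ x * x) = 1) → ∃ x, y = σ x * x := fun y hy => by
    obtain ⟨x, hx⟩ : q y ∈ S := hS ▸ mem_top _
    exact ⟨x, h.eq_of hx (hy x)⟩
  refine ⟨fun u w hu hw => ?_, fun y hy => ?_⟩
  · obtain ⟨x, rfl⟩ := f3 w fun x => f2 w x hw
    exact f2 u x hu
  · obtain ⟨x, rfl⟩ := f3 y fun x => hy _ (f1 x)
    exact f1 x

omit [Finite Ω] in
theorem solvable (h : QD q β) (hFT : FT) {G : Subgroup (MulAut V)} (hq : ∀ g ∈ G, ∀ v, q (g v) = q v)
    (Pi0 : Set (MulAut V × MulAut Ω))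
    (hP : ∀ π ∈ Pi0, (∀ v, q (π.1 v) = π.2 (q v)) ∧ ∀ g ∈ G, π.1 * g = g * π.1)
    (hirr : ∀ S : Subgroup Ω, (∀ π ∈ Pi0, ∀ s ∈ S, π.2 s ∈ S) → S = ⊥ ∨ S = ⊤) :
    Group.IsSolvable G := by
  obtain ⟨J, hJ⟩ := exists_isSyl 2 G
  refine sol_of_npc hFT (burnside_npc hJ ?_)
  by_cases hJ0 : J = ⊥
  · rw [hJ0]; intro x _; simp [mem_centralizer_iff]
  have : Nontrivial J := (nontrivial_iff_ne_bot J).2 hJ0
  have := hJ.isPGroup.center_nontrivial
  obtain ⟨s, hs, hs2⟩ := exists_orderOf_eq_of_dvd_card (p := 2) (H := center J)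
    (dvd_card_of_ne_bot (hJ.isPGroup.to_subgroup _) ((nontrivial_iff_ne_bot _).1 this))
  set σ : MulAut V := s.1 with hσ
  have hσ2 : σ * σ = 1 := by
    rw [← pow_two, ← hs2, hσ, ← Subgroup.coe_pow, pow_orderOf_eq_one]; rfl
  have hσ1 : σ ≠ 1 := fun e => by
    have : s = 1 := Subtype.ext e
    rw [this, orderOf_one] at hs2
    exact absurd hs2 (by decide)
  have hσG : σ ∈ G := hJ.le s.2
  obtain ⟨a1, a2⟩ := h.invol (hq σ hσG) hσ1 hσ2 Pi0 (fun π hπ => ⟨(hP π hπ).1, (hP π hπ).2 σ hσG⟩) hirr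
  have b1 : ∀ g ∈ G, (∀ w, σ w = w → σ (g w) = g w) → ∀ w, σ w = w → g w = w := fun g hg h1 w hw =>
    h.eq_of (hq g hg w) (a1 _ _ (h1 w hw) hw)
  let L : Subgroup (MulAut V) :=
    { carrier := {g | g ∈ G ∧ ∀ w, σ w = w → g w = w}
      one_mem' := ⟨one_mem _, fun _ _ => rfl⟩
      mul_mem' := by
        rintro a b ⟨ha, ha'⟩ ⟨hb, hb'⟩
        exact ⟨mul_mem ha hb, fun w hw => by rw [MulAut.mul_apply, hb' w hw, ha' w hw]⟩
      inv_mem' := by
        rintro a ⟨ha, ha'⟩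
        exact ⟨inv_mem ha, fun w hw => by
          conv_lhs => rw [← ha' w hw]
          exact MulAut.inv_apply_self V a w⟩ }
  have b2 : ∀ g ∈ L, g * g = 1 := fun g hg => by
    ext x
    have h1 := hg.2 _ (a2 (g x * x) fun w hw => by
      have := h.inv (hq g hg.1) x w
      rw [hg.2 w hw] at this
      rw [h.left, this, h.sqΩ])
    rw [map_mul, mul_comm (g x)] at h1
    exact mul_right_cancel h1
  have hJL : J ≤ L := fun g hg => ⟨hJ.le hg, b1 g (hJ.le hg) fun w hw => by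
    have : g * σ = σ * g := congrArg Subtype.val (mem_center_iff.1 hs ⟨g, hg⟩)
    rw [← MulAut.mul_apply, ← this, MulAut.mul_apply, hw]⟩
  have hL : L = J := hJ.eq_of_le (fun g => ⟨1, Subtype.ext (by rw [pow_one, pow_two]; exact b2 g g.2)⟩) hJL
    fun g hg => hg.1
  intro x hx
  have hxL : x ∈ L := ⟨hx.1, b1 x hx.1 fun w hw => by
    have h1 := (hJL (conj_mem_of_mem_normalizer' hx.2 s.2)).2 w hw
    rw [MulAut.mul_apply, MulAut.mul_apply] at h1
    conv_rhs => rw [← h1]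
    exact (MulAut.apply_inv_self V x _).symm⟩
  refine mem_centralizer_iff.2 fun y hy => ?_
  have hyL := hJL hy
  have := b2 _ (mul_mem hxL hyL)
  calc y * x = (x * x) * (y * x) * (y * y) := by rw [b2 x hxL, b2 y hyL]; simp
    _ = x * (x * y * (x * y)) * y := by group
    _ = _ := by rw [this, mul_one]

end QD

theorem card_aut_64 {Ω : Type*} [CommGroup Ω] [Finite Ω] (h : ∀ t : Ω, t * t = 1) (hc : Nat.card Ω = 2 ^ 6) :
    Nat.card (MulAut Ω) = 20158709760 := by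
  let _ : Module (ZMod 2) (Additive Ω) := AddCommGroup.zmodModule fun x => by
    rw [two_nsmul]; exact h x.toMul
  have e : MulAut Ω ≃ (Additive Ω ≃ₗ[ZMod 2] Additive Ω) :=
    { toFun := fun α => { MulEquiv.toAdditive α with map_smul' := ZMod.map_smul _ }
      invFun := fun L => MulEquiv.toAdditive.symm L.toAddEquiv
      left_inv := fun _ => rfl
      right_inv := fun _ => rfl }
  have hr : Module.finrank (ZMod 2) (Additive Ω) = 6 := by
    have := Module.natCard_eq_pow_finrank (K := ZMod 2) (V := Additive Ω)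
    rw [Nat.card_zmod, show Nat.card (Additive Ω) = Nat.card Ω from rfl, hc] at this
    exact (Nat.pow_right_injective le_rfl this).symm
  rw [Nat.card_congr e, H2.card_linearEquiv hr]
  simp [Fin.prod_univ_succ]

end Cfsg.H5.GA
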