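import Cfsg.Agent.H5.Anis

/-! Groups acting on an anisotropic quadratic map, transitively on the target. -/

set_option autoImplicit false

namespace Cfsg.H5.GA

open Subgroup Cfsg.L0 Cfsg.H8

theorem dvd_card_of_forall_index {P Z : Type*} [Group P] [Finite Z] [MulAction P Z] {m : ℕ}
    (h : ∀ z : Z, m ∣ (MulAction.stabilizer P z).index) : m ∣ Nat.card Z := by
  classical
  have := Fintype.ofFinite (MulAction.orbitRel.Quotient P Z)
  rw [Nat.card_congr (MulAction.selfEquivSigmaOrbits P Z), Nat.card_sigma]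
  refine Finset.dvd_sum fun ω _ => ?_
  have := h ω.out
  rwa [MulAction.index_stabilizer] at this

theorem fix_of_prime {V : Type*} [Group V] [Finite V] {p d r : ℕ} [Fact p.Prime] (hV : Nat.card V = p ^ d)
    (hr : r.Prime) {α : MulAut V} (hα : α ^ r = 1) :
    ∃ k ≤ d, Nat.card (α.toMonoidHom.eqLocus (MonoidHom.id V)) = p ^ k ∧ r ∣ p ^ d - p ^ k := by
  have := Fact.mk hr
  have hP : IsPGroup r (zpowers α) := isPGroup_zpowers (k := 1) (by rw [pow_one, hα])
  have h1 := hP.card_modEq_card_fixedPoints V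
  let F : Subgroup V := α.toMonoidHom.eqLocus (MonoidHom.id V)
  have h2 : Nat.card (MulAction.fixedPoints (zpowers α) V) = Nat.card F := by
    refine Nat.card_congr (Equiv.setCongr ?_)
    ext x
    rw [MulAction.mem_fixedPoints]
    constructor
    · intro hx; exact hx ⟨α, mem_zpowers α⟩
    · rintro hx ⟨β, hβ⟩
      exact MulAction.mem_stabilizer_iff.1 (zpowers_le.2 (show α ∈ MulAction.stabilizer (MulAut V) x from hx) hβ)
  obtain ⟨k, hk, hF⟩ := (Nat.dvd_prime_pow (Fact.out : p.Prime)).1 (hV ▸ card_subgroup_dvd_card F)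
  rw [h2, hV, hF] at h1
  exact ⟨k, hk, hF, (Nat.modEq_iff_dvd' (Nat.pow_le_pow_right (Fact.out : p.Prime).pos hk)).1 h1.symm⟩

theorem no_rank_two {Ω : Type*} [CommGroup Ω] (hΩ : ∀ t : Ω, t * t = 1) {r : ℕ} (hr : r.Prime) (h2 : r ≠ 2)
    {u v : MulAut Ω} (huv : Commute u v) (hu : u ^ r = 1) (hv : v ^ r = 1)
    (h1 : ∀ y, v y = y → y = 1) (h3 : ∀ (i : ℕ) y, (u * v ^ i) y = y → y = 1) (x : Ω) : x = 1 := by
  let f : MulAut Ω →* Monoid.End Ω :=
    { toFun := fun α => α.toMonoidHom, map_one' := rfl, map_mul' := fun _ _ => rfl }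
  have := H9.pow_mem_of_end hr (f u) (f v) (huv.map f) (by rw [← map_pow, hu, map_one])
    (by rw [← map_pow, hv, map_one]) ⊥ (fun y hy => h1 y hy)
    (fun i y hy => h3 i y (by rw [← map_pow, ← map_mul] at hy; exact hy)) x
  exact eq_one_of_pow_coprime ((Nat.coprime_primes hr Nat.prime_two).2 h2) this (by rw [pow_two, hΩ])

variable {V Ω : Type*} [CommGroup V] [CommGroup Ω] [Finite V] [Finite Ω] {q : V → Ω} {β : V → V → Ω}
  {X : Type*} [Group X] [Finite X] {ψ : X →* MulAut V} {χ : X →* MulAut Ω}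

omit [Finite V] [Finite Ω] [Finite X] in
theorem fib_eq (hq : ∀ x v, q (ψ x v) = χ x (q v)) {W : Subgroup V} {x : X}
    (h1 : ∀ w ∈ W, ψ x w ∈ W) (h2 : ∀ w ∈ W, ψ x⁻¹ w ∈ W) (s : Ω) :
    Nat.card {w : W // q w = s} = Nat.card {w : W // q w = χ x s} :=
  Nat.card_congr
    { toFun := fun w => ⟨⟨ψ x w.1, h1 _ w.1.2⟩, (hq x _).trans (congrArg _ w.2)⟩
      invFun := fun w => ⟨⟨ψ x⁻¹ w.1, h2 _ w.1.2⟩, by
        show q (ψ x⁻¹ w.1) = s
        rw [hq, w.2, ← MulAut.mul_apply, ← map_mul, inv_mul_cancel, map_one, MulAut.one_apply]⟩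
      left_inv := fun w => Subtype.ext (Subtype.ext (by
        show ψ x⁻¹ (ψ x w.1) = w.1
        rw [← MulAut.mul_apply, ← map_mul, inv_mul_cancel, map_one, MulAut.one_apply]))
      right_inv := fun w => Subtype.ext (Subtype.ext (by
        show ψ x (ψ x⁻¹ w.1) = w.1
        rw [← MulAut.mul_apply, ← map_mul, mul_inv_cancel, map_one, MulAut.one_apply])) }

theorem not_dvd_ker (h : QD q β) (hq : ∀ x v, q (ψ x v) = χ x (q v))
    (hf : ∀ x, ψ x = 1 → χ x = 1 → ∃ k, x ^ 2 ^ k = 1) (htr : ∀ s t : Ω, s ≠ 1 → t ≠ 1 → ∃ y, χ y s = t)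
    {n : ℕ} (hn : 1 ≤ n) (hΩ : Nat.card Ω = 2 ^ n) {r : ℕ} (hr : r.Prime) (hd : r ∣ 2 ^ n - 1) :
    ¬ r ∣ Nat.card χ.ker := by
  have := Fact.mk hr
  have h2n : 2 ^ n ≡ 1 [MOD r] := ((Nat.modEq_iff_dvd' Nat.one_le_two_pow).2 hd).symm
  have hr2 : r ≠ 2 := by
    rintro rfl
    obtain ⟨m, rfl⟩ := Nat.exists_eq_add_of_le hn
    rw [Nat.ModEq, pow_add] at h2n
    omega
  have hr3 : 3 ≤ r := by have := hr.two_le; omega
  obtain ⟨P, hP⟩ := exists_isSyl r χ.ker
  have hnt : Nontrivial Ω := by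
    rw [← Finite.one_lt_card_iff_nontrivial, hΩ]; exact Nat.one_lt_two_pow (by omega)
  obtain ⟨t, ht⟩ := exists_ne (1 : Ω)
  have key : ∀ W : Subgroup V, (∀ x ∈ normalizer (P : Set X), ∀ w ∈ W, ψ x w ∈ W) →
      Nat.card W = 1 + (2 ^ n - 1) * Nat.card {w : W // q w = t} ∧ (Nat.card {w : W // q w = t} = 0 ∨
        Nat.card {w : W // q w = t} = 1 ∨ Nat.card {w : W // q w = t} = 2 ^ n + 1) := fun W hW => by
    refine (h.sub W).fib hn hΩ fun s hs => ?_
    obtain ⟨y, hy⟩ := htr s t hs ht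
    obtain ⟨k, hk, m, hm, rfl⟩ := hP.frattini' (g := y) (by rw [normalizer_eq_top]; trivial)
    rw [map_mul, MonoidHom.mem_ker.1 hm, mul_one] at hy
    rw [← hy]
    exact fib_eq hq (hW k hk) (hW _ (inv_mem hk)) s
  let W : Subgroup V :=
    { carrier := {v | ∀ a ∈ P, ψ a v = v}
      one_mem' := fun a _ => map_one _
      mul_mem' := fun {u v} hu hv a ha => by rw [map_mul, hu a ha, hv a ha]
      inv_mem' := fun {u} hu a ha => by rw [map_inv, hu a ha] }
  obtain ⟨c1, d1⟩ := key ⊤ fun _ _ _ _ => mem_top _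
  obtain ⟨c2, d2⟩ := key W fun x hx w hw a ha => by
    have := hw _ (conj_mem_of_mem_normalizer' hx ha)
    conv_rhs => rw [← this]
    rw [← MulAut.mul_apply, ← MulAut.mul_apply, ← map_mul, ← map_mul]
    congr 2; group
  let _ : MulAction P {w : (⊤ : Subgroup V) // q w = t} :=
    { smul := fun a w => ⟨⟨ψ a w.1, mem_top _⟩, by
        show q (ψ a w.1) = t
        rw [hq, MonoidHom.mem_ker.1 (hP.le a.2), MulAut.one_apply, w.2]⟩
      one_smul := fun w => Subtype.ext (Subtype.ext (by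
        show ψ 1 w.1 = w.1
        rw [map_one, MulAut.one_apply]))
      mul_smul := fun a b w => Subtype.ext (Subtype.ext (by
        show ψ (a * b) w.1 = ψ a (ψ b w.1)
        rw [map_mul, MulAut.mul_apply])) }
  have h1 := hP.isPGroup.card_modEq_card_fixedPoints {w : (⊤ : Subgroup V) // q w = t}
  have h2 : Nat.card (MulAction.fixedPoints P {w : (⊤ : Subgroup V) // q w = t}) =
      Nat.card {w : W // q w = t} := Nat.card_congr
    { toFun := fun w => ⟨⟨w.1.1, fun a ha => congrArg (fun z => (z.1 : V)) (w.2 ⟨a, ha⟩)⟩, w.1.2⟩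
      invFun := fun w => ⟨⟨⟨w.1, mem_top _⟩, w.2⟩, fun a => Subtype.ext (Subtype.ext (w.1.2 a a.2))⟩
      left_inv := fun _ => rfl
      right_inv := fun _ => rfl }
  rw [h2] at h1
  have h3 : Nat.card {w : (⊤ : Subgroup V) // q w = t} = Nat.card {w : W // q w = t} := by
    have e2 : (2 ^ n + 1) % r = 2 := by
      rw [Nat.ModEq.add_right 1 h2n]; exact Nat.mod_eq_of_lt hr3
    have e1 : 1 % r = 1 := Nat.mod_eq_of_lt (by omega)
    rw [Nat.ModEq] at h1
    rcases d1 with d1 | d1 | d1 <;> rcases d2 with d2 | d2 | d2 <;> rw [d1, d2] at h1 ⊢ <;>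
      simp only [e1, e2, Nat.zero_mod] at h1 <;> omega
  have hW : W = ⊤ := eq_top_of_card_eq W (by rw [c2, ← h3, ← c1, card_top])
  intro hdv
  refine hP.ne_bot hdv ((eq_bot_iff_forall _).2 fun a ha => ?_)
  obtain ⟨k, hk⟩ := hf a (by ext v; exact (hW ▸ mem_top v : v ∈ W) a ha) (hP.le ha)
  obtain ⟨j, hj⟩ := isPGroup_iff_forall.1 hP.isPGroup a ha
  exact eq_one_of_pow_coprime (((Nat.coprime_primes Nat.prime_two hr).2 hr2.symm).pow k j) hk hj

omit [Finite V] [Finite X] in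
theorem irred {Y P : Subgroup X} (htr : ∀ s t : Ω, s ≠ 1 → t ≠ 1 → ∃ y ∈ Y, χ y s = t)
    {n : ℕ} (hΩ : Nat.card Ω = 2 ^ n) {r e : ℕ} [hr : Fact r.Prime] (hd : r ^ e ∣ 2 ^ n - 1)
    (hpr : ∀ d, 0 < d → r ^ e ∣ 2 ^ d - 1 → n ≤ d) (hP : IsSyl r P Y) (S : Subgroup Ω)
    (hS : ∀ a ∈ P, ∀ s ∈ S, χ a s ∈ S) : S = ⊥ ∨ S = ⊤ := by
  classical
  let _ : MulAction X Ω := MulAction.compHom Ω χ
  have h1 : ∀ t : Ω, t ≠ 1 → r ^ e ∣ (MulAction.stabilizer X t).relIndex P := fun t ht => by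
    have e1 : (MulAction.stabilizer X t).relIndex Y = 2 ^ n - 1 := by
      have : (MulAction.stabilizer X t).subgroupOf Y = MulAction.stabilizer Y t := rfl
      rw [relIndex, this, MulAction.index_stabilizer, ← hΩ]
      have e2 : MulAction.orbit Y t = {1}ᶜ := by
        ext s
        constructor
        · rintro ⟨y, rfl⟩ h0
          exact ht ((map_eq_one_iff _ (χ y).injective).1 h0)
        · intro hs
          obtain ⟨y, hy, e⟩ := htr t s ht hs
          exact ⟨⟨y, hy⟩, e⟩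
      rw [e2, Set.ncard_compl, Set.ncard_singleton]
    have e2 := relIndex_mul_relIndex (MulAction.stabilizer X t ⊓ P) P Y inf_le_right hP.le
    have e3 := relIndex_mul_relIndex (MulAction.stabilizer X t ⊓ P) (MulAction.stabilizer X t ⊓ Y) Y
      (inf_le_inf_left _ hP.le) inf_le_right
    rw [inf_relIndex_right] at e2
    rw [inf_relIndex_right, e1, ← e2] at e3
    exact (hP.coprime.symm.pow_left e).dvd_of_dvd_mul_right (e3 ▸ hd.mul_left _)
  let _ : MulAction P {s : S // s ≠ 1} :=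
    { smul := fun a w => ⟨⟨χ a w.1, hS a a.2 _ w.1.2⟩, fun h0 => w.2 (Subtype.ext
        ((map_eq_one_iff _ (χ a).injective).1 (congrArg Subtype.val h0)))⟩
      one_smul := fun w => Subtype.ext (Subtype.ext (by
        show χ 1 w.1 = w.1
        rw [map_one, MulAut.one_apply]))
      mul_smul := fun a b w => Subtype.ext (Subtype.ext (by
        show χ (a * b) w.1 = χ a (χ b w.1)
        rw [map_mul, MulAut.mul_apply])) }
  have h2 : r ^ e ∣ Nat.card {s : S // s ≠ 1} := dvd_card_of_forall_index (P := P) fun z => by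
    have := h1 z.1 fun h0 => z.2 (Subtype.ext h0)
    have e : MulAction.stabilizer P z = (MulAction.stabilizer X (z.1 : Ω)).subgroupOf P := by
      ext a
      exact ⟨fun h => congrArg (fun w : {s : S // s ≠ 1} => (w.1 : Ω)) h, fun h => Subtype.ext (Subtype.ext h)⟩
    rwa [e]
  obtain ⟨d, hdn, hSd⟩ := (Nat.dvd_prime_pow Nat.prime_two).1 (hΩ ▸ card_subgroup_dvd_card S)
  have := Fintype.ofFinite S
  rw [Nat.card_eq_fintype_card, Fintype.card_subtype_compl, Fintype.card_subtype_eq,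
    ← Nat.card_eq_fintype_card, hSd] at h2
  rcases Nat.eq_zero_or_pos d with rfl | h0
  · exact Or.inl (card_eq_one.1 hSd)
  · exact Or.inr (eq_top_of_card_eq S (by rw [hSd, hΩ, le_antisymm hdn (hpr d h0 h2)]))

theorem sol_cent (hFT : FT) (h : QD q β) (hq : ∀ x v, q (ψ x v) = χ x (q v))
    (hf : ∀ x, ψ x = 1 → χ x = 1 → ∃ k, x ^ 2 ^ k = 1) {P : Subgroup X}
    (hirr : ∀ S : Subgroup Ω, (∀ a ∈ P, ∀ s ∈ S, χ a s ∈ S) → S = ⊥ ∨ S = ⊤) :
    Group.IsSolvable (centralizer (P : Set X)) := by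
  set B := centralizer (P : Set X) with hB
  refine sol_of_hom (χ.comp B.subtype) ?_ (hFT.solvable ?_)
  · refine sol_of_hom (ψ.comp (B.subtype.comp (χ.comp B.subtype).ker.subtype)) ?_ ?_
    · refine H9.isSolvable_of_isPGroup (p := 2) fun x => ?_
      obtain ⟨k, hk⟩ := hf x.1.1.1 x.2 x.1.2
      exact ⟨k, Subtype.ext (Subtype.ext (Subtype.ext hk))⟩
    · refine h.solvable hFT ?_ {π | ∃ a ∈ P, π = (ψ a, χ a)} ?_ fun S hS => hirr S fun a ha => hS _ ⟨a, ha, rfl⟩
      · rintro _ ⟨x, rfl⟩ v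
        have : χ x.1.1 = 1 := x.2
        show q (ψ x.1.1 v) = q v
        rw [hq, this, MulAut.one_apply]
      · rintro _ ⟨a, ha, rfl⟩
        refine ⟨hq a, ?_⟩
        rintro _ ⟨x, rfl⟩
        show ψ a * ψ x.1.1 = ψ x.1.1 * ψ a
        rw [← map_mul, ← map_mul, mem_centralizer_iff.1 x.1.2 a ha]
  · rw [← Nat.not_even_iff_odd, even_iff_two_dvd]
    intro hd
    obtain ⟨_, ⟨b, rfl⟩, hb2⟩ := exists_orderOf_eq_of_dvd_card hd
    set σ := (χ.comp B.subtype) b with hσ
    have hσ2 : ∀ t, σ (σ t) = t := fun t => by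
      rw [← MulAut.mul_apply, ← pow_two, ← hb2, pow_orderOf_eq_one, MulAut.one_apply]
    have hσ1 : σ = 1 := by
      rcases hirr (σ.toMonoidHom.eqLocus (MonoidHom.id Ω)) (fun a ha s hs => by
        have hs' : σ s = s := hs
        show χ b (χ a s) = χ a s
        rw [← MulAut.mul_apply, ← map_mul, ← mem_centralizer_iff.1 b.2 a ha, map_mul, MulAut.mul_apply]
        exact congrArg _ hs') with e | e
      · ext t
        have : σ t * t ∈ σ.toMonoidHom.eqLocus (MonoidHom.id Ω) := by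
          show σ (σ t * t) = σ t * t
          rw [map_mul, hσ2, mul_comm]
        rw [e, mem_bot, ← h.sqΩ t] at this
        exact mul_right_cancel this
      · ext t
        exact (e ▸ mem_top t : t ∈ σ.toMonoidHom.eqLocus (MonoidHom.id Ω))
    rw [hσ1, orderOf_one] at hb2
    exact absurd hb2 (by decide)

theorem exists_sol (hFT : FT) (h : QD q β) (hq : ∀ x v, q (ψ x v) = χ x (q v))
    (hf : ∀ x, ψ x = 1 → χ x = 1 → ∃ k, x ^ 2 ^ k = 1) {Y : Subgroup X} [Y.Normal]
    (htr : ∀ s t : Ω, s ≠ 1 → t ≠ 1 → ∃ y ∈ Y, χ y s = t) {n : ℕ} (hn : 2 ≤ n) (hΩ : Nat.card Ω = 2 ^ n) :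
    ∃ E : Subgroup X, Group.IsSolvable E ∧ Y ⊔ E = ⊤ := by
  have hnt : Nontrivial Ω := by
    rw [← Finite.one_lt_card_iff_nontrivial, hΩ]; exact Nat.one_lt_two_pow (by omega)
  obtain ⟨t0, ht0⟩ := exists_ne (1 : Ω)
  obtain ⟨r, e, hr, hr2, he, hd, hpr, hc⟩ : ∃ r e : ℕ, r.Prime ∧ r ≠ 2 ∧ e ≠ 0 ∧ r ^ e ∣ 2 ^ n - 1 ∧
      (∀ d, 0 < d → r ^ e ∣ 2 ^ d - 1 → n ≤ d) ∧ (e = 1 ∨ (n = 6 ∧ r = 3)) := by
    by_cases h6 : n = 6
    · subst h6
      refine ⟨3, 2, Nat.prime_three, by decide, by decide, by decide, fun d h0 hd => ?_, Or.inr ⟨rfl, rfl⟩⟩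
      by_contra hlt
      have : d < 6 := by omega
      interval_cases d <;> simp at hd
    · obtain ⟨r, h1, h2, -, h4, h5⟩ := H3.exists_ppd (p := 2) (N := n) (by decide) hn (by simpa using h6) (by
        rintro ⟨-, m, hm⟩
        rcases m with _ | m
        · simp at hm
        · rw [pow_succ] at hm; omega)
      exact ⟨r, 1, h1, h2, by decide, by simpa using h4, by simpa using h5, Or.inl rfl⟩
  have := Fact.mk hr
  obtain ⟨P, hP⟩ := exists_isSyl r Y
  have hirr := irred htr hΩ hd hpr hP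
  have hK := not_dvd_ker h hq hf (fun s t hs ht => (htr s t hs ht).imp fun _ h => h.2) (by omega) hΩ hr
    ((dvd_pow_self r he).trans hd)
  have hPK : ∀ a ∈ P, χ a = 1 → a = 1 := fun a ha h1 =>
    eq_one_of_pElt_of_coprime (p := r) (isPGroup_iff_forall.1 hP.isPGroup a ha)
      (((Nat.Prime.coprime_iff_not_dvd hr).2 hK).symm.coprime_dvd_left (orderOf_dvd_natCard χ.ker h1))
  have hnr : ∀ u v : X, Commute u v → u ^ r = 1 → v ^ r = 1 → u ∉ zpowers v → v ≠ 1 →
      (∀ a ∈ zpowers u ⊔ zpowers v, a ≠ 1 → ∀ y, χ a y = y → y = 1) → False := fun u v huv hu hv h1 h2 h3 => by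
    refine ht0 (no_rank_two h.sqΩ hr hr2 (huv.map χ) (by rw [← map_pow, hu, map_one])
      (by rw [← map_pow, hv, map_one]) (h3 v (mem_sup_right (mem_zpowers v)) h2) (fun i y hy => ?_) t0)
    refine h3 (u * v ^ i) (mul_mem (mem_sup_left (mem_zpowers u)) (mem_sup_right (pow_mem (mem_zpowers v) i)))
      (fun h0 => h1 ?_) y (by rwa [map_mul, map_pow])
    rw [eq_inv_of_mul_eq_one_left h0]
    exact inv_mem (pow_mem (mem_zpowers v) i)
  refine ⟨normalizer (P : Set X), sol_of_hom P.normalizerMonoidHom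
    (by rw [normalizerMonoidHom_ker]; exact sol_subgroupOf _ (sol_cent hFT h hq hf hirr)) ?_,
    sup_normalizer_eq_top hP⟩
  rcases hc with rfl | ⟨rfl, rfl⟩
  · have hfix : ∀ a ∈ P, a ^ r = 1 → a ≠ 1 → ∀ y, χ a y = y → y = 1 := fun a ha har ha1 y hy => by
      obtain ⟨k, hk, c1, c2⟩ := fix_of_prime hΩ hr (α := χ a) (by rw [← map_pow, har, map_one])
      have hkn : k ≠ n := by
        rintro rfl
        refine ha1 (hPK a ha ?_)
        ext t
        exact (eq_top_of_card_eq _ (c1.trans hΩ.symm) ▸ mem_top t :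
          t ∈ (χ a).toMonoidHom.eqLocus (MonoidHom.id Ω))
      obtain ⟨j, rfl⟩ := Nat.exists_eq_add_of_le hk
      rw [pow_add, ← Nat.mul_sub_one] at c2
      have c3 := hpr j (by omega) (by
        rw [pow_one]
        exact (((Nat.coprime_primes hr Nat.prime_two).2 hr2).pow_right k).dvd_of_dvd_mul_left c2)
      have : k = 0 := by omega
      rw [this, pow_zero, card_eq_one] at c1
      exact mem_bot.1 (c1 ▸ (hy : y ∈ (χ a).toMonoidHom.eqLocus (MonoidHom.id Ω)))
    have hU : H9.UniqueOrderP r P := by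
      refine (H9.uniqueOrderP_or_exists hP.isPGroup).resolve_right ?_
      rintro ⟨A, hAP, hA, hAc⟩
      obtain ⟨v, hv, hvo⟩ := exists_orderOf_eq_of_dvd_card (p := r) (H := A) (hAc ▸ dvd_pow_self r two_ne_zero)
      obtain ⟨u, hu, huv⟩ : ∃ u ∈ A, u ∉ zpowers v := by
        by_contra hcon
        push Not at hcon
        have := card_le_of_le (show A ≤ zpowers v from hcon)
        rw [hAc, Nat.card_zpowers, hvo] at this
        nlinarith [hr.two_le]
      have hle : zpowers u ⊔ zpowers v ≤ A := sup_le (zpowers_le.2 hu) (zpowers_le.2 hv)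
      refine hnr u v (congrArg Subtype.val (hA.1.is_comm.comm ⟨u, hu⟩ ⟨v, hv⟩)) (hA.2 u hu) (hA.2 v hv) huv (fun h0 => ?_) fun a ha =>
        hfix a (hAP (hle ha)) (hA.2 a (hle ha))
      rw [h0, orderOf_one] at hvo
      exact hr.one_lt.ne hvo
    rcases hU.isCyclic_or_quaternion hP.isPGroup with hc | ⟨hc, -⟩
    · have : Group.IsSolvable (MulAut P) := Group.isSolvable_of_comm fun a b =>
        (IsCyclic.mulAutMulEquiv P).injective (by rw [map_mul, map_mul, mul_comm])
      infer_instance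
    · exact absurd hc hr2
  · have hA := card_aut_64 h.sqΩ hΩ
    obtain ⟨d, hPd⟩ := hP.isPGroup.exists_card_eq
    have hd4 : d ≤ 4 := by
      have h1 : Nat.card P ∣ Nat.card (MulAut Ω) := card_dvd_of_injective (χ.comp P.subtype)
        ((injective_iff_map_eq_one _).2 fun a ha => Subtype.ext (hPK a a.2 ha))
      rw [hPd, hA] at h1
      by_contra hlt
      exact absurd ((pow_dvd_pow 3 (by omega : 5 ≤ d)).trans h1) (by decide)
    have hR : Nat.card P.normalizerMonoidHom.range ∣ 20158709760 := by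
      rw [← hA, ← index_ker, normalizerMonoidHom_ker]
      refine (index_dvd_of_le (H := (χ.comp (normalizer (P : Set X)).subtype).ker) fun x hx => ?_).trans ?_
      · refine mem_centralizer_iff.2 fun a ha => ?_
        have h1 : (x : X) * a * (x : X)⁻¹ * a⁻¹ = 1 :=
          hPK _ (mul_mem (conj_mem_of_mem_normalizer x.2 ha) (inv_mem ha)) (by
            have : χ x = 1 := hx
            simp [this])
        rw [mul_inv_eq_one, mul_inv_eq_iff_eq_mul] at h1
        exact h1.symm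
      · rw [index_ker]; exact card_subgroup_dvd_card _
    refine isSolvable_of_prime_dvd_two Nat.prime_two Nat.prime_three fun s hs hsd => ?_
    have := Fact.mk hs
    obtain ⟨α, -, hα⟩ := exists_orderOf_eq_of_dvd_card hsd
    obtain ⟨k, hk, c1, c2⟩ := fix_of_prime hPd hs (α := α) (by rw [← hα, pow_orderOf_eq_one])
    have hkd : k ≠ d := by
      rintro rfl
      have : α = 1 := by
        ext t
        exact congrArg Subtype.val (eq_top_of_card_eq _ (c1.trans hPd.symm) ▸ mem_top t :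
          t ∈ α.toMonoidHom.eqLocus (MonoidHom.id P))
      rw [this, orderOf_one] at hα
      exact hs.one_lt.ne hα
    by_contra hcon
    push Not at hcon
    have hs5 : s = 5 ∧ k = 0 := by
      have h1 : s ∣ Nat.gcd (3 ^ d - 3 ^ k) 20158709760 := Nat.dvd_gcd c2 (hsd.trans hR)
      have h2 : s ∣ 2 ^ 4 * 3 ^ 3 ∨ (s ∣ 2 ^ 4 * 5 ∧ k = 0) := by
        have : k < d := by omega
        interval_cases d <;> interval_cases k <;>
          first | exact Or.inl (h1.trans (by decide)) | exact Or.inr ⟨h1.trans (by decide), rfl⟩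
      rcases h2 with h2 | ⟨h2, h3⟩ <;> rcases (Nat.Prime.dvd_mul hs).1 h2 with h2 | h2
      · exact absurd ((Nat.prime_dvd_prime_iff_eq hs Nat.prime_two).1 (hs.dvd_of_dvd_pow h2)) hcon.1
      · exact absurd ((Nat.prime_dvd_prime_iff_eq hs Nat.prime_three).1 (hs.dvd_of_dvd_pow h2)) hcon.2
      · exact absurd ((Nat.prime_dvd_prime_iff_eq hs Nat.prime_two).1 (hs.dvd_of_dvd_pow h2)) hcon.1
      · exact ⟨(Nat.prime_dvd_prime_iff_eq hs Nat.prime_five).1 h2, h3⟩
    obtain ⟨rfl, rfl⟩ := hs5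
    have : Nontrivial P := by
      rw [← Finite.one_lt_card_iff_nontrivial, hPd]; exact Nat.one_lt_pow hkd.symm (by decide)
    have := hP.isPGroup.center_nontrivial
    obtain ⟨z, hz, hz3⟩ := exists_orderOf_eq_of_dvd_card (p := 3) (H := center P)
      (dvd_card_of_ne_bot (hP.isPGroup.to_subgroup _) ((nontrivial_iff_ne_bot _).1 this))
    have hz1 : z ≠ 1 := by rintro rfl; simp at hz3
    have hz3' : z ^ 3 = 1 := by rw [← hz3, pow_orderOf_eq_one]
    have hαz : α z ∈ center P := mem_center_iff.2 fun g => by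
      rw [← α.apply_symm_apply g, ← map_mul, ← map_mul, mem_center_iff.1 hz]
    have h1 : α z ∈ zpowers z := by
      by_contra hcon
      refine hnr (α z) z (congrArg Subtype.val (mem_center_iff.1 hz (α z)))
        (by rw [← Subgroup.coe_pow, ← map_pow, hz3', map_one]; rfl) (congrArg Subtype.val hz3')
        (fun ⟨j, hj⟩ => hcon ⟨j, Subtype.ext hj⟩) (fun h0 => hz1 (Subtype.ext h0)) fun a ha ha1 y hy => ?_
      have hle : zpowers (α z : X) ⊔ zpowers (z : X) ≤ P ⊓ centralizer (P : Set X) :=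
        sup_le (zpowers_le.2 ⟨(α z).2, mem_centralizer_iff.2 fun g hg =>
          congrArg Subtype.val (mem_center_iff.1 hαz ⟨g, hg⟩)⟩) (zpowers_le.2 ⟨z.2,
          mem_centralizer_iff.2 fun g hg => congrArg Subtype.val (mem_center_iff.1 hz ⟨g, hg⟩)⟩)
      rcases hirr ((χ a).toMonoidHom.eqLocus (MonoidHom.id Ω)) (fun b hb s hs => by
        have hs' : χ a s = s := hs
        show χ a (χ b s) = χ b s
        rw [← MulAut.mul_apply, ← map_mul, ← mem_centralizer_iff.1 (hle ha).2 b hb, map_mul,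
          MulAut.mul_apply, hs']) with e | e
      · exact mem_bot.1 (e ▸ (hy : y ∈ (χ a).toMonoidHom.eqLocus (MonoidHom.id Ω)))
      · refine absurd (hPK a (hle ha).1 ?_) ha1
        ext t
        exact (e ▸ mem_top t : t ∈ (χ a).toMonoidHom.eqLocus (MonoidHom.id Ω))
    have h2 : (α ^ 2) z = z := by
      classical
      rw [mem_zpowers_iff_mem_range_orderOf, hz3] at h1
      obtain ⟨j, hj, e⟩ := Finset.mem_image.1 h1
      have hj3 := Finset.mem_range.1 hj
      rw [pow_two, MulAut.mul_apply, ← e, map_pow, ← e, ← pow_mul]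
      interval_cases j
      · exact absurd ((map_eq_one_iff _ α.injective).1 (e.symm.trans (pow_zero z))) hz1
      · simp
      · rw [show 2 * 2 = 3 + 1 from rfl, pow_succ, hz3', one_mul]
    have h3 : α ∈ MulAction.stabilizer (MulAut P) z :=
      mem_of_pow_mem (m := 2) (n := 5) (by decide) h2 (by rw [← hα, pow_orderOf_eq_one]; exact one_mem _)
    rw [pow_zero, card_eq_one] at c1
    exact hz1 (mem_bot.1 (c1 ▸ (h3 : z ∈ α.toMonoidHom.eqLocus (MonoidHom.id P))))

end Cfsg.H5.GA
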