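import Cfsg.Agent.H5.HeM

/-!
Presentations of the table groups and von Dyck homomorphisms out of them.
-/

set_option autoImplicit false
set_option maxRecDepth 100000
set_option linter.unusedSimpArgs false
set_option linter.unusedVariables false

namespace Cfsg.H5.He

open Cfsg.H6

namespace PQ7

structure Rel {G : Type*} [Group G] (a0 a1 a2 b0 b1 b2 z : G) : Prop where
  sa0 : a0 * a0 = 1
  sa1 : a1 * a1 = 1
  sa2 : a2 * a2 = 1
  sb0 : b0 * b0 = 1
  sb1 : b1 * b1 = 1
  sb2 : b2 * b2 = 1
  sz : z * z = 1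
  ca0a1 : a1 * a0 = a0 * a1
  ca0a2 : a2 * a0 = a0 * a2
  ca1a2 : a2 * a1 = a1 * a2
  cb0b1 : b1 * b0 = b0 * b1
  cb0b2 : b2 * b0 = b0 * b2
  cb1b2 : b2 * b1 = b1 * b2
  p00 : b0 * a0 = z * (a0 * b0)
  p01 : b1 * a0 = z * (a0 * b1)
  p02 : b2 * a0 = z * (a0 * b2)
  p10 : b0 * a1 = a1 * b0
  p11 : b1 * a1 = z * (a1 * b1)
  p12 : b2 * a1 = z * (a1 * b2)
  p20 : b0 * a2 = a2 * b0
  p21 : b1 * a2 = a2 * b1
  p22 : b2 * a2 = z * (a2 * b2)
  za0 : z * a0 = a0 * z
  za1 : z * a1 = a1 * z
  za2 : z * a2 = a2 * z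
  zb0 : z * b0 = b0 * z
  zb1 : z * b1 = b1 * z
  zb2 : z * b2 = b2 * z

def R : List (List ℕ) := [[1, 1], [2, 2], [3, 3], [4, 4], [5, 5], [6, 6], [7, 7], [2, 1, 2, 1], [3, 1, 3, 1], [3, 2, 3, 2], [5, 4, 5, 4], [6, 4, 6, 4], [6, 5, 6, 5], [4, 1, 4, 1, 7], [5, 1, 5, 1, 7], [6, 1, 6, 1, 7], [4, 2, 4, 2], [5, 2, 5, 2, 7], [6, 2, 6, 2, 7], [4, 3, 4, 3], [5, 3, 5, 3], [6, 3, 6, 3, 7], [7, 1, 7, 1], [7, 2, 7, 2], [7, 3, 7, 3], [7, 4, 7, 4], [7, 5, 7, 5], [7, 6, 7, 6]]

def ev {G : Type*} [Group G] (a0 a1 a2 b0 b1 b2 z : G) (l : ℕ) : G := [1, a0, a1, a2, b0, b1, b2, z].getD l 1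

theorem good {G : Type*} [Group G] {a0 a1 a2 b0 b1 b2 z : G} (H : Rel a0 a1 a2 b0 b1 b2 z) : Good (ev a0 a1 a2 b0 b1 b2 z) 506097522914230528 := by
  have i_a0 : a0⁻¹ = a0 := inv_eq_of_mul_eq_one_right H.sa0
  have i_a1 : a1⁻¹ = a1 := inv_eq_of_mul_eq_one_right H.sa1
  have i_a2 : a2⁻¹ = a2 := inv_eq_of_mul_eq_one_right H.sa2
  have i_b0 : b0⁻¹ = b0 := inv_eq_of_mul_eq_one_right H.sb0
  have i_b1 : b1⁻¹ = b1 := inv_eq_of_mul_eq_one_right H.sb1
  have i_b2 : b2⁻¹ = b2 := inv_eq_of_mul_eq_one_right H.sb2
  have i_z : z⁻¹ = z := inv_eq_of_mul_eq_one_right H.sz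
  refine good_list (n := 8) rfl (by norm_num) rfl fun l hl => ?_
  interval_cases l
  · exact inv_one.symm
  · exact i_a0.symm
  · exact i_a1.symm
  · exact i_a2.symm
  · exact i_b0.symm
  · exact i_b1.symm
  · exact i_b2.symm
  · exact i_z.symm

theorem rels {G : Type*} [Group G] {a0 a1 a2 b0 b1 b2 z : G} (H : Rel a0 a1 a2 b0 b1 b2 z) : Rels (ev a0 a1 a2 b0 b1 b2 z) R := by
  have i_a0 : a0⁻¹ = a0 := inv_eq_of_mul_eq_one_right H.sa0
  have i_a1 : a1⁻¹ = a1 := inv_eq_of_mul_eq_one_right H.sa1
  have i_a2 : a2⁻¹ = a2 := inv_eq_of_mul_eq_one_right H.sa2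
  have i_b0 : b0⁻¹ = b0 := inv_eq_of_mul_eq_one_right H.sb0
  have i_b1 : b1⁻¹ = b1 := inv_eq_of_mul_eq_one_right H.sb1
  have i_b2 : b2⁻¹ = b2 := inv_eq_of_mul_eq_one_right H.sb2
  have i_z : z⁻¹ = z := inv_eq_of_mul_eq_one_right H.sz
  unfold R
  refine Rels.cons ?_ ?_
  · show a0 * (a0 * 1) = 1
    simpa only [mul_inv_rev, inv_inv, mul_assoc, mul_one, one_mul, inv_one, pow_succ, pow_zero, i_a0, i_a1, i_a2, i_b0, i_b1, i_b2, i_z] using mul_inv_eq_one.mpr H.sa0
  refine Rels.cons ?_ ?_
  · show a1 * (a1 * 1) = 1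
    simpa only [mul_inv_rev, inv_inv, mul_assoc, mul_one, one_mul, inv_one, pow_succ, pow_zero, i_a0, i_a1, i_a2, i_b0, i_b1, i_b2, i_z] using mul_inv_eq_one.mpr H.sa1
  refine Rels.cons ?_ ?_
  · show a2 * (a2 * 1) = 1
    simpa only [mul_inv_rev, inv_inv, mul_assoc, mul_one, one_mul, inv_one, pow_succ, pow_zero, i_a0, i_a1, i_a2, i_b0, i_b1, i_b2, i_z] using mul_inv_eq_one.mpr H.sa2
  refine Rels.cons ?_ ?_
  · show b0 * (b0 * 1) = 1
    simpa only [mul_inv_rev, inv_inv, mul_assoc, mul_one, one_mul, inv_one, pow_succ, pow_zero, i_a0, i_a1, i_a2, i_b0, i_b1, i_b2, i_z] using mul_inv_eq_one.mpr H.sb0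
  refine Rels.cons ?_ ?_
  · show b1 * (b1 * 1) = 1
    simpa only [mul_inv_rev, inv_inv, mul_assoc, mul_one, one_mul, inv_one, pow_succ, pow_zero, i_a0, i_a1, i_a2, i_b0, i_b1, i_b2, i_z] using mul_inv_eq_one.mpr H.sb1
  refine Rels.cons ?_ ?_
  · show b2 * (b2 * 1) = 1
    simpa only [mul_inv_rev, inv_inv, mul_assoc, mul_one, one_mul, inv_one, pow_succ, pow_zero, i_a0, i_a1, i_a2, i_b0, i_b1, i_b2, i_z] using mul_inv_eq_one.mpr H.sb2
  refine Rels.cons ?_ ?_
  · show z * (z * 1) = 1
    simpa only [mul_inv_rev, inv_inv, mul_assoc, mul_one, one_mul, inv_one, pow_succ, pow_zero, i_a0, i_a1, i_a2, i_b0, i_b1, i_b2, i_z] using mul_inv_eq_one.mpr H.sz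
  refine Rels.cons ?_ ?_
  · show a1 * (a0 * (a1 * (a0 * 1))) = 1
    simpa only [mul_inv_rev, inv_inv, mul_assoc, mul_one, one_mul, inv_one, pow_succ, pow_zero, i_a0, i_a1, i_a2, i_b0, i_b1, i_b2, i_z] using mul_inv_eq_one.mpr H.ca0a1
  refine Rels.cons ?_ ?_
  · show a2 * (a0 * (a2 * (a0 * 1))) = 1
    simpa only [mul_inv_rev, inv_inv, mul_assoc, mul_one, one_mul, inv_one, pow_succ, pow_zero, i_a0, i_a1, i_a2, i_b0, i_b1, i_b2, i_z] using mul_inv_eq_one.mpr H.ca0a2
  refine Rels.cons ?_ ?_
  · show a2 * (a1 * (a2 * (a1 * 1))) = 1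
    simpa only [mul_inv_rev, inv_inv, mul_assoc, mul_one, one_mul, inv_one, pow_succ, pow_zero, i_a0, i_a1, i_a2, i_b0, i_b1, i_b2, i_z] using mul_inv_eq_one.mpr H.ca1a2
  refine Rels.cons ?_ ?_
  · show b1 * (b0 * (b1 * (b0 * 1))) = 1
    simpa only [mul_inv_rev, inv_inv, mul_assoc, mul_one, one_mul, inv_one, pow_succ, pow_zero, i_a0, i_a1, i_a2, i_b0, i_b1, i_b2, i_z] using mul_inv_eq_one.mpr H.cb0b1
  refine Rels.cons ?_ ?_
  · show b2 * (b0 * (b2 * (b0 * 1))) = 1
    simpa only [mul_inv_rev, inv_inv, mul_assoc, mul_one, one_mul, inv_one, pow_succ, pow_zero, i_a0, i_a1, i_a2, i_b0, i_b1, i_b2, i_z] using mul_inv_eq_one.mpr H.cb0b2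
  refine Rels.cons ?_ ?_
  · show b2 * (b1 * (b2 * (b1 * 1))) = 1
    simpa only [mul_inv_rev, inv_inv, mul_assoc, mul_one, one_mul, inv_one, pow_succ, pow_zero, i_a0, i_a1, i_a2, i_b0, i_b1, i_b2, i_z] using mul_inv_eq_one.mpr H.cb1b2
  refine Rels.cons ?_ ?_
  · show b0 * (a0 * (b0 * (a0 * (z * 1)))) = 1
    simpa only [mul_inv_rev, inv_inv, mul_assoc, mul_one, one_mul, inv_one, pow_succ, pow_zero, i_a0, i_a1, i_a2, i_b0, i_b1, i_b2, i_z] using mul_inv_eq_one.mpr H.p00
  refine Rels.cons ?_ ?_
  · show b1 * (a0 * (b1 * (a0 * (z * 1)))) = 1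
    simpa only [mul_inv_rev, inv_inv, mul_assoc, mul_one, one_mul, inv_one, pow_succ, pow_zero, i_a0, i_a1, i_a2, i_b0, i_b1, i_b2, i_z] using mul_inv_eq_one.mpr H.p01
  refine Rels.cons ?_ ?_
  · show b2 * (a0 * (b2 * (a0 * (z * 1)))) = 1
    simpa only [mul_inv_rev, inv_inv, mul_assoc, mul_one, one_mul, inv_one, pow_succ, pow_zero, i_a0, i_a1, i_a2, i_b0, i_b1, i_b2, i_z] using mul_inv_eq_one.mpr H.p02
  refine Rels.cons ?_ ?_
  · show b0 * (a1 * (b0 * (a1 * 1))) = 1
    simpa only [mul_inv_rev, inv_inv, mul_assoc, mul_one, one_mul, inv_one, pow_succ, pow_zero, i_a0, i_a1, i_a2, i_b0, i_b1, i_b2, i_z] using mul_inv_eq_one.mpr H.p10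
  refine Rels.cons ?_ ?_
  · show b1 * (a1 * (b1 * (a1 * (z * 1)))) = 1
    simpa only [mul_inv_rev, inv_inv, mul_assoc, mul_one, one_mul, inv_one, pow_succ, pow_zero, i_a0, i_a1, i_a2, i_b0, i_b1, i_b2, i_z] using mul_inv_eq_one.mpr H.p11
  refine Rels.cons ?_ ?_
  · show b2 * (a1 * (b2 * (a1 * (z * 1)))) = 1
    simpa only [mul_inv_rev, inv_inv, mul_assoc, mul_one, one_mul, inv_one, pow_succ, pow_zero, i_a0, i_a1, i_a2, i_b0, i_b1, i_b2, i_z] using mul_inv_eq_one.mpr H.p12
  refine Rels.cons ?_ ?_
  · show b0 * (a2 * (b0 * (a2 * 1))) = 1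
    simpa only [mul_inv_rev, inv_inv, mul_assoc, mul_one, one_mul, inv_one, pow_succ, pow_zero, i_a0, i_a1, i_a2, i_b0, i_b1, i_b2, i_z] using mul_inv_eq_one.mpr H.p20
  refine Rels.cons ?_ ?_
  · show b1 * (a2 * (b1 * (a2 * 1))) = 1
    simpa only [mul_inv_rev, inv_inv, mul_assoc, mul_one, one_mul, inv_one, pow_succ, pow_zero, i_a0, i_a1, i_a2, i_b0, i_b1, i_b2, i_z] using mul_inv_eq_one.mpr H.p21
  refine Rels.cons ?_ ?_
  · show b2 * (a2 * (b2 * (a2 * (z * 1)))) = 1
    simpa only [mul_inv_rev, inv_inv, mul_assoc, mul_one, one_mul, inv_one, pow_succ, pow_zero, i_a0, i_a1, i_a2, i_b0, i_b1, i_b2, i_z] using mul_inv_eq_one.mpr H.p22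
  refine Rels.cons ?_ ?_
  · show z * (a0 * (z * (a0 * 1))) = 1
    simpa only [mul_inv_rev, inv_inv, mul_assoc, mul_one, one_mul, inv_one, pow_succ, pow_zero, i_a0, i_a1, i_a2, i_b0, i_b1, i_b2, i_z] using mul_inv_eq_one.mpr H.za0
  refine Rels.cons ?_ ?_
  · show z * (a1 * (z * (a1 * 1))) = 1
    simpa only [mul_inv_rev, inv_inv, mul_assoc, mul_one, one_mul, inv_one, pow_succ, pow_zero, i_a0, i_a1, i_a2, i_b0, i_b1, i_b2, i_z] using mul_inv_eq_one.mpr H.za1
  refine Rels.cons ?_ ?_
  · show z * (a2 * (z * (a2 * 1))) = 1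
    simpa only [mul_inv_rev, inv_inv, mul_assoc, mul_one, one_mul, inv_one, pow_succ, pow_zero, i_a0, i_a1, i_a2, i_b0, i_b1, i_b2, i_z] using mul_inv_eq_one.mpr H.za2
  refine Rels.cons ?_ ?_
  · show z * (b0 * (z * (b0 * 1))) = 1
    simpa only [mul_inv_rev, inv_inv, mul_assoc, mul_one, one_mul, inv_one, pow_succ, pow_zero, i_a0, i_a1, i_a2, i_b0, i_b1, i_b2, i_z] using mul_inv_eq_one.mpr H.zb0
  refine Rels.cons ?_ ?_
  · show z * (b1 * (z * (b1 * 1))) = 1
    simpa only [mul_inv_rev, inv_inv, mul_assoc, mul_one, one_mul, inv_one, pow_succ, pow_zero, i_a0, i_a1, i_a2, i_b0, i_b1, i_b2, i_z] using mul_inv_eq_one.mpr H.zb1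
  refine Rels.cons ?_ ?_
  · show z * (b2 * (z * (b2 * 1))) = 1
    simpa only [mul_inv_rev, inv_inv, mul_assoc, mul_one, one_mul, inv_one, pow_succ, pow_zero, i_a0, i_a1, i_a2, i_b0, i_b1, i_b2, i_z] using mul_inv_eq_one.mpr H.zb2
  intro r hr
  exact absurd hr List.not_mem_nil

/-- The relations hold for the letters of any assignment satisfying the relators. -/
theorem rel_of {G : Type*} [Group G] {e : ℕ → G} (hg : Good e 506097522914230528) (hR : Rels e R) :
    Rel (e 1) (e 2) (e 3) (e 4) (e 5) (e 6) (e 7) := by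
  have j1 : (e 1)⁻¹ = e 1 := (hg.inv 1).symm
  have j2 : (e 2)⁻¹ = e 2 := (hg.inv 2).symm
  have j3 : (e 3)⁻¹ = e 3 := (hg.inv 3).symm
  have j4 : (e 4)⁻¹ = e 4 := (hg.inv 4).symm
  have j5 : (e 5)⁻¹ = e 5 := (hg.inv 5).symm
  have j6 : (e 6)⁻¹ = e 6 := (hg.inv 6).symm
  have j7 : (e 7)⁻¹ = e 7 := (hg.inv 7).symm
  have r0 : e 1 * (e 1 * 1) = 1 := hR [1, 1] (List.mem_of_elem_eq_true (by decide))
  have r1 : e 2 * (e 2 * 1) = 1 := hR [2, 2] (List.mem_of_elem_eq_true (by decide))
  have r2 : e 3 * (e 3 * 1) = 1 := hR [3, 3] (List.mem_of_elem_eq_true (by decide))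
  have r3 : e 4 * (e 4 * 1) = 1 := hR [4, 4] (List.mem_of_elem_eq_true (by decide))
  have r4 : e 5 * (e 5 * 1) = 1 := hR [5, 5] (List.mem_of_elem_eq_true (by decide))
  have r5 : e 6 * (e 6 * 1) = 1 := hR [6, 6] (List.mem_of_elem_eq_true (by decide))
  have r6 : e 7 * (e 7 * 1) = 1 := hR [7, 7] (List.mem_of_elem_eq_true (by decide))
  have r7 : e 2 * (e 1 * (e 2 * (e 1 * 1))) = 1 := hR [2, 1, 2, 1] (List.mem_of_elem_eq_true (by decide))
  have r8 : e 3 * (e 1 * (e 3 * (e 1 * 1))) = 1 := hR [3, 1, 3, 1] (List.mem_of_elem_eq_true (by decide))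
  have r9 : e 3 * (e 2 * (e 3 * (e 2 * 1))) = 1 := hR [3, 2, 3, 2] (List.mem_of_elem_eq_true (by decide))
  have r10 : e 5 * (e 4 * (e 5 * (e 4 * 1))) = 1 := hR [5, 4, 5, 4] (List.mem_of_elem_eq_true (by decide))
  have r11 : e 6 * (e 4 * (e 6 * (e 4 * 1))) = 1 := hR [6, 4, 6, 4] (List.mem_of_elem_eq_true (by decide))
  have r12 : e 6 * (e 5 * (e 6 * (e 5 * 1))) = 1 := hR [6, 5, 6, 5] (List.mem_of_elem_eq_true (by decide))
  have r13 : e 4 * (e 1 * (e 4 * (e 1 * (e 7 * 1)))) = 1 := hR [4, 1, 4, 1, 7] (List.mem_of_elem_eq_true (by decide))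
  have r14 : e 5 * (e 1 * (e 5 * (e 1 * (e 7 * 1)))) = 1 := hR [5, 1, 5, 1, 7] (List.mem_of_elem_eq_true (by decide))
  have r15 : e 6 * (e 1 * (e 6 * (e 1 * (e 7 * 1)))) = 1 := hR [6, 1, 6, 1, 7] (List.mem_of_elem_eq_true (by decide))
  have r16 : e 4 * (e 2 * (e 4 * (e 2 * 1))) = 1 := hR [4, 2, 4, 2] (List.mem_of_elem_eq_true (by decide))
  have r17 : e 5 * (e 2 * (e 5 * (e 2 * (e 7 * 1)))) = 1 := hR [5, 2, 5, 2, 7] (List.mem_of_elem_eq_true (by decide))
  have r18 : e 6 * (e 2 * (e 6 * (e 2 * (e 7 * 1)))) = 1 := hR [6, 2, 6, 2, 7] (List.mem_of_elem_eq_true (by decide))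
  have r19 : e 4 * (e 3 * (e 4 * (e 3 * 1))) = 1 := hR [4, 3, 4, 3] (List.mem_of_elem_eq_true (by decide))
  have r20 : e 5 * (e 3 * (e 5 * (e 3 * 1))) = 1 := hR [5, 3, 5, 3] (List.mem_of_elem_eq_true (by decide))
  have r21 : e 6 * (e 3 * (e 6 * (e 3 * (e 7 * 1)))) = 1 := hR [6, 3, 6, 3, 7] (List.mem_of_elem_eq_true (by decide))
  have r22 : e 7 * (e 1 * (e 7 * (e 1 * 1))) = 1 := hR [7, 1, 7, 1] (List.mem_of_elem_eq_true (by decide))
  have r23 : e 7 * (e 2 * (e 7 * (e 2 * 1))) = 1 := hR [7, 2, 7, 2] (List.mem_of_elem_eq_true (by decide))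
  have r24 : e 7 * (e 3 * (e 7 * (e 3 * 1))) = 1 := hR [7, 3, 7, 3] (List.mem_of_elem_eq_true (by decide))
  have r25 : e 7 * (e 4 * (e 7 * (e 4 * 1))) = 1 := hR [7, 4, 7, 4] (List.mem_of_elem_eq_true (by decide))
  have r26 : e 7 * (e 5 * (e 7 * (e 5 * 1))) = 1 := hR [7, 5, 7, 5] (List.mem_of_elem_eq_true (by decide))
  have r27 : e 7 * (e 6 * (e 7 * (e 6 * 1))) = 1 := hR [7, 6, 7, 6] (List.mem_of_elem_eq_true (by decide))
  exact ⟨mul_inv_eq_one.mp (by simpa only [mul_inv_rev, mul_assoc, mul_one, one_mul, inv_one, pow_succ, pow_zero, j1, j2, j3, j4, j5, j6, j7] using r0),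
    mul_inv_eq_one.mp (by simpa only [mul_inv_rev, mul_assoc, mul_one, one_mul, inv_one, pow_succ, pow_zero, j1, j2, j3, j4, j5, j6, j7] using r1),
    mul_inv_eq_one.mp (by simpa only [mul_inv_rev, mul_assoc, mul_one, one_mul, inv_one, pow_succ, pow_zero, j1, j2, j3, j4, j5, j6, j7] using r2),
    mul_inv_eq_one.mp (by simpa only [mul_inv_rev, mul_assoc, mul_one, one_mul, inv_one, pow_succ, pow_zero, j1, j2, j3, j4, j5, j6, j7] using r3),
    mul_inv_eq_one.mp (by simpa only [mul_inv_rev, mul_assoc, mul_one, one_mul, inv_one, pow_succ, pow_zero, j1, j2, j3, j4, j5, j6, j7] using r4),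
    mul_inv_eq_one.mp (by simpa only [mul_inv_rev, mul_assoc, mul_one, one_mul, inv_one, pow_succ, pow_zero, j1, j2, j3, j4, j5, j6, j7] using r5),
    mul_inv_eq_one.mp (by simpa only [mul_inv_rev, mul_assoc, mul_one, one_mul, inv_one, pow_succ, pow_zero, j1, j2, j3, j4, j5, j6, j7] using r6),
    mul_inv_eq_one.mp (by simpa only [mul_inv_rev, mul_assoc, mul_one, one_mul, inv_one, pow_succ, pow_zero, j1, j2, j3, j4, j5, j6, j7] using r7),
    mul_inv_eq_one.mp (by simpa only [mul_inv_rev, mul_assoc, mul_one, one_mul, inv_one, pow_succ, pow_zero, j1, j2, j3, j4, j5, j6, j7] using r8),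
    mul_inv_eq_one.mp (by simpa only [mul_inv_rev, mul_assoc, mul_one, one_mul, inv_one, pow_succ, pow_zero, j1, j2, j3, j4, j5, j6, j7] using r9),
    mul_inv_eq_one.mp (by simpa only [mul_inv_rev, mul_assoc, mul_one, one_mul, inv_one, pow_succ, pow_zero, j1, j2, j3, j4, j5, j6, j7] using r10),
    mul_inv_eq_one.mp (by simpa only [mul_inv_rev, mul_assoc, mul_one, one_mul, inv_one, pow_succ, pow_zero, j1, j2, j3, j4, j5, j6, j7] using r11),
    mul_inv_eq_one.mp (by simpa only [mul_inv_rev, mul_assoc, mul_one, one_mul, inv_one, pow_succ, pow_zero, j1, j2, j3, j4, j5, j6, j7] using r12),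
    mul_inv_eq_one.mp (by simpa only [mul_inv_rev, mul_assoc, mul_one, one_mul, inv_one, pow_succ, pow_zero, j1, j2, j3, j4, j5, j6, j7] using r13),
    mul_inv_eq_one.mp (by simpa only [mul_inv_rev, mul_assoc, mul_one, one_mul, inv_one, pow_succ, pow_zero, j1, j2, j3, j4, j5, j6, j7] using r14),
    mul_inv_eq_one.mp (by simpa only [mul_inv_rev, mul_assoc, mul_one, one_mul, inv_one, pow_succ, pow_zero, j1, j2, j3, j4, j5, j6, j7] using r15),
    mul_inv_eq_one.mp (by simpa only [mul_inv_rev, mul_assoc, mul_one, one_mul, inv_one, pow_succ, pow_zero, j1, j2, j3, j4, j5, j6, j7] using r16),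
    mul_inv_eq_one.mp (by simpa only [mul_inv_rev, mul_assoc, mul_one, one_mul, inv_one, pow_succ, pow_zero, j1, j2, j3, j4, j5, j6, j7] using r17),
    mul_inv_eq_one.mp (by simpa only [mul_inv_rev, mul_assoc, mul_one, one_mul, inv_one, pow_succ, pow_zero, j1, j2, j3, j4, j5, j6, j7] using r18),
    mul_inv_eq_one.mp (by simpa only [mul_inv_rev, mul_assoc, mul_one, one_mul, inv_one, pow_succ, pow_zero, j1, j2, j3, j4, j5, j6, j7] using r19),
    mul_inv_eq_one.mp (by simpa only [mul_inv_rev, mul_assoc, mul_one, one_mul, inv_one, pow_succ, pow_zero, j1, j2, j3, j4, j5, j6, j7] using r20),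
    mul_inv_eq_one.mp (by simpa only [mul_inv_rev, mul_assoc, mul_one, one_mul, inv_one, pow_succ, pow_zero, j1, j2, j3, j4, j5, j6, j7] using r21),
    mul_inv_eq_one.mp (by simpa only [mul_inv_rev, mul_assoc, mul_one, one_mul, inv_one, pow_succ, pow_zero, j1, j2, j3, j4, j5, j6, j7] using r22),
    mul_inv_eq_one.mp (by simpa only [mul_inv_rev, mul_assoc, mul_one, one_mul, inv_one, pow_succ, pow_zero, j1, j2, j3, j4, j5, j6, j7] using r23),
    mul_inv_eq_one.mp (by simpa only [mul_inv_rev, mul_assoc, mul_one, one_mul, inv_one, pow_succ, pow_zero, j1, j2, j3, j4, j5, j6, j7] using r24),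
    mul_inv_eq_one.mp (by simpa only [mul_inv_rev, mul_assoc, mul_one, one_mul, inv_one, pow_succ, pow_zero, j1, j2, j3, j4, j5, j6, j7] using r25),
    mul_inv_eq_one.mp (by simpa only [mul_inv_rev, mul_assoc, mul_one, one_mul, inv_one, pow_succ, pow_zero, j1, j2, j3, j4, j5, j6, j7] using r26),
    mul_inv_eq_one.mp (by simpa only [mul_inv_rev, mul_assoc, mul_one, one_mul, inv_one, pow_succ, pow_zero, j1, j2, j3, j4, j5, j6, j7] using r27)⟩

theorem gen_top : gen (pgEv 506097522914230528 R) [[1], [2], [3], [4], [5], [6], [7]] = ⊤ := pg_gen (n := 8) (by norm_num) (by decide)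
namespace ub_0

noncomputable def get (y : ℕ) : ℕ := (sel (nat_lit 1) y (nat_lit 0x0) (nat_lit 0x100000000000101000001000000))
noncomputable def gs (y : ℕ) : ℕ := (sel (nat_lit 2) y (sel (nat_lit 1) y (nat_lit 0x0) (nat_lit 0x0)) (sel (nat_lit 3) y (nat_lit 0x0) (sel (nat_lit 4) y (nat_lit 0x0) (nat_lit 0x80000018000001800000180000018000001800000180000018000001800000180000018000001800000180000018000001800000180000018000001800000180000018000001800000180000018000001800000180000018000001800000180000018000001800000180000018000000))))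
noncomputable def gd (y : ℕ) : ℕ := (nat_lit 0x2000000000)
noncomputable def gwh (y : ℕ) : ℕ := (nat_lit 0x0)
def sg : List (List ℕ) := [[], [7]]
def BL : List ℕ := []
def Sub : List (List ℕ) := []
theorem hA : prepA 506097522914230528 PQ7.R sg 256 BL Sub get gd = true := by decide +kernel
theorem hw : allR (okW BL gwh) 0 0 = true := by decide +kernel
theorem b0 : allR (blk get gs (gwB gwh 0) gd 256) 4 1 = true := by decide +kernel
theorem hb : ∀ b, 4 ≤ b → b < 5 → blk get gs (gwB gwh 0) gd 256 b = true :=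
  (allR_range b0 (by norm_num : 4 + 1 = 5))
noncomputable def gc (y : ℕ) : ℕ := (nat_lit 0x2010000200)
def X : List (List ℕ) := [[7]]
theorem hC : prepC sg 256 X 1 2 1 = true := by decide +kernel
theorem c0 : allR (clo get gc 2 576 1) 0 1 = true := by decide +kernel
theorem cover {G : Type*} [Group G] {ev : ℕ → G} (hev : Good ev 506097522914230528) (hR : Rels ev PQ7.R) :
    Cover (gen ev Sub) (gen ev X) 2 :=
  cert_cover hev hR hA hC hw hb (by norm_num) (allR_range c0 (by norm_num : 0 + 1 = 1 * 1))

end ub_0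

namespace ub_1

noncomputable def get (y : ℕ) : ℕ := (sel (nat_lit 1) y (nat_lit 0x400000000000004000000000000) (nat_lit 0x400000700000704000007000007020000050000070200000700000501000006000007010000070000060300000400000703000007000004040000060000060400000600000602000003000006020000060000030300000200000603000006000002040000050000050400000500000501000003000005010000050000030300000100000503000005000001040000040000040400000400000401000002000004010000040000020200000100000402000004000001040000030000030400000300000303000000000003030000030000000400000200000204000002000002020000000000020200000200000004000001000001040000010000010100000000000101000001000000))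
noncomputable def gs (y : ℕ) : ℕ := (sel (nat_lit 2) y (sel (nat_lit 1) y (nat_lit 0x0) (nat_lit 0x0)) (sel (nat_lit 3) y (nat_lit 0x0) (sel (nat_lit 4) y (nat_lit 0x0) (nat_lit 0x80000078000007800000780000078000007800000780000078000007800000780000078000007800000780000078000003000021e0000210000021f8000006000021e000020c00002138000005000021e000020e000021980000008000003000021800002060000219800000600002180000204000020980000008000003000021200002020000213800000500002120000200000020980000008000002000020c0000202000020d8000004000020c000020000002058000000800000300002080000100000020980000008000002000020400001000000205800000080000010000200000010000002018000000))))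
noncomputable def gd (y : ℕ) : ℕ := (nat_lit 0x21e00002180000212000020c0000208000020400002000000000)
noncomputable def gwh (y : ℕ) : ℕ := (sel (nat_lit 3) y (sel (nat_lit 1) y (nat_lit 0x1040104000003001000) (sel (nat_lit 2) y (nat_lit 0x2040204000003001001) (nat_lit 0x3040304000003001002))) (sel (nat_lit 4) y (nat_lit 0x2010201000002002003) (sel (nat_lit 5) y (nat_lit 0x3010301000002002004) (nat_lit 0x3020302000002002005))))
def sg : List (List ℕ) := [[], [1], [2], [3], [7]]
def BL : List ℕ := [0x4010401, 0x4020402, 0x4030403, 0x2010201, 0x3010301, 0x3020302]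
def Sub : List (List ℕ) := [[7]]
theorem hA : prepA 506097522914230528 PQ7.R sg 17230332160 BL Sub get gd = true := by decide +kernel
theorem hw : allR (okW BL gwh) 0 6 = true := by decide +kernel
theorem b0 : allR (blk get gs (gwB gwh 6) gd 17230332160) 4 1 = true := by decide +kernel
theorem hb : ∀ b, 4 ≤ b → b < 5 → blk get gs (gwB gwh 6) gd 17230332160 b = true :=
  (allR_range b0 (by norm_num : 4 + 1 = 5))
noncomputable def gc (y : ℕ) : ℕ := (sel (nat_lit 2) y (sel (nat_lit 1) y (nat_lit 0x22100002200000215000020f0000214000020e00002010000200) (nat_lit 0x223000021b0000222000020d000021a0000205000020c0000204)) (sel (nat_lit 3) y (nat_lit 0x21f00002190000213000021e0000209000021800002120000208) (nat_lit 0x225000021d00002170000211000020b000020700002030000101)))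
def X : List (List ℕ) := [[1], [2], [3], [7]]
theorem hC : prepC sg 17230332160 X 4 8 1 = true := by decide +kernel
theorem c0 : allR (clo get gc 8 576 1) 0 4 = true := by decide +kernel
theorem cover {G : Type*} [Group G] {ev : ℕ → G} (hev : Good ev 506097522914230528) (hR : Rels ev PQ7.R) :
    Cover (gen ev Sub) (gen ev X) 8 :=
  cert_cover hev hR hA hC hw hb (by norm_num) (allR_range c0 (by norm_num : 0 + 4 = 4 * 1))

end ub_1

namespace ub_2

noncomputable def get (y : ℕ) : ℕ := (sel (nat_lit 1) y (nat_lit 0x700000000000007000000000000030000000000000300000000000002000000000000020000000000000100000000000001000000000000) (nat_lit 0x3000007000007030000070000070200000700000702000007000007010000070000070100000700000707000007000007070000070000070500000500000705000007000005040000060000070400000700000606000004000007060000070000040300000600000603000006000006020000060000060200000600000601000006000006010000060000060700000600000607000006000006050000030000060500000600000306000002000006060000060000020300000500000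50300000500000502000005000005020000050000050100000500000501000005000005070000050000050700000500000504000003000005040000050000030600000100000506000005000001020000040000040200000400000401000004000004010000040000040700000400000407000004000004030000040000040300000400000404000002000004040000040000020500000100000405000004000001030000030000030300000300000302000003000003020000030000030100000300000301000003000003070000030000030700000300000306000000000003060000030000000200000200000202000002000002010000020000020100000200000207000002000002070000020000020300000200000203000002000002050000000000020500000200000001000001000001010000010000010700000100000107000001000001030000010000010300000100000102000001000001020000010000010400000000000104000001000000))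
noncomputable def gs (y : ℕ) : ℕ := (sel (nat_lit 3) y (sel (nat_lit 1) y (nat_lit 0x0) (sel (nat_lit 2) y (nat_lit 0x0) (nat_lit 0x0))) (sel (nat_lit 4) y (nat_lit 0x0) (sel (nat_lit 5) y (nat_lit 0x800000b0000236000020e00002120000237800000a0000236000020e0000210000023780000090000236000020e0000237800000f0000236000020a00002158000000800000c000022a00002060000204000022b800000b000022a00002060000202000022b800000a000022a00002060000208000022b8000009000022a0000206000022b800000e000022a0000200000021580000008000008000021e00002060000202000021f8000007000021e00002060000208000021f8000006000021e0000206000021f8000005000021e0000204000021f800000d000021e0000200000020b8000000800000c0000214000010600001040000215800000b0000214000010600001020000215800000a0000214000010600001000000215800000900002140000106000021580000008000008000020a00001060000102000020b8000007000020a00001060000100000020b8000006000020a0000106000020b8000005000020a0000104000020b8000000800000400002000000106000010000002018000003000020000001060000201800000200002000000104000020180000010000200000010200002018000000)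 (nat_lit 0x800001080000108000010800001080000108000010800001080000108000010800001080000108000010800001080000108000010800001080000108000010800001080000108000010800001080000108000010800000c0000242000022400002220000243800000b0000242000022400002280000243800000a00002420000224000022600002438000009000024200002240000243800000f0000242000021e000022b800000e0000242000022000002378000000800000c0000236000020e000020c0000237))))
noncomputable def gd (y : ℕ) : ℕ := (nat_lit 0x2420000236000022a000021e0000214000020a00002000000000)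
noncomputable def gwh (y : ℕ) : ℕ := (sel (nat_lit 7) y (sel (nat_lit 3) y (sel (nat_lit 1) y (nat_lit 0x4020402000002002000) (sel (nat_lit 2) y (nat_lit 0x4030403000002002001) (nat_lit 0x4070407000003001002))) (sel (nat_lit 5) y (sel (nat_lit 4) y (nat_lit 0x401070401000002003003) (nat_lit 0x5030503000002002004)) (sel (nat_lit 6) y (nat_lit 0x5070507000003001005) (nat_lit 0x501070501000002003006)))) (sel (nat_lit 11) y (sel (nat_lit 9) y (sel (nat_lit 8) y (nat_lit 0x502070502000002003007) (nat_lit 0x6070607000003001008)) (sel (nat_lit 10) y (nat_lit 0x601070601000002003009) (nat_lit 0x60207060200000200300a))) (sel (nat_lit 13) y (sel (nat_lit 12) y (nat_lit 0x60307060300000200300b) (nat_lit 0x504050400000200200c)) (sel (nat_lit 14) y (nat_lit 0x604060400000200200d) (nat_lit 0x605060500000200200e)))))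
def sg : List (List ℕ) := [[], [1], [2], [3], [4], [5], [6], [7]]
def BL : List ℕ := [0x4020402, 0x4030403, 0x7040704, 0x401040107, 0x5030503, 0x7050705, 0x501050107, 0x502050207, 0x7060706, 0x601060107, 0x602060207, 0x603060307, 0x5040504, 0x6040604, 0x6050605]
def Sub : List (List ℕ) := [[1], [2], [3], [7]]
theorem hA : prepA 506097522914230528 PQ7.R sg 506097522914230528 BL Sub get gd = true := by decide +kernel
theorem hw : allR (okW BL gwh) 0 15 = true := by decide +kernel
theorem b0 : allR (blk get gs (gwB gwh 15) gd 506097522914230528) 4 2 = true := by decide +kernel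
theorem hb : ∀ b, 4 ≤ b → b < 6 → blk get gs (gwB gwh 15) gd 506097522914230528 b = true :=
  (allR_range b0 (by norm_num : 4 + 2 = 6))
noncomputable def gc (y : ℕ) : ℕ := (sel (nat_lit 3) y (sel (nat_lit 1) y (nat_lit 0x24b000023d000023100002270000219000021100002090000101) (sel (nat_lit 2) y (nat_lit 0x24d000023f00002330000229000021b000021300002030000103) (nat_lit 0x24f000024100002350000223000021d000020d00002050000105))) (sel (nat_lit 5) y (sel (nat_lit 4) y (nat_lit 0x2450000244000022d0000221000022c000022000002010000200) (nat_lit 0x24700002390000246000021f0000238000020b000021e000020a)) (sel (nat_lit 6) y (nat_lit 0x2430000237000022b000024200002150000236000022a0000214) (nat_lit 0x249000023b000022f00002250000217000020f00002070000107))))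
def X : List (List ℕ) := [[1], [2], [3], [4], [5], [6], [7]]
theorem hC : prepC sg 506097522914230528 X 7 8 1 = true := by decide +kernel
theorem c0 : allR (clo get gc 8 640 1) 0 7 = true := by decide +kernel
theorem cover {G : Type*} [Group G] {ev : ℕ → G} (hev : Good ev 506097522914230528) (hR : Rels ev PQ7.R) :
    Cover (gen ev Sub) (gen ev X) 8 :=
  cert_cover hev hR hA hC hw hb (by norm_num) (allR_range c0 (by norm_num : 0 + 7 = 7 * 1))

end ub_2

theorem ub {G : Type*} [Group G] {ev : ℕ → G} (hev : Good ev 506097522914230528) (hR : Rels ev R) :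
    UB (gen ev [[1], [2], [3], [4], [5], [6], [7]]) 128 :=
  (((UB.bot.cover (ub_0.cover hev hR)).cover (ub_1.cover hev hR)).cover (ub_2.cover hev hR))

end PQ7

namespace PL0

structure Rel {G : Type*} [Group G] (z r y i : G) : Prop where
  sz : z * z = 1
  zr : z * r = r * z
  zy : z * y = y * z
  zi : z * i = i * z
  hr : r ^ 7 = 1
  hy : y ^ 3 = 1
  yr : y * r * y⁻¹ = r ^ 2
  ii : i * i = 1
  iy : i * y * i⁻¹ = y⁻¹
  ir : (i * r) ^ 3 = 1

def R : List (List ℕ) := [[1, 1], [1, 2, 1, 3], [1, 4, 1, 5], [1, 6, 1, 7], [2, 2, 2, 2, 2, 2, 2], [4, 4, 4], [4, 2, 5, 3, 3], [6, 6], [6, 4, 7, 4], [6, 2, 6, 2, 6, 2]]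

def ev {G : Type*} [Group G] (z r y i : G) (l : ℕ) : G := [1, z, r, r⁻¹, y, y⁻¹, i, i⁻¹].getD l 1

theorem good {G : Type*} [Group G] {z r y i : G} (H : Rel z r y i) : Good (ev z r y i) 434320308619641088 := by
  have i_z : z⁻¹ = z := inv_eq_of_mul_eq_one_right H.sz
  refine good_list (n := 8) rfl (by norm_num) rfl fun l hl => ?_
  interval_cases l
  · exact inv_one.symm
  · exact i_z.symm
  · rfl
  · exact (inv_inv _).symm
  · rfl
  · exact (inv_inv _).symm
  · rfl
  · exact (inv_inv _).symm

theorem rels {G : Type*} [Group G] {z r y i : G} (H : Rel z r y i) : Rels (ev z r y i) R := by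
  have i_z : z⁻¹ = z := inv_eq_of_mul_eq_one_right H.sz
  unfold R
  refine Rels.cons ?_ ?_
  · show z * (z * 1) = 1
    simpa only [mul_inv_rev, inv_inv, mul_assoc, mul_one, one_mul, inv_one, pow_succ, pow_zero, i_z] using mul_inv_eq_one.mpr H.sz
  refine Rels.cons ?_ ?_
  · show z * (r * (z * (r⁻¹ * 1))) = 1
    simpa only [mul_inv_rev, inv_inv, mul_assoc, mul_one, one_mul, inv_one, pow_succ, pow_zero, i_z] using mul_inv_eq_one.mpr H.zr
  refine Rels.cons ?_ ?_
  · show z * (y * (z * (y⁻¹ * 1))) = 1
    simpa only [mul_inv_rev, inv_inv, mul_assoc, mul_one, one_mul, inv_one, pow_succ, pow_zero, i_z] using mul_inv_eq_one.mpr H.zy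
  refine Rels.cons ?_ ?_
  · show z * (i * (z * (i⁻¹ * 1))) = 1
    simpa only [mul_inv_rev, inv_inv, mul_assoc, mul_one, one_mul, inv_one, pow_succ, pow_zero, i_z] using mul_inv_eq_one.mpr H.zi
  refine Rels.cons ?_ ?_
  · show r * (r * (r * (r * (r * (r * (r * 1)))))) = 1
    simpa only [mul_inv_rev, inv_inv, mul_assoc, mul_one, one_mul, inv_one, pow_succ, pow_zero, i_z] using mul_inv_eq_one.mpr H.hr
  refine Rels.cons ?_ ?_
  · show y * (y * (y * 1)) = 1
    simpa only [mul_inv_rev, inv_inv, mul_assoc, mul_one, one_mul, inv_one, pow_succ, pow_zero, i_z] using mul_inv_eq_one.mpr H.hy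
  refine Rels.cons ?_ ?_
  · show y * (r * (y⁻¹ * (r⁻¹ * (r⁻¹ * 1)))) = 1
    simpa only [mul_inv_rev, inv_inv, mul_assoc, mul_one, one_mul, inv_one, pow_succ, pow_zero, i_z] using mul_inv_eq_one.mpr H.yr
  refine Rels.cons ?_ ?_
  · show i * (i * 1) = 1
    simpa only [mul_inv_rev, inv_inv, mul_assoc, mul_one, one_mul, inv_one, pow_succ, pow_zero, i_z] using mul_inv_eq_one.mpr H.ii
  refine Rels.cons ?_ ?_
  · show i * (y * (i⁻¹ * (y * 1))) = 1
    simpa only [mul_inv_rev, inv_inv, mul_assoc, mul_one, one_mul, inv_one, pow_succ, pow_zero, i_z] using mul_inv_eq_one.mpr H.iy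
  refine Rels.cons ?_ ?_
  · show i * (r * (i * (r * (i * (r * 1))))) = 1
    simpa only [mul_inv_rev, inv_inv, mul_assoc, mul_one, one_mul, inv_one, pow_succ, pow_zero, i_z] using mul_inv_eq_one.mpr H.ir
  intro r hr
  exact absurd hr List.not_mem_nil

/-- The relations hold for the letters of any assignment satisfying the relators. -/
theorem rel_of {G : Type*} [Group G] {e : ℕ → G} (hg : Good e 434320308619641088) (hR : Rels e R) :
    Rel (e 1) (e 2) (e 4) (e 6) := by
  have j1 : (e 1)⁻¹ = e 1 := (hg.inv 1).symm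
  have j2 : (e 2)⁻¹ = e 3 := (hg.inv 2).symm
  have j3 : (e 3)⁻¹ = e 2 := (hg.inv 3).symm
  have j4 : (e 4)⁻¹ = e 5 := (hg.inv 4).symm
  have j5 : (e 5)⁻¹ = e 4 := (hg.inv 5).symm
  have j6 : (e 6)⁻¹ = e 7 := (hg.inv 6).symm
  have j7 : (e 7)⁻¹ = e 6 := (hg.inv 7).symm
  have r0 : e 1 * (e 1 * 1) = 1 := hR [1, 1] (List.mem_of_elem_eq_true (by decide))
  have r1 : e 1 * (e 2 * (e 1 * (e 3 * 1))) = 1 := hR [1, 2, 1, 3] (List.mem_of_elem_eq_true (by decide))
  have r2 : e 1 * (e 4 * (e 1 * (e 5 * 1))) = 1 := hR [1, 4, 1, 5] (List.mem_of_elem_eq_true (by decide))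
  have r3 : e 1 * (e 6 * (e 1 * (e 7 * 1))) = 1 := hR [1, 6, 1, 7] (List.mem_of_elem_eq_true (by decide))
  have r4 : e 2 * (e 2 * (e 2 * (e 2 * (e 2 * (e 2 * (e 2 * 1)))))) = 1 := hR [2, 2, 2, 2, 2, 2, 2] (List.mem_of_elem_eq_true (by decide))
  have r5 : e 4 * (e 4 * (e 4 * 1)) = 1 := hR [4, 4, 4] (List.mem_of_elem_eq_true (by decide))
  have r6 : e 4 * (e 2 * (e 5 * (e 3 * (e 3 * 1)))) = 1 := hR [4, 2, 5, 3, 3] (List.mem_of_elem_eq_true (by decide))
  have r7 : e 6 * (e 6 * 1) = 1 := hR [6, 6] (List.mem_of_elem_eq_true (by decide))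
  have r8 : e 6 * (e 4 * (e 7 * (e 4 * 1))) = 1 := hR [6, 4, 7, 4] (List.mem_of_elem_eq_true (by decide))
  have r9 : e 6 * (e 2 * (e 6 * (e 2 * (e 6 * (e 2 * 1))))) = 1 := hR [6, 2, 6, 2, 6, 2] (List.mem_of_elem_eq_true (by decide))
  exact ⟨mul_inv_eq_one.mp (by simpa only [mul_inv_rev, mul_assoc, mul_one, one_mul, inv_one, pow_succ, pow_zero, j1, j2, j3, j4, j5, j6, j7] using r0),
    mul_inv_eq_one.mp (by simpa only [mul_inv_rev, mul_assoc, mul_one, one_mul, inv_one, pow_succ, pow_zero, j1, j2, j3, j4, j5, j6, j7] using r1),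
    mul_inv_eq_one.mp (by simpa only [mul_inv_rev, mul_assoc, mul_one, one_mul, inv_one, pow_succ, pow_zero, j1, j2, j3, j4, j5, j6, j7] using r2),
    mul_inv_eq_one.mp (by simpa only [mul_inv_rev, mul_assoc, mul_one, one_mul, inv_one, pow_succ, pow_zero, j1, j2, j3, j4, j5, j6, j7] using r3),
    mul_inv_eq_one.mp (by simpa only [mul_inv_rev, mul_assoc, mul_one, one_mul, inv_one, pow_succ, pow_zero, j1, j2, j3, j4, j5, j6, j7] using r4),
    mul_inv_eq_one.mp (by simpa only [mul_inv_rev, mul_assoc, mul_one, one_mul, inv_one, pow_succ, pow_zero, j1, j2, j3, j4, j5, j6, j7] using r5),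
    mul_inv_eq_one.mp (by simpa only [mul_inv_rev, mul_assoc, mul_one, one_mul, inv_one, pow_succ, pow_zero, j1, j2, j3, j4, j5, j6, j7] using r6),
    mul_inv_eq_one.mp (by simpa only [mul_inv_rev, mul_assoc, mul_one, one_mul, inv_one, pow_succ, pow_zero, j1, j2, j3, j4, j5, j6, j7] using r7),
    mul_inv_eq_one.mp (by simpa only [mul_inv_rev, mul_assoc, mul_one, one_mul, inv_one, pow_succ, pow_zero, j1, j2, j3, j4, j5, j6, j7] using r8),
    mul_inv_eq_one.mp (by simpa only [mul_inv_rev, mul_assoc, mul_one, one_mul, inv_one, pow_succ, pow_zero, j1, j2, j3, j4, j5, j6, j7] using r9)⟩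

theorem gen_top : gen (pgEv 434320308619641088 R) [[1], [2], [4], [6]] = ⊤ := pg_gen (n := 8) (by norm_num) (by decide)
namespace ub_0

noncomputable def get (y : ℕ) : ℕ := (sel (nat_lit 1) y (nat_lit 0x0) (nat_lit 0x100000000000101000001000000))
noncomputable def gs (y : ℕ) : ℕ := (sel (nat_lit 2) y (sel (nat_lit 1) y (nat_lit 0x0) (nat_lit 0x0)) (sel (nat_lit 3) y (nat_lit 0x0) (sel (nat_lit 4) y (nat_lit 0x0) (nat_lit 0x80000018000001800000180000018000001800000180000018000001800000180000018000001800000180000018000001800000180000018000001800000180000018000001800000180000018000001800000180000018000001800000180000018000001800000180000018000000))))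
noncomputable def gd (y : ℕ) : ℕ := (nat_lit 0x2000000000)
noncomputable def gwh (y : ℕ) : ℕ := (nat_lit 0x0)
def sg : List (List ℕ) := [[], [1]]
def BL : List ℕ := []
def Sub : List (List ℕ) := []
theorem hA : prepA 434320308619641088 PL0.R sg 256 BL Sub get gd = true := by decide +kernel
theorem hw : allR (okW BL gwh) 0 0 = true := by decide +kernel
theorem b0 : allR (blk get gs (gwB gwh 0) gd 256) 4 1 = true := by decide +kernel
theorem hb : ∀ b, 4 ≤ b → b < 5 → blk get gs (gwB gwh 0) gd 256 b = true :=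
  (allR_range b0 (by norm_num : 4 + 1 = 5))
noncomputable def gc (y : ℕ) : ℕ := (nat_lit 0x2010000200)
def X : List (List ℕ) := [[1]]
theorem hC : prepC sg 256 X 1 2 1 = true := by decide +kernel
theorem c0 : allR (clo get gc 2 576 1) 0 1 = true := by decide +kernel
theorem cover {G : Type*} [Group G] {ev : ℕ → G} (hev : Good ev 434320308619641088) (hR : Rels ev PL0.R) :
    Cover (gen ev Sub) (gen ev X) 2 :=
  cert_cover hev hR hA hC hw hb (by norm_num) (allR_range c0 (by norm_num : 0 + 1 = 1 * 1))

end ub_0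

namespace ub_1

noncomputable def get (y : ℕ) : ℕ := (sel (nat_lit 1) y (nat_lit 0x100000000000001000000000000) (nat_lit 0x100000600000601000006000006010000050000050100000500000501000004000004010000040000040100000300000301000003000003010000020000020100000200000202000000000006030000060000000300000500000602000006000005030000040000050200000500000403000003000004020000040000030300000200000302000003000002030000010000020200000200000101000001000001010000010000010300000000000102000001000000))
noncomputable def gs (y : ℕ) : ℕ := (sel (nat_lit 2) y (sel (nat_lit 1) y (nat_lit 0x0) (nat_lit 0x0)) (sel (nat_lit 3) y (nat_lit 0x0) (sel (nat_lit 4) y (nat_lit 0x0) (nat_lit 0x80000038000003800000380000038000003800000380000038000003800000380000038000003800000380000038000003800000380000038000003800000380000038000001000020c0000217000020d8000001000020a0000215000020b8000001000020800002130000209800000100002060000211000020780000010000204000020300002058000002000020c000020a00002080000206000020400002008000000800000080000008000000800000080000010000200000010100002018000000))))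
noncomputable def gd (y : ℕ) : ℕ := (nat_lit 0x20c000020a00002080000206000020400002000000000)
noncomputable def gwh (y : ℕ) : ℕ := (sel (nat_lit 1) y (nat_lit 0x3010201000003001000) (nat_lit 0x2020202020202000000007001))
def sg : List (List ℕ) := [[], [1], [2], [3]]
def BL : List ℕ := [0x1020103, 0x2020202020202]
def Sub : List (List ℕ) := [[1]]
theorem hA : prepA 434320308619641088 PL0.R sg 33751296 BL Sub get gd = true := by decide +kernel
theorem hw : allR (okW BL gwh) 0 2 = true := by decide +kernel
theorem b0 : allR (blk get gs (gwB gwh 2) gd 33751296) 4 1 = true := by decide +kernel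
theorem hb : ∀ b, 4 ≤ b → b < 5 → blk get gs (gwB gwh 2) gd 33751296 b = true :=
  (allR_range b0 (by norm_num : 4 + 1 = 5))
noncomputable def gc (y : ℕ) : ℕ := (sel (nat_lit 1) y (nat_lit 0x219000021700002150000213000021100002030000101) (sel (nat_lit 2) y (nat_lit 0x20f000020c000020a0000208000020600002040000200) (nat_lit 0x20d000020b0000209000020700002050000201000020e)))
def X : List (List ℕ) := [[1], [2]]
theorem hC : prepC sg 33751296 X 3 7 1 = true := by decide +kernel
theorem c0 : allR (clo get gc 7 576 1) 0 3 = true := by decide +kernel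
theorem cover {G : Type*} [Group G] {ev : ℕ → G} (hev : Good ev 434320308619641088) (hR : Rels ev PL0.R) :
    Cover (gen ev Sub) (gen ev X) 7 :=
  cert_cover hev hR hA hC hw hb (by norm_num) (allR_range c0 (by norm_num : 0 + 3 = 3 * 1))

end ub_1

namespace ub_2

noncomputable def get (y : ℕ) : ℕ := (sel (nat_lit 1) y (nat_lit 0x3000000000000020000000000000100000000000001000000000000) (nat_lit 0x200000200000203000002000002010000020000020100000200000202000001000001030000010000010100000100000101000001000001040000000000020500000200000005000001000002040000020000010500000000000104000001000000))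
noncomputable def gs (y : ℕ) : ℕ := (sel (nat_lit 2) y (sel (nat_lit 1) y (nat_lit 0x0) (nat_lit 0x0)) (sel (nat_lit 3) y (nat_lit 0x0) (sel (nat_lit 4) y (nat_lit 0x0) (nat_lit 0x800000480000048000004800000480000048000004800000480000048000004800000480000048000004800000480000048000004800000480000048000004800000480000048000004800000480000048000004800000480000030000202000020800002080000203800000200002020000207000020380000030000200000010300001030000201800000200002000000101000020180000010000202000020080000008000000))))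
noncomputable def gd (y : ℕ) : ℕ := (nat_lit 0x20200002000000000)
noncomputable def gwh (y : ℕ) : ℕ := (sel (nat_lit 1) y (nat_lit 0x40404000000003000) (sel (nat_lit 2) y (nat_lit 0x5010401000003001001) (nat_lit 0x503030402000002003002)))
def sg : List (List ℕ) := [[], [1], [2], [3], [4], [5]]
def BL : List ℕ := [0x40404, 0x1040105, 0x402050303]
def Sub : List (List ℕ) := [[1], [2]]
theorem hA : prepA 434320308619641088 PL0.R sg 4419555098880 BL Sub get gd = true := by decide +kernel
theorem hw : allR (okW BL gwh) 0 3 = true := by decide +kernel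
theorem b0 : allR (blk get gs (gwB gwh 3) gd 4419555098880) 4 1 = true := by decide +kernel
theorem hb : ∀ b, 4 ≤ b → b < 5 → blk get gs (gwB gwh 3) gd 4419555098880 b = true :=
  (allR_range b0 (by norm_num : 4 + 1 = 5))
noncomputable def gc (y : ℕ) : ℕ := (sel (nat_lit 2) y (sel (nat_lit 1) y (nat_lit 0x20b00002070000101) (nat_lit 0x20d00002090000102)) (sel (nat_lit 3) y (nat_lit 0x20c00002080000103) (sel (nat_lit 4) y (nat_lit 0x20500002020000200) (nat_lit 0x20300002010000204))))
def X : List (List ℕ) := [[1], [2], [4]]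
theorem hC : prepC sg 4419555098880 X 5 3 1 = true := by decide +kernel
theorem c0 : allR (clo get gc 3 576 1) 0 5 = true := by decide +kernel
theorem cover {G : Type*} [Group G] {ev : ℕ → G} (hev : Good ev 434320308619641088) (hR : Rels ev PL0.R) :
    Cover (gen ev Sub) (gen ev X) 3 :=
  cert_cover hev hR hA hC hw hb (by norm_num) (allR_range c0 (by norm_num : 0 + 5 = 5 * 1))

end ub_2

namespace ub_3

noncomputable def get (y : ℕ) : ℕ := (sel (nat_lit 1) y (nat_lit 0x50000000000000400000000000003000000000000020000000000000100000000000001000000000000) (nat_lit 0x3000005000006020000060000050300000400000702000007000004020000050000070300000700000506000004000007070000070000040700000400000706000007000004010000070000070100000700000704000006000007050000070000060500000300000704000007000003070000060000050600000500000606000006000005070000050000060400000300000605000006000003010000060000060100000600000602000003000006030000060000030100000500000501000005000005040000040000050500000500000405000002000005040000050000020500000400000204000002000004010000040000040100000400000403000002000004020000040000020600000200000307000003000002060000030000020700000200000301000003000003010000030000030200000100000303000003000001010000020000020100000200000203000001000002020000020000010400000100000105000001000001010000010000010100000100000106000000000001070000010000000700000000000106000001000000))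
noncomputable def gs (y : ℕ) : ℕ := (sel (nat_lit 2) y (sel (nat_lit 1) y (nat_lit 0x0) (nat_lit 0x0)) (sel (nat_lit 3) y (nat_lit 0x0) (sel (nat_lit 4) y (nat_lit 0x0) (nat_lit 0x800001080000108000010800000f00002240000221000022d0000234800000e0000234000021c00002140000218800000d000022a000020c0000209000021b800000b000022a00002120000218800000c000022a000021100002188000009000022a000020e000022b8000008000022a00002258000000800000c000021a00002130000225800000b000021a00002100000225800000a0000220000020c0000206000020d80000050000220000020e000022180000008000009000021a000020a000021b8000008000021a000021880000008000007000020800002070000209000021580000040000214000020a000021580000008000001000021180000060000208000020000001020000203000020d8000005000020c0000204000020d80000008000004000020800002040000209800000080000030000200000010400002018000002000020000001000000201800000100002008000000))))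
noncomputable def gd (y : ℕ) : ℕ := (nat_lit 0x22a0000220000021a0000214000020c000020800002000000000)
noncomputable def gwh (y : ℕ) : ℕ := (sel (nat_lit 7) y (sel (nat_lit 3) y (sel (nat_lit 1) y (nat_lit 0x606000000002000) (sel (nat_lit 2) y (nat_lit 0x7010601000003001001) (nat_lit 0x7040604000002002002))) (sel (nat_lit 5) y (sel (nat_lit 4) y (nat_lit 0x3010201000003001003) (nat_lit 0x2010301000001003003)) (sel (nat_lit 6) y (nat_lit 0x20602060206000001005004) (nat_lit 0x303040205000003002005)))) (sel (nat_lit 11) y (sel (nat_lit 9) y (sel (nat_lit 8) y (nat_lit 0x40404000002001006) (nat_lit 0x5010401000003001007)) (sel (nat_lit 10) y (nat_lit 0x205030304000001004005) (nat_lit 0x4070406000001003002))) (sel (nat_lit 13) y (sel (nat_lit 12) y (nat_lit 0x4060407000003001002) (nat_lit 0x503030402000002003005)) (sel (nat_lit 14) y (nat_lit 0x402050303000000005005) (nat_lit 0x304020503000004001005)))))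
def sg : List (List ℕ) := [[], [1], [2], [3], [4], [5], [6], [7]]
def BL : List ℕ := [0x606, 0x1060107, 0x6040704, 0x1020103, 0x60206020602, 0x402050303, 0x40404, 0x1040105]
def Sub : List (List ℕ) := [[1], [2], [4]]
theorem hA : prepA 434320308619641088 PL0.R sg 434320308619641088 BL Sub get gd = true := by decide +kernel
theorem hw : allR (okW BL gwh) 0 15 = true := by decide +kernel
theorem b0 : allR (blk get gs (gwB gwh 15) gd 434320308619641088) 4 1 = true := by decide +kernel
theorem hb : ∀ b, 4 ≤ b → b < 5 → blk get gs (gwB gwh 15) gd 434320308619641088 b = true :=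
  (allR_range b0 (by norm_num : 4 + 1 = 5))
noncomputable def gc (y : ℕ) : ℕ := (sel (nat_lit 3) y (sel (nat_lit 1) y (nat_lit 0x22f0000223000021f0000217000020f000020b00002050000101) (sel (nat_lit 2) y (nat_lit 0x235000022100002380000236000020d000021400002080000102) (nat_lit 0x23700002390000234000021500002200000209000020c0000103))) (sel (nat_lit 5) y (sel (nat_lit 4) y (nat_lit 0x22d0000225000021d0000218000022a000021a00002070000104) (nat_lit 0x22b000022c000021b000021c0000224000021900002060000105)) (sel (nat_lit 6) y (nat_lit 0x2330000228000022700002300000213000021100002030000200) (nat_lit 0x2310000226000022900002320000210000021200002010000202))))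
def X : List (List ℕ) := [[1], [2], [4], [6]]
theorem hC : prepC sg 434320308619641088 X 7 8 1 = true := by decide +kernel
theorem c0 : allR (clo get gc 8 576 1) 0 7 = true := by decide +kernel
theorem cover {G : Type*} [Group G] {ev : ℕ → G} (hev : Good ev 434320308619641088) (hR : Rels ev PL0.R) :
    Cover (gen ev Sub) (gen ev X) 8 :=
  cert_cover hev hR hA hC hw hb (by norm_num) (allR_range c0 (by norm_num : 0 + 7 = 7 * 1))

end ub_3

theorem ub {G : Type*} [Group G] {ev : ℕ → G} (hev : Good ev 434320308619641088) (hR : Rels ev R) :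
    UB (gen ev [[1], [2], [4], [6]]) 336 :=
  ((((UB.bot.cover (ub_0.cover hev hR)).cover (ub_1.cover hev hR)).cover (ub_2.cover hev hR)).cover (ub_3.cover hev hR))

end PL0

namespace PL1

structure Rel {G : Type*} [Group G] (z r y i : G) : Prop where
  sz : z * z = 1
  zr : z * r = r * z
  zy : z * y = y * z
  zi : z * i = i * z
  hr : r ^ 7 = 1
  hy : y ^ 3 = 1
  yr : y * r * y⁻¹ = r ^ 2
  ii : i * i = z
  iy : i * y * i⁻¹ = y⁻¹
  ir : (i * r) ^ 3 = 1

def R : List (List ℕ) := [[1, 1], [1, 2, 1, 3], [1, 4, 1, 5], [1, 6, 1, 7], [2, 2, 2, 2, 2, 2, 2], [4, 4, 4], [4, 2, 5, 3, 3], [6, 6, 1], [6, 4, 7, 4], [6, 2, 6, 2, 6, 2]]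

def ev {G : Type*} [Group G] (z r y i : G) (l : ℕ) : G := [1, z, r, r⁻¹, y, y⁻¹, i, i⁻¹].getD l 1

theorem good {G : Type*} [Group G] {z r y i : G} (H : Rel z r y i) : Good (ev z r y i) 434320308619641088 := by
  have i_z : z⁻¹ = z := inv_eq_of_mul_eq_one_right H.sz
  refine good_list (n := 8) rfl (by norm_num) rfl fun l hl => ?_
  interval_cases l
  · exact inv_one.symm
  · exact i_z.symm
  · rfl
  · exact (inv_inv _).symm
  · rfl
  · exact (inv_inv _).symm
  · rfl
  · exact (inv_inv _).symm

theorem rels {G : Type*} [Group G] {z r y i : G} (H : Rel z r y i) : Rels (ev z r y i) R := by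
  have i_z : z⁻¹ = z := inv_eq_of_mul_eq_one_right H.sz
  unfold R
  refine Rels.cons ?_ ?_
  · show z * (z * 1) = 1
    simpa only [mul_inv_rev, inv_inv, mul_assoc, mul_one, one_mul, inv_one, pow_succ, pow_zero, i_z] using mul_inv_eq_one.mpr H.sz
  refine Rels.cons ?_ ?_
  · show z * (r * (z * (r⁻¹ * 1))) = 1
    simpa only [mul_inv_rev, inv_inv, mul_assoc, mul_one, one_mul, inv_one, pow_succ, pow_zero, i_z] using mul_inv_eq_one.mpr H.zr
  refine Rels.cons ?_ ?_
  · show z * (y * (z * (y⁻¹ * 1))) = 1
    simpa only [mul_inv_rev, inv_inv, mul_assoc, mul_one, one_mul, inv_one, pow_succ, pow_zero, i_z] using mul_inv_eq_one.mpr H.zy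
  refine Rels.cons ?_ ?_
  · show z * (i * (z * (i⁻¹ * 1))) = 1
    simpa only [mul_inv_rev, inv_inv, mul_assoc, mul_one, one_mul, inv_one, pow_succ, pow_zero, i_z] using mul_inv_eq_one.mpr H.zi
  refine Rels.cons ?_ ?_
  · show r * (r * (r * (r * (r * (r * (r * 1)))))) = 1
    simpa only [mul_inv_rev, inv_inv, mul_assoc, mul_one, one_mul, inv_one, pow_succ, pow_zero, i_z] using mul_inv_eq_one.mpr H.hr
  refine Rels.cons ?_ ?_
  · show y * (y * (y * 1)) = 1
    simpa only [mul_inv_rev, inv_inv, mul_assoc, mul_one, one_mul, inv_one, pow_succ, pow_zero, i_z] using mul_inv_eq_one.mpr H.hy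
  refine Rels.cons ?_ ?_
  · show y * (r * (y⁻¹ * (r⁻¹ * (r⁻¹ * 1)))) = 1
    simpa only [mul_inv_rev, inv_inv, mul_assoc, mul_one, one_mul, inv_one, pow_succ, pow_zero, i_z] using mul_inv_eq_one.mpr H.yr
  refine Rels.cons ?_ ?_
  · show i * (i * (z * 1)) = 1
    simpa only [mul_inv_rev, inv_inv, mul_assoc, mul_one, one_mul, inv_one, pow_succ, pow_zero, i_z] using mul_inv_eq_one.mpr H.ii
  refine Rels.cons ?_ ?_
  · show i * (y * (i⁻¹ * (y * 1))) = 1
    simpa only [mul_inv_rev, inv_inv, mul_assoc, mul_one, one_mul, inv_one, pow_succ, pow_zero, i_z] using mul_inv_eq_one.mpr H.iy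
  refine Rels.cons ?_ ?_
  · show i * (r * (i * (r * (i * (r * 1))))) = 1
    simpa only [mul_inv_rev, inv_inv, mul_assoc, mul_one, one_mul, inv_one, pow_succ, pow_zero, i_z] using mul_inv_eq_one.mpr H.ir
  intro r hr
  exact absurd hr List.not_mem_nil

/-- The relations hold for the letters of any assignment satisfying the relators. -/
theorem rel_of {G : Type*} [Group G] {e : ℕ → G} (hg : Good e 434320308619641088) (hR : Rels e R) :
    Rel (e 1) (e 2) (e 4) (e 6) := by
  have j1 : (e 1)⁻¹ = e 1 := (hg.inv 1).symm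
  have j2 : (e 2)⁻¹ = e 3 := (hg.inv 2).symm
  have j3 : (e 3)⁻¹ = e 2 := (hg.inv 3).symm
  have j4 : (e 4)⁻¹ = e 5 := (hg.inv 4).symm
  have j5 : (e 5)⁻¹ = e 4 := (hg.inv 5).symm
  have j6 : (e 6)⁻¹ = e 7 := (hg.inv 6).symm
  have j7 : (e 7)⁻¹ = e 6 := (hg.inv 7).symm
  have r0 : e 1 * (e 1 * 1) = 1 := hR [1, 1] (List.mem_of_elem_eq_true (by decide))
  have r1 : e 1 * (e 2 * (e 1 * (e 3 * 1))) = 1 := hR [1, 2, 1, 3] (List.mem_of_elem_eq_true (by decide))
  have r2 : e 1 * (e 4 * (e 1 * (e 5 * 1))) = 1 := hR [1, 4, 1, 5] (List.mem_of_elem_eq_true (by decide))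
  have r3 : e 1 * (e 6 * (e 1 * (e 7 * 1))) = 1 := hR [1, 6, 1, 7] (List.mem_of_elem_eq_true (by decide))
  have r4 : e 2 * (e 2 * (e 2 * (e 2 * (e 2 * (e 2 * (e 2 * 1)))))) = 1 := hR [2, 2, 2, 2, 2, 2, 2] (List.mem_of_elem_eq_true (by decide))
  have r5 : e 4 * (e 4 * (e 4 * 1)) = 1 := hR [4, 4, 4] (List.mem_of_elem_eq_true (by decide))
  have r6 : e 4 * (e 2 * (e 5 * (e 3 * (e 3 * 1)))) = 1 := hR [4, 2, 5, 3, 3] (List.mem_of_elem_eq_true (by decide))
  have r7 : e 6 * (e 6 * (e 1 * 1)) = 1 := hR [6, 6, 1] (List.mem_of_elem_eq_true (by decide))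
  have r8 : e 6 * (e 4 * (e 7 * (e 4 * 1))) = 1 := hR [6, 4, 7, 4] (List.mem_of_elem_eq_true (by decide))
  have r9 : e 6 * (e 2 * (e 6 * (e 2 * (e 6 * (e 2 * 1))))) = 1 := hR [6, 2, 6, 2, 6, 2] (List.mem_of_elem_eq_true (by decide))
  exact ⟨mul_inv_eq_one.mp (by simpa only [mul_inv_rev, mul_assoc, mul_one, one_mul, inv_one, pow_succ, pow_zero, j1, j2, j3, j4, j5, j6, j7] using r0),
    mul_inv_eq_one.mp (by simpa only [mul_inv_rev, mul_assoc, mul_one, one_mul, inv_one, pow_succ, pow_zero, j1, j2, j3, j4, j5, j6, j7] using r1),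
    mul_inv_eq_one.mp (by simpa only [mul_inv_rev, mul_assoc, mul_one, one_mul, inv_one, pow_succ, pow_zero, j1, j2, j3, j4, j5, j6, j7] using r2),
    mul_inv_eq_one.mp (by simpa only [mul_inv_rev, mul_assoc, mul_one, one_mul, inv_one, pow_succ, pow_zero, j1, j2, j3, j4, j5, j6, j7] using r3),
    mul_inv_eq_one.mp (by simpa only [mul_inv_rev, mul_assoc, mul_one, one_mul, inv_one, pow_succ, pow_zero, j1, j2, j3, j4, j5, j6, j7] using r4),
    mul_inv_eq_one.mp (by simpa only [mul_inv_rev, mul_assoc, mul_one, one_mul, inv_one, pow_succ, pow_zero, j1, j2, j3, j4, j5, j6, j7] using r5),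
    mul_inv_eq_one.mp (by simpa only [mul_inv_rev, mul_assoc, mul_one, one_mul, inv_one, pow_succ, pow_zero, j1, j2, j3, j4, j5, j6, j7] using r6),
    mul_inv_eq_one.mp (by simpa only [mul_inv_rev, mul_assoc, mul_one, one_mul, inv_one, pow_succ, pow_zero, j1, j2, j3, j4, j5, j6, j7] using r7),
    mul_inv_eq_one.mp (by simpa only [mul_inv_rev, mul_assoc, mul_one, one_mul, inv_one, pow_succ, pow_zero, j1, j2, j3, j4, j5, j6, j7] using r8),
    mul_inv_eq_one.mp (by simpa only [mul_inv_rev, mul_assoc, mul_one, one_mul, inv_one, pow_succ, pow_zero, j1, j2, j3, j4, j5, j6, j7] using r9)⟩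

theorem gen_top : gen (pgEv 434320308619641088 R) [[1], [2], [4], [6]] = ⊤ := pg_gen (n := 8) (by norm_num) (by decide)
namespace ub_0

noncomputable def get (y : ℕ) : ℕ := (sel (nat_lit 1) y (nat_lit 0x0) (nat_lit 0x100000000000101000001000000))
noncomputable def gs (y : ℕ) : ℕ := (sel (nat_lit 2) y (sel (nat_lit 1) y (nat_lit 0x0) (nat_lit 0x0)) (sel (nat_lit 3) y (nat_lit 0x0) (sel (nat_lit 4) y (nat_lit 0x0) (nat_lit 0x80000018000001800000180000018000001800000180000018000001800000180000018000001800000180000018000001800000180000018000001800000180000018000001800000180000018000001800000180000018000001800000180000018000001800000180000018000000))))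
noncomputable def gd (y : ℕ) : ℕ := (nat_lit 0x2000000000)
noncomputable def gwh (y : ℕ) : ℕ := (nat_lit 0x0)
def sg : List (List ℕ) := [[], [1]]
def BL : List ℕ := []
def Sub : List (List ℕ) := []
theorem hA : prepA 434320308619641088 PL1.R sg 256 BL Sub get gd = true := by decide +kernel
theorem hw : allR (okW BL gwh) 0 0 = true := by decide +kernel
theorem b0 : allR (blk get gs (gwB gwh 0) gd 256) 4 1 = true := by decide +kernel
theorem hb : ∀ b, 4 ≤ b → b < 5 → blk get gs (gwB gwh 0) gd 256 b = true :=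
  (allR_range b0 (by norm_num : 4 + 1 = 5))
noncomputable def gc (y : ℕ) : ℕ := (nat_lit 0x2010000200)
def X : List (List ℕ) := [[1]]
theorem hC : prepC sg 256 X 1 2 1 = true := by decide +kernel
theorem c0 : allR (clo get gc 2 576 1) 0 1 = true := by decide +kernel
theorem cover {G : Type*} [Group G] {ev : ℕ → G} (hev : Good ev 434320308619641088) (hR : Rels ev PL1.R) :
    Cover (gen ev Sub) (gen ev X) 2 :=
  cert_cover hev hR hA hC hw hb (by norm_num) (allR_range c0 (by norm_num : 0 + 1 = 1 * 1))

end ub_0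

namespace ub_1

noncomputable def get (y : ℕ) : ℕ := (sel (nat_lit 1) y (nat_lit 0x100000000000001000000000000) (nat_lit 0x100000600000601000006000006010000050000050100000500000501000004000004010000040000040100000300000301000003000003010000020000020100000200000202000000000006030000060000000300000500000602000006000005030000040000050200000500000403000003000004020000040000030300000200000302000003000002030000010000020200000200000101000001000001010000010000010300000000000102000001000000))
noncomputable def gs (y : ℕ) : ℕ := (sel (nat_lit 2) y (sel (nat_lit 1) y (nat_lit 0x0) (nat_lit 0x0)) (sel (nat_lit 3) y (nat_lit 0x0) (sel (nat_lit 4) y (nat_lit 0x0) (nat_lit 0x80000038000003800000380000038000003800000380000038000003800000380000038000003800000380000038000003800000380000038000003800000380000038000001000020c0000217000020d8000001000020a0000215000020b8000001000020800002130000209800000100002060000211000020780000010000204000020300002058000002000020c000020a00002080000206000020400002008000000800000080000008000000800000080000010000200000010100002018000000))))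
noncomputable def gd (y : ℕ) : ℕ := (nat_lit 0x20c000020a00002080000206000020400002000000000)
noncomputable def gwh (y : ℕ) : ℕ := (sel (nat_lit 1) y (nat_lit 0x3010201000003001000) (nat_lit 0x2020202020202000000007001))
def sg : List (List ℕ) := [[], [1], [2], [3]]
def BL : List ℕ := [0x1020103, 0x2020202020202]
def Sub : List (List ℕ) := [[1]]
theorem hA : prepA 434320308619641088 PL1.R sg 33751296 BL Sub get gd = true := by decide +kernel
theorem hw : allR (okW BL gwh) 0 2 = true := by decide +kernel
theorem b0 : allR (blk get gs (gwB gwh 2) gd 33751296) 4 1 = true := by decide +kernel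
theorem hb : ∀ b, 4 ≤ b → b < 5 → blk get gs (gwB gwh 2) gd 33751296 b = true :=
  (allR_range b0 (by norm_num : 4 + 1 = 5))
noncomputable def gc (y : ℕ) : ℕ := (sel (nat_lit 1) y (nat_lit 0x219000021700002150000213000021100002030000101) (sel (nat_lit 2) y (nat_lit 0x20f000020c000020a0000208000020600002040000200) (nat_lit 0x20d000020b0000209000020700002050000201000020e)))
def X : List (List ℕ) := [[1], [2]]
theorem hC : prepC sg 33751296 X 3 7 1 = true := by decide +kernel
theorem c0 : allR (clo get gc 7 576 1) 0 3 = true := by decide +kernel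
theorem cover {G : Type*} [Group G] {ev : ℕ → G} (hev : Good ev 434320308619641088) (hR : Rels ev PL1.R) :
    Cover (gen ev Sub) (gen ev X) 7 :=
  cert_cover hev hR hA hC hw hb (by norm_num) (allR_range c0 (by norm_num : 0 + 3 = 3 * 1))

end ub_1

namespace ub_2

noncomputable def get (y : ℕ) : ℕ := (sel (nat_lit 1) y (nat_lit 0x3000000000000020000000000000100000000000001000000000000) (nat_lit 0x200000200000203000002000002010000020000020100000200000202000001000001030000010000010100000100000101000001000001040000000000020500000200000005000001000002040000020000010500000000000104000001000000))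
noncomputable def gs (y : ℕ) : ℕ := (sel (nat_lit 2) y (sel (nat_lit 1) y (nat_lit 0x0) (nat_lit 0x0)) (sel (nat_lit 3) y (nat_lit 0x0) (sel (nat_lit 4) y (nat_lit 0x0) (nat_lit 0x800000480000048000004800000480000048000004800000480000048000004800000480000048000004800000480000048000004800000480000048000004800000480000048000004800000480000048000004800000480000030000202000020800002080000203800000200002020000207000020380000030000200000010300001030000201800000200002000000101000020180000010000202000020080000008000000))))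
noncomputable def gd (y : ℕ) : ℕ := (nat_lit 0x20200002000000000)
noncomputable def gwh (y : ℕ) : ℕ := (sel (nat_lit 1) y (nat_lit 0x40404000000003000) (sel (nat_lit 2) y (nat_lit 0x5010401000003001001) (nat_lit 0x503030402000002003002)))
def sg : List (List ℕ) := [[], [1], [2], [3], [4], [5]]
def BL : List ℕ := [0x40404, 0x1040105, 0x402050303]
def Sub : List (List ℕ) := [[1], [2]]
theorem hA : prepA 434320308619641088 PL1.R sg 4419555098880 BL Sub get gd = true := by decide +kernel
theorem hw : allR (okW BL gwh) 0 3 = true := by decide +kernel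
theorem b0 : allR (blk get gs (gwB gwh 3) gd 4419555098880) 4 1 = true := by decide +kernel
theorem hb : ∀ b, 4 ≤ b → b < 5 → blk get gs (gwB gwh 3) gd 4419555098880 b = true :=
  (allR_range b0 (by norm_num : 4 + 1 = 5))
noncomputable def gc (y : ℕ) : ℕ := (sel (nat_lit 2) y (sel (nat_lit 1) y (nat_lit 0x20b00002070000101) (nat_lit 0x20d00002090000102)) (sel (nat_lit 3) y (nat_lit 0x20c00002080000103) (sel (nat_lit 4) y (nat_lit 0x20500002020000200) (nat_lit 0x20300002010000204))))
def X : List (List ℕ) := [[1], [2], [4]]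
theorem hC : prepC sg 4419555098880 X 5 3 1 = true := by decide +kernel
theorem c0 : allR (clo get gc 3 576 1) 0 5 = true := by decide +kernel
theorem cover {G : Type*} [Group G] {ev : ℕ → G} (hev : Good ev 434320308619641088) (hR : Rels ev PL1.R) :
    Cover (gen ev Sub) (gen ev X) 3 :=
  cert_cover hev hR hA hC hw hb (by norm_num) (allR_range c0 (by norm_num : 0 + 5 = 5 * 1))

end ub_2

namespace ub_3

noncomputable def get (y : ℕ) : ℕ := (sel (nat_lit 1) y (nat_lit 0x50000000000000400000000000003000000000000020000000000000100000000000001000000000000) (nat_lit 0x3000005000006020000060000050300000400000702000007000004020000050000070300000700000506000004000007070000070000040700000400000706000007000004010000070000070100000700000704000006000007050000070000060500000300000704000007000003070000060000050600000500000606000006000005070000050000060400000300000605000006000003010000060000060100000600000602000003000006030000060000030100000500000501000005000005040000040000050500000500000405000002000005040000050000020500000400000204000002000004010000040000040100000400000403000002000004020000040000020600000200000307000003000002060000030000020700000200000301000003000003010000030000030200000100000303000003000001010000020000020100000200000203000001000002020000020000010400000100000105000001000001010000010000010100000100000106000000000001070000010000000700000000000106000001000000))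
noncomputable def gs (y : ℕ) : ℕ := (sel (nat_lit 2) y (sel (nat_lit 1) y (nat_lit 0x0) (nat_lit 0x0)) (sel (nat_lit 3) y (nat_lit 0x0) (sel (nat_lit 4) y (nat_lit 0x0) (nat_lit 0x800001080000108000010800000f00002240000221000022d0000234800000e0000234000021c00002140000218800000d000022a000020c0000209000021b800000b000022a00002120000218800000c000022a000021100002188000009000022a000020e000022b8000008000022a00002258000000800000c000021a00002130000225800000b000021a00002100000225800000a0000220000020c0000206000020d80000050000220000020e000022180000008000009000021a000020a000021b8000008000021a000021880000008000007000020800002070000209000021580000040000214000020a0000215800000080000010000211000020a80000060000208000020000001020000203000020d8000005000020c0000204000020d80000008000004000020800002040000209800000080000030000200000010400002018000002000020000002038000001000020000001008000000))))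
noncomputable def gd (y : ℕ) : ℕ := (nat_lit 0x22a0000220000021a0000214000020c000020800002000000000)
noncomputable def gwh (y : ℕ) : ℕ := (sel (nat_lit 7) y (sel (nat_lit 3) y (sel (nat_lit 1) y (nat_lit 0x10606000002001000) (sel (nat_lit 2) y (nat_lit 0x60601000000003000) (nat_lit 0x7040604000002002001))) (sel (nat_lit 5) y (sel (nat_lit 4) y (nat_lit 0x3010201000003001002) (nat_lit 0x2010301000001003002)) (sel (nat_lit 6) y (nat_lit 0x20602060206000001005003) (nat_lit 0x303040205000003002004)))) (sel (nat_lit 11) y (sel (nat_lit 9) y (sel (nat_lit 8) y (nat_lit 0x40404000002001005) (nat_lit 0x5010401000003001006)) (sel (nat_lit 10) y (nat_lit 0x205030304000001004004) (nat_lit 0x4070406000001003001))) (sel (nat_lit 13) y (sel (nat_lit 12) y (nat_lit 0x4060407000003001001) (nat_lit 0x503030402000002003004)) (sel (nat_lit 14) y (nat_lit 0x402050303000000005004) (nat_lit 0x304020503000004001004)))))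
def sg : List (List ℕ) := [[], [1], [2], [3], [4], [5], [6], [7]]
def BL : List ℕ := [0x60601, 0x6040704, 0x1020103, 0x60206020602, 0x402050303, 0x40404, 0x1040105]
def Sub : List (List ℕ) := [[1], [2], [4]]
theorem hA : prepA 434320308619641088 PL1.R sg 434320308619641088 BL Sub get gd = true := by decide +kernel
theorem hw : allR (okW BL gwh) 0 15 = true := by decide +kernel
theorem b0 : allR (blk get gs (gwB gwh 15) gd 434320308619641088) 4 1 = true := by decide +kernel
theorem hb : ∀ b, 4 ≤ b → b < 5 → blk get gs (gwB gwh 15) gd 434320308619641088 b = true :=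
  (allR_range b0 (by norm_num : 4 + 1 = 5))
noncomputable def gc (y : ℕ) : ℕ := (sel (nat_lit 3) y (sel (nat_lit 1) y (nat_lit 0x22f0000223000021f0000217000020f000020b00002050000101) (sel (nat_lit 2) y (nat_lit 0x235000022100002380000236000020d000021400002080000102) (nat_lit 0x23700002390000234000021500002200000209000020c0000103))) (sel (nat_lit 5) y (sel (nat_lit 4) y (nat_lit 0x22d0000225000021d0000218000022a000021a00002070000104) (nat_lit 0x22b000022c000021b000021c0000224000021900002060000105)) (sel (nat_lit 6) y (nat_lit 0x2330000228000022700002300000213000021100002030000200) (nat_lit 0x2310000226000022900002320000210000021200002010000202))))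
def X : List (List ℕ) := [[1], [2], [4], [6]]
theorem hC : prepC sg 434320308619641088 X 7 8 1 = true := by decide +kernel
theorem c0 : allR (clo get gc 8 576 1) 0 7 = true := by decide +kernel
theorem cover {G : Type*} [Group G] {ev : ℕ → G} (hev : Good ev 434320308619641088) (hR : Rels ev PL1.R) :
    Cover (gen ev Sub) (gen ev X) 8 :=
  cert_cover hev hR hA hC hw hb (by norm_num) (allR_range c0 (by norm_num : 0 + 7 = 7 * 1))

end ub_3

theorem ub {G : Type*} [Group G] {ev : ℕ → G} (hev : Good ev 434320308619641088) (hR : Rels ev R) :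
    UB (gen ev [[1], [2], [4], [6]]) 336 :=
  ((((UB.bot.cover (ub_0.cover hev hR)).cover (ub_1.cover hev hR)).cover (ub_2.cover hev hR)).cover (ub_3.cover hev hR))

end PL1

theorem Q.rel : PQ7.Rel (Q.mk 1) (Q.mk 2) (Q.mk 4) (Q.mk 8) (Q.mk 16) (Q.mk 32) Q.z := by
  constructor <;> decide +kernel

theorem LE.rel0 : PL0.Rel (⟨true, 1⟩ : LE false) ⟨false, L.r⟩ ⟨false, L.y⟩ ⟨false, L.i⟩ := by
  constructor <;> decide +kernel

theorem LE.rel1 : PL1.Rel (⟨true, 1⟩ : LE true) ⟨false, L.r⟩ ⟨false, L.y⟩ ⟨false, L.i⟩ := by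
  constructor <;> decide +kernel

theorem Q.eq_top (K : Subgroup Q) (h : ∀ g ∈ Q.gs, g ∈ K) : K = ⊤ := by
  rw [eq_top_iff]
  intro q _
  exact Q.ind (P := fun q => q ∈ K) K.one_mem (fun g hg m ih => K.mul_mem (h g hg) ih) q

theorem LE.z_mul {t : Bool} (e : Bool) (s : L) : (⟨true, 1⟩ : LE t) * ⟨e, s⟩ = ⟨!e, s⟩ := by
  rw [LE.mul_def]
  simp only [(gt_one t s).1, one_mul, Bool.false_xor, Bool.true_xor]

theorem LE.eq_top {t : Bool} (K : Subgroup (LE t)) (hz : ⟨true, 1⟩ ∈ K)
    (h : ∀ g ∈ L.gs, ⟨false, g⟩ ∈ K) : K = ⊤ := by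
  have h1 : ∀ s e, (⟨e, s⟩ : LE t) ∈ K → ∀ e', (⟨e', s⟩ : LE t) ∈ K := by
    intro s e he e'
    have h2 := K.mul_mem hz he
    rw [LE.z_mul] at h2
    cases e <;> cases e'
    exacts [he, h2, h2, he]
  rw [eq_top_iff]
  rintro ⟨e, s⟩ -
  revert e
  refine L.ind (P := fun s => ∀ e, (⟨e, s⟩ : LE t) ∈ K) (h1 1 false K.one_mem) ?_ s
  intro g hg m ih
  have h2 := K.mul_mem (h g hg) (ih false)
  rw [LE.mul_def] at h2
  exact h1 _ _ h2

variable {G : Type*} [Group G]

theorem Q.exists_hom {a0 a1 a2 b0 b1 b2 z : G} (H : PQ7.Rel a0 a1 a2 b0 b1 b2 z) :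
    ∃ φ : Q →* G, φ (Q.mk 1) = a0 ∧ φ (Q.mk 2) = a1 ∧ φ (Q.mk 4) = a2 ∧ φ (Q.mk 8) = b0 ∧
      φ (Q.mk 16) = b1 ∧ φ (Q.mk 32) = b2 ∧ φ Q.z = z := by
  obtain ⟨φ, h⟩ := exists_hom_of_UB (PQ7.good Q.rel) (PQ7.rels Q.rel) (PQ7.good H) (PQ7.rels H)
    PQ7.gen_top (PQ7.ub (pg_good _ _) (pg_rels _ _))
    (Q.eq_top _ (by
      unfold Q.gs
      simp only [List.forall_mem_cons]
      exact ⟨letter_mem _ 1 rfl, letter_mem _ 2 rfl, letter_mem _ 3 rfl, letter_mem _ 4 rfl,
        letter_mem _ 5 rfl, letter_mem _ 6 rfl, letter_mem _ 7 rfl, by simp⟩)) TN.card_eq.ge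
  exact ⟨φ, h 1, h 2, h 3, h 4, h 5, h 6, h 7⟩

theorem Q.hom_ext {φ ψ : Q →* G} (h : ∀ g ∈ Q.gs, φ g = ψ g) : φ = ψ := by
  ext q
  exact Q.ind (P := fun q => φ q = ψ q) (by simp)
    (fun g hg m ih => by rw [map_mul, map_mul, h g hg, ih]) q

/-- The relations of the complement. -/
structure LRel (t : Bool) (z r y i : G) : Prop where
  sz : z * z = 1
  zr : z * r = r * z
  zy : z * y = y * z
  zi : z * i = i * z
  hr : r ^ 7 = 1
  hy : y ^ 3 = 1
  yr : y * r * y⁻¹ = r ^ 2
  ii : i * i = cond t z 1
  iy : i * y * i⁻¹ = y⁻¹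
  ir : (i * r) ^ 3 = 1

theorem LE.exists_hom {t : Bool} {z r y i : G} (H : LRel t z r y i) :
    ∃ φ : LE t →* G, φ ⟨true, 1⟩ = z ∧ φ ⟨false, L.r⟩ = r ∧ φ ⟨false, L.y⟩ = y ∧
      φ ⟨false, L.i⟩ = i := by
  cases t
  · have H' : PL0.Rel z r y i := ⟨H.sz, H.zr, H.zy, H.zi, H.hr, H.hy, H.yr, H.ii, H.iy, H.ir⟩
    obtain ⟨φ, h⟩ := exists_hom_of_UB (PL0.good LE.rel0) (PL0.rels LE.rel0) (PL0.good H')
      (PL0.rels H') PL0.gen_top (PL0.ub (pg_good _ _) (pg_rels _ _))
      (LE.eq_top _ (letter_mem _ 1 rfl) (by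
        unfold L.gs
        simp only [List.forall_mem_cons]
        exact ⟨letter_mem _ 2 rfl, letter_mem _ 4 rfl, letter_mem _ 6 rfl, by simp⟩)) LE.card.ge
    exact ⟨φ, h 1, h 2, h 4, h 6⟩
  · have H' : PL1.Rel z r y i := ⟨H.sz, H.zr, H.zy, H.zi, H.hr, H.hy, H.yr, H.ii, H.iy, H.ir⟩
    obtain ⟨φ, h⟩ := exists_hom_of_UB (PL1.good LE.rel1) (PL1.rels LE.rel1) (PL1.good H')
      (PL1.rels H') PL1.gen_top (PL1.ub (pg_good _ _) (pg_rels _ _))
      (LE.eq_top _ (letter_mem _ 1 rfl) (by
        unfold L.gs
        simp only [List.forall_mem_cons]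
        exact ⟨letter_mem _ 2 rfl, letter_mem _ 4 rfl, letter_mem _ 6 rfl, by simp⟩)) LE.card.ge
    exact ⟨φ, h 1, h 2, h 4, h 6⟩

theorem CM.exists_hom {A : Act} {t : Bool} (ψ : Q →* G) {r y i : G} (H : LRel t (ψ Q.z) r y i)
    (hr : ∀ q, r * ψ q * r⁻¹ = ψ (A.ap L.r q)) (hy : ∀ q, y * ψ q * y⁻¹ = ψ (A.ap L.y q))
    (hi : ∀ q, i * ψ q * i⁻¹ = ψ (A.ap L.i q)) :
    ∃ φ : CM A t →* G, ∀ q, φ ⟨q, 1⟩ = ψ q := by
  obtain ⟨μ, m0, m1, m2, m3⟩ := LE.exists_hom H
  have hz : ∀ (e : Bool) (s : L), μ ⟨e, s⟩ = ψ (tz e 1) * μ ⟨false, s⟩ := by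
    intro e s
    cases e
    · rw [tz_false, map_one, one_mul]
    · rw [tz_true, mul_one, ← m0, ← map_mul, LE.z_mul]; rfl
  have hm : ∀ s s' : L, μ ⟨false, s⟩ * μ ⟨false, s'⟩ = ψ (tz (gt t s s') 1) * μ ⟨false, s * s'⟩ := by
    intro s s'
    rw [← map_mul, LE.mul_def, hz]
    simp only [Bool.xor_self, Bool.xor_false]
  have hc : ∀ (b : Bool) q, ψ (tz b 1) * ψ q = ψ q * ψ (tz b 1) := by
    intro b q
    rw [← map_mul, ← map_mul, tz_mul, mul_tz, one_mul, mul_one]
  have hk : ∀ s q, μ ⟨false, s⟩ * ψ q = ψ (A.ap s q) * μ ⟨false, s⟩ := by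
    intro s
    refine L.ind (P := fun s => ∀ q, μ ⟨false, s⟩ * ψ q = ψ (A.ap s q) * μ ⟨false, s⟩) ?_ ?_ s
    · intro q
      rw [A.one_ap, show (⟨false, 1⟩ : LE t) = 1 from rfl, map_one, one_mul, mul_one]
    · intro g hg m ih q
      have h1 : ∀ q, μ ⟨false, g⟩ * ψ q = ψ (A.ap g q) * μ ⟨false, g⟩ := by
        intro q
        unfold L.gs at hg
        simp only [List.mem_cons, List.not_mem_nil, or_false] at hg
        rcases hg with rfl | rfl | rfl
        · rw [m1, ← hr]; group
        · rw [m2, ← hy]; group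
        · rw [m3, ← hi]; group
      apply mul_left_cancel (a := ψ (tz (gt t g m) 1))
      rw [← mul_assoc, ← hm, mul_assoc, ih, ← mul_assoc, h1, ← mul_assoc, hc, A.mul_ap, mul_assoc,
        mul_assoc, hm]
  refine ⟨MonoidHom.mk' (fun c => ψ c.q * μ ⟨false, c.s⟩) fun c d => ?_, fun q => ?_⟩
  · rw [CM.mul_def]
    show ψ (tz _ _) * μ ⟨false, c.s * d.s⟩ = _
    rw [mul_assoc, ← mul_assoc (μ _), hk, mul_assoc, hm, ← mul_assoc, ← mul_assoc, ← map_mul,
      ← map_mul, mul_tz, mul_one]
  · show ψ q * μ 1 = ψ q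
    rw [map_one, mul_one]

/-- The generators of the normal subgroup. -/
def Q.g (j : TN 22 6) : Q := ⟨byte 0x201008040201 j.val, by revert j; decide +kernel⟩

theorem Q.cen : ∀ q : Q, (∀ j, q * Q.g j = Q.g j * q) → q = 1 ∨ q = Q.z := by decide +kernel

theorem Q.comm : ∀ (q : Q) j, q * Q.g j = Q.g j * q ∨ q * Q.g j * q⁻¹ * (Q.g j)⁻¹ = Q.z := by
  decide +kernel

theorem Q.injective {ψ : Q →* G} (h : ψ Q.z ≠ 1) : Function.Injective ψ := by
  rw [injective_iff_map_eq_one]
  intro q hq
  by_contra h1
  by_cases hc : ∀ j, q * Q.g j = Q.g j * q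
  · rcases Q.cen q hc with rfl | rfl
    · exact h1 rfl
    · exact h hq
  · obtain ⟨j, hj⟩ := not_forall.mp hc
    apply h
    rw [← (Q.comm q j).resolve_left hj]
    simp [hq]

/-- The action modulo the centre is faithful. -/
def Act.Faith (A : Act) : Prop :=
  ∀ s : L, (∀ j, A.ap s (Q.g j) = Q.g j ∨ A.ap s (Q.g j) = Q.z * Q.g j) → s = 1

theorem A0.faith : A0.Faith := by unfold Act.Faith; decide +kernel
theorem A1.faith : A1.Faith := by unfold Act.Faith; decide +kernel
theorem A2.faith : A2.Faith := by unfold Act.Faith; decide +kernel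

theorem Q.conj : ∀ (q : Q) j p, q * p = Q.g j * q → p = Q.g j ∨ p = Q.z * Q.g j := by
  decide +kernel

theorem CM.mul_inl {A : Act} {t : Bool} (c : CM A t) (p : Q) :
    c * ⟨p, 1⟩ = ⟨c.q * A.ap c.s p, c.s⟩ := by
  rw [CM.mul_def]
  simp only [(gt_one t _).2, tz_false, mul_one]

theorem CM.inl_mul {A : Act} {t : Bool} (c : CM A t) (p : Q) : ⟨p, 1⟩ * c = ⟨p * c.q, c.s⟩ := by
  rw [CM.mul_def]
  simp only [(gt_one t _).1, tz_false, one_mul, A.one_ap]

theorem CM.injective {A : Act} {t : Bool} (hA : A.Faith) {φ : CM A t →* G} (h : φ CM.z ≠ 1) :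
    Function.Injective φ := by
  have hq : Function.Injective (φ.comp CM.inl) := Q.injective h
  rw [injective_iff_map_eq_one]
  intro c hc
  have h1 : c.s = 1 := hA _ fun j => Q.conj c.q j _ (hq (by
    show φ ⟨_, 1⟩ = φ ⟨_, 1⟩
    have e1 := congrArg φ (CM.mul_inl c (Q.g j))
    have e2 := congrArg φ (CM.inl_mul c (Q.g j))
    rw [map_mul, hc, one_mul] at e1
    rw [map_mul, hc, mul_one] at e2
    have k : ∀ p : Q, (⟨p, c.s⟩ : CM A t) = ⟨p, 1⟩ * ⟨1, c.s⟩ := fun p => by
      rw [CM.inl_mul, mul_one]
    rw [k, map_mul] at e1 e2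
    exact mul_right_cancel (e1.symm.trans e2)))
  have h2 : c = CM.inl c.q := CM.ext rfl h1
  rw [h2] at hc ⊢
  rw [hq (hc.trans (map_one _).symm), map_one]

end Cfsg.H5.He
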