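import Cfsg.Agent.H5.HeS
import Cfsg.Agent.H3.SL2

/-!
A group `2^(1+6) . L₃(2)` with self-centralising extraspecial normal subgroup is one of six table
groups.
-/

set_option autoImplicit false
set_option synthInstance.maxSize 4096
set_option maxRecDepth 100000

namespace Cfsg.H5.He

open Subgroup

/-- The quotient of the extraspecial group by its centre. -/
abbrev V : Type := TN 23 64

/-- The element with a given code. -/
def V.mk (n : ℕ) (h : n < 64 := by norm_num) : V := ⟨n, h⟩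

theorem xor_lt : ∀ a b : V, Nat.xor a.val b.val < 64 := by decide +kernel
theorem pv_lt : ∀ q : Q, Nat.land q.val (nat_lit 63) < 64 := by decide +kernel

/-- Addition. -/
def vx (a b : V) : V := ⟨Nat.xor a.val b.val, xor_lt a b⟩
/-- The projection. -/
def pv (q : Q) : V := ⟨Nat.land q.val (nat_lit 63), pv_lt q⟩
/-- A section. -/
def lf (v : V) : Q := ⟨v.val, v.lt.trans (by norm_num)⟩
/-- A bit. -/
def bit (w k : ℕ) : Bool := Nat.beq (Nat.land (Nat.shiftRight w k) (nat_lit 1)) (nat_lit 1)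
/-- A vector or zero. -/
def vb (b : Bool) (v : V) : V := @Bool.rec (fun _ => V) (V.mk 0) v b
/-- An element or the identity. -/
def pb {M : Type*} [One M] (b : Bool) (v : M) : M := @Bool.rec (fun _ => M) 1 v b
/-- The linear map with given values on the basis. -/
def lin (v0 v1 v2 v3 v4 v5 w : V) : V :=
  vx (vb (bit w.val 0) v0) (vx (vb (bit w.val 1) v1) (vx (vb (bit w.val 2) v2)
    (vx (vb (bit w.val 3) v3) (vx (vb (bit w.val 4) v4) (vb (bit w.val 5) v5)))))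
/-- The action on the quotient. -/
def av (A : Act) (s : L) (w : V) : V := pv (A.ap s (lf w))

theorem pv_mul : ∀ p q : Q, pv (p * q) = vx (pv p) (pv q) := by decide +kernel
theorem pv_conj : ∀ p q : Q, pv (p * q * p⁻¹) = pv q := by decide +kernel
theorem pv_lf : ∀ w, pv (lf w) = w := by decide +kernel
theorem pv_z : ∀ q : Q, pv (Q.z * q) = pv q := by decide +kernel
theorem lf_pv : ∀ q : Q, q = lf (pv q) ∨ q = Q.z * lf (pv q) := by decide +kernel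
theorem sq_pv : ∀ q : Q, q * q = 1 ↔ lf (pv q) * lf (pv q) = 1 := by decide +kernel
theorem pv_pb (b : Bool) (q : Q) : pv (pb b q) = vb b (pv q) := by
  cases b
  · exact (by decide +kernel : pv 1 = V.mk 0)
  · rfl
theorem map_pb {M N : Type*} [Group M] [Group N] (f : M →* N) (b : Bool) (q : M) :
    f (pb b q) = pb b (f q) := by
  cases b
  · exact map_one f
  · rfl
theorem lf_eq : ∀ w : V, lf w = pb (bit w.val 0) (Q.mk 1) * (pb (bit w.val 1) (Q.mk 2) *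
    (pb (bit w.val 2) (Q.mk 4) * (pb (bit w.val 3) (Q.mk 8) * (pb (bit w.val 4) (Q.mk 16) *
      pb (bit w.val 5) (Q.mk 32))))) := by decide +kernel

theorem pv_hom (f : Q →* Q) (hf : f Q.z = Q.z) (q : Q) : pv (f q) = pv (f (lf (pv q))) := by
  rcases lf_pv q with h | h
  · rw [← h]
  · conv_lhs => rw [h, map_mul, hf, pv_z]

theorem pv_lin (f : Q →* Q) (w : V) : pv (f (lf w)) = lin (pv (f (Q.mk 1))) (pv (f (Q.mk 2)))
    (pv (f (Q.mk 4))) (pv (f (Q.mk 8))) (pv (f (Q.mk 16))) (pv (f (Q.mk 32))) w := by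
  conv_lhs => rw [lf_eq w]
  simp only [map_mul, map_pb, pv_mul, pv_pb, lin]

theorem pv_ap (A : Act) (s : L) (q : Q) : pv (A.ap s q) = av A s (pv q) :=
  pv_hom (A.apH s) (A.ap_z s) q

theorem d1 : ∀ q : Q, ∃ p : Q, p * q * A0.ap (L.r * L.r) p⁻¹ = 1 ∨
    p * q * A0.ap (L.r * L.r) p⁻¹ = Q.z := by decide +kernel

theorem d2 : ∀ q : Q, A0.ap L.r q = q → q = 1 ∨ q = Q.z := by decide +kernel

theorem d3 : ∀ u : Q, A0.ap (L.r ^ 6) u = u * A0.ap (L.r ^ 2) u → u ≠ 1 →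
    ∃ m : TN 24 7, A0.ap ((L.r ^ 2) ^ m.val) u = A0.ap (L.r ^ m.val) (Q.mk 1) := by decide +kernel

theorem d4 : ∀ v : Q, A0.ap (L.r ^ 6) v = v * A0.ap (L.r ^ 4) v → v * Q.mk 1 ≠ Q.mk 1 * v →
    v * Q.mk 4 = Q.mk 4 * v → v * Q.mk 6 = Q.mk 6 * v → v = Q.mk 8 := by decide +kernel

theorem d5 : ∀ e0 e1 e2 e3 e4 e5 : Bool, ∃ p : Q, p * Q.mk 1 * p⁻¹ = tz e0 (Q.mk 1) ∧
    p * Q.mk 2 * p⁻¹ = tz e1 (Q.mk 2) ∧ p * Q.mk 4 * p⁻¹ = tz e2 (Q.mk 4) ∧
    p * Q.mk 8 * p⁻¹ = tz e3 (Q.mk 8) ∧ p * Q.mk 16 * p⁻¹ = tz e4 (Q.mk 16) ∧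
    p * Q.mk 32 * p⁻¹ = tz e5 (Q.mk 32) := by decide +kernel

theorem d6 : ∀ p q : Q, pv p = pv q → ∃ e, p = tz e q := by decide +kernel

/-- The action of the element of order three. -/
def yv (w : V) : V := av A0 L.y w
/-- The action of the element of order seven. -/
def rv (w : V) : V := av A0 L.r w

theorem cls : ∀ v0, yv (yv v0) = v0 → ∀ v3, yv (yv v3) = v3 → ∀ v1, vx v1 (yv (yv v1)) = yv v1 →
    ∀ v4, vx v3 (vx v4 (yv (yv v4))) = yv v4 →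
    lin v0 v1 (yv (yv v1)) v3 v4 (yv (yv v4)) v1 = V.mk 2 →
    lin v0 v1 (yv (yv v1)) v3 v4 (yv (yv v4)) v4 = V.mk 16 →
    (∀ w, lin v0 v1 (yv (yv v1)) v3 v4 (yv (yv v4)) (rv (lin v0 v1 (yv (yv v1)) v3 v4 (yv (yv v4))
      (rv (lin v0 v1 (yv (yv v1)) v3 v4 (yv (yv v4)) (rv w))))) = w) →
    (∀ w, lf w * lf w = 1 → lf (lin v0 v1 (yv (yv v1)) v3 v4 (yv (yv v4)) w) *
      lf (lin v0 v1 (yv (yv v1)) v3 v4 (yv (yv v4)) w) = 1) →
    (∀ w, lin v0 v1 (yv (yv v1)) v3 v4 (yv (yv v4)) w = av A0 L.i w) ∨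
    (∀ w, lin v0 v1 (yv (yv v1)) v3 v4 (yv (yv v4)) w = av A1 L.i w) ∨
    (∀ w, lin v0 v1 (yv (yv v1)) v3 v4 (yv (yv v4)) w = av A2 L.i w) := by decide +kernel

theorem A1_r : ∀ q, A1.ap L.r q = A0.ap L.r q := by decide +kernel
theorem A2_r : ∀ q, A2.ap L.r q = A0.ap L.r q := by decide +kernel
theorem A1_y : ∀ q, A1.ap L.y q = A0.ap L.y q := by decide +kernel
theorem A2_y : ∀ q, A2.ap L.y q = A0.ap L.y q := by decide +kernel

variable {H : Type*} [Group H]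

/-- `g` acts on the image of the extraspecial group as `s` does. -/
def Ac (A : Act) (ψ : Q →* H) (g : H) (s : L) : Prop := ∀ q, g * ψ q * g⁻¹ = ψ (A.ap s q)

theorem Ac.mul {A : Act} {ψ : Q →* H} {g h : H} {s s' : L} (h1 : Ac A ψ g s) (h2 : Ac A ψ h s') :
    Ac A ψ (g * h) (s * s') := fun q => by
  rw [A.mul_ap, ← h1, ← h2]; group

theorem Ac.inv {A : Act} {ψ : Q →* H} {g : H} {s : L} (h1 : Ac A ψ g s) : Ac A ψ g⁻¹ s⁻¹ :=
  fun q => by
    have := h1 (A.ap s⁻¹ q)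
    rw [← A.mul_ap, mul_inv_cancel, A.one_ap] at this
    rw [← this]; group

theorem Ac.pow {A : Act} {ψ : Q →* H} {g : H} {s : L} (h1 : Ac A ψ g s) (k : ℕ) :
    Ac A ψ (g ^ k) (s ^ k) := by
  induction k with
  | zero => intro q; simp [A.one_ap]
  | succ k ih => rw [pow_succ, pow_succ]; exact ih.mul h1

variable {N : Subgroup H} {z : H}

/-- An identification of the normal subgroup with the table group. -/
structure Par (N : Subgroup H) (z : H) (ψ : Q →* H) : Prop where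
  inj : Function.Injective ψ
  mem : ∀ q, ψ q ∈ N
  sur : ∀ g ∈ N, ∃ q, ψ q = g
  hz : ψ Q.z = z

theorem Par.cen {ψ : Q →* H} (P : Par N z ψ) (E : ESn 128 N z) {A : Act} {g : H} {s : L}
    (h : Ac A ψ g s) (hs : s = 1) : g = 1 ∨ g = z := E.cen g fun q hq => by
  obtain ⟨p, rfl⟩ := P.sur q hq
  have := h p
  rw [hs, A.one_ap] at this
  exact mul_inv_eq_iff_eq_mul.mp this

theorem Par.aut {ψ : Q →* H} (P : Par N z ψ) (E : ESn 128 N z) (g : H) :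
    ∃ τ : Q →* Q, (∀ q, ψ (τ q) = g * ψ q * g⁻¹) ∧ τ Q.z = Q.z ∧ Function.Injective τ := by
  choose τ' hτ' using fun q => P.sur _ (E.conj g _ (P.mem q))
  let τ : Q →* Q := MonoidHom.mk' τ' fun p q => P.inj (by
    rw [map_mul, hτ', hτ', hτ', map_mul]; group)
  have τz : τ Q.z = Q.z := P.inj (by
    rw [show ψ (τ Q.z) = _ from hτ' _, P.hz, ← E.zc g]; group)
  exact ⟨τ, hτ', τz, Q.injective (by rw [τz]; decide +kernel)⟩

theorem exists_par [Finite H] (E : ESn 128 N z) {r : H} (hr : r ^ 7 = 1) (hN : r ∉ N) :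
    ∃ ψ, Par N z ψ ∧ Ac A0 ψ r L.r := by
  obtain ⟨a, b, ha, hb, a3, b3, R⟩ := E.exists_rel (σ := MulAut.conj r) (E.conj r)
    (by rw [MulAut.conj_apply, ← E.zc]; group) (fun q => by
      simp only [MulAut.conj_apply]
      calc _ = r ^ 7 * q * (r ^ 7)⁻¹ := by simp [pow_succ, mul_assoc]
        _ = q := by rw [hr]; simp) (by
      by_contra hc
      push Not at hc
      rcases E.cen r fun q hq => mul_inv_eq_iff_eq_mul.mp (hc q hq) with rfl | rfl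
      · exact hN N.one_mem
      · exact hN E.zQ)
  obtain ⟨ψ, f0, f1, f2, f3, f4, f5, fz⟩ := Q.exists_hom R
  have inj : Function.Injective ψ := Q.injective (fz ▸ E.z1)
  have c := E.conj r
  have mem : ∀ q, ψ q ∈ N := fun q => by
    have := Q.eq_top (N.comap ψ) (by
      unfold Q.gs
      simp only [List.forall_mem_cons, mem_comap]
      exact ⟨f0 ▸ ha, f1 ▸ c _ ha, f2 ▸ c _ (c _ ha), f3 ▸ hb, f4 ▸ c _ hb, f5 ▸ c _ (c _ hb),
        fz ▸ E.zQ, by simp⟩)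
    exact show q ∈ N.comap ψ from this ▸ mem_top q
  have rng : ψ.range = N := eq_of_le_of_card_ge (by rintro _ ⟨q, rfl⟩; exact mem q) (by
    rw [E.card, ← Nat.card_congr (MonoidHom.ofInjective inj).toEquiv, TN.card_eq])
  refine ⟨ψ, ⟨inj, mem, fun g hg => by rwa [← rng] at hg, fz⟩, fun q => ?_⟩
  have := Q.hom_ext (φ := (MulAut.conj r).toMonoidHom.comp ψ) (ψ := ψ.comp (A0.apH L.r)) (by
    unfold Q.gs
    simp only [List.forall_mem_cons]
    have e : A0.ap L.r (Q.mk 1) = Q.mk 2 ∧ A0.ap L.r (Q.mk 2) = Q.mk 4 ∧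
        A0.ap L.r (Q.mk 4) = Q.mk 1 * Q.mk 2 ∧ A0.ap L.r (Q.mk 8) = Q.mk 16 ∧
        A0.ap L.r (Q.mk 16) = Q.mk 32 ∧ A0.ap L.r (Q.mk 32) = Q.mk 8 * Q.mk 32 := by
      decide +kernel
    refine ⟨?_, ?_, ?_, ?_, ?_, ?_, ?_, by simp⟩ <;>
      show MulAut.conj r (ψ _) = ψ (A0.ap L.r _)
    · rw [e.1, f0, f1]
    · rw [e.2.1, f1, f2]
    · rw [e.2.2.1, f2, map_mul, f0, f1, a3]
    · rw [e.2.2.2.1, f3, f4]
    · rw [e.2.2.2.2.1, f4, f5]
    · rw [e.2.2.2.2.2, f5, map_mul, f3, f5, b3]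
    · show MulAut.conj r (ψ Q.z) = ψ (A0.ap L.r Q.z)
      rw [A0.ap_z, fz, MulAut.conj_apply, ← E.zc]; group)
  exact DFunLike.congr_fun this q

theorem exists_y (E : ESn 128 N z) {ψ : Q →* H} (P : Par N z ψ) {r y : H} (hr : r ^ 7 = 1)
    (ar : Ac A0 ψ r L.r) (h1 : y * r * y⁻¹ * (r * r)⁻¹ ∈ N) (h2 : y ^ 3 ∈ N) :
    ∃ y', y' * y⁻¹ ∈ N ∧ y' ^ 3 = 1 ∧ y' * r * y'⁻¹ = r ^ 2 := by
  obtain ⟨q, hq⟩ := P.sur _ h1
  obtain ⟨p, hp⟩ := d1 q
  have e1 : ψ p * y * r * (ψ p * y)⁻¹ = ψ (p * q * A0.ap (L.r * L.r) p⁻¹) * (r * r) := by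
    rw [map_mul, map_mul, hq, ← ar.mul ar, map_inv]; group
  have e2 : ψ p * y * r * (ψ p * y)⁻¹ = r ^ 2 := by
    rcases hp with hp | hp <;> rw [hp] at e1
    · rw [e1, map_one, one_mul, pow_two]
    · have := congrArg (· ^ 7) e1
      simp only [conj_pow, hr, P.hz] at this
      rw [(show Commute z (r * r) from E.zc _).mul_pow, ← pow_two, ← pow_mul, mul_comm, pow_mul, hr,
        show z ^ 7 = z * z * (z * z) * (z * z) * z by simp [pow_succ, mul_assoc], E.zz] at this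
      exact absurd (by simpa using this.symm) E.z1
  have hN : N.Normal := ⟨fun n hn g => E.conj g n hn⟩
  obtain ⟨w, hw⟩ : ∃ w, w = ψ p * y := ⟨_, rfl⟩
  rw [← hw] at e2
  have m1 : w * y⁻¹ ∈ N := by rw [hw, mul_inv_cancel_right]; exact P.mem p
  have m3 : w ^ 3 ∈ N := by
    rw [← QuotientGroup.eq_one_iff] at m1 h2 ⊢
    rw [QuotientGroup.mk_mul, QuotientGroup.mk_inv, mul_inv_eq_one] at m1
    rw [QuotientGroup.mk_pow] at h2 ⊢
    rw [m1, h2]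
  have e3 : w ^ 3 * r * (w ^ 3)⁻¹ = r := by
    calc _ = w * (w * (w * r * w⁻¹) * w⁻¹) * w⁻¹ := by simp [pow_succ, mul_assoc]
      _ = r ^ 7 * r := by
        rw [e2, ← conj_pow, e2, ← pow_mul, ← conj_pow, e2, ← pow_mul, ← pow_succ]
      _ = r := by rw [hr, one_mul]
  obtain ⟨u, hu⟩ := P.sur _ m3
  have c3 : w ^ 3 = 1 ∨ w ^ 3 = z := by
    rcases d2 u (P.inj (by
      rw [← ar, hu]
      calc _ = r * (w ^ 3 * r⁻¹ * (w ^ 3)⁻¹) * w ^ 3 := by group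
        _ = w ^ 3 := by rw [← conj_inv, e3]; group)) with h | h
    · left; rw [← hu, h, map_one]
    · right; rw [← hu, h, P.hz]
  refine ⟨w ^ 3 * w, by rw [mul_assoc]; exact mul_mem m3 m1, ?_, ?_⟩
  · rw [← pow_succ, ← pow_mul, show (3 + 1) * 3 = 3 * 2 * 2 by norm_num, pow_mul, pow_mul]
    rcases c3 with h | h <;> rw [h]
    · simp
    · rw [pow_two z, E.zz, one_pow]
  · calc _ = w ^ 3 * (w * r * w⁻¹) * (w ^ 3)⁻¹ := by group
      _ = r ^ 2 := by rw [e2, ← conj_pow, e3]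

theorem exists_par2 (E : ESn 128 N z) {ψ : Q →* H} (P : Par N z ψ) {r y : H}
    (ar : Ac A0 ψ r L.r) (h : y * r * y⁻¹ = r ^ 2) :
    ∃ ψ, Par N z ψ ∧ Ac A0 ψ r L.r ∧ Ac A0 ψ y L.y := by
  have key : ∀ {ψ : Q →* H} {τ : Q →* Q}, Par N z ψ → Ac A0 ψ r L.r →
      (∀ q, ψ (τ q) = y * ψ q * y⁻¹) → ∀ (k : ℕ) q,
        τ (A0.ap (L.r ^ k) q) = A0.ap ((L.r ^ 2) ^ k) (τ q) := fun P ar hτ k q => P.inj (by
    rw [hτ, ← ar.pow k, ← (ar.pow 2).pow k, hτ, ← h, conj_pow]; group)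
  obtain ⟨τ, hτ, τz, τi⟩ := P.aut E y
  obtain ⟨m, hm⟩ := d3 (τ (Q.mk 1)) (by
    have e1 := key P ar hτ 3 (Q.mk 1)
    have e2 := key P ar hτ 1 (Q.mk 1)
    rw [← pow_mul] at e1 e2
    rw [← e1, ← e2, ← map_mul]
    exact congrArg τ (by decide +kernel)) (fun e => absurd (τi (e.trans (map_one τ).symm)) (by decide +kernel))
  have P' : Par N z (ψ.comp (A0.apH (L.r ^ m.val))) := ⟨Q.injective (by
      show ψ (A0.ap _ _) ≠ 1
      rw [A0.ap_z, P.hz]; exact E.z1), fun q => P.mem _, fun g hg => by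
      obtain ⟨q, rfl⟩ := P.sur g hg
      refine ⟨A0.ap (L.r ^ m.val)⁻¹ q, ?_⟩
      show ψ (A0.ap _ _) = _
      rw [← A0.mul_ap, mul_inv_cancel, A0.one_ap], by
      show ψ (A0.ap _ _) = _
      rw [A0.ap_z, P.hz]⟩
  have ar' : Ac A0 (ψ.comp (A0.apH (L.r ^ m.val))) r L.r := fun q => by
    show r * ψ (A0.ap _ _) * r⁻¹ = ψ (A0.ap _ _)
    rw [ar, ← A0.mul_ap, ← A0.mul_ap, ← pow_succ, ← pow_succ']
  refine ⟨_, P', ar', ?_⟩
  obtain ⟨σ, hσ, σz, σi⟩ := P'.aut E y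
  have s0 : σ (Q.mk 1) = Q.mk 1 := P'.inj (by
    rw [hσ]
    show y * ψ (A0.ap _ _) * y⁻¹ = ψ (A0.ap _ _)
    rw [← hτ, key P ar hτ, hm])
  have k := key P' ar' hσ
  have s1 : σ (Q.mk 2) = Q.mk 4 := by
    have := k 1 (Q.mk 1)
    rw [s0] at this
    exact (congrArg σ (by decide +kernel)).trans (this.trans (by decide +kernel))
  have s2 : σ (Q.mk 4) = Q.mk 6 := by
    have := k 2 (Q.mk 1)
    rw [s0] at this
    exact (congrArg σ (by decide +kernel)).trans (this.trans (by decide +kernel))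
  have s3 : σ (Q.mk 8) = Q.mk 8 := d4 _ (by
    have e1 := k 3 (Q.mk 8)
    have e2 := k 2 (Q.mk 8)
    rw [← pow_mul] at e1 e2
    rw [← e1, ← e2, ← map_mul]
    exact congrArg σ (by decide +kernel)) (fun e => by
      rw [← s0, ← map_mul, s0] at e
      conv_rhs at e => rw [← s0, ← map_mul]
      exact absurd (σi e) (by decide +kernel)) (by
      rw [← s1, ← map_mul, ← map_mul]
      exact congrArg σ (by decide +kernel)) (by
      rw [← s2, ← map_mul, ← map_mul]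
      exact congrArg σ (by decide +kernel))
  have s4 : σ (Q.mk 16) = Q.mk 32 := by
    have := k 1 (Q.mk 8)
    rw [s3] at this
    exact (congrArg σ (by decide +kernel)).trans (this.trans (by decide +kernel))
  have s5 : σ (Q.mk 32) = Q.mk 56 := by
    have := k 2 (Q.mk 8)
    rw [s3] at this
    exact (congrArg σ (by decide +kernel)).trans (this.trans (by decide +kernel))
  have := Q.hom_ext (φ := σ) (ψ := A0.apH L.y) (by
    unfold Q.gs
    simp only [List.forall_mem_cons]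
    exact ⟨s0.trans (by decide +kernel), s1.trans (by decide +kernel), s2.trans (by decide +kernel),
      s3.trans (by decide +kernel), s4.trans (by decide +kernel), s5.trans (by decide +kernel),
      σz.trans (by decide +kernel), by simp⟩)
  intro q
  rw [← hσ, this]
  rfl

theorem exists_i (E : ESn 128 N z) {ψ : Q →* H} (P : Par N z ψ) {r y i : H}
    (ar : Ac A0 ψ r L.r) (ay : Ac A0 ψ y L.y) (h1 : i * i ∈ N) (h2 : i * y * i⁻¹ * y ∈ N)
    (h3 : i * r * (i * r) * (i * r) ∈ N) :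
    ∃ A i', (A = A0 ∨ A = A1 ∨ A = A2) ∧ Ac A ψ i' L.i := by
  obtain ⟨τ, hτ, τz, τi⟩ := P.aut E i
  have inn : ∀ {g}, g ∈ N → ∀ {p q}, ψ p = g * ψ q * g⁻¹ → pv p = pv q := by
    intro g hg p q h
    obtain ⟨u, rfl⟩ := P.sur g hg
    rw [← map_inv, ← map_mul, ← map_mul] at h
    rw [P.inj h, pv_conj]
  have hy : ∀ q, pv (τ (A0.ap L.y q)) = yv (yv (pv (τ q))) := fun q => by
    have e := inn h2 (p := τ (A0.ap L.y q)) (q := A0.ap L.y⁻¹ (τ q)) (by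
      rw [hτ, ← ay, ← ay.inv, hτ]; group)
    rw [e, show L.y⁻¹ = L.y * L.y by decide +kernel, A0.mul_ap, pv_ap, pv_ap]
    rfl
  have yyy : ∀ w, yv (yv (yv (yv w))) = yv w := by decide +kernel
  have e : A0.ap L.y (Q.mk 1) = Q.mk 1 ∧ A0.ap L.y (Q.mk 2) = Q.mk 4 ∧
      A0.ap L.y (Q.mk 4) = Q.mk 2 * Q.mk 4 ∧ A0.ap L.y (Q.mk 8) = Q.mk 8 ∧
      A0.ap L.y (Q.mk 16) = Q.mk 32 ∧ A0.ap L.y (Q.mk 32) = Q.mk 8 * (Q.mk 16 * Q.mk 32) := by
    decide +kernel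
  have y0 := hy (Q.mk 1)
  have y1 := hy (Q.mk 2)
  have y2 := hy (Q.mk 4)
  have y3 := hy (Q.mk 8)
  have y4 := hy (Q.mk 16)
  have y5 := hy (Q.mk 32)
  rw [e.1] at y0
  rw [e.2.1] at y1
  rw [e.2.2.1, map_mul, pv_mul, y1, yyy] at y2
  rw [e.2.2.2.1] at y3
  rw [e.2.2.2.2.1] at y4
  rw [e.2.2.2.2.2, map_mul, map_mul, pv_mul, pv_mul, y4, yyy] at y5
  have hl : ∀ q, lin (pv (τ (Q.mk 1))) (pv (τ (Q.mk 2))) (yv (yv (pv (τ (Q.mk 2)))))
      (pv (τ (Q.mk 8))) (pv (τ (Q.mk 16))) (yv (yv (pv (τ (Q.mk 16))))) (pv q) = pv (τ q) := by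
    intro q
    rw [← y1, ← y4, ← pv_lin, ← pv_hom τ τz]
  have ii : ∀ q, pv (τ (τ q)) = pv q := fun q => inn h1 (by rw [hτ, hτ]; group)
  have hc := cls _ y0.symm _ y3.symm _ y2 _ y5 (by rw [hl, ii]; rfl) (by rw [hl, ii]; rfl)
    (fun w => by
      have k : ∀ q, rv (pv q) = pv (A0.ap L.r q) := fun q => (pv_ap _ _ _).symm
      rw [← pv_lf w, k, hl, k, hl, k, hl]
      exact inn h3 (by simp only [hτ, ← ar _]; group))
    (fun w hw => by
      rw [← pv_lf w, hl, ← sq_pv, ← map_mul, hw, map_one])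
  have fin : ∀ A : Act, (∀ q, pv (τ q) = av A L.i (pv q)) → ∃ i', Ac A ψ i' L.i := by
    intro A hA
    have k : ∀ q, ∃ e, A.ap L.i⁻¹ (τ q) = tz e q := fun q => d6 _ _ (by
      rw [pv_ap, hA, ← pv_ap, ← pv_ap, ← A.mul_ap, inv_mul_cancel, A.one_ap])
    choose e he using k
    obtain ⟨p, p0, p1, p2, p3, p4, p5⟩ := d5 (e (Q.mk 1)) (e (Q.mk 2)) (e (Q.mk 4)) (e (Q.mk 8))
      (e (Q.mk 16)) (e (Q.mk 32))
    have := Q.hom_ext (φ := (A.apH L.i⁻¹).comp τ) (ψ := (MulAut.conj p).toMonoidHom) (by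
      unfold Q.gs
      simp only [List.forall_mem_cons]
      refine ⟨(he _).trans p0.symm, (he _).trans p1.symm, (he _).trans p2.symm,
        (he _).trans p3.symm, (he _).trans p4.symm, (he _).trans p5.symm, ?_, by simp⟩
      show A.ap L.i⁻¹ (τ Q.z) = p * Q.z * p⁻¹
      rw [τz, A.ap_z, ← Q.z_comm]; group)
    refine ⟨i * (ψ p)⁻¹, fun q => ?_⟩
    have h4 : A.ap L.i⁻¹ (τ (p⁻¹ * q * p)) = p * (p⁻¹ * q * p) * p⁻¹ :=
      DFunLike.congr_fun this (p⁻¹ * q * p)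
    have h5 := congrArg (A.ap L.i) h4
    rw [← A.mul_ap, mul_inv_cancel, A.one_ap, show p * (p⁻¹ * q * p) * p⁻¹ = q by group] at h5
    rw [← h5, hτ, map_mul, map_mul, map_inv]; group
  rcases hc with h | h | h
  · obtain ⟨i', hi⟩ := fin A0 fun q => by rw [← hl, h]
    exact ⟨_, i', Or.inl rfl, hi⟩
  · obtain ⟨i', hi⟩ := fin A1 fun q => by rw [← hl, h]
    exact ⟨_, i', Or.inr (Or.inl rfl), hi⟩
  · obtain ⟨i', hi⟩ := fin A2 fun q => by rw [← hl, h]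
    exact ⟨_, i', Or.inr (Or.inr rfl), hi⟩

theorem exists_model (E : ESn 128 N z) {ψ : Q →* H} (P : Par N z ψ) {A : Act} {r y i : H}
    (hr : r ^ 7 = 1) (hy : y ^ 3 = 1) (yr : y * r * y⁻¹ = r ^ 2) (ar : Ac A ψ r L.r)
    (ay : Ac A ψ y L.y) (ai : Ac A ψ i L.i) : ∃ t, ∃ φ : CM A t →* H, φ CM.z = z := by
  obtain ⟨i, ai, ir⟩ : ∃ i, Ac A ψ i L.i ∧ (i * r) ^ 3 = 1 := by
    rcases P.cen E ((ai.mul ar).pow 3) (by decide +kernel) with h | h
    · exact ⟨i, ai, h⟩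
    · refine ⟨z * i, fun q => ?_, ?_⟩
      · rw [← ai, mul_assoc, mul_assoc, E.zc]; group
      · rw [mul_assoc, (show Commute z (i * r) from E.zc _).mul_pow, h, pow_succ, pow_two, E.zz,
          one_mul, E.zz]
  have iy : i * y * i⁻¹ = y⁻¹ := by
    rcases P.cen E (((ai.mul ay).mul ai.inv).mul ay) (by decide +kernel) with h | h
    · exact eq_inv_of_mul_eq_one_left h
    · have := congrArg (· ^ 3) (eq_mul_inv_of_mul_eq h)
      simp only [conj_pow, hy] at this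
      rw [(show Commute z y⁻¹ from E.zc _).mul_pow, inv_pow, hy, pow_succ, pow_two, E.zz] at this
      exact absurd (by simpa using this.symm) E.z1
  obtain ⟨t, ii⟩ : ∃ t, i * i = cond t z 1 := by
    rcases P.cen E (ai.mul ai) (by decide +kernel) with h | h
    · exact ⟨false, h⟩
    · exact ⟨true, h⟩
  obtain ⟨φ, hφ⟩ := CM.exists_hom (t := t) ψ (by
    rw [P.hz]
    exact ⟨E.zz, E.zc _, E.zc _, E.zc _, hr, hy, yr, ii, iy, ir⟩) ar ay ai
  exact ⟨t, φ, (hφ _).trans P.hz⟩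

theorem card_sl3 : Nat.card (Matrix.SpecialLinearGroup (Fin 3) (ZMod 2)) = 168 := by
  have h := H3.card_SL_mul (n := Fin 3) (F := ZMod 2)
  rw [Matrix.card_GL_field, Nat.card_units] at h
  simpa [Fin.prod_univ_three] using h

/-- Three matrices of determinant one. -/
def mR : Matrix.SpecialLinearGroup (Fin 3) (ZMod 2) :=
  ⟨!![0, 1, 0; 0, 0, 1; 1, 0, 1], by decide +kernel⟩
def mY : Matrix.SpecialLinearGroup (Fin 3) (ZMod 2) :=
  ⟨!![1, 0, 0; 1, 1, 1; 0, 1, 0], by decide +kernel⟩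
def mI : Matrix.SpecialLinearGroup (Fin 3) (ZMod 2) :=
  ⟨!![1, 0, 0; 1, 1, 1; 0, 0, 1], by decide +kernel⟩

theorem mrel : mR ^ 8 = mR ∧ mR ^ 7 = 1 ∧ mR ≠ 1 ∧ mY * mR = mR * mR * mY ∧ mY ^ 3 = 1 ∧
    mI * mI = 1 ∧ mI * mY * mI * mY = 1 ∧ mI * mR * (mI * mR) * (mI * mR) = 1 := by
  decide +kernel

theorem structure_of [Finite H] [N.Normal] (E : ESn 128 N z)
    (e : H ⧸ N ≃* Matrix.SpecialLinearGroup (Fin 3) (ZMod 2)) :
    ∃ A t, (A = A0 ∨ A = A1 ∨ A = A2) ∧ ∃ φ : CM A t →* H, Function.Bijective φ ∧ φ CM.z = z := by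
  let π := e.toMonoidHom.comp (QuotientGroup.mk' N)
  have hs : Function.Surjective π := e.surjective.comp (QuotientGroup.mk'_surjective N)
  have hk : ∀ g, π g = 1 ↔ g ∈ N := fun g => by
    rw [← QuotientGroup.eq_one_iff]
    exact map_eq_one_iff _ e.injective
  obtain ⟨m1, m2, m3, m4, m5, m6, m7, m8⟩ := mrel
  obtain ⟨r', hr'⟩ := hs mR
  obtain ⟨y, hy⟩ := hs mY
  obtain ⟨i, hi⟩ := hs mI
  obtain ⟨r, hr, πr⟩ : ∃ r : H, r ^ 7 = 1 ∧ π r = mR := by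
    refine ⟨r' ^ 8, ?_, by rw [map_pow, hr', m1]⟩
    have := E.pow_four ((hk (r' ^ 7)).mp (by rw [map_pow, hr', m2]))
    rw [← pow_mul] at this
    rw [← pow_mul, show 8 * 7 = 7 * 4 * 2 by norm_num, pow_mul, this, one_pow]
  obtain ⟨ψ, P, ar⟩ := exists_par E hr (by rw [← hk, πr]; exact m3)
  obtain ⟨y', hy', y3, yr⟩ := exists_y (y := y) E P hr ar (by
    rw [← hk]
    simp only [map_mul, map_inv, hy, πr, m4]
    group) (by rw [← hk, map_pow, hy, m5])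
  rw [← hk, map_mul, map_inv, mul_inv_eq_one, hy] at hy'
  obtain ⟨ψ, P, ar, ay⟩ := exists_par2 E P ar yr
  obtain ⟨A, i', hA, ai⟩ := exists_i (i := i) E P ar ay (by rw [← hk, map_mul, hi, m6]) (by
    rw [← hk]
    simp only [map_mul, map_inv, hy', hi, inv_eq_of_mul_eq_one_left m6, m7]) (by
    rw [← hk]
    simp only [map_mul, hi, πr, m8])
  have hA' : Ac A ψ r L.r ∧ Ac A ψ y' L.y ∧ A.Faith := by
    rcases hA with rfl | rfl | rfl
    · exact ⟨ar, ay, A0.faith⟩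
    · exact ⟨fun q => by rw [A1_r, ar], fun q => by rw [A1_y, ay], A1.faith⟩
    · exact ⟨fun q => by rw [A2_r, ar], fun q => by rw [A2_y, ay], A2.faith⟩
  obtain ⟨t, φ, hφ⟩ := exists_model E P hr y3 yr hA'.1 hA'.2.1 ai
  refine ⟨A, t, hA, φ, (Nat.bijective_iff_injective_and_card φ).mpr
    ⟨CM.injective hA'.2.2 (hφ ▸ E.z1), ?_⟩, hφ⟩
  rw [CM.card, card_eq_card_quotient_mul_card_subgroup N, Nat.card_congr e.toEquiv, card_sl3,
    E.card]

end Cfsg.H5.He
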