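import Cfsg.Agent.H5.Model2

/-!
Certificates for presentations, checked by evaluation.
-/

set_option autoImplicit false
set_option maxRecDepth 100000
set_option linter.unusedSimpArgs false
set_option linter.unusedVariables false

namespace Cfsg.H5

open Cfsg.H6

namespace PM1

structure Rel {G : Type*} [Group G] (a0 a1 a2 a3 a4 z : G) : Prop where
  s0 : a0 * a0 = 1
  s1 : a1 * a1 = 1
  s2 : a2 * a2 = 1
  s3 : a3 * a3 = 1
  s4 : a4 * a4 = 1
  sz : z * z = 1
  c01 : a1 * a0 = z * (a0 * a1)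
  c02 : a2 * a0 = a0 * a2
  c03 : a3 * a0 = a0 * a3
  c04 : a4 * a0 = z * (a0 * a4)
  c12 : a2 * a1 = z * (a1 * a2)
  c13 : a3 * a1 = a1 * a3
  c14 : a4 * a1 = a1 * a4
  c23 : a3 * a2 = z * (a2 * a3)
  c24 : a4 * a2 = a2 * a4
  c34 : a4 * a3 = z * (a3 * a4)
  z0 : z * a0 = a0 * z
  z1 : z * a1 = a1 * z
  z2 : z * a2 = a2 * z
  z3 : z * a3 = a3 * z
  z4 : z * a4 = a4 * z
  pr : a0 * a1 * a2 * a3 * a4 * (a0 * a1 * a2 * a3 * a4) = 1

def R : List (List ℕ) := [[1, 1], [2, 2], [3, 3], [4, 4], [5, 5], [6, 6], [2, 1, 2, 1, 6], [3, 1, 3, 1], [4, 1, 4, 1], [5, 1, 5, 1, 6], [3, 2, 3, 2, 6], [4, 2, 4, 2], [5, 2, 5, 2], [4, 3, 4, 3, 6], [5, 3, 5, 3], [5, 4, 5, 4, 6], [6, 1, 6, 1], [6, 2, 6, 2], [6, 3, 6, 3], [6, 4, 6, 4], [6, 5, 6, 5], [1, 2, 3, 4, 5, 1, 2, 3, 4, 5]]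

def ev {G : Type*} [Group G] (a0 a1 a2 a3 a4 z : G) (l : ℕ) : G := [1, a0, a1, a2, a3, a4, z].getD l 1

theorem good {G : Type*} [Group G] {a0 a1 a2 a3 a4 z : G} (H : Rel a0 a1 a2 a3 a4 z) : Good (ev a0 a1 a2 a3 a4 z) 1694364648734976 := by
  have i_a0 : a0⁻¹ = a0 := inv_eq_of_mul_eq_one_right H.s0
  have i_a1 : a1⁻¹ = a1 := inv_eq_of_mul_eq_one_right H.s1
  have i_a2 : a2⁻¹ = a2 := inv_eq_of_mul_eq_one_right H.s2
  have i_a3 : a3⁻¹ = a3 := inv_eq_of_mul_eq_one_right H.s3
  have i_a4 : a4⁻¹ = a4 := inv_eq_of_mul_eq_one_right H.s4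
  have i_z : z⁻¹ = z := inv_eq_of_mul_eq_one_right H.sz
  refine good_list (n := 7) rfl (by norm_num) rfl fun l hl => ?_
  interval_cases l
  · exact inv_one.symm
  · exact i_a0.symm
  · exact i_a1.symm
  · exact i_a2.symm
  · exact i_a3.symm
  · exact i_a4.symm
  · exact i_z.symm

theorem rels {G : Type*} [Group G] {a0 a1 a2 a3 a4 z : G} (H : Rel a0 a1 a2 a3 a4 z) : Rels (ev a0 a1 a2 a3 a4 z) R := by
  have i_a0 : a0⁻¹ = a0 := inv_eq_of_mul_eq_one_right H.s0
  have i_a1 : a1⁻¹ = a1 := inv_eq_of_mul_eq_one_right H.s1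
  have i_a2 : a2⁻¹ = a2 := inv_eq_of_mul_eq_one_right H.s2
  have i_a3 : a3⁻¹ = a3 := inv_eq_of_mul_eq_one_right H.s3
  have i_a4 : a4⁻¹ = a4 := inv_eq_of_mul_eq_one_right H.s4
  have i_z : z⁻¹ = z := inv_eq_of_mul_eq_one_right H.sz
  unfold R
  refine Rels.cons ?_ ?_
  · show a0 * (a0 * 1) = 1
    simpa only [mul_inv_rev, inv_inv, mul_assoc, mul_one, one_mul, inv_one, pow_succ, pow_zero, i_a0, i_a1, i_a2, i_a3, i_a4, i_z] using mul_inv_eq_one.mpr H.s0
  refine Rels.cons ?_ ?_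
  · show a1 * (a1 * 1) = 1
    simpa only [mul_inv_rev, inv_inv, mul_assoc, mul_one, one_mul, inv_one, pow_succ, pow_zero, i_a0, i_a1, i_a2, i_a3, i_a4, i_z] using mul_inv_eq_one.mpr H.s1
  refine Rels.cons ?_ ?_
  · show a2 * (a2 * 1) = 1
    simpa only [mul_inv_rev, inv_inv, mul_assoc, mul_one, one_mul, inv_one, pow_succ, pow_zero, i_a0, i_a1, i_a2, i_a3, i_a4, i_z] using mul_inv_eq_one.mpr H.s2
  refine Rels.cons ?_ ?_
  · show a3 * (a3 * 1) = 1
    simpa only [mul_inv_rev, inv_inv, mul_assoc, mul_one, one_mul, inv_one, pow_succ, pow_zero, i_a0, i_a1, i_a2, i_a3, i_a4, i_z] using mul_inv_eq_one.mpr H.s3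
  refine Rels.cons ?_ ?_
  · show a4 * (a4 * 1) = 1
    simpa only [mul_inv_rev, inv_inv, mul_assoc, mul_one, one_mul, inv_one, pow_succ, pow_zero, i_a0, i_a1, i_a2, i_a3, i_a4, i_z] using mul_inv_eq_one.mpr H.s4
  refine Rels.cons ?_ ?_
  · show z * (z * 1) = 1
    simpa only [mul_inv_rev, inv_inv, mul_assoc, mul_one, one_mul, inv_one, pow_succ, pow_zero, i_a0, i_a1, i_a2, i_a3, i_a4, i_z] using mul_inv_eq_one.mpr H.sz
  refine Rels.cons ?_ ?_
  · show a1 * (a0 * (a1 * (a0 * (z * 1)))) = 1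
    simpa only [mul_inv_rev, inv_inv, mul_assoc, mul_one, one_mul, inv_one, pow_succ, pow_zero, i_a0, i_a1, i_a2, i_a3, i_a4, i_z] using mul_inv_eq_one.mpr H.c01
  refine Rels.cons ?_ ?_
  · show a2 * (a0 * (a2 * (a0 * 1))) = 1
    simpa only [mul_inv_rev, inv_inv, mul_assoc, mul_one, one_mul, inv_one, pow_succ, pow_zero, i_a0, i_a1, i_a2, i_a3, i_a4, i_z] using mul_inv_eq_one.mpr H.c02
  refine Rels.cons ?_ ?_
  · show a3 * (a0 * (a3 * (a0 * 1))) = 1
    simpa only [mul_inv_rev, inv_inv, mul_assoc, mul_one, one_mul, inv_one, pow_succ, pow_zero, i_a0, i_a1, i_a2, i_a3, i_a4, i_z] using mul_inv_eq_one.mpr H.c03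
  refine Rels.cons ?_ ?_
  · show a4 * (a0 * (a4 * (a0 * (z * 1)))) = 1
    simpa only [mul_inv_rev, inv_inv, mul_assoc, mul_one, one_mul, inv_one, pow_succ, pow_zero, i_a0, i_a1, i_a2, i_a3, i_a4, i_z] using mul_inv_eq_one.mpr H.c04
  refine Rels.cons ?_ ?_
  · show a2 * (a1 * (a2 * (a1 * (z * 1)))) = 1
    simpa only [mul_inv_rev, inv_inv, mul_assoc, mul_one, one_mul, inv_one, pow_succ, pow_zero, i_a0, i_a1, i_a2, i_a3, i_a4, i_z] using mul_inv_eq_one.mpr H.c12
  refine Rels.cons ?_ ?_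
  · show a3 * (a1 * (a3 * (a1 * 1))) = 1
    simpa only [mul_inv_rev, inv_inv, mul_assoc, mul_one, one_mul, inv_one, pow_succ, pow_zero, i_a0, i_a1, i_a2, i_a3, i_a4, i_z] using mul_inv_eq_one.mpr H.c13
  refine Rels.cons ?_ ?_
  · show a4 * (a1 * (a4 * (a1 * 1))) = 1
    simpa only [mul_inv_rev, inv_inv, mul_assoc, mul_one, one_mul, inv_one, pow_succ, pow_zero, i_a0, i_a1, i_a2, i_a3, i_a4, i_z] using mul_inv_eq_one.mpr H.c14
  refine Rels.cons ?_ ?_
  · show a3 * (a2 * (a3 * (a2 * (z * 1)))) = 1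
    simpa only [mul_inv_rev, inv_inv, mul_assoc, mul_one, one_mul, inv_one, pow_succ, pow_zero, i_a0, i_a1, i_a2, i_a3, i_a4, i_z] using mul_inv_eq_one.mpr H.c23
  refine Rels.cons ?_ ?_
  · show a4 * (a2 * (a4 * (a2 * 1))) = 1
    simpa only [mul_inv_rev, inv_inv, mul_assoc, mul_one, one_mul, inv_one, pow_succ, pow_zero, i_a0, i_a1, i_a2, i_a3, i_a4, i_z] using mul_inv_eq_one.mpr H.c24
  refine Rels.cons ?_ ?_
  · show a4 * (a3 * (a4 * (a3 * (z * 1)))) = 1
    simpa only [mul_inv_rev, inv_inv, mul_assoc, mul_one, one_mul, inv_one, pow_succ, pow_zero, i_a0, i_a1, i_a2, i_a3, i_a4, i_z] using mul_inv_eq_one.mpr H.c34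
  refine Rels.cons ?_ ?_
  · show z * (a0 * (z * (a0 * 1))) = 1
    simpa only [mul_inv_rev, inv_inv, mul_assoc, mul_one, one_mul, inv_one, pow_succ, pow_zero, i_a0, i_a1, i_a2, i_a3, i_a4, i_z] using mul_inv_eq_one.mpr H.z0
  refine Rels.cons ?_ ?_
  · show z * (a1 * (z * (a1 * 1))) = 1
    simpa only [mul_inv_rev, inv_inv, mul_assoc, mul_one, one_mul, inv_one, pow_succ, pow_zero, i_a0, i_a1, i_a2, i_a3, i_a4, i_z] using mul_inv_eq_one.mpr H.z1
  refine Rels.cons ?_ ?_
  · show z * (a2 * (z * (a2 * 1))) = 1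
    simpa only [mul_inv_rev, inv_inv, mul_assoc, mul_one, one_mul, inv_one, pow_succ, pow_zero, i_a0, i_a1, i_a2, i_a3, i_a4, i_z] using mul_inv_eq_one.mpr H.z2
  refine Rels.cons ?_ ?_
  · show z * (a3 * (z * (a3 * 1))) = 1
    simpa only [mul_inv_rev, inv_inv, mul_assoc, mul_one, one_mul, inv_one, pow_succ, pow_zero, i_a0, i_a1, i_a2, i_a3, i_a4, i_z] using mul_inv_eq_one.mpr H.z3
  refine Rels.cons ?_ ?_
  · show z * (a4 * (z * (a4 * 1))) = 1
    simpa only [mul_inv_rev, inv_inv, mul_assoc, mul_one, one_mul, inv_one, pow_succ, pow_zero, i_a0, i_a1, i_a2, i_a3, i_a4, i_z] using mul_inv_eq_one.mpr H.z4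
  refine Rels.cons ?_ ?_
  · show a0 * (a1 * (a2 * (a3 * (a4 * (a0 * (a1 * (a2 * (a3 * (a4 * 1))))))))) = 1
    simpa only [mul_inv_rev, inv_inv, mul_assoc, mul_one, one_mul, inv_one, pow_succ, pow_zero, i_a0, i_a1, i_a2, i_a3, i_a4, i_z] using mul_inv_eq_one.mpr H.pr
  intro r hr
  exact absurd hr List.not_mem_nil

/-- The relations hold for the letters of any assignment satisfying the relators. -/
theorem rel_of {G : Type*} [Group G] {e : ℕ → G} (hg : Good e 1694364648734976) (hR : Rels e R) :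
    Rel (e 1) (e 2) (e 3) (e 4) (e 5) (e 6) := by
  have j1 : (e 1)⁻¹ = e 1 := (hg.inv 1).symm
  have j2 : (e 2)⁻¹ = e 2 := (hg.inv 2).symm
  have j3 : (e 3)⁻¹ = e 3 := (hg.inv 3).symm
  have j4 : (e 4)⁻¹ = e 4 := (hg.inv 4).symm
  have j5 : (e 5)⁻¹ = e 5 := (hg.inv 5).symm
  have j6 : (e 6)⁻¹ = e 6 := (hg.inv 6).symm
  have r0 : e 1 * (e 1 * 1) = 1 := hR [1, 1] (List.mem_of_elem_eq_true (by decide))
  have r1 : e 2 * (e 2 * 1) = 1 := hR [2, 2] (List.mem_of_elem_eq_true (by decide))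
  have r2 : e 3 * (e 3 * 1) = 1 := hR [3, 3] (List.mem_of_elem_eq_true (by decide))
  have r3 : e 4 * (e 4 * 1) = 1 := hR [4, 4] (List.mem_of_elem_eq_true (by decide))
  have r4 : e 5 * (e 5 * 1) = 1 := hR [5, 5] (List.mem_of_elem_eq_true (by decide))
  have r5 : e 6 * (e 6 * 1) = 1 := hR [6, 6] (List.mem_of_elem_eq_true (by decide))
  have r6 : e 2 * (e 1 * (e 2 * (e 1 * (e 6 * 1)))) = 1 := hR [2, 1, 2, 1, 6] (List.mem_of_elem_eq_true (by decide))
  have r7 : e 3 * (e 1 * (e 3 * (e 1 * 1))) = 1 := hR [3, 1, 3, 1] (List.mem_of_elem_eq_true (by decide))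
  have r8 : e 4 * (e 1 * (e 4 * (e 1 * 1))) = 1 := hR [4, 1, 4, 1] (List.mem_of_elem_eq_true (by decide))
  have r9 : e 5 * (e 1 * (e 5 * (e 1 * (e 6 * 1)))) = 1 := hR [5, 1, 5, 1, 6] (List.mem_of_elem_eq_true (by decide))
  have r10 : e 3 * (e 2 * (e 3 * (e 2 * (e 6 * 1)))) = 1 := hR [3, 2, 3, 2, 6] (List.mem_of_elem_eq_true (by decide))
  have r11 : e 4 * (e 2 * (e 4 * (e 2 * 1))) = 1 := hR [4, 2, 4, 2] (List.mem_of_elem_eq_true (by decide))
  have r12 : e 5 * (e 2 * (e 5 * (e 2 * 1))) = 1 := hR [5, 2, 5, 2] (List.mem_of_elem_eq_true (by decide))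
  have r13 : e 4 * (e 3 * (e 4 * (e 3 * (e 6 * 1)))) = 1 := hR [4, 3, 4, 3, 6] (List.mem_of_elem_eq_true (by decide))
  have r14 : e 5 * (e 3 * (e 5 * (e 3 * 1))) = 1 := hR [5, 3, 5, 3] (List.mem_of_elem_eq_true (by decide))
  have r15 : e 5 * (e 4 * (e 5 * (e 4 * (e 6 * 1)))) = 1 := hR [5, 4, 5, 4, 6] (List.mem_of_elem_eq_true (by decide))
  have r16 : e 6 * (e 1 * (e 6 * (e 1 * 1))) = 1 := hR [6, 1, 6, 1] (List.mem_of_elem_eq_true (by decide))
  have r17 : e 6 * (e 2 * (e 6 * (e 2 * 1))) = 1 := hR [6, 2, 6, 2] (List.mem_of_elem_eq_true (by decide))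
  have r18 : e 6 * (e 3 * (e 6 * (e 3 * 1))) = 1 := hR [6, 3, 6, 3] (List.mem_of_elem_eq_true (by decide))
  have r19 : e 6 * (e 4 * (e 6 * (e 4 * 1))) = 1 := hR [6, 4, 6, 4] (List.mem_of_elem_eq_true (by decide))
  have r20 : e 6 * (e 5 * (e 6 * (e 5 * 1))) = 1 := hR [6, 5, 6, 5] (List.mem_of_elem_eq_true (by decide))
  have r21 : e 1 * (e 2 * (e 3 * (e 4 * (e 5 * (e 1 * (e 2 * (e 3 * (e 4 * (e 5 * 1))))))))) = 1 := hR [1, 2, 3, 4, 5, 1, 2, 3, 4, 5] (List.mem_of_elem_eq_true (by decide))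
  exact ⟨mul_inv_eq_one.mp (by simpa only [mul_inv_rev, mul_assoc, mul_one, one_mul, inv_one, pow_succ, pow_zero, j1, j2, j3, j4, j5, j6] using r0),
    mul_inv_eq_one.mp (by simpa only [mul_inv_rev, mul_assoc, mul_one, one_mul, inv_one, pow_succ, pow_zero, j1, j2, j3, j4, j5, j6] using r1),
    mul_inv_eq_one.mp (by simpa only [mul_inv_rev, mul_assoc, mul_one, one_mul, inv_one, pow_succ, pow_zero, j1, j2, j3, j4, j5, j6] using r2),
    mul_inv_eq_one.mp (by simpa only [mul_inv_rev, mul_assoc, mul_one, one_mul, inv_one, pow_succ, pow_zero, j1, j2, j3, j4, j5, j6] using r3),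
    mul_inv_eq_one.mp (by simpa only [mul_inv_rev, mul_assoc, mul_one, one_mul, inv_one, pow_succ, pow_zero, j1, j2, j3, j4, j5, j6] using r4),
    mul_inv_eq_one.mp (by simpa only [mul_inv_rev, mul_assoc, mul_one, one_mul, inv_one, pow_succ, pow_zero, j1, j2, j3, j4, j5, j6] using r5),
    mul_inv_eq_one.mp (by simpa only [mul_inv_rev, mul_assoc, mul_one, one_mul, inv_one, pow_succ, pow_zero, j1, j2, j3, j4, j5, j6] using r6),
    mul_inv_eq_one.mp (by simpa only [mul_inv_rev, mul_assoc, mul_one, one_mul, inv_one, pow_succ, pow_zero, j1, j2, j3, j4, j5, j6] using r7),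
    mul_inv_eq_one.mp (by simpa only [mul_inv_rev, mul_assoc, mul_one, one_mul, inv_one, pow_succ, pow_zero, j1, j2, j3, j4, j5, j6] using r8),
    mul_inv_eq_one.mp (by simpa only [mul_inv_rev, mul_assoc, mul_one, one_mul, inv_one, pow_succ, pow_zero, j1, j2, j3, j4, j5, j6] using r9),
    mul_inv_eq_one.mp (by simpa only [mul_inv_rev, mul_assoc, mul_one, one_mul, inv_one, pow_succ, pow_zero, j1, j2, j3, j4, j5, j6] using r10),
    mul_inv_eq_one.mp (by simpa only [mul_inv_rev, mul_assoc, mul_one, one_mul, inv_one, pow_succ, pow_zero, j1, j2, j3, j4, j5, j6] using r11),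
    mul_inv_eq_one.mp (by simpa only [mul_inv_rev, mul_assoc, mul_one, one_mul, inv_one, pow_succ, pow_zero, j1, j2, j3, j4, j5, j6] using r12),
    mul_inv_eq_one.mp (by simpa only [mul_inv_rev, mul_assoc, mul_one, one_mul, inv_one, pow_succ, pow_zero, j1, j2, j3, j4, j5, j6] using r13),
    mul_inv_eq_one.mp (by simpa only [mul_inv_rev, mul_assoc, mul_one, one_mul, inv_one, pow_succ, pow_zero, j1, j2, j3, j4, j5, j6] using r14),
    mul_inv_eq_one.mp (by simpa only [mul_inv_rev, mul_assoc, mul_one, one_mul, inv_one, pow_succ, pow_zero, j1, j2, j3, j4, j5, j6] using r15),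
    mul_inv_eq_one.mp (by simpa only [mul_inv_rev, mul_assoc, mul_one, one_mul, inv_one, pow_succ, pow_zero, j1, j2, j3, j4, j5, j6] using r16),
    mul_inv_eq_one.mp (by simpa only [mul_inv_rev, mul_assoc, mul_one, one_mul, inv_one, pow_succ, pow_zero, j1, j2, j3, j4, j5, j6] using r17),
    mul_inv_eq_one.mp (by simpa only [mul_inv_rev, mul_assoc, mul_one, one_mul, inv_one, pow_succ, pow_zero, j1, j2, j3, j4, j5, j6] using r18),
    mul_inv_eq_one.mp (by simpa only [mul_inv_rev, mul_assoc, mul_one, one_mul, inv_one, pow_succ, pow_zero, j1, j2, j3, j4, j5, j6] using r19),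
    mul_inv_eq_one.mp (by simpa only [mul_inv_rev, mul_assoc, mul_one, one_mul, inv_one, pow_succ, pow_zero, j1, j2, j3, j4, j5, j6] using r20),
    mul_inv_eq_one.mp (by simpa only [mul_inv_rev, mul_assoc, mul_one, one_mul, inv_one, pow_succ, pow_zero, j1, j2, j3, j4, j5, j6] using r21)⟩

theorem gen_top : gen (pgEv 1694364648734976 R) [[1], [2], [3], [4], [5], [6]] = ⊤ := pg_gen (n := 7) (by norm_num) (by decide)
namespace c

noncomputable def get (y : ℕ) : ℕ := (sel (nat_lit 1) y (nat_lit 0x0) (nat_lit 0x8000000000000070000000000000600000000000006000000000000000000010000000000000000000100000008000004000000040000080000001100000d0000000d00001104000011000017040000170000110500000c0000170500001700000c0300000d0000160300001600000d02000012000016020000160000120500000b0000160500001600000b0200000f0000150200001500000f0100000c0000150100001500000c0400000a0000150400001500000a010000120000140100001400001205000009000014050000140000090300000f0000130300001300000f04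000009000013040000130000090500000700001205000012000007020000080000110200001100000805000006000011050000110000060600000c0000100600001000000c04000006000010040000100000060400000500000f0400000f0000050600000900000e0600000e0000090100000700000e0100000e0000070300000500000e0300000e0000050200000400000d0200000d0000040500000300000d0500000d0000030400000300000c0400000c0000030200000700000b0200000b0000070300000300000b0300000b0000030200000500000a0200000a0000050100000300000a0100000a00000303000002000009030000090000020500000100000805000008000001030000010000070300000700000106000003000006060000060000030200000100000602000006000001060000020000050600000500000201000001000005010000050000010500000000000405000004000000020000000000030200000300000001000000000002010000020000000600000000000106000001000000))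
noncomputable def gs (y : ℕ) : ℕ := (sel (nat_lit 3) y (sel (nat_lit 1) y (nat_lit 0x0) (sel (nat_lit 2) y (nat_lit 0x0) (nat_lit 0x0))) (sel (nat_lit 4) y (nat_lit 0x0) (sel (nat_lit 5) y (nat_lit 0x8000000800000a000023a00002290000226000023580000008000009000023600002290000224000022b8000000800000080000050000230000020c000021380000008000008000022c000020e000021f8000000800000080000070000224000020a0000215800000600002240000208000021180000008000005000022000002040000207800000080000008000004000021a000020f000020c000021180000008000003000021600002040000201000020980000008000000800000080000008000002000020c000020000002058000000800000100002080000200000020380000008000000800000080000008000000) (nat_lit 0x8000014800001480000148000014800001480000148000014800001480000148000014800001480000148000014800001480000148000014800001480000148000014800001480000130000255800001200002010000253800001100002070000250000021280000100000223000024e0000232800000f00002490000246000023d000023a0000237000023800002430000240000024b000024c800000e000024a000022f000022c00002318000000800000d0000244000021a000022180000050000244000021c00002358000000800000c000023e0000218000022b800000b000023e0000216000021f))))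
noncomputable def gd (y : ℕ) : ℕ := (nat_lit 0x24a0000244000023e000023a000023600002340000230000022c000022a00002240000220000021e000021a0000216000021400002120000210000020c000020800002060000204000020200002000000000)
noncomputable def gwh_0 (y : ℕ) : ℕ := (sel (nat_lit 8) y (sel (nat_lit 4) y (sel (nat_lit 2) y (sel (nat_lit 1) y (nat_lit 0x1060106000003001000) (nat_lit 0x2060206000003001001)) (sel (nat_lit 3) y (nat_lit 0x106020102000003002002) (nat_lit 0x302060302000002003003))) (sel (nat_lit 6) y (sel (nat_lit 5) y (nat_lit 0x5020502000002002004) (nat_lit 0x3010301000002002005)) (sel (nat_lit 7) y (nat_lit 0x3060306000003001006) (nat_lit 0x4060406000003001007)))) (sel (nat_lit 12) y (sel (nat_lit 10) y (sel (nat_lit 9) y (nat_lit 0x403060403000002003008) (nat_lit 0x501060501000002003009)) (sel (nat_lit 11) y (nat_lit 0x401040100000200200a) (nat_lit 0x402040200000200200b))) (sel (nat_lit 14) y (sel (nat_lit 13) y (nat_lit 0x503050300000200200c) (nat_lit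 0x50406050400000200300d)) (sel (nat_lit 15) y (nat_lit 0x40501020304050102030000100300700e) (nat_lit 0x200020000100000300f)))))
noncomputable def gwh_1 (y : ℕ) : ℕ := (sel (nat_lit 17) y (nat_lit 0x5000500001000003010) (sel (nat_lit 18) y (nat_lit 0x606000000002011) (nat_lit 0x608000000002012)))
noncomputable def gwh (y : ℕ) : ℕ := (sel (nat_lit 16) y (gwh_0 y) (gwh_1 y))
def sg : List (List ℕ) := [[], [1], [2], [3], [4], [5], [6], [6], [6]]
def BL : List ℕ := [0x6010601, 0x6020602, 0x201020106, 0x302030206, 0x5020502, 0x3010301, 0x6030603, 0x6040604, 0x403040306, 0x501050106, 0x4010401, 0x4020402, 0x5030503, 0x504050406, 0x1020304050102030405, 0x20002, 0x50005, 0x606, 0x608]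
def Sub : List (List ℕ) := []
theorem hA : prepA 1694364648734976 PM1.R sg 129705363632919019776 BL Sub get gd = true := by decide +kernel
theorem hw : allR (okW BL gwh) 0 19 = true := by decide +kernel
theorem b0 : allR (blk get gs (gwB gwh 19) gd 129705363632919019776) 4 2 = true := by decide +kernel
theorem hb : ∀ b, 4 ≤ b → b < 6 → blk get gs (gwB gwh 19) gd 129705363632919019776 b = true :=
  (allR_range b0 (by norm_num : 4 + 2 = 6))
def TL : List (ℕ × List ℕ) := [(342, [6])]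
theorem hM : prepM sg get 6 TL = true := by decide +kernel
theorem mem {G : Type*} [Group G] {ev : ℕ → G} (hev : Good ev 1694364648734976) (hR : Rels ev PM1.R) :
    ∀ w ∈ TL.map Prod.snd, evL ev w ∈ gen ev Sub :=
  cert_mem hev hR hA hM hw hb

end c

theorem z_eq {G : Type*} [Group G] {a0 a1 a2 a3 a4 z : G} (H : Rel a0 a1 a2 a3 a4 z) : z = 1 := by
  have i_a0 : a0⁻¹ = a0 := inv_eq_of_mul_eq_one_right H.s0
  have i_a1 : a1⁻¹ = a1 := inv_eq_of_mul_eq_one_right H.s1
  have i_a2 : a2⁻¹ = a2 := inv_eq_of_mul_eq_one_right H.s2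
  have i_a3 : a3⁻¹ = a3 := inv_eq_of_mul_eq_one_right H.s3
  have i_a4 : a4⁻¹ = a4 := inv_eq_of_mul_eq_one_right H.s4
  have i_z : z⁻¹ = z := inv_eq_of_mul_eq_one_right H.sz
  have h : z * 1 = 1 := rels_of_mem_nil (c.mem (good H) (rels H)) [6] (List.mem_of_elem_eq_true (by decide))
  exact mul_inv_eq_one.mp (by simpa only [mul_inv_rev, inv_inv, mul_assoc, mul_one, one_mul, inv_one, pow_succ, pow_zero, i_a0, i_a1, i_a2, i_a3, i_a4, i_z] using h)

end PM1

namespace PM2

structure Rel {G : Type*} [Group G] (a0 a1 a2 a3 a4 z : G) : Prop where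
  s0 : a0 * a0 = 1
  s1 : a1 * a1 = 1
  s2 : a2 * a2 = 1
  s3 : a3 * a3 = 1
  s4 : a4 * a4 = 1
  sz : z * z = 1
  c01 : a1 * a0 = a0 * a1
  c02 : a2 * a0 = z * (a0 * a2)
  c03 : a3 * a0 = z * (a0 * a3)
  c04 : a4 * a0 = a0 * a4
  c12 : a2 * a1 = a1 * a2
  c13 : a3 * a1 = z * (a1 * a3)
  c14 : a4 * a1 = z * (a1 * a4)
  c23 : a3 * a2 = a2 * a3
  c24 : a4 * a2 = z * (a2 * a4)
  c34 : a4 * a3 = a3 * a4
  z0 : z * a0 = a0 * z
  z1 : z * a1 = a1 * z
  z2 : z * a2 = a2 * z
  z3 : z * a3 = a3 * z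
  z4 : z * a4 = a4 * z
  pr : a0 * a1 * a2 * a3 * a4 * (a0 * a1 * a2 * a3 * a4) = 1

def R : List (List ℕ) := [[1, 1], [2, 2], [3, 3], [4, 4], [5, 5], [6, 6], [2, 1, 2, 1], [3, 1, 3, 1, 6], [4, 1, 4, 1, 6], [5, 1, 5, 1], [3, 2, 3, 2], [4, 2, 4, 2, 6], [5, 2, 5, 2, 6], [4, 3, 4, 3], [5, 3, 5, 3, 6], [5, 4, 5, 4], [6, 1, 6, 1], [6, 2, 6, 2], [6, 3, 6, 3], [6, 4, 6, 4], [6, 5, 6, 5], [1, 2, 3, 4, 5, 1, 2, 3, 4, 5]]

def ev {G : Type*} [Group G] (a0 a1 a2 a3 a4 z : G) (l : ℕ) : G := [1, a0, a1, a2, a3, a4, z].getD l 1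

theorem good {G : Type*} [Group G] {a0 a1 a2 a3 a4 z : G} (H : Rel a0 a1 a2 a3 a4 z) : Good (ev a0 a1 a2 a3 a4 z) 1694364648734976 := by
  have i_a0 : a0⁻¹ = a0 := inv_eq_of_mul_eq_one_right H.s0
  have i_a1 : a1⁻¹ = a1 := inv_eq_of_mul_eq_one_right H.s1
  have i_a2 : a2⁻¹ = a2 := inv_eq_of_mul_eq_one_right H.s2
  have i_a3 : a3⁻¹ = a3 := inv_eq_of_mul_eq_one_right H.s3
  have i_a4 : a4⁻¹ = a4 := inv_eq_of_mul_eq_one_right H.s4
  have i_z : z⁻¹ = z := inv_eq_of_mul_eq_one_right H.sz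
  refine good_list (n := 7) rfl (by norm_num) rfl fun l hl => ?_
  interval_cases l
  · exact inv_one.symm
  · exact i_a0.symm
  · exact i_a1.symm
  · exact i_a2.symm
  · exact i_a3.symm
  · exact i_a4.symm
  · exact i_z.symm

theorem rels {G : Type*} [Group G] {a0 a1 a2 a3 a4 z : G} (H : Rel a0 a1 a2 a3 a4 z) : Rels (ev a0 a1 a2 a3 a4 z) R := by
  have i_a0 : a0⁻¹ = a0 := inv_eq_of_mul_eq_one_right H.s0
  have i_a1 : a1⁻¹ = a1 := inv_eq_of_mul_eq_one_right H.s1
  have i_a2 : a2⁻¹ = a2 := inv_eq_of_mul_eq_one_right H.s2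
  have i_a3 : a3⁻¹ = a3 := inv_eq_of_mul_eq_one_right H.s3
  have i_a4 : a4⁻¹ = a4 := inv_eq_of_mul_eq_one_right H.s4
  have i_z : z⁻¹ = z := inv_eq_of_mul_eq_one_right H.sz
  unfold R
  refine Rels.cons ?_ ?_
  · show a0 * (a0 * 1) = 1
    simpa only [mul_inv_rev, inv_inv, mul_assoc, mul_one, one_mul, inv_one, pow_succ, pow_zero, i_a0, i_a1, i_a2, i_a3, i_a4, i_z] using mul_inv_eq_one.mpr H.s0
  refine Rels.cons ?_ ?_
  · show a1 * (a1 * 1) = 1
    simpa only [mul_inv_rev, inv_inv, mul_assoc, mul_one, one_mul, inv_one, pow_succ, pow_zero, i_a0, i_a1, i_a2, i_a3, i_a4, i_z] using mul_inv_eq_one.mpr H.s1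
  refine Rels.cons ?_ ?_
  · show a2 * (a2 * 1) = 1
    simpa only [mul_inv_rev, inv_inv, mul_assoc, mul_one, one_mul, inv_one, pow_succ, pow_zero, i_a0, i_a1, i_a2, i_a3, i_a4, i_z] using mul_inv_eq_one.mpr H.s2
  refine Rels.cons ?_ ?_
  · show a3 * (a3 * 1) = 1
    simpa only [mul_inv_rev, inv_inv, mul_assoc, mul_one, one_mul, inv_one, pow_succ, pow_zero, i_a0, i_a1, i_a2, i_a3, i_a4, i_z] using mul_inv_eq_one.mpr H.s3
  refine Rels.cons ?_ ?_
  · show a4 * (a4 * 1) = 1
    simpa only [mul_inv_rev, inv_inv, mul_assoc, mul_one, one_mul, inv_one, pow_succ, pow_zero, i_a0, i_a1, i_a2, i_a3, i_a4, i_z] using mul_inv_eq_one.mpr H.s4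
  refine Rels.cons ?_ ?_
  · show z * (z * 1) = 1
    simpa only [mul_inv_rev, inv_inv, mul_assoc, mul_one, one_mul, inv_one, pow_succ, pow_zero, i_a0, i_a1, i_a2, i_a3, i_a4, i_z] using mul_inv_eq_one.mpr H.sz
  refine Rels.cons ?_ ?_
  · show a1 * (a0 * (a1 * (a0 * 1))) = 1
    simpa only [mul_inv_rev, inv_inv, mul_assoc, mul_one, one_mul, inv_one, pow_succ, pow_zero, i_a0, i_a1, i_a2, i_a3, i_a4, i_z] using mul_inv_eq_one.mpr H.c01
  refine Rels.cons ?_ ?_
  · show a2 * (a0 * (a2 * (a0 * (z * 1)))) = 1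
    simpa only [mul_inv_rev, inv_inv, mul_assoc, mul_one, one_mul, inv_one, pow_succ, pow_zero, i_a0, i_a1, i_a2, i_a3, i_a4, i_z] using mul_inv_eq_one.mpr H.c02
  refine Rels.cons ?_ ?_
  · show a3 * (a0 * (a3 * (a0 * (z * 1)))) = 1
    simpa only [mul_inv_rev, inv_inv, mul_assoc, mul_one, one_mul, inv_one, pow_succ, pow_zero, i_a0, i_a1, i_a2, i_a3, i_a4, i_z] using mul_inv_eq_one.mpr H.c03
  refine Rels.cons ?_ ?_
  · show a4 * (a0 * (a4 * (a0 * 1))) = 1
    simpa only [mul_inv_rev, inv_inv, mul_assoc, mul_one, one_mul, inv_one, pow_succ, pow_zero, i_a0, i_a1, i_a2, i_a3, i_a4, i_z] using mul_inv_eq_one.mpr H.c04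
  refine Rels.cons ?_ ?_
  · show a2 * (a1 * (a2 * (a1 * 1))) = 1
    simpa only [mul_inv_rev, inv_inv, mul_assoc, mul_one, one_mul, inv_one, pow_succ, pow_zero, i_a0, i_a1, i_a2, i_a3, i_a4, i_z] using mul_inv_eq_one.mpr H.c12
  refine Rels.cons ?_ ?_
  · show a3 * (a1 * (a3 * (a1 * (z * 1)))) = 1
    simpa only [mul_inv_rev, inv_inv, mul_assoc, mul_one, one_mul, inv_one, pow_succ, pow_zero, i_a0, i_a1, i_a2, i_a3, i_a4, i_z] using mul_inv_eq_one.mpr H.c13
  refine Rels.cons ?_ ?_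
  · show a4 * (a1 * (a4 * (a1 * (z * 1)))) = 1
    simpa only [mul_inv_rev, inv_inv, mul_assoc, mul_one, one_mul, inv_one, pow_succ, pow_zero, i_a0, i_a1, i_a2, i_a3, i_a4, i_z] using mul_inv_eq_one.mpr H.c14
  refine Rels.cons ?_ ?_
  · show a3 * (a2 * (a3 * (a2 * 1))) = 1
    simpa only [mul_inv_rev, inv_inv, mul_assoc, mul_one, one_mul, inv_one, pow_succ, pow_zero, i_a0, i_a1, i_a2, i_a3, i_a4, i_z] using mul_inv_eq_one.mpr H.c23
  refine Rels.cons ?_ ?_
  · show a4 * (a2 * (a4 * (a2 * (z * 1)))) = 1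
    simpa only [mul_inv_rev, inv_inv, mul_assoc, mul_one, one_mul, inv_one, pow_succ, pow_zero, i_a0, i_a1, i_a2, i_a3, i_a4, i_z] using mul_inv_eq_one.mpr H.c24
  refine Rels.cons ?_ ?_
  · show a4 * (a3 * (a4 * (a3 * 1))) = 1
    simpa only [mul_inv_rev, inv_inv, mul_assoc, mul_one, one_mul, inv_one, pow_succ, pow_zero, i_a0, i_a1, i_a2, i_a3, i_a4, i_z] using mul_inv_eq_one.mpr H.c34
  refine Rels.cons ?_ ?_
  · show z * (a0 * (z * (a0 * 1))) = 1
    simpa only [mul_inv_rev, inv_inv, mul_assoc, mul_one, one_mul, inv_one, pow_succ, pow_zero, i_a0, i_a1, i_a2, i_a3, i_a4, i_z] using mul_inv_eq_one.mpr H.z0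
  refine Rels.cons ?_ ?_
  · show z * (a1 * (z * (a1 * 1))) = 1
    simpa only [mul_inv_rev, inv_inv, mul_assoc, mul_one, one_mul, inv_one, pow_succ, pow_zero, i_a0, i_a1, i_a2, i_a3, i_a4, i_z] using mul_inv_eq_one.mpr H.z1
  refine Rels.cons ?_ ?_
  · show z * (a2 * (z * (a2 * 1))) = 1
    simpa only [mul_inv_rev, inv_inv, mul_assoc, mul_one, one_mul, inv_one, pow_succ, pow_zero, i_a0, i_a1, i_a2, i_a3, i_a4, i_z] using mul_inv_eq_one.mpr H.z2
  refine Rels.cons ?_ ?_
  · show z * (a3 * (z * (a3 * 1))) = 1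
    simpa only [mul_inv_rev, inv_inv, mul_assoc, mul_one, one_mul, inv_one, pow_succ, pow_zero, i_a0, i_a1, i_a2, i_a3, i_a4, i_z] using mul_inv_eq_one.mpr H.z3
  refine Rels.cons ?_ ?_
  · show z * (a4 * (z * (a4 * 1))) = 1
    simpa only [mul_inv_rev, inv_inv, mul_assoc, mul_one, one_mul, inv_one, pow_succ, pow_zero, i_a0, i_a1, i_a2, i_a3, i_a4, i_z] using mul_inv_eq_one.mpr H.z4
  refine Rels.cons ?_ ?_
  · show a0 * (a1 * (a2 * (a3 * (a4 * (a0 * (a1 * (a2 * (a3 * (a4 * 1))))))))) = 1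
    simpa only [mul_inv_rev, inv_inv, mul_assoc, mul_one, one_mul, inv_one, pow_succ, pow_zero, i_a0, i_a1, i_a2, i_a3, i_a4, i_z] using mul_inv_eq_one.mpr H.pr
  intro r hr
  exact absurd hr List.not_mem_nil

/-- The relations hold for the letters of any assignment satisfying the relators. -/
theorem rel_of {G : Type*} [Group G] {e : ℕ → G} (hg : Good e 1694364648734976) (hR : Rels e R) :
    Rel (e 1) (e 2) (e 3) (e 4) (e 5) (e 6) := by
  have j1 : (e 1)⁻¹ = e 1 := (hg.inv 1).symm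
  have j2 : (e 2)⁻¹ = e 2 := (hg.inv 2).symm
  have j3 : (e 3)⁻¹ = e 3 := (hg.inv 3).symm
  have j4 : (e 4)⁻¹ = e 4 := (hg.inv 4).symm
  have j5 : (e 5)⁻¹ = e 5 := (hg.inv 5).symm
  have j6 : (e 6)⁻¹ = e 6 := (hg.inv 6).symm
  have r0 : e 1 * (e 1 * 1) = 1 := hR [1, 1] (List.mem_of_elem_eq_true (by decide))
  have r1 : e 2 * (e 2 * 1) = 1 := hR [2, 2] (List.mem_of_elem_eq_true (by decide))
  have r2 : e 3 * (e 3 * 1) = 1 := hR [3, 3] (List.mem_of_elem_eq_true (by decide))
  have r3 : e 4 * (e 4 * 1) = 1 := hR [4, 4] (List.mem_of_elem_eq_true (by decide))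
  have r4 : e 5 * (e 5 * 1) = 1 := hR [5, 5] (List.mem_of_elem_eq_true (by decide))
  have r5 : e 6 * (e 6 * 1) = 1 := hR [6, 6] (List.mem_of_elem_eq_true (by decide))
  have r6 : e 2 * (e 1 * (e 2 * (e 1 * 1))) = 1 := hR [2, 1, 2, 1] (List.mem_of_elem_eq_true (by decide))
  have r7 : e 3 * (e 1 * (e 3 * (e 1 * (e 6 * 1)))) = 1 := hR [3, 1, 3, 1, 6] (List.mem_of_elem_eq_true (by decide))
  have r8 : e 4 * (e 1 * (e 4 * (e 1 * (e 6 * 1)))) = 1 := hR [4, 1, 4, 1, 6] (List.mem_of_elem_eq_true (by decide))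
  have r9 : e 5 * (e 1 * (e 5 * (e 1 * 1))) = 1 := hR [5, 1, 5, 1] (List.mem_of_elem_eq_true (by decide))
  have r10 : e 3 * (e 2 * (e 3 * (e 2 * 1))) = 1 := hR [3, 2, 3, 2] (List.mem_of_elem_eq_true (by decide))
  have r11 : e 4 * (e 2 * (e 4 * (e 2 * (e 6 * 1)))) = 1 := hR [4, 2, 4, 2, 6] (List.mem_of_elem_eq_true (by decide))
  have r12 : e 5 * (e 2 * (e 5 * (e 2 * (e 6 * 1)))) = 1 := hR [5, 2, 5, 2, 6] (List.mem_of_elem_eq_true (by decide))
  have r13 : e 4 * (e 3 * (e 4 * (e 3 * 1))) = 1 := hR [4, 3, 4, 3] (List.mem_of_elem_eq_true (by decide))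
  have r14 : e 5 * (e 3 * (e 5 * (e 3 * (e 6 * 1)))) = 1 := hR [5, 3, 5, 3, 6] (List.mem_of_elem_eq_true (by decide))
  have r15 : e 5 * (e 4 * (e 5 * (e 4 * 1))) = 1 := hR [5, 4, 5, 4] (List.mem_of_elem_eq_true (by decide))
  have r16 : e 6 * (e 1 * (e 6 * (e 1 * 1))) = 1 := hR [6, 1, 6, 1] (List.mem_of_elem_eq_true (by decide))
  have r17 : e 6 * (e 2 * (e 6 * (e 2 * 1))) = 1 := hR [6, 2, 6, 2] (List.mem_of_elem_eq_true (by decide))
  have r18 : e 6 * (e 3 * (e 6 * (e 3 * 1))) = 1 := hR [6, 3, 6, 3] (List.mem_of_elem_eq_true (by decide))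
  have r19 : e 6 * (e 4 * (e 6 * (e 4 * 1))) = 1 := hR [6, 4, 6, 4] (List.mem_of_elem_eq_true (by decide))
  have r20 : e 6 * (e 5 * (e 6 * (e 5 * 1))) = 1 := hR [6, 5, 6, 5] (List.mem_of_elem_eq_true (by decide))
  have r21 : e 1 * (e 2 * (e 3 * (e 4 * (e 5 * (e 1 * (e 2 * (e 3 * (e 4 * (e 5 * 1))))))))) = 1 := hR [1, 2, 3, 4, 5, 1, 2, 3, 4, 5] (List.mem_of_elem_eq_true (by decide))
  exact ⟨mul_inv_eq_one.mp (by simpa only [mul_inv_rev, mul_assoc, mul_one, one_mul, inv_one, pow_succ, pow_zero, j1, j2, j3, j4, j5, j6] using r0),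
    mul_inv_eq_one.mp (by simpa only [mul_inv_rev, mul_assoc, mul_one, one_mul, inv_one, pow_succ, pow_zero, j1, j2, j3, j4, j5, j6] using r1),
    mul_inv_eq_one.mp (by simpa only [mul_inv_rev, mul_assoc, mul_one, one_mul, inv_one, pow_succ, pow_zero, j1, j2, j3, j4, j5, j6] using r2),
    mul_inv_eq_one.mp (by simpa only [mul_inv_rev, mul_assoc, mul_one, one_mul, inv_one, pow_succ, pow_zero, j1, j2, j3, j4, j5, j6] using r3),
    mul_inv_eq_one.mp (by simpa only [mul_inv_rev, mul_assoc, mul_one, one_mul, inv_one, pow_succ, pow_zero, j1, j2, j3, j4, j5, j6] using r4),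
    mul_inv_eq_one.mp (by simpa only [mul_inv_rev, mul_assoc, mul_one, one_mul, inv_one, pow_succ, pow_zero, j1, j2, j3, j4, j5, j6] using r5),
    mul_inv_eq_one.mp (by simpa only [mul_inv_rev, mul_assoc, mul_one, one_mul, inv_one, pow_succ, pow_zero, j1, j2, j3, j4, j5, j6] using r6),
    mul_inv_eq_one.mp (by simpa only [mul_inv_rev, mul_assoc, mul_one, one_mul, inv_one, pow_succ, pow_zero, j1, j2, j3, j4, j5, j6] using r7),
    mul_inv_eq_one.mp (by simpa only [mul_inv_rev, mul_assoc, mul_one, one_mul, inv_one, pow_succ, pow_zero, j1, j2, j3, j4, j5, j6] using r8),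
    mul_inv_eq_one.mp (by simpa only [mul_inv_rev, mul_assoc, mul_one, one_mul, inv_one, pow_succ, pow_zero, j1, j2, j3, j4, j5, j6] using r9),
    mul_inv_eq_one.mp (by simpa only [mul_inv_rev, mul_assoc, mul_one, one_mul, inv_one, pow_succ, pow_zero, j1, j2, j3, j4, j5, j6] using r10),
    mul_inv_eq_one.mp (by simpa only [mul_inv_rev, mul_assoc, mul_one, one_mul, inv_one, pow_succ, pow_zero, j1, j2, j3, j4, j5, j6] using r11),
    mul_inv_eq_one.mp (by simpa only [mul_inv_rev, mul_assoc, mul_one, one_mul, inv_one, pow_succ, pow_zero, j1, j2, j3, j4, j5, j6] using r12),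
    mul_inv_eq_one.mp (by simpa only [mul_inv_rev, mul_assoc, mul_one, one_mul, inv_one, pow_succ, pow_zero, j1, j2, j3, j4, j5, j6] using r13),
    mul_inv_eq_one.mp (by simpa only [mul_inv_rev, mul_assoc, mul_one, one_mul, inv_one, pow_succ, pow_zero, j1, j2, j3, j4, j5, j6] using r14),
    mul_inv_eq_one.mp (by simpa only [mul_inv_rev, mul_assoc, mul_one, one_mul, inv_one, pow_succ, pow_zero, j1, j2, j3, j4, j5, j6] using r15),
    mul_inv_eq_one.mp (by simpa only [mul_inv_rev, mul_assoc, mul_one, one_mul, inv_one, pow_succ, pow_zero, j1, j2, j3, j4, j5, j6] using r16),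
    mul_inv_eq_one.mp (by simpa only [mul_inv_rev, mul_assoc, mul_one, one_mul, inv_one, pow_succ, pow_zero, j1, j2, j3, j4, j5, j6] using r17),
    mul_inv_eq_one.mp (by simpa only [mul_inv_rev, mul_assoc, mul_one, one_mul, inv_one, pow_succ, pow_zero, j1, j2, j3, j4, j5, j6] using r18),
    mul_inv_eq_one.mp (by simpa only [mul_inv_rev, mul_assoc, mul_one, one_mul, inv_one, pow_succ, pow_zero, j1, j2, j3, j4, j5, j6] using r19),
    mul_inv_eq_one.mp (by simpa only [mul_inv_rev, mul_assoc, mul_one, one_mul, inv_one, pow_succ, pow_zero, j1, j2, j3, j4, j5, j6] using r20),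
    mul_inv_eq_one.mp (by simpa only [mul_inv_rev, mul_assoc, mul_one, one_mul, inv_one, pow_succ, pow_zero, j1, j2, j3, j4, j5, j6] using r21)⟩

theorem gen_top : gen (pgEv 1694364648734976 R) [[1], [2], [3], [4], [5], [6]] = ⊤ := pg_gen (n := 7) (by norm_num) (by decide)
namespace c

noncomputable def get (y : ℕ) : ℕ := (sel (nat_lit 1) y (nat_lit 0x0) (nat_lit 0x8000000000000070000000000000600000000000006000000000000000000010000000000000000000100000004000009000000090000040000000e00000f0000000f00000e0400000e0000160400001600000e0500000d0000160500001600000d0300000f0000150300001500000f02000010000015020000150000100500000c0000150500001500000c0100000d0000140100001400000d0200000b0000140200001400000b01000010000013010000130000100500000a0000130500001300000a0300000b0000120300001200000b0400000a0000120400001200000a0600000c0000110600001100000c02000007000011020000110000070300000600001103000011000006050000070000100500001000000703000004000010030000100000040500000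600000f0500000f0000060200000400000f0200000f0000040200000900000e0200000e0000090500000300000e0500000e0000030200000800000d0200000d0000080400000300000d0400000d0000030300000300000c0300000c0000030100000800000b0100000b0000080400000200000b0400000b0000020100000700000a0100000a0000070300000200000a0300000a00000205000001000009050000090000010400000100000804000008000001030000010000070300000700000106000003000006060000060000030200000100000602000006000001060000020000050600000500000201000001000005010000050000010500000000000405000004000000020000000000030200000300000001000000000002010000020000000600000000000106000001000000))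
noncomputable def gs (y : ℕ) : ℕ := (sel (nat_lit 3) y (sel (nat_lit 1) y (nat_lit 0x0) (sel (nat_lit 2) y (nat_lit 0x0) (nat_lit 0x0))) (sel (nat_lit 4) y (nat_lit 0x0) (sel (nat_lit 5) y (nat_lit 0x8000000800000c000023a0000218000022f8000000800000b00002360000216000021b8000000800000a0000230000020e000021f80000090000230000020c000021180000008000008000022c00002060000201000021180000008000007000022800002060000201000020d800000080000060000224000020f000020c0000215800000080000050000220000020f000020c0000213800000080000008000004000021a000020b00002080000213800000080000030000216000020b0000208000021180000008000000800000080000008000002000020c000020000002058000000800000100002080000200000020380000008000000800000080000008000000) (nat_lit 0x8000015800001580000158000015800001580000158000015800001580000158000015800001580000158000015800001580000158000015800001580000158000015800001580000158000014000025380000130000201000025180000120000207000024f000021480000110000227000024d0000228800001000002470000244000023d000023a00002370000238000023f00002400000249000024a800000f0000248000022000002258000000800000e000024200002350000230000022b8000006000024200002350000232000022f8000000800000d000023e000021c0000223))))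
noncomputable def gd (y : ℕ) : ℕ := (nat_lit 0x2480000242000023e000023a00002360000230000022c000022800002240000220000021e000021a0000216000021400002120000210000020c000020800002060000204000020200002000000000)
noncomputable def gwh_0 (y : ℕ) : ℕ := (sel (nat_lit 8) y (sel (nat_lit 4) y (sel (nat_lit 2) y (sel (nat_lit 1) y (nat_lit 0x1060106000003001000) (nat_lit 0x2060206000003001001)) (sel (nat_lit 3) y (nat_lit 0x301060301000002003002) (nat_lit 0x401060401000002003003))) (sel (nat_lit 6) y (sel (nat_lit 5) y (nat_lit 0x402060402000002003004) (nat_lit 0x502060502000002003005)) (sel (nat_lit 7) y (nat_lit 0x206050205000003002005) (nat_lit 0x306050305000003002006)))) (sel (nat_lit 12) y (sel (nat_lit 10) y (sel (nat_lit 9) y (nat_lit 0x3020302000002002007) (nat_lit 0x3060306000003001008)) (sel (nat_lit 11) y (nat_lit 0x4030403000002002009) (nat_lit 0x501050100000200200a))) (sel (nat_lit 14) y (sel (nat_lit 13) y (nat_lit 0x201020100000200200b) (nat_lit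 0x503060503000002003006)) (sel (nat_lit 15) y (nat_lit 0x504050400000200200c) (nat_lit 0x40501020304050102030000100300700d)))))
noncomputable def gwh_1 (y : ℕ) : ℕ := (sel (nat_lit 18) y (sel (nat_lit 17) y (nat_lit 0x200020000100000300e) (nat_lit 0x500050000100000300f)) (sel (nat_lit 19) y (nat_lit 0x606000000002010) (nat_lit 0x608000000002011)))
noncomputable def gwh (y : ℕ) : ℕ := (sel (nat_lit 16) y (gwh_0 y) (gwh_1 y))
def sg : List (List ℕ) := [[], [1], [2], [3], [4], [5], [6], [6], [6]]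
def BL : List ℕ := [0x6010601, 0x6020602, 0x301030106, 0x401040106, 0x402040206, 0x502050206, 0x503050306, 0x3020302, 0x6030603, 0x4030403, 0x5010501, 0x2010201, 0x5040504, 0x1020304050102030405, 0x20002, 0x50005, 0x606, 0x608]
def Sub : List (List ℕ) := []
theorem hA : prepA 1694364648734976 PM2.R sg 129705363632919019776 BL Sub get gd = true := by decide +kernel
theorem hw : allR (okW BL gwh) 0 20 = true := by decide +kernel
theorem b0 : allR (blk get gs (gwB gwh 20) gd 129705363632919019776) 4 2 = true := by decide +kernel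
theorem hb : ∀ b, 4 ≤ b → b < 6 → blk get gs (gwB gwh 20) gd 129705363632919019776 b = true :=
  (allR_range b0 (by norm_num : 4 + 2 = 6))
def TL : List (ℕ × List ℕ) := [(340, [6])]
theorem hM : prepM sg get 6 TL = true := by decide +kernel
theorem mem {G : Type*} [Group G] {ev : ℕ → G} (hev : Good ev 1694364648734976) (hR : Rels ev PM2.R) :
    ∀ w ∈ TL.map Prod.snd, evL ev w ∈ gen ev Sub :=
  cert_mem hev hR hA hM hw hb

end c

theorem z_eq {G : Type*} [Group G] {a0 a1 a2 a3 a4 z : G} (H : Rel a0 a1 a2 a3 a4 z) : z = 1 := by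
  have i_a0 : a0⁻¹ = a0 := inv_eq_of_mul_eq_one_right H.s0
  have i_a1 : a1⁻¹ = a1 := inv_eq_of_mul_eq_one_right H.s1
  have i_a2 : a2⁻¹ = a2 := inv_eq_of_mul_eq_one_right H.s2
  have i_a3 : a3⁻¹ = a3 := inv_eq_of_mul_eq_one_right H.s3
  have i_a4 : a4⁻¹ = a4 := inv_eq_of_mul_eq_one_right H.s4
  have i_z : z⁻¹ = z := inv_eq_of_mul_eq_one_right H.sz
  have h : z * 1 = 1 := rels_of_mem_nil (c.mem (good H) (rels H)) [6] (List.mem_of_elem_eq_true (by decide))
  exact mul_inv_eq_one.mp (by simpa only [mul_inv_rev, inv_inv, mul_assoc, mul_one, one_mul, inv_one, pow_succ, pow_zero, i_a0, i_a1, i_a2, i_a3, i_a4, i_z] using h)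

end PM2

namespace PM3

structure Rel {G : Type*} [Group G] (a0 a1 a2 a3 a4 z : G) : Prop where
  s0 : a0 * a0 = 1
  s1 : a1 * a1 = 1
  s2 : a2 * a2 = 1
  s3 : a3 * a3 = 1
  s4 : a4 * a4 = 1
  sz : z * z = 1
  c01 : a1 * a0 = z * (a0 * a1)
  c02 : a2 * a0 = z * (a0 * a2)
  c03 : a3 * a0 = z * (a0 * a3)
  c04 : a4 * a0 = z * (a0 * a4)
  c12 : a2 * a1 = z * (a1 * a2)
  c13 : a3 * a1 = z * (a1 * a3)
  c14 : a4 * a1 = z * (a1 * a4)
  c23 : a3 * a2 = z * (a2 * a3)
  c24 : a4 * a2 = z * (a2 * a4)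
  c34 : a4 * a3 = z * (a3 * a4)
  z0 : z * a0 = a0 * z
  z1 : z * a1 = a1 * z
  z2 : z * a2 = a2 * z
  z3 : z * a3 = a3 * z
  z4 : z * a4 = a4 * z
  pr : a0 * a1 * a2 * a3 * a4 = z

def R : List (List ℕ) := [[1, 1], [2, 2], [3, 3], [4, 4], [5, 5], [6, 6], [2, 1, 2, 1, 6], [3, 1, 3, 1, 6], [4, 1, 4, 1, 6], [5, 1, 5, 1, 6], [3, 2, 3, 2, 6], [4, 2, 4, 2, 6], [5, 2, 5, 2, 6], [4, 3, 4, 3, 6], [5, 3, 5, 3, 6], [5, 4, 5, 4, 6], [6, 1, 6, 1], [6, 2, 6, 2], [6, 3, 6, 3], [6, 4, 6, 4], [6, 5, 6, 5], [1, 2, 3, 4, 5, 6]]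

def ev {G : Type*} [Group G] (a0 a1 a2 a3 a4 z : G) (l : ℕ) : G := [1, a0, a1, a2, a3, a4, z].getD l 1

theorem good {G : Type*} [Group G] {a0 a1 a2 a3 a4 z : G} (H : Rel a0 a1 a2 a3 a4 z) : Good (ev a0 a1 a2 a3 a4 z) 1694364648734976 := by
  have i_a0 : a0⁻¹ = a0 := inv_eq_of_mul_eq_one_right H.s0
  have i_a1 : a1⁻¹ = a1 := inv_eq_of_mul_eq_one_right H.s1
  have i_a2 : a2⁻¹ = a2 := inv_eq_of_mul_eq_one_right H.s2
  have i_a3 : a3⁻¹ = a3 := inv_eq_of_mul_eq_one_right H.s3
  have i_a4 : a4⁻¹ = a4 := inv_eq_of_mul_eq_one_right H.s4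
  have i_z : z⁻¹ = z := inv_eq_of_mul_eq_one_right H.sz
  refine good_list (n := 7) rfl (by norm_num) rfl fun l hl => ?_
  interval_cases l
  · exact inv_one.symm
  · exact i_a0.symm
  · exact i_a1.symm
  · exact i_a2.symm
  · exact i_a3.symm
  · exact i_a4.symm
  · exact i_z.symm

theorem rels {G : Type*} [Group G] {a0 a1 a2 a3 a4 z : G} (H : Rel a0 a1 a2 a3 a4 z) : Rels (ev a0 a1 a2 a3 a4 z) R := by
  have i_a0 : a0⁻¹ = a0 := inv_eq_of_mul_eq_one_right H.s0
  have i_a1 : a1⁻¹ = a1 := inv_eq_of_mul_eq_one_right H.s1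
  have i_a2 : a2⁻¹ = a2 := inv_eq_of_mul_eq_one_right H.s2
  have i_a3 : a3⁻¹ = a3 := inv_eq_of_mul_eq_one_right H.s3
  have i_a4 : a4⁻¹ = a4 := inv_eq_of_mul_eq_one_right H.s4
  have i_z : z⁻¹ = z := inv_eq_of_mul_eq_one_right H.sz
  unfold R
  refine Rels.cons ?_ ?_
  · show a0 * (a0 * 1) = 1
    simpa only [mul_inv_rev, inv_inv, mul_assoc, mul_one, one_mul, inv_one, pow_succ, pow_zero, i_a0, i_a1, i_a2, i_a3, i_a4, i_z] using mul_inv_eq_one.mpr H.s0
  refine Rels.cons ?_ ?_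
  · show a1 * (a1 * 1) = 1
    simpa only [mul_inv_rev, inv_inv, mul_assoc, mul_one, one_mul, inv_one, pow_succ, pow_zero, i_a0, i_a1, i_a2, i_a3, i_a4, i_z] using mul_inv_eq_one.mpr H.s1
  refine Rels.cons ?_ ?_
  · show a2 * (a2 * 1) = 1
    simpa only [mul_inv_rev, inv_inv, mul_assoc, mul_one, one_mul, inv_one, pow_succ, pow_zero, i_a0, i_a1, i_a2, i_a3, i_a4, i_z] using mul_inv_eq_one.mpr H.s2
  refine Rels.cons ?_ ?_
  · show a3 * (a3 * 1) = 1
    simpa only [mul_inv_rev, inv_inv, mul_assoc, mul_one, one_mul, inv_one, pow_succ, pow_zero, i_a0, i_a1, i_a2, i_a3, i_a4, i_z] using mul_inv_eq_one.mpr H.s3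
  refine Rels.cons ?_ ?_
  · show a4 * (a4 * 1) = 1
    simpa only [mul_inv_rev, inv_inv, mul_assoc, mul_one, one_mul, inv_one, pow_succ, pow_zero, i_a0, i_a1, i_a2, i_a3, i_a4, i_z] using mul_inv_eq_one.mpr H.s4
  refine Rels.cons ?_ ?_
  · show z * (z * 1) = 1
    simpa only [mul_inv_rev, inv_inv, mul_assoc, mul_one, one_mul, inv_one, pow_succ, pow_zero, i_a0, i_a1, i_a2, i_a3, i_a4, i_z] using mul_inv_eq_one.mpr H.sz
  refine Rels.cons ?_ ?_
  · show a1 * (a0 * (a1 * (a0 * (z * 1)))) = 1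
    simpa only [mul_inv_rev, inv_inv, mul_assoc, mul_one, one_mul, inv_one, pow_succ, pow_zero, i_a0, i_a1, i_a2, i_a3, i_a4, i_z] using mul_inv_eq_one.mpr H.c01
  refine Rels.cons ?_ ?_
  · show a2 * (a0 * (a2 * (a0 * (z * 1)))) = 1
    simpa only [mul_inv_rev, inv_inv, mul_assoc, mul_one, one_mul, inv_one, pow_succ, pow_zero, i_a0, i_a1, i_a2, i_a3, i_a4, i_z] using mul_inv_eq_one.mpr H.c02
  refine Rels.cons ?_ ?_
  · show a3 * (a0 * (a3 * (a0 * (z * 1)))) = 1
    simpa only [mul_inv_rev, inv_inv, mul_assoc, mul_one, one_mul, inv_one, pow_succ, pow_zero, i_a0, i_a1, i_a2, i_a3, i_a4, i_z] using mul_inv_eq_one.mpr H.c03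
  refine Rels.cons ?_ ?_
  · show a4 * (a0 * (a4 * (a0 * (z * 1)))) = 1
    simpa only [mul_inv_rev, inv_inv, mul_assoc, mul_one, one_mul, inv_one, pow_succ, pow_zero, i_a0, i_a1, i_a2, i_a3, i_a4, i_z] using mul_inv_eq_one.mpr H.c04
  refine Rels.cons ?_ ?_
  · show a2 * (a1 * (a2 * (a1 * (z * 1)))) = 1
    simpa only [mul_inv_rev, inv_inv, mul_assoc, mul_one, one_mul, inv_one, pow_succ, pow_zero, i_a0, i_a1, i_a2, i_a3, i_a4, i_z] using mul_inv_eq_one.mpr H.c12
  refine Rels.cons ?_ ?_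
  · show a3 * (a1 * (a3 * (a1 * (z * 1)))) = 1
    simpa only [mul_inv_rev, inv_inv, mul_assoc, mul_one, one_mul, inv_one, pow_succ, pow_zero, i_a0, i_a1, i_a2, i_a3, i_a4, i_z] using mul_inv_eq_one.mpr H.c13
  refine Rels.cons ?_ ?_
  · show a4 * (a1 * (a4 * (a1 * (z * 1)))) = 1
    simpa only [mul_inv_rev, inv_inv, mul_assoc, mul_one, one_mul, inv_one, pow_succ, pow_zero, i_a0, i_a1, i_a2, i_a3, i_a4, i_z] using mul_inv_eq_one.mpr H.c14
  refine Rels.cons ?_ ?_
  · show a3 * (a2 * (a3 * (a2 * (z * 1)))) = 1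
    simpa only [mul_inv_rev, inv_inv, mul_assoc, mul_one, one_mul, inv_one, pow_succ, pow_zero, i_a0, i_a1, i_a2, i_a3, i_a4, i_z] using mul_inv_eq_one.mpr H.c23
  refine Rels.cons ?_ ?_
  · show a4 * (a2 * (a4 * (a2 * (z * 1)))) = 1
    simpa only [mul_inv_rev, inv_inv, mul_assoc, mul_one, one_mul, inv_one, pow_succ, pow_zero, i_a0, i_a1, i_a2, i_a3, i_a4, i_z] using mul_inv_eq_one.mpr H.c24
  refine Rels.cons ?_ ?_
  · show a4 * (a3 * (a4 * (a3 * (z * 1)))) = 1
    simpa only [mul_inv_rev, inv_inv, mul_assoc, mul_one, one_mul, inv_one, pow_succ, pow_zero, i_a0, i_a1, i_a2, i_a3, i_a4, i_z] using mul_inv_eq_one.mpr H.c34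
  refine Rels.cons ?_ ?_
  · show z * (a0 * (z * (a0 * 1))) = 1
    simpa only [mul_inv_rev, inv_inv, mul_assoc, mul_one, one_mul, inv_one, pow_succ, pow_zero, i_a0, i_a1, i_a2, i_a3, i_a4, i_z] using mul_inv_eq_one.mpr H.z0
  refine Rels.cons ?_ ?_
  · show z * (a1 * (z * (a1 * 1))) = 1
    simpa only [mul_inv_rev, inv_inv, mul_assoc, mul_one, one_mul, inv_one, pow_succ, pow_zero, i_a0, i_a1, i_a2, i_a3, i_a4, i_z] using mul_inv_eq_one.mpr H.z1
  refine Rels.cons ?_ ?_
  · show z * (a2 * (z * (a2 * 1))) = 1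
    simpa only [mul_inv_rev, inv_inv, mul_assoc, mul_one, one_mul, inv_one, pow_succ, pow_zero, i_a0, i_a1, i_a2, i_a3, i_a4, i_z] using mul_inv_eq_one.mpr H.z2
  refine Rels.cons ?_ ?_
  · show z * (a3 * (z * (a3 * 1))) = 1
    simpa only [mul_inv_rev, inv_inv, mul_assoc, mul_one, one_mul, inv_one, pow_succ, pow_zero, i_a0, i_a1, i_a2, i_a3, i_a4, i_z] using mul_inv_eq_one.mpr H.z3
  refine Rels.cons ?_ ?_
  · show z * (a4 * (z * (a4 * 1))) = 1
    simpa only [mul_inv_rev, inv_inv, mul_assoc, mul_one, one_mul, inv_one, pow_succ, pow_zero, i_a0, i_a1, i_a2, i_a3, i_a4, i_z] using mul_inv_eq_one.mpr H.z4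
  refine Rels.cons ?_ ?_
  · show a0 * (a1 * (a2 * (a3 * (a4 * (z * 1))))) = 1
    simpa only [mul_inv_rev, inv_inv, mul_assoc, mul_one, one_mul, inv_one, pow_succ, pow_zero, i_a0, i_a1, i_a2, i_a3, i_a4, i_z] using mul_inv_eq_one.mpr H.pr
  intro r hr
  exact absurd hr List.not_mem_nil

/-- The relations hold for the letters of any assignment satisfying the relators. -/
theorem rel_of {G : Type*} [Group G] {e : ℕ → G} (hg : Good e 1694364648734976) (hR : Rels e R) :
    Rel (e 1) (e 2) (e 3) (e 4) (e 5) (e 6) := by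
  have j1 : (e 1)⁻¹ = e 1 := (hg.inv 1).symm
  have j2 : (e 2)⁻¹ = e 2 := (hg.inv 2).symm
  have j3 : (e 3)⁻¹ = e 3 := (hg.inv 3).symm
  have j4 : (e 4)⁻¹ = e 4 := (hg.inv 4).symm
  have j5 : (e 5)⁻¹ = e 5 := (hg.inv 5).symm
  have j6 : (e 6)⁻¹ = e 6 := (hg.inv 6).symm
  have r0 : e 1 * (e 1 * 1) = 1 := hR [1, 1] (List.mem_of_elem_eq_true (by decide))
  have r1 : e 2 * (e 2 * 1) = 1 := hR [2, 2] (List.mem_of_elem_eq_true (by decide))
  have r2 : e 3 * (e 3 * 1) = 1 := hR [3, 3] (List.mem_of_elem_eq_true (by decide))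
  have r3 : e 4 * (e 4 * 1) = 1 := hR [4, 4] (List.mem_of_elem_eq_true (by decide))
  have r4 : e 5 * (e 5 * 1) = 1 := hR [5, 5] (List.mem_of_elem_eq_true (by decide))
  have r5 : e 6 * (e 6 * 1) = 1 := hR [6, 6] (List.mem_of_elem_eq_true (by decide))
  have r6 : e 2 * (e 1 * (e 2 * (e 1 * (e 6 * 1)))) = 1 := hR [2, 1, 2, 1, 6] (List.mem_of_elem_eq_true (by decide))
  have r7 : e 3 * (e 1 * (e 3 * (e 1 * (e 6 * 1)))) = 1 := hR [3, 1, 3, 1, 6] (List.mem_of_elem_eq_true (by decide))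
  have r8 : e 4 * (e 1 * (e 4 * (e 1 * (e 6 * 1)))) = 1 := hR [4, 1, 4, 1, 6] (List.mem_of_elem_eq_true (by decide))
  have r9 : e 5 * (e 1 * (e 5 * (e 1 * (e 6 * 1)))) = 1 := hR [5, 1, 5, 1, 6] (List.mem_of_elem_eq_true (by decide))
  have r10 : e 3 * (e 2 * (e 3 * (e 2 * (e 6 * 1)))) = 1 := hR [3, 2, 3, 2, 6] (List.mem_of_elem_eq_true (by decide))
  have r11 : e 4 * (e 2 * (e 4 * (e 2 * (e 6 * 1)))) = 1 := hR [4, 2, 4, 2, 6] (List.mem_of_elem_eq_true (by decide))
  have r12 : e 5 * (e 2 * (e 5 * (e 2 * (e 6 * 1)))) = 1 := hR [5, 2, 5, 2, 6] (List.mem_of_elem_eq_true (by decide))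
  have r13 : e 4 * (e 3 * (e 4 * (e 3 * (e 6 * 1)))) = 1 := hR [4, 3, 4, 3, 6] (List.mem_of_elem_eq_true (by decide))
  have r14 : e 5 * (e 3 * (e 5 * (e 3 * (e 6 * 1)))) = 1 := hR [5, 3, 5, 3, 6] (List.mem_of_elem_eq_true (by decide))
  have r15 : e 5 * (e 4 * (e 5 * (e 4 * (e 6 * 1)))) = 1 := hR [5, 4, 5, 4, 6] (List.mem_of_elem_eq_true (by decide))
  have r16 : e 6 * (e 1 * (e 6 * (e 1 * 1))) = 1 := hR [6, 1, 6, 1] (List.mem_of_elem_eq_true (by decide))
  have r17 : e 6 * (e 2 * (e 6 * (e 2 * 1))) = 1 := hR [6, 2, 6, 2] (List.mem_of_elem_eq_true (by decide))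
  have r18 : e 6 * (e 3 * (e 6 * (e 3 * 1))) = 1 := hR [6, 3, 6, 3] (List.mem_of_elem_eq_true (by decide))
  have r19 : e 6 * (e 4 * (e 6 * (e 4 * 1))) = 1 := hR [6, 4, 6, 4] (List.mem_of_elem_eq_true (by decide))
  have r20 : e 6 * (e 5 * (e 6 * (e 5 * 1))) = 1 := hR [6, 5, 6, 5] (List.mem_of_elem_eq_true (by decide))
  have r21 : e 1 * (e 2 * (e 3 * (e 4 * (e 5 * (e 6 * 1))))) = 1 := hR [1, 2, 3, 4, 5, 6] (List.mem_of_elem_eq_true (by decide))
  exact ⟨mul_inv_eq_one.mp (by simpa only [mul_inv_rev, mul_assoc, mul_one, one_mul, inv_one, pow_succ, pow_zero, j1, j2, j3, j4, j5, j6] using r0),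
    mul_inv_eq_one.mp (by simpa only [mul_inv_rev, mul_assoc, mul_one, one_mul, inv_one, pow_succ, pow_zero, j1, j2, j3, j4, j5, j6] using r1),
    mul_inv_eq_one.mp (by simpa only [mul_inv_rev, mul_assoc, mul_one, one_mul, inv_one, pow_succ, pow_zero, j1, j2, j3, j4, j5, j6] using r2),
    mul_inv_eq_one.mp (by simpa only [mul_inv_rev, mul_assoc, mul_one, one_mul, inv_one, pow_succ, pow_zero, j1, j2, j3, j4, j5, j6] using r3),
    mul_inv_eq_one.mp (by simpa only [mul_inv_rev, mul_assoc, mul_one, one_mul, inv_one, pow_succ, pow_zero, j1, j2, j3, j4, j5, j6] using r4),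
    mul_inv_eq_one.mp (by simpa only [mul_inv_rev, mul_assoc, mul_one, one_mul, inv_one, pow_succ, pow_zero, j1, j2, j3, j4, j5, j6] using r5),
    mul_inv_eq_one.mp (by simpa only [mul_inv_rev, mul_assoc, mul_one, one_mul, inv_one, pow_succ, pow_zero, j1, j2, j3, j4, j5, j6] using r6),
    mul_inv_eq_one.mp (by simpa only [mul_inv_rev, mul_assoc, mul_one, one_mul, inv_one, pow_succ, pow_zero, j1, j2, j3, j4, j5, j6] using r7),
    mul_inv_eq_one.mp (by simpa only [mul_inv_rev, mul_assoc, mul_one, one_mul, inv_one, pow_succ, pow_zero, j1, j2, j3, j4, j5, j6] using r8),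
    mul_inv_eq_one.mp (by simpa only [mul_inv_rev, mul_assoc, mul_one, one_mul, inv_one, pow_succ, pow_zero, j1, j2, j3, j4, j5, j6] using r9),
    mul_inv_eq_one.mp (by simpa only [mul_inv_rev, mul_assoc, mul_one, one_mul, inv_one, pow_succ, pow_zero, j1, j2, j3, j4, j5, j6] using r10),
    mul_inv_eq_one.mp (by simpa only [mul_inv_rev, mul_assoc, mul_one, one_mul, inv_one, pow_succ, pow_zero, j1, j2, j3, j4, j5, j6] using r11),
    mul_inv_eq_one.mp (by simpa only [mul_inv_rev, mul_assoc, mul_one, one_mul, inv_one, pow_succ, pow_zero, j1, j2, j3, j4, j5, j6] using r12),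
    mul_inv_eq_one.mp (by simpa only [mul_inv_rev, mul_assoc, mul_one, one_mul, inv_one, pow_succ, pow_zero, j1, j2, j3, j4, j5, j6] using r13),
    mul_inv_eq_one.mp (by simpa only [mul_inv_rev, mul_assoc, mul_one, one_mul, inv_one, pow_succ, pow_zero, j1, j2, j3, j4, j5, j6] using r14),
    mul_inv_eq_one.mp (by simpa only [mul_inv_rev, mul_assoc, mul_one, one_mul, inv_one, pow_succ, pow_zero, j1, j2, j3, j4, j5, j6] using r15),
    mul_inv_eq_one.mp (by simpa only [mul_inv_rev, mul_assoc, mul_one, one_mul, inv_one, pow_succ, pow_zero, j1, j2, j3, j4, j5, j6] using r16),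
    mul_inv_eq_one.mp (by simpa only [mul_inv_rev, mul_assoc, mul_one, one_mul, inv_one, pow_succ, pow_zero, j1, j2, j3, j4, j5, j6] using r17),
    mul_inv_eq_one.mp (by simpa only [mul_inv_rev, mul_assoc, mul_one, one_mul, inv_one, pow_succ, pow_zero, j1, j2, j3, j4, j5, j6] using r18),
    mul_inv_eq_one.mp (by simpa only [mul_inv_rev, mul_assoc, mul_one, one_mul, inv_one, pow_succ, pow_zero, j1, j2, j3, j4, j5, j6] using r19),
    mul_inv_eq_one.mp (by simpa only [mul_inv_rev, mul_assoc, mul_one, one_mul, inv_one, pow_succ, pow_zero, j1, j2, j3, j4, j5, j6] using r20),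
    mul_inv_eq_one.mp (by simpa only [mul_inv_rev, mul_assoc, mul_one, one_mul, inv_one, pow_succ, pow_zero, j1, j2, j3, j4, j5, j6] using r21)⟩

theorem gen_top : gen (pgEv 1694364648734976 R) [[1], [2], [3], [4], [5], [6]] = ⊤ := pg_gen (n := 7) (by norm_num) (by decide)
namespace c

noncomputable def get (y : ℕ) : ℕ := (sel (nat_lit 1) y (nat_lit 0x0) (nat_lit 0x80000000000000700000000000006000000000009060000090000000000000a0000000000000000000a010000020000090100000900000203000003000006030000060000030500000700000a0500000a0000070600000900000a0600000a000009050000080000090500000900000806000007000008060000080000070400000600000704000007000006060000050000060600000600000503000004000005030000050000040600000300000406000004000003020000020000030200000300000206000001000002060000020000010100000000000101000001000000))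
noncomputable def gs (y : ℕ) : ℕ := (sel (nat_lit 2) y (sel (nat_lit 1) y (nat_lit 0x0) (nat_lit 0x0)) (sel (nat_lit 3) y (nat_lit 0x0) (sel (nat_lit 4) y (nat_lit 0x0) (nat_lit 0x80000078000007800000780000078000007800000780000078000007800000780000078000007800000780000078000007800000780000078000006000021d0000210000020e000020c000020a0000208000020600002040000202000020080000050000213000021b80000040000201000020300002190000213800000300002130000214000020c000021600002048000002000020a00002080000206800000100002120000210000020e8000000800000080000008000000800000080000008000000800000080000008000000))))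
noncomputable def gd (y : ℕ) : ℕ := (nat_lit 0x2120000210000020e000020c000020a000020800002060000204000020200002000000000)
noncomputable def gwh (y : ℕ) : ℕ := (sel (nat_lit 3) y (sel (nat_lit 1) y (nat_lit 0x6050605000002002000) (sel (nat_lit 2) y (nat_lit 0x6030603000002002001) (nat_lit 0x20304050601000001005002))) (sel (nat_lit 4) y (nat_lit 0x601060100001000004003) (sel (nat_lit 5) y (nat_lit 0x606000000002004) (nat_lit 0x10602060306040605060800000000b005))))
def sg : List (List ℕ) := [[], [1], [2], [3], [4], [5], [6], [1, 6, 2, 6, 3, 6, 4, 6, 5, 6], [6, 5, 6, 4, 6, 3, 6, 2, 6, 1]]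
def BL : List ℕ := [0x6050605, 0x6030603, 0x10203040506, 0x6010601, 0x606, 0x106020603060406050608]
def Sub : List (List ℕ) := []
theorem hA : prepA 1694364648734976 PM3.R sg 129705363632919019776 BL Sub get gd = true := by decide +kernel
theorem hw : allR (okW BL gwh) 0 6 = true := by decide +kernel
theorem b0 : allR (blk get gs (gwB gwh 6) gd 129705363632919019776) 4 1 = true := by decide +kernel
theorem hb : ∀ b, 4 ≤ b → b < 5 → blk get gs (gwB gwh 6) gd 129705363632919019776 b = true :=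
  (allR_range b0 (by norm_num : 4 + 1 = 5))
def TL : List (ℕ × List ℕ) := [(286, [1, 6, 2, 6, 3, 6, 4, 6, 5, 6])]
theorem hM : prepM sg get 5 TL = true := by decide +kernel
theorem mem {G : Type*} [Group G] {ev : ℕ → G} (hev : Good ev 1694364648734976) (hR : Rels ev PM3.R) :
    ∀ w ∈ TL.map Prod.snd, evL ev w ∈ gen ev Sub :=
  cert_mem hev hR hA hM hw hb

end c

theorem shift {G : Type*} [Group G] {a0 a1 a2 a3 a4 z : G} (H : Rel a0 a1 a2 a3 a4 z) : a0 * z * (a1 * z) * (a2 * z) * (a3 * z) * (a4 * z) = 1 := by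
  have i_a0 : a0⁻¹ = a0 := inv_eq_of_mul_eq_one_right H.s0
  have i_a1 : a1⁻¹ = a1 := inv_eq_of_mul_eq_one_right H.s1
  have i_a2 : a2⁻¹ = a2 := inv_eq_of_mul_eq_one_right H.s2
  have i_a3 : a3⁻¹ = a3 := inv_eq_of_mul_eq_one_right H.s3
  have i_a4 : a4⁻¹ = a4 := inv_eq_of_mul_eq_one_right H.s4
  have i_z : z⁻¹ = z := inv_eq_of_mul_eq_one_right H.sz
  have h : a0 * (z * (a1 * (z * (a2 * (z * (a3 * (z * (a4 * (z * 1))))))))) = 1 := rels_of_mem_nil (c.mem (good H) (rels H)) [1, 6, 2, 6, 3, 6, 4, 6, 5, 6] (List.mem_of_elem_eq_true (by decide))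
  exact mul_inv_eq_one.mp (by simpa only [mul_inv_rev, inv_inv, mul_assoc, mul_one, one_mul, inv_one, pow_succ, pow_zero, i_a0, i_a1, i_a2, i_a3, i_a4, i_z] using h)

end PM3

end Cfsg.H5
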