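import Cfsg.Agent.H5.Model3

/-!
Certificates for presentations, checked by evaluation.
-/

set_option autoImplicit false
set_option maxRecDepth 100000
set_option linter.unusedSimpArgs false
set_option linter.unusedVariables false

namespace Cfsg.H5

open Cfsg.H6

namespace PN

structure Rel {G : Type*} [Group G] (a b z w t : G) : Prop where
  aa : a * a = 1
  bb : b * b = 1
  zz : z * z = 1
  ww : w * w = 1
  t3 : t ^ 3 = 1
  tw : (t * w) ^ 3 = 1
  za : z * a = a * z
  zb : z * b = b * z
  zw : z * w = w * z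
  zt : z * t = t * z
  ab : (a * b) ^ 2 = z
  ta : t * a = a * t
  tb : t * b = b * t
  wa : w * a = a * w
  bw : (b * w) ^ 4 = z
  pr : a * (w * b * w) * b * (t⁻¹ * w * b * w * t) * (t * w * b * w * t⁻¹) = 1

def R : List (List ℕ) := [[1, 1], [2, 2], [3, 3], [4, 4], [5, 5, 5], [5, 4, 5, 4, 5, 4], [3, 1, 3, 1], [3, 2, 3, 2], [3, 4, 3, 4], [3, 5, 3, 6], [1, 2, 1, 2, 3], [5, 1, 6, 1], [5, 2, 6, 2], [4, 1, 4, 1], [2, 4, 2, 4, 2, 4, 2, 4, 3], [1, 4, 2, 4, 2, 6, 4, 2, 4, 5, 5, 4, 2, 4, 6]]

def ev {G : Type*} [Group G] (a b z w t : G) (l : ℕ) : G := [1, a, b, z, w, t, t⁻¹].getD l 1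

theorem good {G : Type*} [Group G] {a b z w t : G} (H : Rel a b z w t) : Good (ev a b z w t) 1413989183652096 := by
  have i_a : a⁻¹ = a := inv_eq_of_mul_eq_one_right H.aa
  have i_b : b⁻¹ = b := inv_eq_of_mul_eq_one_right H.bb
  have i_z : z⁻¹ = z := inv_eq_of_mul_eq_one_right H.zz
  have i_w : w⁻¹ = w := inv_eq_of_mul_eq_one_right H.ww
  refine good_list (n := 7) rfl (by norm_num) rfl fun l hl => ?_
  interval_cases l
  · exact inv_one.symm
  · exact i_a.symm
  · exact i_b.symm
  · exact i_z.symm
  · exact i_w.symm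
  · rfl
  · exact (inv_inv _).symm

theorem rels {G : Type*} [Group G] {a b z w t : G} (H : Rel a b z w t) : Rels (ev a b z w t) R := by
  have i_a : a⁻¹ = a := inv_eq_of_mul_eq_one_right H.aa
  have i_b : b⁻¹ = b := inv_eq_of_mul_eq_one_right H.bb
  have i_z : z⁻¹ = z := inv_eq_of_mul_eq_one_right H.zz
  have i_w : w⁻¹ = w := inv_eq_of_mul_eq_one_right H.ww
  unfold R
  refine Rels.cons ?_ ?_
  · show a * (a * 1) = 1
    simpa only [mul_inv_rev, inv_inv, mul_assoc, mul_one, one_mul, inv_one, pow_succ, pow_zero, i_a, i_b, i_z, i_w] using mul_inv_eq_one.mpr H.aa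
  refine Rels.cons ?_ ?_
  · show b * (b * 1) = 1
    simpa only [mul_inv_rev, inv_inv, mul_assoc, mul_one, one_mul, inv_one, pow_succ, pow_zero, i_a, i_b, i_z, i_w] using mul_inv_eq_one.mpr H.bb
  refine Rels.cons ?_ ?_
  · show z * (z * 1) = 1
    simpa only [mul_inv_rev, inv_inv, mul_assoc, mul_one, one_mul, inv_one, pow_succ, pow_zero, i_a, i_b, i_z, i_w] using mul_inv_eq_one.mpr H.zz
  refine Rels.cons ?_ ?_
  · show w * (w * 1) = 1
    simpa only [mul_inv_rev, inv_inv, mul_assoc, mul_one, one_mul, inv_one, pow_succ, pow_zero, i_a, i_b, i_z, i_w] using mul_inv_eq_one.mpr H.ww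
  refine Rels.cons ?_ ?_
  · show t * (t * (t * 1)) = 1
    simpa only [mul_inv_rev, inv_inv, mul_assoc, mul_one, one_mul, inv_one, pow_succ, pow_zero, i_a, i_b, i_z, i_w] using mul_inv_eq_one.mpr H.t3
  refine Rels.cons ?_ ?_
  · show t * (w * (t * (w * (t * (w * 1))))) = 1
    simpa only [mul_inv_rev, inv_inv, mul_assoc, mul_one, one_mul, inv_one, pow_succ, pow_zero, i_a, i_b, i_z, i_w] using mul_inv_eq_one.mpr H.tw
  refine Rels.cons ?_ ?_
  · show z * (a * (z * (a * 1))) = 1
    simpa only [mul_inv_rev, inv_inv, mul_assoc, mul_one, one_mul, inv_one, pow_succ, pow_zero, i_a, i_b, i_z, i_w] using mul_inv_eq_one.mpr H.za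
  refine Rels.cons ?_ ?_
  · show z * (b * (z * (b * 1))) = 1
    simpa only [mul_inv_rev, inv_inv, mul_assoc, mul_one, one_mul, inv_one, pow_succ, pow_zero, i_a, i_b, i_z, i_w] using mul_inv_eq_one.mpr H.zb
  refine Rels.cons ?_ ?_
  · show z * (w * (z * (w * 1))) = 1
    simpa only [mul_inv_rev, inv_inv, mul_assoc, mul_one, one_mul, inv_one, pow_succ, pow_zero, i_a, i_b, i_z, i_w] using mul_inv_eq_one.mpr H.zw
  refine Rels.cons ?_ ?_
  · show z * (t * (z * (t⁻¹ * 1))) = 1
    simpa only [mul_inv_rev, inv_inv, mul_assoc, mul_one, one_mul, inv_one, pow_succ, pow_zero, i_a, i_b, i_z, i_w] using mul_inv_eq_one.mpr H.zt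
  refine Rels.cons ?_ ?_
  · show a * (b * (a * (b * (z * 1)))) = 1
    simpa only [mul_inv_rev, inv_inv, mul_assoc, mul_one, one_mul, inv_one, pow_succ, pow_zero, i_a, i_b, i_z, i_w] using mul_inv_eq_one.mpr H.ab
  refine Rels.cons ?_ ?_
  · show t * (a * (t⁻¹ * (a * 1))) = 1
    simpa only [mul_inv_rev, inv_inv, mul_assoc, mul_one, one_mul, inv_one, pow_succ, pow_zero, i_a, i_b, i_z, i_w] using mul_inv_eq_one.mpr H.ta
  refine Rels.cons ?_ ?_
  · show t * (b * (t⁻¹ * (b * 1))) = 1
    simpa only [mul_inv_rev, inv_inv, mul_assoc, mul_one, one_mul, inv_one, pow_succ, pow_zero, i_a, i_b, i_z, i_w] using mul_inv_eq_one.mpr H.tb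
  refine Rels.cons ?_ ?_
  · show w * (a * (w * (a * 1))) = 1
    simpa only [mul_inv_rev, inv_inv, mul_assoc, mul_one, one_mul, inv_one, pow_succ, pow_zero, i_a, i_b, i_z, i_w] using mul_inv_eq_one.mpr H.wa
  refine Rels.cons ?_ ?_
  · show b * (w * (b * (w * (b * (w * (b * (w * (z * 1)))))))) = 1
    simpa only [mul_inv_rev, inv_inv, mul_assoc, mul_one, one_mul, inv_one, pow_succ, pow_zero, i_a, i_b, i_z, i_w] using mul_inv_eq_one.mpr H.bw
  refine Rels.cons ?_ ?_
  · show a * (w * (b * (w * (b * (t⁻¹ * (w * (b * (w * (t * (t * (w * (b * (w * (t⁻¹ * 1)))))))))))))) = 1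
    simpa only [mul_inv_rev, inv_inv, mul_assoc, mul_one, one_mul, inv_one, pow_succ, pow_zero, i_a, i_b, i_z, i_w] using mul_inv_eq_one.mpr H.pr
  intro r hr
  exact absurd hr List.not_mem_nil

/-- The relations hold for the letters of any assignment satisfying the relators. -/
theorem rel_of {G : Type*} [Group G] {e : ℕ → G} (hg : Good e 1413989183652096) (hR : Rels e R) :
    Rel (e 1) (e 2) (e 3) (e 4) (e 5) := by
  have j1 : (e 1)⁻¹ = e 1 := (hg.inv 1).symm
  have j2 : (e 2)⁻¹ = e 2 := (hg.inv 2).symm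
  have j3 : (e 3)⁻¹ = e 3 := (hg.inv 3).symm
  have j4 : (e 4)⁻¹ = e 4 := (hg.inv 4).symm
  have j5 : (e 5)⁻¹ = e 6 := (hg.inv 5).symm
  have j6 : (e 6)⁻¹ = e 5 := (hg.inv 6).symm
  have r0 : e 1 * (e 1 * 1) = 1 := hR [1, 1] (List.mem_of_elem_eq_true (by decide))
  have r1 : e 2 * (e 2 * 1) = 1 := hR [2, 2] (List.mem_of_elem_eq_true (by decide))
  have r2 : e 3 * (e 3 * 1) = 1 := hR [3, 3] (List.mem_of_elem_eq_true (by decide))
  have r3 : e 4 * (e 4 * 1) = 1 := hR [4, 4] (List.mem_of_elem_eq_true (by decide))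
  have r4 : e 5 * (e 5 * (e 5 * 1)) = 1 := hR [5, 5, 5] (List.mem_of_elem_eq_true (by decide))
  have r5 : e 5 * (e 4 * (e 5 * (e 4 * (e 5 * (e 4 * 1))))) = 1 := hR [5, 4, 5, 4, 5, 4] (List.mem_of_elem_eq_true (by decide))
  have r6 : e 3 * (e 1 * (e 3 * (e 1 * 1))) = 1 := hR [3, 1, 3, 1] (List.mem_of_elem_eq_true (by decide))
  have r7 : e 3 * (e 2 * (e 3 * (e 2 * 1))) = 1 := hR [3, 2, 3, 2] (List.mem_of_elem_eq_true (by decide))
  have r8 : e 3 * (e 4 * (e 3 * (e 4 * 1))) = 1 := hR [3, 4, 3, 4] (List.mem_of_elem_eq_true (by decide))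
  have r9 : e 3 * (e 5 * (e 3 * (e 6 * 1))) = 1 := hR [3, 5, 3, 6] (List.mem_of_elem_eq_true (by decide))
  have r10 : e 1 * (e 2 * (e 1 * (e 2 * (e 3 * 1)))) = 1 := hR [1, 2, 1, 2, 3] (List.mem_of_elem_eq_true (by decide))
  have r11 : e 5 * (e 1 * (e 6 * (e 1 * 1))) = 1 := hR [5, 1, 6, 1] (List.mem_of_elem_eq_true (by decide))
  have r12 : e 5 * (e 2 * (e 6 * (e 2 * 1))) = 1 := hR [5, 2, 6, 2] (List.mem_of_elem_eq_true (by decide))
  have r13 : e 4 * (e 1 * (e 4 * (e 1 * 1))) = 1 := hR [4, 1, 4, 1] (List.mem_of_elem_eq_true (by decide))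
  have r14 : e 2 * (e 4 * (e 2 * (e 4 * (e 2 * (e 4 * (e 2 * (e 4 * (e 3 * 1)))))))) = 1 := hR [2, 4, 2, 4, 2, 4, 2, 4, 3] (List.mem_of_elem_eq_true (by decide))
  have r15 : e 1 * (e 4 * (e 2 * (e 4 * (e 2 * (e 6 * (e 4 * (e 2 * (e 4 * (e 5 * (e 5 * (e 4 * (e 2 * (e 4 * (e 6 * 1)))))))))))))) = 1 := hR [1, 4, 2, 4, 2, 6, 4, 2, 4, 5, 5, 4, 2, 4, 6] (List.mem_of_elem_eq_true (by decide))
  exact ⟨mul_inv_eq_one.mp (by simpa only [mul_inv_rev, mul_assoc, mul_one, one_mul, inv_one, pow_succ, pow_zero, j1, j2, j3, j4, j5, j6] using r0),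
    mul_inv_eq_one.mp (by simpa only [mul_inv_rev, mul_assoc, mul_one, one_mul, inv_one, pow_succ, pow_zero, j1, j2, j3, j4, j5, j6] using r1),
    mul_inv_eq_one.mp (by simpa only [mul_inv_rev, mul_assoc, mul_one, one_mul, inv_one, pow_succ, pow_zero, j1, j2, j3, j4, j5, j6] using r2),
    mul_inv_eq_one.mp (by simpa only [mul_inv_rev, mul_assoc, mul_one, one_mul, inv_one, pow_succ, pow_zero, j1, j2, j3, j4, j5, j6] using r3),
    mul_inv_eq_one.mp (by simpa only [mul_inv_rev, mul_assoc, mul_one, one_mul, inv_one, pow_succ, pow_zero, j1, j2, j3, j4, j5, j6] using r4),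
    mul_inv_eq_one.mp (by simpa only [mul_inv_rev, mul_assoc, mul_one, one_mul, inv_one, pow_succ, pow_zero, j1, j2, j3, j4, j5, j6] using r5),
    mul_inv_eq_one.mp (by simpa only [mul_inv_rev, mul_assoc, mul_one, one_mul, inv_one, pow_succ, pow_zero, j1, j2, j3, j4, j5, j6] using r6),
    mul_inv_eq_one.mp (by simpa only [mul_inv_rev, mul_assoc, mul_one, one_mul, inv_one, pow_succ, pow_zero, j1, j2, j3, j4, j5, j6] using r7),
    mul_inv_eq_one.mp (by simpa only [mul_inv_rev, mul_assoc, mul_one, one_mul, inv_one, pow_succ, pow_zero, j1, j2, j3, j4, j5, j6] using r8),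
    mul_inv_eq_one.mp (by simpa only [mul_inv_rev, mul_assoc, mul_one, one_mul, inv_one, pow_succ, pow_zero, j1, j2, j3, j4, j5, j6] using r9),
    mul_inv_eq_one.mp (by simpa only [mul_inv_rev, mul_assoc, mul_one, one_mul, inv_one, pow_succ, pow_zero, j1, j2, j3, j4, j5, j6] using r10),
    mul_inv_eq_one.mp (by simpa only [mul_inv_rev, mul_assoc, mul_one, one_mul, inv_one, pow_succ, pow_zero, j1, j2, j3, j4, j5, j6] using r11),
    mul_inv_eq_one.mp (by simpa only [mul_inv_rev, mul_assoc, mul_one, one_mul, inv_one, pow_succ, pow_zero, j1, j2, j3, j4, j5, j6] using r12),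
    mul_inv_eq_one.mp (by simpa only [mul_inv_rev, mul_assoc, mul_one, one_mul, inv_one, pow_succ, pow_zero, j1, j2, j3, j4, j5, j6] using r13),
    mul_inv_eq_one.mp (by simpa only [mul_inv_rev, mul_assoc, mul_one, one_mul, inv_one, pow_succ, pow_zero, j1, j2, j3, j4, j5, j6] using r14),
    mul_inv_eq_one.mp (by simpa only [mul_inv_rev, mul_assoc, mul_one, one_mul, inv_one, pow_succ, pow_zero, j1, j2, j3, j4, j5, j6] using r15)⟩

theorem Rel.map {G G' : Type*} [Group G] [Group G'] {a b z w t : G} (H : Rel a b z w t) (f : G →* G') :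
    Rel (f a) (f b) (f z) (f w) (f t) :=
  ⟨by simpa only [map_mul, map_inv, map_pow, map_one] using congrArg f H.aa,
    by simpa only [map_mul, map_inv, map_pow, map_one] using congrArg f H.bb,
    by simpa only [map_mul, map_inv, map_pow, map_one] using congrArg f H.zz,
    by simpa only [map_mul, map_inv, map_pow, map_one] using congrArg f H.ww,
    by simpa only [map_mul, map_inv, map_pow, map_one] using congrArg f H.t3,
    by simpa only [map_mul, map_inv, map_pow, map_one] using congrArg f H.tw,
    by simpa only [map_mul, map_inv, map_pow, map_one] using congrArg f H.za,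
    by simpa only [map_mul, map_inv, map_pow, map_one] using congrArg f H.zb,
    by simpa only [map_mul, map_inv, map_pow, map_one] using congrArg f H.zw,
    by simpa only [map_mul, map_inv, map_pow, map_one] using congrArg f H.zt,
    by simpa only [map_mul, map_inv, map_pow, map_one] using congrArg f H.ab,
    by simpa only [map_mul, map_inv, map_pow, map_one] using congrArg f H.ta,
    by simpa only [map_mul, map_inv, map_pow, map_one] using congrArg f H.tb,
    by simpa only [map_mul, map_inv, map_pow, map_one] using congrArg f H.wa,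
    by simpa only [map_mul, map_inv, map_pow, map_one] using congrArg f H.bw,
    by simpa only [map_mul, map_inv, map_pow, map_one] using congrArg f H.pr⟩

theorem gen_top : gen (pgEv 1413989183652096 R) [[1], [2], [3], [4], [5]] = ⊤ := pg_gen (n := 7) (by norm_num) (by decide)
end PN

namespace PC2

structure Rel {G : Type*} [Group G] (a b z w t r : G) : Prop where
  hN : PN.Rel a b z w t
  r5 : r ^ 5 = 1
  rt : (r * t) ^ 2 = 1
  zr : z * r = r * z
  rb : r ^ 2 * a = b * r ^ 2
  rw : w * r = r * r * t

def R : List (List ℕ) := [[1, 1], [2, 2], [3, 3], [4, 4], [5, 5, 5], [5, 4, 5, 4, 5, 4], [3, 1, 3, 1], [3, 2, 3, 2], [3, 4, 3, 4], [3, 5, 3, 6], [1, 2, 1, 2, 3], [5, 1, 6, 1], [5, 2, 6, 2], [4, 1, 4, 1], [2, 4, 2, 4, 2, 4, 2, 4, 3], [1, 4, 2, 4, 2, 6, 4, 2, 4, 5, 5, 4, 2, 4, 6], [7, 7, 7, 7, 7], [7, 5, 7, 5], [3, 7, 3, 8], [7, 7, 1, 8, 8, 2], [4, 7, 6, 8, 8]]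

def ev {G : Type*} [Group G] (a b z w t r : G) (l : ℕ) : G := [1, a, b, z, w, t, t⁻¹, r, r⁻¹].getD l 1

theorem good {G : Type*} [Group G] {a b z w t r : G} (H : Rel a b z w t r) : Good (ev a b z w t r) 129705083257453936896 := by
  have i_a : a⁻¹ = a := inv_eq_of_mul_eq_one_right H.hN.aa
  have i_b : b⁻¹ = b := inv_eq_of_mul_eq_one_right H.hN.bb
  have i_z : z⁻¹ = z := inv_eq_of_mul_eq_one_right H.hN.zz
  have i_w : w⁻¹ = w := inv_eq_of_mul_eq_one_right H.hN.ww
  refine good_list (n := 9) rfl (by norm_num) rfl fun l hl => ?_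
  interval_cases l
  · exact inv_one.symm
  · exact i_a.symm
  · exact i_b.symm
  · exact i_z.symm
  · exact i_w.symm
  · rfl
  · exact (inv_inv _).symm
  · rfl
  · exact (inv_inv _).symm

theorem rels {G : Type*} [Group G] {a b z w t r : G} (H : Rel a b z w t r) : Rels (ev a b z w t r) R := by
  have i_a : a⁻¹ = a := inv_eq_of_mul_eq_one_right H.hN.aa
  have i_b : b⁻¹ = b := inv_eq_of_mul_eq_one_right H.hN.bb
  have i_z : z⁻¹ = z := inv_eq_of_mul_eq_one_right H.hN.zz
  have i_w : w⁻¹ = w := inv_eq_of_mul_eq_one_right H.hN.ww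
  unfold R
  refine Rels.cons ?_ ?_
  · show a * (a * 1) = 1
    simpa only [mul_inv_rev, inv_inv, mul_assoc, mul_one, one_mul, inv_one, pow_succ, pow_zero, i_a, i_b, i_z, i_w] using mul_inv_eq_one.mpr H.hN.aa
  refine Rels.cons ?_ ?_
  · show b * (b * 1) = 1
    simpa only [mul_inv_rev, inv_inv, mul_assoc, mul_one, one_mul, inv_one, pow_succ, pow_zero, i_a, i_b, i_z, i_w] using mul_inv_eq_one.mpr H.hN.bb
  refine Rels.cons ?_ ?_
  · show z * (z * 1) = 1
    simpa only [mul_inv_rev, inv_inv, mul_assoc, mul_one, one_mul, inv_one, pow_succ, pow_zero, i_a, i_b, i_z, i_w] using mul_inv_eq_one.mpr H.hN.zz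
  refine Rels.cons ?_ ?_
  · show w * (w * 1) = 1
    simpa only [mul_inv_rev, inv_inv, mul_assoc, mul_one, one_mul, inv_one, pow_succ, pow_zero, i_a, i_b, i_z, i_w] using mul_inv_eq_one.mpr H.hN.ww
  refine Rels.cons ?_ ?_
  · show t * (t * (t * 1)) = 1
    simpa only [mul_inv_rev, inv_inv, mul_assoc, mul_one, one_mul, inv_one, pow_succ, pow_zero, i_a, i_b, i_z, i_w] using mul_inv_eq_one.mpr H.hN.t3
  refine Rels.cons ?_ ?_
  · show t * (w * (t * (w * (t * (w * 1))))) = 1
    simpa only [mul_inv_rev, inv_inv, mul_assoc, mul_one, one_mul, inv_one, pow_succ, pow_zero, i_a, i_b, i_z, i_w] using mul_inv_eq_one.mpr H.hN.tw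
  refine Rels.cons ?_ ?_
  · show z * (a * (z * (a * 1))) = 1
    simpa only [mul_inv_rev, inv_inv, mul_assoc, mul_one, one_mul, inv_one, pow_succ, pow_zero, i_a, i_b, i_z, i_w] using mul_inv_eq_one.mpr H.hN.za
  refine Rels.cons ?_ ?_
  · show z * (b * (z * (b * 1))) = 1
    simpa only [mul_inv_rev, inv_inv, mul_assoc, mul_one, one_mul, inv_one, pow_succ, pow_zero, i_a, i_b, i_z, i_w] using mul_inv_eq_one.mpr H.hN.zb
  refine Rels.cons ?_ ?_
  · show z * (w * (z * (w * 1))) = 1
    simpa only [mul_inv_rev, inv_inv, mul_assoc, mul_one, one_mul, inv_one, pow_succ, pow_zero, i_a, i_b, i_z, i_w] using mul_inv_eq_one.mpr H.hN.zw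
  refine Rels.cons ?_ ?_
  · show z * (t * (z * (t⁻¹ * 1))) = 1
    simpa only [mul_inv_rev, inv_inv, mul_assoc, mul_one, one_mul, inv_one, pow_succ, pow_zero, i_a, i_b, i_z, i_w] using mul_inv_eq_one.mpr H.hN.zt
  refine Rels.cons ?_ ?_
  · show a * (b * (a * (b * (z * 1)))) = 1
    simpa only [mul_inv_rev, inv_inv, mul_assoc, mul_one, one_mul, inv_one, pow_succ, pow_zero, i_a, i_b, i_z, i_w] using mul_inv_eq_one.mpr H.hN.ab
  refine Rels.cons ?_ ?_
  · show t * (a * (t⁻¹ * (a * 1))) = 1
    simpa only [mul_inv_rev, inv_inv, mul_assoc, mul_one, one_mul, inv_one, pow_succ, pow_zero, i_a, i_b, i_z, i_w] using mul_inv_eq_one.mpr H.hN.ta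
  refine Rels.cons ?_ ?_
  · show t * (b * (t⁻¹ * (b * 1))) = 1
    simpa only [mul_inv_rev, inv_inv, mul_assoc, mul_one, one_mul, inv_one, pow_succ, pow_zero, i_a, i_b, i_z, i_w] using mul_inv_eq_one.mpr H.hN.tb
  refine Rels.cons ?_ ?_
  · show w * (a * (w * (a * 1))) = 1
    simpa only [mul_inv_rev, inv_inv, mul_assoc, mul_one, one_mul, inv_one, pow_succ, pow_zero, i_a, i_b, i_z, i_w] using mul_inv_eq_one.mpr H.hN.wa
  refine Rels.cons ?_ ?_
  · show b * (w * (b * (w * (b * (w * (b * (w * (z * 1)))))))) = 1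
    simpa only [mul_inv_rev, inv_inv, mul_assoc, mul_one, one_mul, inv_one, pow_succ, pow_zero, i_a, i_b, i_z, i_w] using mul_inv_eq_one.mpr H.hN.bw
  refine Rels.cons ?_ ?_
  · show a * (w * (b * (w * (b * (t⁻¹ * (w * (b * (w * (t * (t * (w * (b * (w * (t⁻¹ * 1)))))))))))))) = 1
    simpa only [mul_inv_rev, inv_inv, mul_assoc, mul_one, one_mul, inv_one, pow_succ, pow_zero, i_a, i_b, i_z, i_w] using mul_inv_eq_one.mpr H.hN.pr
  refine Rels.cons ?_ ?_
  · show r * (r * (r * (r * (r * 1)))) = 1
    simpa only [mul_inv_rev, inv_inv, mul_assoc, mul_one, one_mul, inv_one, pow_succ, pow_zero, i_a, i_b, i_z, i_w] using mul_inv_eq_one.mpr H.r5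
  refine Rels.cons ?_ ?_
  · show r * (t * (r * (t * 1))) = 1
    simpa only [mul_inv_rev, inv_inv, mul_assoc, mul_one, one_mul, inv_one, pow_succ, pow_zero, i_a, i_b, i_z, i_w] using mul_inv_eq_one.mpr H.rt
  refine Rels.cons ?_ ?_
  · show z * (r * (z * (r⁻¹ * 1))) = 1
    simpa only [mul_inv_rev, inv_inv, mul_assoc, mul_one, one_mul, inv_one, pow_succ, pow_zero, i_a, i_b, i_z, i_w] using mul_inv_eq_one.mpr H.zr
  refine Rels.cons ?_ ?_
  · show r * (r * (a * (r⁻¹ * (r⁻¹ * (b * 1))))) = 1
    simpa only [mul_inv_rev, inv_inv, mul_assoc, mul_one, one_mul, inv_one, pow_succ, pow_zero, i_a, i_b, i_z, i_w] using mul_inv_eq_one.mpr H.rb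
  refine Rels.cons ?_ ?_
  · show w * (r * (t⁻¹ * (r⁻¹ * (r⁻¹ * 1)))) = 1
    simpa only [mul_inv_rev, inv_inv, mul_assoc, mul_one, one_mul, inv_one, pow_succ, pow_zero, i_a, i_b, i_z, i_w] using mul_inv_eq_one.mpr H.rw
  intro r hr
  exact absurd hr List.not_mem_nil

/-- The relations hold for the letters of any assignment satisfying the relators. -/
theorem rel_of {G : Type*} [Group G] {e : ℕ → G} (hg : Good e 129705083257453936896) (hR : Rels e R) :
    Rel (e 1) (e 2) (e 3) (e 4) (e 5) (e 7) := by
  have j1 : (e 1)⁻¹ = e 1 := (hg.inv 1).symm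
  have j2 : (e 2)⁻¹ = e 2 := (hg.inv 2).symm
  have j3 : (e 3)⁻¹ = e 3 := (hg.inv 3).symm
  have j4 : (e 4)⁻¹ = e 4 := (hg.inv 4).symm
  have j5 : (e 5)⁻¹ = e 6 := (hg.inv 5).symm
  have j6 : (e 6)⁻¹ = e 5 := (hg.inv 6).symm
  have j7 : (e 7)⁻¹ = e 8 := (hg.inv 7).symm
  have j8 : (e 8)⁻¹ = e 7 := (hg.inv 8).symm
  have r0 : e 1 * (e 1 * 1) = 1 := hR [1, 1] (List.mem_of_elem_eq_true (by decide))
  have r1 : e 2 * (e 2 * 1) = 1 := hR [2, 2] (List.mem_of_elem_eq_true (by decide))
  have r2 : e 3 * (e 3 * 1) = 1 := hR [3, 3] (List.mem_of_elem_eq_true (by decide))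
  have r3 : e 4 * (e 4 * 1) = 1 := hR [4, 4] (List.mem_of_elem_eq_true (by decide))
  have r4 : e 5 * (e 5 * (e 5 * 1)) = 1 := hR [5, 5, 5] (List.mem_of_elem_eq_true (by decide))
  have r5 : e 5 * (e 4 * (e 5 * (e 4 * (e 5 * (e 4 * 1))))) = 1 := hR [5, 4, 5, 4, 5, 4] (List.mem_of_elem_eq_true (by decide))
  have r6 : e 3 * (e 1 * (e 3 * (e 1 * 1))) = 1 := hR [3, 1, 3, 1] (List.mem_of_elem_eq_true (by decide))
  have r7 : e 3 * (e 2 * (e 3 * (e 2 * 1))) = 1 := hR [3, 2, 3, 2] (List.mem_of_elem_eq_true (by decide))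
  have r8 : e 3 * (e 4 * (e 3 * (e 4 * 1))) = 1 := hR [3, 4, 3, 4] (List.mem_of_elem_eq_true (by decide))
  have r9 : e 3 * (e 5 * (e 3 * (e 6 * 1))) = 1 := hR [3, 5, 3, 6] (List.mem_of_elem_eq_true (by decide))
  have r10 : e 1 * (e 2 * (e 1 * (e 2 * (e 3 * 1)))) = 1 := hR [1, 2, 1, 2, 3] (List.mem_of_elem_eq_true (by decide))
  have r11 : e 5 * (e 1 * (e 6 * (e 1 * 1))) = 1 := hR [5, 1, 6, 1] (List.mem_of_elem_eq_true (by decide))
  have r12 : e 5 * (e 2 * (e 6 * (e 2 * 1))) = 1 := hR [5, 2, 6, 2] (List.mem_of_elem_eq_true (by decide))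
  have r13 : e 4 * (e 1 * (e 4 * (e 1 * 1))) = 1 := hR [4, 1, 4, 1] (List.mem_of_elem_eq_true (by decide))
  have r14 : e 2 * (e 4 * (e 2 * (e 4 * (e 2 * (e 4 * (e 2 * (e 4 * (e 3 * 1)))))))) = 1 := hR [2, 4, 2, 4, 2, 4, 2, 4, 3] (List.mem_of_elem_eq_true (by decide))
  have r15 : e 1 * (e 4 * (e 2 * (e 4 * (e 2 * (e 6 * (e 4 * (e 2 * (e 4 * (e 5 * (e 5 * (e 4 * (e 2 * (e 4 * (e 6 * 1)))))))))))))) = 1 := hR [1, 4, 2, 4, 2, 6, 4, 2, 4, 5, 5, 4, 2, 4, 6] (List.mem_of_elem_eq_true (by decide))
  have r16 : e 7 * (e 7 * (e 7 * (e 7 * (e 7 * 1)))) = 1 := hR [7, 7, 7, 7, 7] (List.mem_of_elem_eq_true (by decide))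
  have r17 : e 7 * (e 5 * (e 7 * (e 5 * 1))) = 1 := hR [7, 5, 7, 5] (List.mem_of_elem_eq_true (by decide))
  have r18 : e 3 * (e 7 * (e 3 * (e 8 * 1))) = 1 := hR [3, 7, 3, 8] (List.mem_of_elem_eq_true (by decide))
  have r19 : e 7 * (e 7 * (e 1 * (e 8 * (e 8 * (e 2 * 1))))) = 1 := hR [7, 7, 1, 8, 8, 2] (List.mem_of_elem_eq_true (by decide))
  have r20 : e 4 * (e 7 * (e 6 * (e 8 * (e 8 * 1)))) = 1 := hR [4, 7, 6, 8, 8] (List.mem_of_elem_eq_true (by decide))
  exact ⟨⟨mul_inv_eq_one.mp (by simpa only [mul_inv_rev, mul_assoc, mul_one, one_mul, inv_one, pow_succ, pow_zero, j1, j2, j3, j4, j5, j6, j7, j8] using r0),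
    mul_inv_eq_one.mp (by simpa only [mul_inv_rev, mul_assoc, mul_one, one_mul, inv_one, pow_succ, pow_zero, j1, j2, j3, j4, j5, j6, j7, j8] using r1),
    mul_inv_eq_one.mp (by simpa only [mul_inv_rev, mul_assoc, mul_one, one_mul, inv_one, pow_succ, pow_zero, j1, j2, j3, j4, j5, j6, j7, j8] using r2),
    mul_inv_eq_one.mp (by simpa only [mul_inv_rev, mul_assoc, mul_one, one_mul, inv_one, pow_succ, pow_zero, j1, j2, j3, j4, j5, j6, j7, j8] using r3),
    mul_inv_eq_one.mp (by simpa only [mul_inv_rev, mul_assoc, mul_one, one_mul, inv_one, pow_succ, pow_zero, j1, j2, j3, j4, j5, j6, j7, j8] using r4),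
    mul_inv_eq_one.mp (by simpa only [mul_inv_rev, mul_assoc, mul_one, one_mul, inv_one, pow_succ, pow_zero, j1, j2, j3, j4, j5, j6, j7, j8] using r5),
    mul_inv_eq_one.mp (by simpa only [mul_inv_rev, mul_assoc, mul_one, one_mul, inv_one, pow_succ, pow_zero, j1, j2, j3, j4, j5, j6, j7, j8] using r6),
    mul_inv_eq_one.mp (by simpa only [mul_inv_rev, mul_assoc, mul_one, one_mul, inv_one, pow_succ, pow_zero, j1, j2, j3, j4, j5, j6, j7, j8] using r7),
    mul_inv_eq_one.mp (by simpa only [mul_inv_rev, mul_assoc, mul_one, one_mul, inv_one, pow_succ, pow_zero, j1, j2, j3, j4, j5, j6, j7, j8] using r8),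
    mul_inv_eq_one.mp (by simpa only [mul_inv_rev, mul_assoc, mul_one, one_mul, inv_one, pow_succ, pow_zero, j1, j2, j3, j4, j5, j6, j7, j8] using r9),
    mul_inv_eq_one.mp (by simpa only [mul_inv_rev, mul_assoc, mul_one, one_mul, inv_one, pow_succ, pow_zero, j1, j2, j3, j4, j5, j6, j7, j8] using r10),
    mul_inv_eq_one.mp (by simpa only [mul_inv_rev, mul_assoc, mul_one, one_mul, inv_one, pow_succ, pow_zero, j1, j2, j3, j4, j5, j6, j7, j8] using r11),
    mul_inv_eq_one.mp (by simpa only [mul_inv_rev, mul_assoc, mul_one, one_mul, inv_one, pow_succ, pow_zero, j1, j2, j3, j4, j5, j6, j7, j8] using r12),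
    mul_inv_eq_one.mp (by simpa only [mul_inv_rev, mul_assoc, mul_one, one_mul, inv_one, pow_succ, pow_zero, j1, j2, j3, j4, j5, j6, j7, j8] using r13),
    mul_inv_eq_one.mp (by simpa only [mul_inv_rev, mul_assoc, mul_one, one_mul, inv_one, pow_succ, pow_zero, j1, j2, j3, j4, j5, j6, j7, j8] using r14),
    mul_inv_eq_one.mp (by simpa only [mul_inv_rev, mul_assoc, mul_one, one_mul, inv_one, pow_succ, pow_zero, j1, j2, j3, j4, j5, j6, j7, j8] using r15)⟩,
    mul_inv_eq_one.mp (by simpa only [mul_inv_rev, mul_assoc, mul_one, one_mul, inv_one, pow_succ, pow_zero, j1, j2, j3, j4, j5, j6, j7, j8] using r16),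
    mul_inv_eq_one.mp (by simpa only [mul_inv_rev, mul_assoc, mul_one, one_mul, inv_one, pow_succ, pow_zero, j1, j2, j3, j4, j5, j6, j7, j8] using r17),
    mul_inv_eq_one.mp (by simpa only [mul_inv_rev, mul_assoc, mul_one, one_mul, inv_one, pow_succ, pow_zero, j1, j2, j3, j4, j5, j6, j7, j8] using r18),
    mul_inv_eq_one.mp (by simpa only [mul_inv_rev, mul_assoc, mul_one, one_mul, inv_one, pow_succ, pow_zero, j1, j2, j3, j4, j5, j6, j7, j8] using r19),
    mul_inv_eq_one.mp (by simpa only [mul_inv_rev, mul_assoc, mul_one, one_mul, inv_one, pow_succ, pow_zero, j1, j2, j3, j4, j5, j6, j7, j8] using r20)⟩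

theorem Rel.map {G G' : Type*} [Group G] [Group G'] {a b z w t r : G} (H : Rel a b z w t r) (f : G →* G') :
    Rel (f a) (f b) (f z) (f w) (f t) (f r) :=
  ⟨H.hN.map f,
    by simpa only [map_mul, map_inv, map_pow, map_one] using congrArg f H.r5,
    by simpa only [map_mul, map_inv, map_pow, map_one] using congrArg f H.rt,
    by simpa only [map_mul, map_inv, map_pow, map_one] using congrArg f H.zr,
    by simpa only [map_mul, map_inv, map_pow, map_one] using congrArg f H.rb,
    by simpa only [map_mul, map_inv, map_pow, map_one] using congrArg f H.rw⟩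

theorem gen_top : gen (pgEv 129705083257453936896 R) [[1], [2], [3], [4], [5], [7]] = ⊤ := pg_gen (n := 9) (by norm_num) (by decide)
end PC2

namespace PX0

structure Rel {G : Type*} [Group G] (a b z w t x : G) : Prop where
  hN : PN.Rel a b z w t
  x3 : x ^ 3 = 1
  xt : x * t = t * x
  xw : x * w = w * x
  xz : x * z * x⁻¹ = a
  xa : x * a * x⁻¹ = a * z

def R : List (List ℕ) := [[1, 1], [2, 2], [3, 3], [4, 4], [5, 5, 5], [5, 4, 5, 4, 5, 4], [3, 1, 3, 1], [3, 2, 3, 2], [3, 4, 3, 4], [3, 5, 3, 6], [1, 2, 1, 2, 3], [5, 1, 6, 1], [5, 2, 6, 2], [4, 1, 4, 1], [2, 4, 2, 4, 2, 4, 2, 4, 3], [1, 4, 2, 4, 2, 6, 4, 2, 4, 5, 5, 4, 2, 4, 6], [7, 7, 7], [7, 5, 8, 6], [7, 4, 8, 4], [7, 3, 8, 1], [7, 1, 8, 3, 1]]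

def ev {G : Type*} [Group G] (a b z w t x : G) (l : ℕ) : G := [1, a, b, z, w, t, t⁻¹, x, x⁻¹].getD l 1

theorem good {G : Type*} [Group G] {a b z w t x : G} (H : Rel a b z w t x) : Good (ev a b z w t x) 129705083257453936896 := by
  have i_a : a⁻¹ = a := inv_eq_of_mul_eq_one_right H.hN.aa
  have i_b : b⁻¹ = b := inv_eq_of_mul_eq_one_right H.hN.bb
  have i_z : z⁻¹ = z := inv_eq_of_mul_eq_one_right H.hN.zz
  have i_w : w⁻¹ = w := inv_eq_of_mul_eq_one_right H.hN.ww
  refine good_list (n := 9) rfl (by norm_num) rfl fun l hl => ?_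
  interval_cases l
  · exact inv_one.symm
  · exact i_a.symm
  · exact i_b.symm
  · exact i_z.symm
  · exact i_w.symm
  · rfl
  · exact (inv_inv _).symm
  · rfl
  · exact (inv_inv _).symm

theorem rels {G : Type*} [Group G] {a b z w t x : G} (H : Rel a b z w t x) : Rels (ev a b z w t x) R := by
  have i_a : a⁻¹ = a := inv_eq_of_mul_eq_one_right H.hN.aa
  have i_b : b⁻¹ = b := inv_eq_of_mul_eq_one_right H.hN.bb
  have i_z : z⁻¹ = z := inv_eq_of_mul_eq_one_right H.hN.zz
  have i_w : w⁻¹ = w := inv_eq_of_mul_eq_one_right H.hN.ww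
  unfold R
  refine Rels.cons ?_ ?_
  · show a * (a * 1) = 1
    simpa only [mul_inv_rev, inv_inv, mul_assoc, mul_one, one_mul, inv_one, pow_succ, pow_zero, i_a, i_b, i_z, i_w] using mul_inv_eq_one.mpr H.hN.aa
  refine Rels.cons ?_ ?_
  · show b * (b * 1) = 1
    simpa only [mul_inv_rev, inv_inv, mul_assoc, mul_one, one_mul, inv_one, pow_succ, pow_zero, i_a, i_b, i_z, i_w] using mul_inv_eq_one.mpr H.hN.bb
  refine Rels.cons ?_ ?_
  · show z * (z * 1) = 1
    simpa only [mul_inv_rev, inv_inv, mul_assoc, mul_one, one_mul, inv_one, pow_succ, pow_zero, i_a, i_b, i_z, i_w] using mul_inv_eq_one.mpr H.hN.zz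
  refine Rels.cons ?_ ?_
  · show w * (w * 1) = 1
    simpa only [mul_inv_rev, inv_inv, mul_assoc, mul_one, one_mul, inv_one, pow_succ, pow_zero, i_a, i_b, i_z, i_w] using mul_inv_eq_one.mpr H.hN.ww
  refine Rels.cons ?_ ?_
  · show t * (t * (t * 1)) = 1
    simpa only [mul_inv_rev, inv_inv, mul_assoc, mul_one, one_mul, inv_one, pow_succ, pow_zero, i_a, i_b, i_z, i_w] using mul_inv_eq_one.mpr H.hN.t3
  refine Rels.cons ?_ ?_
  · show t * (w * (t * (w * (t * (w * 1))))) = 1
    simpa only [mul_inv_rev, inv_inv, mul_assoc, mul_one, one_mul, inv_one, pow_succ, pow_zero, i_a, i_b, i_z, i_w] using mul_inv_eq_one.mpr H.hN.tw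
  refine Rels.cons ?_ ?_
  · show z * (a * (z * (a * 1))) = 1
    simpa only [mul_inv_rev, inv_inv, mul_assoc, mul_one, one_mul, inv_one, pow_succ, pow_zero, i_a, i_b, i_z, i_w] using mul_inv_eq_one.mpr H.hN.za
  refine Rels.cons ?_ ?_
  · show z * (b * (z * (b * 1))) = 1
    simpa only [mul_inv_rev, inv_inv, mul_assoc, mul_one, one_mul, inv_one, pow_succ, pow_zero, i_a, i_b, i_z, i_w] using mul_inv_eq_one.mpr H.hN.zb
  refine Rels.cons ?_ ?_
  · show z * (w * (z * (w * 1))) = 1
    simpa only [mul_inv_rev, inv_inv, mul_assoc, mul_one, one_mul, inv_one, pow_succ, pow_zero, i_a, i_b, i_z, i_w] using mul_inv_eq_one.mpr H.hN.zw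
  refine Rels.cons ?_ ?_
  · show z * (t * (z * (t⁻¹ * 1))) = 1
    simpa only [mul_inv_rev, inv_inv, mul_assoc, mul_one, one_mul, inv_one, pow_succ, pow_zero, i_a, i_b, i_z, i_w] using mul_inv_eq_one.mpr H.hN.zt
  refine Rels.cons ?_ ?_
  · show a * (b * (a * (b * (z * 1)))) = 1
    simpa only [mul_inv_rev, inv_inv, mul_assoc, mul_one, one_mul, inv_one, pow_succ, pow_zero, i_a, i_b, i_z, i_w] using mul_inv_eq_one.mpr H.hN.ab
  refine Rels.cons ?_ ?_
  · show t * (a * (t⁻¹ * (a * 1))) = 1
    simpa only [mul_inv_rev, inv_inv, mul_assoc, mul_one, one_mul, inv_one, pow_succ, pow_zero, i_a, i_b, i_z, i_w] using mul_inv_eq_one.mpr H.hN.ta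
  refine Rels.cons ?_ ?_
  · show t * (b * (t⁻¹ * (b * 1))) = 1
    simpa only [mul_inv_rev, inv_inv, mul_assoc, mul_one, one_mul, inv_one, pow_succ, pow_zero, i_a, i_b, i_z, i_w] using mul_inv_eq_one.mpr H.hN.tb
  refine Rels.cons ?_ ?_
  · show w * (a * (w * (a * 1))) = 1
    simpa only [mul_inv_rev, inv_inv, mul_assoc, mul_one, one_mul, inv_one, pow_succ, pow_zero, i_a, i_b, i_z, i_w] using mul_inv_eq_one.mpr H.hN.wa
  refine Rels.cons ?_ ?_
  · show b * (w * (b * (w * (b * (w * (b * (w * (z * 1)))))))) = 1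
    simpa only [mul_inv_rev, inv_inv, mul_assoc, mul_one, one_mul, inv_one, pow_succ, pow_zero, i_a, i_b, i_z, i_w] using mul_inv_eq_one.mpr H.hN.bw
  refine Rels.cons ?_ ?_
  · show a * (w * (b * (w * (b * (t⁻¹ * (w * (b * (w * (t * (t * (w * (b * (w * (t⁻¹ * 1)))))))))))))) = 1
    simpa only [mul_inv_rev, inv_inv, mul_assoc, mul_one, one_mul, inv_one, pow_succ, pow_zero, i_a, i_b, i_z, i_w] using mul_inv_eq_one.mpr H.hN.pr
  refine Rels.cons ?_ ?_
  · show x * (x * (x * 1)) = 1
    simpa only [mul_inv_rev, inv_inv, mul_assoc, mul_one, one_mul, inv_one, pow_succ, pow_zero, i_a, i_b, i_z, i_w] using mul_inv_eq_one.mpr H.x3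
  refine Rels.cons ?_ ?_
  · show x * (t * (x⁻¹ * (t⁻¹ * 1))) = 1
    simpa only [mul_inv_rev, inv_inv, mul_assoc, mul_one, one_mul, inv_one, pow_succ, pow_zero, i_a, i_b, i_z, i_w] using mul_inv_eq_one.mpr H.xt
  refine Rels.cons ?_ ?_
  · show x * (w * (x⁻¹ * (w * 1))) = 1
    simpa only [mul_inv_rev, inv_inv, mul_assoc, mul_one, one_mul, inv_one, pow_succ, pow_zero, i_a, i_b, i_z, i_w] using mul_inv_eq_one.mpr H.xw
  refine Rels.cons ?_ ?_
  · show x * (z * (x⁻¹ * (a * 1))) = 1
    simpa only [mul_inv_rev, inv_inv, mul_assoc, mul_one, one_mul, inv_one, pow_succ, pow_zero, i_a, i_b, i_z, i_w] using mul_inv_eq_one.mpr H.xz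
  refine Rels.cons ?_ ?_
  · show x * (a * (x⁻¹ * (z * (a * 1)))) = 1
    simpa only [mul_inv_rev, inv_inv, mul_assoc, mul_one, one_mul, inv_one, pow_succ, pow_zero, i_a, i_b, i_z, i_w] using mul_inv_eq_one.mpr H.xa
  intro r hr
  exact absurd hr List.not_mem_nil

/-- The relations hold for the letters of any assignment satisfying the relators. -/
theorem rel_of {G : Type*} [Group G] {e : ℕ → G} (hg : Good e 129705083257453936896) (hR : Rels e R) :
    Rel (e 1) (e 2) (e 3) (e 4) (e 5) (e 7) := by
  have j1 : (e 1)⁻¹ = e 1 := (hg.inv 1).symm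
  have j2 : (e 2)⁻¹ = e 2 := (hg.inv 2).symm
  have j3 : (e 3)⁻¹ = e 3 := (hg.inv 3).symm
  have j4 : (e 4)⁻¹ = e 4 := (hg.inv 4).symm
  have j5 : (e 5)⁻¹ = e 6 := (hg.inv 5).symm
  have j6 : (e 6)⁻¹ = e 5 := (hg.inv 6).symm
  have j7 : (e 7)⁻¹ = e 8 := (hg.inv 7).symm
  have j8 : (e 8)⁻¹ = e 7 := (hg.inv 8).symm
  have r0 : e 1 * (e 1 * 1) = 1 := hR [1, 1] (List.mem_of_elem_eq_true (by decide))
  have r1 : e 2 * (e 2 * 1) = 1 := hR [2, 2] (List.mem_of_elem_eq_true (by decide))
  have r2 : e 3 * (e 3 * 1) = 1 := hR [3, 3] (List.mem_of_elem_eq_true (by decide))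
  have r3 : e 4 * (e 4 * 1) = 1 := hR [4, 4] (List.mem_of_elem_eq_true (by decide))
  have r4 : e 5 * (e 5 * (e 5 * 1)) = 1 := hR [5, 5, 5] (List.mem_of_elem_eq_true (by decide))
  have r5 : e 5 * (e 4 * (e 5 * (e 4 * (e 5 * (e 4 * 1))))) = 1 := hR [5, 4, 5, 4, 5, 4] (List.mem_of_elem_eq_true (by decide))
  have r6 : e 3 * (e 1 * (e 3 * (e 1 * 1))) = 1 := hR [3, 1, 3, 1] (List.mem_of_elem_eq_true (by decide))
  have r7 : e 3 * (e 2 * (e 3 * (e 2 * 1))) = 1 := hR [3, 2, 3, 2] (List.mem_of_elem_eq_true (by decide))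
  have r8 : e 3 * (e 4 * (e 3 * (e 4 * 1))) = 1 := hR [3, 4, 3, 4] (List.mem_of_elem_eq_true (by decide))
  have r9 : e 3 * (e 5 * (e 3 * (e 6 * 1))) = 1 := hR [3, 5, 3, 6] (List.mem_of_elem_eq_true (by decide))
  have r10 : e 1 * (e 2 * (e 1 * (e 2 * (e 3 * 1)))) = 1 := hR [1, 2, 1, 2, 3] (List.mem_of_elem_eq_true (by decide))
  have r11 : e 5 * (e 1 * (e 6 * (e 1 * 1))) = 1 := hR [5, 1, 6, 1] (List.mem_of_elem_eq_true (by decide))
  have r12 : e 5 * (e 2 * (e 6 * (e 2 * 1))) = 1 := hR [5, 2, 6, 2] (List.mem_of_elem_eq_true (by decide))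
  have r13 : e 4 * (e 1 * (e 4 * (e 1 * 1))) = 1 := hR [4, 1, 4, 1] (List.mem_of_elem_eq_true (by decide))
  have r14 : e 2 * (e 4 * (e 2 * (e 4 * (e 2 * (e 4 * (e 2 * (e 4 * (e 3 * 1)))))))) = 1 := hR [2, 4, 2, 4, 2, 4, 2, 4, 3] (List.mem_of_elem_eq_true (by decide))
  have r15 : e 1 * (e 4 * (e 2 * (e 4 * (e 2 * (e 6 * (e 4 * (e 2 * (e 4 * (e 5 * (e 5 * (e 4 * (e 2 * (e 4 * (e 6 * 1)))))))))))))) = 1 := hR [1, 4, 2, 4, 2, 6, 4, 2, 4, 5, 5, 4, 2, 4, 6] (List.mem_of_elem_eq_true (by decide))
  have r16 : e 7 * (e 7 * (e 7 * 1)) = 1 := hR [7, 7, 7] (List.mem_of_elem_eq_true (by decide))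
  have r17 : e 7 * (e 5 * (e 8 * (e 6 * 1))) = 1 := hR [7, 5, 8, 6] (List.mem_of_elem_eq_true (by decide))
  have r18 : e 7 * (e 4 * (e 8 * (e 4 * 1))) = 1 := hR [7, 4, 8, 4] (List.mem_of_elem_eq_true (by decide))
  have r19 : e 7 * (e 3 * (e 8 * (e 1 * 1))) = 1 := hR [7, 3, 8, 1] (List.mem_of_elem_eq_true (by decide))
  have r20 : e 7 * (e 1 * (e 8 * (e 3 * (e 1 * 1)))) = 1 := hR [7, 1, 8, 3, 1] (List.mem_of_elem_eq_true (by decide))
  exact ⟨⟨mul_inv_eq_one.mp (by simpa only [mul_inv_rev, mul_assoc, mul_one, one_mul, inv_one, pow_succ, pow_zero, j1, j2, j3, j4, j5, j6, j7, j8] using r0),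
    mul_inv_eq_one.mp (by simpa only [mul_inv_rev, mul_assoc, mul_one, one_mul, inv_one, pow_succ, pow_zero, j1, j2, j3, j4, j5, j6, j7, j8] using r1),
    mul_inv_eq_one.mp (by simpa only [mul_inv_rev, mul_assoc, mul_one, one_mul, inv_one, pow_succ, pow_zero, j1, j2, j3, j4, j5, j6, j7, j8] using r2),
    mul_inv_eq_one.mp (by simpa only [mul_inv_rev, mul_assoc, mul_one, one_mul, inv_one, pow_succ, pow_zero, j1, j2, j3, j4, j5, j6, j7, j8] using r3),
    mul_inv_eq_one.mp (by simpa only [mul_inv_rev, mul_assoc, mul_one, one_mul, inv_one, pow_succ, pow_zero, j1, j2, j3, j4, j5, j6, j7, j8] using r4),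
    mul_inv_eq_one.mp (by simpa only [mul_inv_rev, mul_assoc, mul_one, one_mul, inv_one, pow_succ, pow_zero, j1, j2, j3, j4, j5, j6, j7, j8] using r5),
    mul_inv_eq_one.mp (by simpa only [mul_inv_rev, mul_assoc, mul_one, one_mul, inv_one, pow_succ, pow_zero, j1, j2, j3, j4, j5, j6, j7, j8] using r6),
    mul_inv_eq_one.mp (by simpa only [mul_inv_rev, mul_assoc, mul_one, one_mul, inv_one, pow_succ, pow_zero, j1, j2, j3, j4, j5, j6, j7, j8] using r7),
    mul_inv_eq_one.mp (by simpa only [mul_inv_rev, mul_assoc, mul_one, one_mul, inv_one, pow_succ, pow_zero, j1, j2, j3, j4, j5, j6, j7, j8] using r8),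
    mul_inv_eq_one.mp (by simpa only [mul_inv_rev, mul_assoc, mul_one, one_mul, inv_one, pow_succ, pow_zero, j1, j2, j3, j4, j5, j6, j7, j8] using r9),
    mul_inv_eq_one.mp (by simpa only [mul_inv_rev, mul_assoc, mul_one, one_mul, inv_one, pow_succ, pow_zero, j1, j2, j3, j4, j5, j6, j7, j8] using r10),
    mul_inv_eq_one.mp (by simpa only [mul_inv_rev, mul_assoc, mul_one, one_mul, inv_one, pow_succ, pow_zero, j1, j2, j3, j4, j5, j6, j7, j8] using r11),
    mul_inv_eq_one.mp (by simpa only [mul_inv_rev, mul_assoc, mul_one, one_mul, inv_one, pow_succ, pow_zero, j1, j2, j3, j4, j5, j6, j7, j8] using r12),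
    mul_inv_eq_one.mp (by simpa only [mul_inv_rev, mul_assoc, mul_one, one_mul, inv_one, pow_succ, pow_zero, j1, j2, j3, j4, j5, j6, j7, j8] using r13),
    mul_inv_eq_one.mp (by simpa only [mul_inv_rev, mul_assoc, mul_one, one_mul, inv_one, pow_succ, pow_zero, j1, j2, j3, j4, j5, j6, j7, j8] using r14),
    mul_inv_eq_one.mp (by simpa only [mul_inv_rev, mul_assoc, mul_one, one_mul, inv_one, pow_succ, pow_zero, j1, j2, j3, j4, j5, j6, j7, j8] using r15)⟩,
    mul_inv_eq_one.mp (by simpa only [mul_inv_rev, mul_assoc, mul_one, one_mul, inv_one, pow_succ, pow_zero, j1, j2, j3, j4, j5, j6, j7, j8] using r16),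
    mul_inv_eq_one.mp (by simpa only [mul_inv_rev, mul_assoc, mul_one, one_mul, inv_one, pow_succ, pow_zero, j1, j2, j3, j4, j5, j6, j7, j8] using r17),
    mul_inv_eq_one.mp (by simpa only [mul_inv_rev, mul_assoc, mul_one, one_mul, inv_one, pow_succ, pow_zero, j1, j2, j3, j4, j5, j6, j7, j8] using r18),
    mul_inv_eq_one.mp (by simpa only [mul_inv_rev, mul_assoc, mul_one, one_mul, inv_one, pow_succ, pow_zero, j1, j2, j3, j4, j5, j6, j7, j8] using r19),
    mul_inv_eq_one.mp (by simpa only [mul_inv_rev, mul_assoc, mul_one, one_mul, inv_one, pow_succ, pow_zero, j1, j2, j3, j4, j5, j6, j7, j8] using r20)⟩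

theorem gen_top : gen (pgEv 129705083257453936896 R) [[1], [2], [3], [4], [5], [7]] = ⊤ := pg_gen (n := 9) (by norm_num) (by decide)
end PX0

namespace PX00c

structure Rel {G : Type*} [Group G] (a b z w t x : G) : Prop where
  hX : PX0.Rel a b z w t x
  bx : (b * x) ^ 2 = 1 * t ^ 0

def R : List (List ℕ) := [[1, 1], [2, 2], [3, 3], [4, 4], [5, 5, 5], [5, 4, 5, 4, 5, 4], [3, 1, 3, 1], [3, 2, 3, 2], [3, 4, 3, 4], [3, 5, 3, 6], [1, 2, 1, 2, 3], [5, 1, 6, 1], [5, 2, 6, 2], [4, 1, 4, 1], [2, 4, 2, 4, 2, 4, 2, 4, 3], [1, 4, 2, 4, 2, 6, 4, 2, 4, 5, 5, 4, 2, 4, 6], [7, 7, 7], [7, 5, 8, 6], [7, 4, 8, 4], [7, 3, 8, 1], [7, 1, 8, 3, 1], [2, 7, 2, 7]]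

def ev {G : Type*} [Group G] (a b z w t x : G) (l : ℕ) : G := [1, a, b, z, w, t, t⁻¹, x, x⁻¹].getD l 1

theorem good {G : Type*} [Group G] {a b z w t x : G} (H : Rel a b z w t x) : Good (ev a b z w t x) 129705083257453936896 := by
  have i_a : a⁻¹ = a := inv_eq_of_mul_eq_one_right H.hX.hN.aa
  have i_b : b⁻¹ = b := inv_eq_of_mul_eq_one_right H.hX.hN.bb
  have i_z : z⁻¹ = z := inv_eq_of_mul_eq_one_right H.hX.hN.zz
  have i_w : w⁻¹ = w := inv_eq_of_mul_eq_one_right H.hX.hN.ww
  refine good_list (n := 9) rfl (by norm_num) rfl fun l hl => ?_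
  interval_cases l
  · exact inv_one.symm
  · exact i_a.symm
  · exact i_b.symm
  · exact i_z.symm
  · exact i_w.symm
  · rfl
  · exact (inv_inv _).symm
  · rfl
  · exact (inv_inv _).symm

theorem rels {G : Type*} [Group G] {a b z w t x : G} (H : Rel a b z w t x) : Rels (ev a b z w t x) R := by
  have i_a : a⁻¹ = a := inv_eq_of_mul_eq_one_right H.hX.hN.aa
  have i_b : b⁻¹ = b := inv_eq_of_mul_eq_one_right H.hX.hN.bb
  have i_z : z⁻¹ = z := inv_eq_of_mul_eq_one_right H.hX.hN.zz
  have i_w : w⁻¹ = w := inv_eq_of_mul_eq_one_right H.hX.hN.ww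
  unfold R
  refine Rels.cons ?_ ?_
  · show a * (a * 1) = 1
    simpa only [mul_inv_rev, inv_inv, mul_assoc, mul_one, one_mul, inv_one, pow_succ, pow_zero, i_a, i_b, i_z, i_w] using mul_inv_eq_one.mpr H.hX.hN.aa
  refine Rels.cons ?_ ?_
  · show b * (b * 1) = 1
    simpa only [mul_inv_rev, inv_inv, mul_assoc, mul_one, one_mul, inv_one, pow_succ, pow_zero, i_a, i_b, i_z, i_w] using mul_inv_eq_one.mpr H.hX.hN.bb
  refine Rels.cons ?_ ?_
  · show z * (z * 1) = 1
    simpa only [mul_inv_rev, inv_inv, mul_assoc, mul_one, one_mul, inv_one, pow_succ, pow_zero, i_a, i_b, i_z, i_w] using mul_inv_eq_one.mpr H.hX.hN.zz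
  refine Rels.cons ?_ ?_
  · show w * (w * 1) = 1
    simpa only [mul_inv_rev, inv_inv, mul_assoc, mul_one, one_mul, inv_one, pow_succ, pow_zero, i_a, i_b, i_z, i_w] using mul_inv_eq_one.mpr H.hX.hN.ww
  refine Rels.cons ?_ ?_
  · show t * (t * (t * 1)) = 1
    simpa only [mul_inv_rev, inv_inv, mul_assoc, mul_one, one_mul, inv_one, pow_succ, pow_zero, i_a, i_b, i_z, i_w] using mul_inv_eq_one.mpr H.hX.hN.t3
  refine Rels.cons ?_ ?_
  · show t * (w * (t * (w * (t * (w * 1))))) = 1
    simpa only [mul_inv_rev, inv_inv, mul_assoc, mul_one, one_mul, inv_one, pow_succ, pow_zero, i_a, i_b, i_z, i_w] using mul_inv_eq_one.mpr H.hX.hN.tw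
  refine Rels.cons ?_ ?_
  · show z * (a * (z * (a * 1))) = 1
    simpa only [mul_inv_rev, inv_inv, mul_assoc, mul_one, one_mul, inv_one, pow_succ, pow_zero, i_a, i_b, i_z, i_w] using mul_inv_eq_one.mpr H.hX.hN.za
  refine Rels.cons ?_ ?_
  · show z * (b * (z * (b * 1))) = 1
    simpa only [mul_inv_rev, inv_inv, mul_assoc, mul_one, one_mul, inv_one, pow_succ, pow_zero, i_a, i_b, i_z, i_w] using mul_inv_eq_one.mpr H.hX.hN.zb
  refine Rels.cons ?_ ?_
  · show z * (w * (z * (w * 1))) = 1
    simpa only [mul_inv_rev, inv_inv, mul_assoc, mul_one, one_mul, inv_one, pow_succ, pow_zero, i_a, i_b, i_z, i_w] using mul_inv_eq_one.mpr H.hX.hN.zw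
  refine Rels.cons ?_ ?_
  · show z * (t * (z * (t⁻¹ * 1))) = 1
    simpa only [mul_inv_rev, inv_inv, mul_assoc, mul_one, one_mul, inv_one, pow_succ, pow_zero, i_a, i_b, i_z, i_w] using mul_inv_eq_one.mpr H.hX.hN.zt
  refine Rels.cons ?_ ?_
  · show a * (b * (a * (b * (z * 1)))) = 1
    simpa only [mul_inv_rev, inv_inv, mul_assoc, mul_one, one_mul, inv_one, pow_succ, pow_zero, i_a, i_b, i_z, i_w] using mul_inv_eq_one.mpr H.hX.hN.ab
  refine Rels.cons ?_ ?_
  · show t * (a * (t⁻¹ * (a * 1))) = 1
    simpa only [mul_inv_rev, inv_inv, mul_assoc, mul_one, one_mul, inv_one, pow_succ, pow_zero, i_a, i_b, i_z, i_w] using mul_inv_eq_one.mpr H.hX.hN.ta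
  refine Rels.cons ?_ ?_
  · show t * (b * (t⁻¹ * (b * 1))) = 1
    simpa only [mul_inv_rev, inv_inv, mul_assoc, mul_one, one_mul, inv_one, pow_succ, pow_zero, i_a, i_b, i_z, i_w] using mul_inv_eq_one.mpr H.hX.hN.tb
  refine Rels.cons ?_ ?_
  · show w * (a * (w * (a * 1))) = 1
    simpa only [mul_inv_rev, inv_inv, mul_assoc, mul_one, one_mul, inv_one, pow_succ, pow_zero, i_a, i_b, i_z, i_w] using mul_inv_eq_one.mpr H.hX.hN.wa
  refine Rels.cons ?_ ?_
  · show b * (w * (b * (w * (b * (w * (b * (w * (z * 1)))))))) = 1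
    simpa only [mul_inv_rev, inv_inv, mul_assoc, mul_one, one_mul, inv_one, pow_succ, pow_zero, i_a, i_b, i_z, i_w] using mul_inv_eq_one.mpr H.hX.hN.bw
  refine Rels.cons ?_ ?_
  · show a * (w * (b * (w * (b * (t⁻¹ * (w * (b * (w * (t * (t * (w * (b * (w * (t⁻¹ * 1)))))))))))))) = 1
    simpa only [mul_inv_rev, inv_inv, mul_assoc, mul_one, one_mul, inv_one, pow_succ, pow_zero, i_a, i_b, i_z, i_w] using mul_inv_eq_one.mpr H.hX.hN.pr
  refine Rels.cons ?_ ?_
  · show x * (x * (x * 1)) = 1
    simpa only [mul_inv_rev, inv_inv, mul_assoc, mul_one, one_mul, inv_one, pow_succ, pow_zero, i_a, i_b, i_z, i_w] using mul_inv_eq_one.mpr H.hX.x3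
  refine Rels.cons ?_ ?_
  · show x * (t * (x⁻¹ * (t⁻¹ * 1))) = 1
    simpa only [mul_inv_rev, inv_inv, mul_assoc, mul_one, one_mul, inv_one, pow_succ, pow_zero, i_a, i_b, i_z, i_w] using mul_inv_eq_one.mpr H.hX.xt
  refine Rels.cons ?_ ?_
  · show x * (w * (x⁻¹ * (w * 1))) = 1
    simpa only [mul_inv_rev, inv_inv, mul_assoc, mul_one, one_mul, inv_one, pow_succ, pow_zero, i_a, i_b, i_z, i_w] using mul_inv_eq_one.mpr H.hX.xw
  refine Rels.cons ?_ ?_
  · show x * (z * (x⁻¹ * (a * 1))) = 1
    simpa only [mul_inv_rev, inv_inv, mul_assoc, mul_one, one_mul, inv_one, pow_succ, pow_zero, i_a, i_b, i_z, i_w] using mul_inv_eq_one.mpr H.hX.xz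
  refine Rels.cons ?_ ?_
  · show x * (a * (x⁻¹ * (z * (a * 1)))) = 1
    simpa only [mul_inv_rev, inv_inv, mul_assoc, mul_one, one_mul, inv_one, pow_succ, pow_zero, i_a, i_b, i_z, i_w] using mul_inv_eq_one.mpr H.hX.xa
  refine Rels.cons ?_ ?_
  · show b * (x * (b * (x * 1))) = 1
    simpa only [mul_inv_rev, inv_inv, mul_assoc, mul_one, one_mul, inv_one, pow_succ, pow_zero, i_a, i_b, i_z, i_w] using mul_inv_eq_one.mpr H.bx
  intro r hr
  exact absurd hr List.not_mem_nil

/-- The relations hold for the letters of any assignment satisfying the relators. -/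
theorem rel_of {G : Type*} [Group G] {e : ℕ → G} (hg : Good e 129705083257453936896) (hR : Rels e R) :
    Rel (e 1) (e 2) (e 3) (e 4) (e 5) (e 7) := by
  have j1 : (e 1)⁻¹ = e 1 := (hg.inv 1).symm
  have j2 : (e 2)⁻¹ = e 2 := (hg.inv 2).symm
  have j3 : (e 3)⁻¹ = e 3 := (hg.inv 3).symm
  have j4 : (e 4)⁻¹ = e 4 := (hg.inv 4).symm
  have j5 : (e 5)⁻¹ = e 6 := (hg.inv 5).symm
  have j6 : (e 6)⁻¹ = e 5 := (hg.inv 6).symm
  have j7 : (e 7)⁻¹ = e 8 := (hg.inv 7).symm
  have j8 : (e 8)⁻¹ = e 7 := (hg.inv 8).symm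
  have r0 : e 1 * (e 1 * 1) = 1 := hR [1, 1] (List.mem_of_elem_eq_true (by decide))
  have r1 : e 2 * (e 2 * 1) = 1 := hR [2, 2] (List.mem_of_elem_eq_true (by decide))
  have r2 : e 3 * (e 3 * 1) = 1 := hR [3, 3] (List.mem_of_elem_eq_true (by decide))
  have r3 : e 4 * (e 4 * 1) = 1 := hR [4, 4] (List.mem_of_elem_eq_true (by decide))
  have r4 : e 5 * (e 5 * (e 5 * 1)) = 1 := hR [5, 5, 5] (List.mem_of_elem_eq_true (by decide))
  have r5 : e 5 * (e 4 * (e 5 * (e 4 * (e 5 * (e 4 * 1))))) = 1 := hR [5, 4, 5, 4, 5, 4] (List.mem_of_elem_eq_true (by decide))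
  have r6 : e 3 * (e 1 * (e 3 * (e 1 * 1))) = 1 := hR [3, 1, 3, 1] (List.mem_of_elem_eq_true (by decide))
  have r7 : e 3 * (e 2 * (e 3 * (e 2 * 1))) = 1 := hR [3, 2, 3, 2] (List.mem_of_elem_eq_true (by decide))
  have r8 : e 3 * (e 4 * (e 3 * (e 4 * 1))) = 1 := hR [3, 4, 3, 4] (List.mem_of_elem_eq_true (by decide))
  have r9 : e 3 * (e 5 * (e 3 * (e 6 * 1))) = 1 := hR [3, 5, 3, 6] (List.mem_of_elem_eq_true (by decide))
  have r10 : e 1 * (e 2 * (e 1 * (e 2 * (e 3 * 1)))) = 1 := hR [1, 2, 1, 2, 3] (List.mem_of_elem_eq_true (by decide))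
  have r11 : e 5 * (e 1 * (e 6 * (e 1 * 1))) = 1 := hR [5, 1, 6, 1] (List.mem_of_elem_eq_true (by decide))
  have r12 : e 5 * (e 2 * (e 6 * (e 2 * 1))) = 1 := hR [5, 2, 6, 2] (List.mem_of_elem_eq_true (by decide))
  have r13 : e 4 * (e 1 * (e 4 * (e 1 * 1))) = 1 := hR [4, 1, 4, 1] (List.mem_of_elem_eq_true (by decide))
  have r14 : e 2 * (e 4 * (e 2 * (e 4 * (e 2 * (e 4 * (e 2 * (e 4 * (e 3 * 1)))))))) = 1 := hR [2, 4, 2, 4, 2, 4, 2, 4, 3] (List.mem_of_elem_eq_true (by decide))
  have r15 : e 1 * (e 4 * (e 2 * (e 4 * (e 2 * (e 6 * (e 4 * (e 2 * (e 4 * (e 5 * (e 5 * (e 4 * (e 2 * (e 4 * (e 6 * 1)))))))))))))) = 1 := hR [1, 4, 2, 4, 2, 6, 4, 2, 4, 5, 5, 4, 2, 4, 6] (List.mem_of_elem_eq_true (by decide))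
  have r16 : e 7 * (e 7 * (e 7 * 1)) = 1 := hR [7, 7, 7] (List.mem_of_elem_eq_true (by decide))
  have r17 : e 7 * (e 5 * (e 8 * (e 6 * 1))) = 1 := hR [7, 5, 8, 6] (List.mem_of_elem_eq_true (by decide))
  have r18 : e 7 * (e 4 * (e 8 * (e 4 * 1))) = 1 := hR [7, 4, 8, 4] (List.mem_of_elem_eq_true (by decide))
  have r19 : e 7 * (e 3 * (e 8 * (e 1 * 1))) = 1 := hR [7, 3, 8, 1] (List.mem_of_elem_eq_true (by decide))
  have r20 : e 7 * (e 1 * (e 8 * (e 3 * (e 1 * 1)))) = 1 := hR [7, 1, 8, 3, 1] (List.mem_of_elem_eq_true (by decide))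
  have r21 : e 2 * (e 7 * (e 2 * (e 7 * 1))) = 1 := hR [2, 7, 2, 7] (List.mem_of_elem_eq_true (by decide))
  exact ⟨⟨⟨mul_inv_eq_one.mp (by simpa only [mul_inv_rev, mul_assoc, mul_one, one_mul, inv_one, pow_succ, pow_zero, j1, j2, j3, j4, j5, j6, j7, j8] using r0),
    mul_inv_eq_one.mp (by simpa only [mul_inv_rev, mul_assoc, mul_one, one_mul, inv_one, pow_succ, pow_zero, j1, j2, j3, j4, j5, j6, j7, j8] using r1),
    mul_inv_eq_one.mp (by simpa only [mul_inv_rev, mul_assoc, mul_one, one_mul, inv_one, pow_succ, pow_zero, j1, j2, j3, j4, j5, j6, j7, j8] using r2),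
    mul_inv_eq_one.mp (by simpa only [mul_inv_rev, mul_assoc, mul_one, one_mul, inv_one, pow_succ, pow_zero, j1, j2, j3, j4, j5, j6, j7, j8] using r3),
    mul_inv_eq_one.mp (by simpa only [mul_inv_rev, mul_assoc, mul_one, one_mul, inv_one, pow_succ, pow_zero, j1, j2, j3, j4, j5, j6, j7, j8] using r4),
    mul_inv_eq_one.mp (by simpa only [mul_inv_rev, mul_assoc, mul_one, one_mul, inv_one, pow_succ, pow_zero, j1, j2, j3, j4, j5, j6, j7, j8] using r5),
    mul_inv_eq_one.mp (by simpa only [mul_inv_rev, mul_assoc, mul_one, one_mul, inv_one, pow_succ, pow_zero, j1, j2, j3, j4, j5, j6, j7, j8] using r6),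
    mul_inv_eq_one.mp (by simpa only [mul_inv_rev, mul_assoc, mul_one, one_mul, inv_one, pow_succ, pow_zero, j1, j2, j3, j4, j5, j6, j7, j8] using r7),
    mul_inv_eq_one.mp (by simpa only [mul_inv_rev, mul_assoc, mul_one, one_mul, inv_one, pow_succ, pow_zero, j1, j2, j3, j4, j5, j6, j7, j8] using r8),
    mul_inv_eq_one.mp (by simpa only [mul_inv_rev, mul_assoc, mul_one, one_mul, inv_one, pow_succ, pow_zero, j1, j2, j3, j4, j5, j6, j7, j8] using r9),
    mul_inv_eq_one.mp (by simpa only [mul_inv_rev, mul_assoc, mul_one, one_mul, inv_one, pow_succ, pow_zero, j1, j2, j3, j4, j5, j6, j7, j8] using r10),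
    mul_inv_eq_one.mp (by simpa only [mul_inv_rev, mul_assoc, mul_one, one_mul, inv_one, pow_succ, pow_zero, j1, j2, j3, j4, j5, j6, j7, j8] using r11),
    mul_inv_eq_one.mp (by simpa only [mul_inv_rev, mul_assoc, mul_one, one_mul, inv_one, pow_succ, pow_zero, j1, j2, j3, j4, j5, j6, j7, j8] using r12),
    mul_inv_eq_one.mp (by simpa only [mul_inv_rev, mul_assoc, mul_one, one_mul, inv_one, pow_succ, pow_zero, j1, j2, j3, j4, j5, j6, j7, j8] using r13),
    mul_inv_eq_one.mp (by simpa only [mul_inv_rev, mul_assoc, mul_one, one_mul, inv_one, pow_succ, pow_zero, j1, j2, j3, j4, j5, j6, j7, j8] using r14),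
    mul_inv_eq_one.mp (by simpa only [mul_inv_rev, mul_assoc, mul_one, one_mul, inv_one, pow_succ, pow_zero, j1, j2, j3, j4, j5, j6, j7, j8] using r15)⟩,
    mul_inv_eq_one.mp (by simpa only [mul_inv_rev, mul_assoc, mul_one, one_mul, inv_one, pow_succ, pow_zero, j1, j2, j3, j4, j5, j6, j7, j8] using r16),
    mul_inv_eq_one.mp (by simpa only [mul_inv_rev, mul_assoc, mul_one, one_mul, inv_one, pow_succ, pow_zero, j1, j2, j3, j4, j5, j6, j7, j8] using r17),
    mul_inv_eq_one.mp (by simpa only [mul_inv_rev, mul_assoc, mul_one, one_mul, inv_one, pow_succ, pow_zero, j1, j2, j3, j4, j5, j6, j7, j8] using r18),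
    mul_inv_eq_one.mp (by simpa only [mul_inv_rev, mul_assoc, mul_one, one_mul, inv_one, pow_succ, pow_zero, j1, j2, j3, j4, j5, j6, j7, j8] using r19),
    mul_inv_eq_one.mp (by simpa only [mul_inv_rev, mul_assoc, mul_one, one_mul, inv_one, pow_succ, pow_zero, j1, j2, j3, j4, j5, j6, j7, j8] using r20)⟩,
    mul_inv_eq_one.mp (by simpa only [mul_inv_rev, mul_assoc, mul_one, one_mul, inv_one, pow_succ, pow_zero, j1, j2, j3, j4, j5, j6, j7, j8] using r21)⟩

theorem gen_top : gen (pgEv 129705083257453936896 R) [[1], [2], [3], [4], [5], [7]] = ⊤ := pg_gen (n := 9) (by norm_num) (by decide)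
namespace c

noncomputable def get (y : ℕ) : ℕ := (sel (nat_lit 1) y (nat_lit 0x0) (nat_lit 0xa00000000000009000000000000030000000000000300000000000000000001000000000000000000010000000b0000060000000600000b0000001a0000130000001300001a0000002700002200000022000027000000310000300000003000003102000035000031020000310000350400002d0000350400003500002d0700002b0000350800003500002b030000300000300300003000003003000022000022030000220000220000002e0000220000002200002e0000002f0000230000002300002f000000240000120000001200002400000014000005000000050000140000001c0000100000001000001c0000002a00001f0000001f00002a0000002c0000330000003300002c02000032000034020000340000320400002c0000340400003400002c0800002b0000340700003400002b0200002a0000330200003300002a08000029000033070000330000290400002800003204000032000028070000260000320800003200002604000027000031040000310000270800002600003107000031000026040000220000300400003000002208000021000030070000300000210200002f0000240200002400002f0700002f00002e0800002e00002f0700002000002f0800002f000020030000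2200002e0300002e0000220800002000002e0700002e0000200200002d00001e0200001e00002d0700001d00002d0800002d00001d0200001f00002c0200002c00001f0800001d00002c0700002c00001d0200002600002b0200002b0000260400001d00002b0400002b00001d0300002500002a0300002a0000250400001c00002a0400002a00001c0700001b00002a0800002a00001b0200001b0000290200002900001b020000280000190200001900002807000018000028080000280000180200001a0000270200002700001a080000180000270700002700001804000018000026040000260000180100001f0000250100002500001f04000017000025040000250000170700001600002508000025000016080000150000240700002400001504000014000024040000240000140100001200002401000024000012020000230000120200001200002307000023000022080000220000230700001100002308000023000011020000130000220200002200001308000011000022070000220000110400001100002104000021000011020000150000200200002000001501000011000020010000200000110400001000001f0400001f0000100700000e00001f0800001f00000e0400000f00001e0400001e00000f0800000e00001e0700001e00000e0200000e00001d0200001d00000e0200001c00001402000014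00001c0700000d00001c0800001c00000d0100000e00001b0100001b00000e0400000d00001b0400001b00000d0400000b00001a0400001a00000b0700000900001a0800001a0000090400000a0000190400001900000a0800000900001907000019000009030000110000180300001800001102000009000018020000180000090200001700000a0200000a00001707000008000017080000170000080300000e0000160300001600000e040000080000160400001600000801000009000015010000150000090300000c0000150300001500000c04000007000015040000150000070800000700001407000014000007010000050000140100001400000504000006000013040000130000060700000400001308000013000004040000050000120400001200000508000004000012070000120000040200000400001102000011000004020000100000050200000500001007000003000010080000100000030200000600000f0200000f0000060800000300000f0700000f0000030400000300000e0400000e0000030200000700000d0200000d0000070100000300000d0100000d0000030100000400000c0100000c0000040400000200000c0400000c0000020700000100000b0800000b0000010800000100000a0700000a000001030000040000090300000900000404000001000009040000090000010300000300000803000008000003020000010000080200000800000103000002000007030000070000020100000100000701000007000001070000000000060800000600000008000000000005070000050000000400000000000404000004000000020000000000030200000300000001000000000002010000020000000300000000000103000001000000))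
noncomputable def gs (y : ℕ) : ℕ := (sel (nat_lit 4) y (sel (nat_lit 2) y (sel (nat_lit 1) y (nat_lit 0x0) (nat_lit 0x0)) (sel (nat_lit 3) y (nat_lit 0x0) (nat_lit 0x0))) (sel (nat_lit 6) y (sel (nat_lit 5) y (nat_lit 0x8000003000023c000020e000021d80000008000009000023800002080000203000020f8000000800000800002340000206000020b8000000800000700002300000206000020980000008000000800000600002080000205000022b8000000800000600002260000204000020b800000080000008000005000022000002130000210000020d80000008000004000021c0000202000020780000008000000800000080000030000214000020000002078000000800000200002100000200000020580000008000001000020c000020000002038000000800000080000008000000800000080000008000000) (nat_lit 0x8000000800000900002780000230000021f000023f800000b000027800002320000239800000080000060000230000022f0000273800000a000026e000027380000008000006000026e000022e00002358000000800000080000050000268000024d000024a00002418000000800000800002640000224000022b80000008000007000026000002240000227800000080000008000006000023a0000223000025b800000080000040000256000022000002258000000800000800002520000214000021b80000008000007000024e0000214000021980000008000002000024a0000216000022f800000080000060000218000021100002478000000800000300002420000212000022580000008000004000023c000020c0000215))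 (sel (nat_lit 7) y (nat_lit 0x800000700002bc0000296000029b8000000800000600002b8000028e00002918000000800000800002b40000284000028b8000000800000700002b0000028400002878000000800000700002ac000026c000026f80000008000006000027c000026b00002a7800000a00002a200002a78000000800000f00002a20000268000026f800000080000060000260000025f000029f80000008000006000029a000025e00002658000000800000e0000296000025e0000245000024200002100000215000024b00002858000000800000d0000290000025800002650000283800000800002900000256000025b800000080000008000006000024e000024b000028b800000080000060000286000024a000025380000008000000800000c000027e000024400002658000008000027e00002420000247) (nat_lit 0x800001880000188000018800001880000188000018800001880000188000018800001880000188000018800001700002e58000014000020100002e38000016000020b00002e0000021a8000012000023700002de00002548000011000027100002dc0000288800001200002af00002da00002b2800001500002d300002ae000027000002360000229000026300002a000002d700002d9800000600002b0000029900002d5800000800002d40000296000029f8000000800000300002ae00002d100002af800001400002a500002cf8000013000027400002cc00002a98000011000027700002ca00002aa8000012000023200002c8000027b8000011000022c00002c6000025d8000012000026700002c400002928000011000029d00002c300002ba800001000002ba0000294000028000002490000251000028c00002b700002c100002be800000600002bc000029800002b5))))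
noncomputable def gd (y : ℕ) : ℕ := (nat_lit 0x2d400002bc00002b800002b400002b000002ac00002a600002a2000029e000029a00002960000290000028e000028a00002860000284000027e00002780000272000026e000026c000026800002640000260000025e000025a00002560000252000024e000024a00002460000242000023c000023800002340000230000022e000022a000022600002240000220000021c000021a000021800002140000210000020c000020a000020800002060000204000020200002000000000)
noncomputable def gwh_0 (y : ℕ) : ℕ := (sel (nat_lit 8) y (sel (nat_lit 4) y (sel (nat_lit 2) y (sel (nat_lit 1) y (nat_lit 0x1030103000003001000) (nat_lit 0x2030203000003001001)) (sel (nat_lit 3) y (nat_lit 0x4030403000003001002) (nat_lit 0x4010401000002002003))) (sel (nat_lit 6) y (sel (nat_lit 5) y (nat_lit 0x102030102000002003004) (nat_lit 0x7020702000003001005)) (sel (nat_lit 7) y (nat_lit 0x8040704000002002006) (nat_lit 0x7040804000000004006)))) (sel (nat_lit 12) y (sel (nat_lit 10) y (sel (nat_lit 9) y (nat_lit 0x301070108000003002007) (nat_lit 0x70707000000003008)) (sel (nat_lit 11) y (nat_lit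 0x1040104000003001003) (nat_lit 0x7030801000000004009))) (sel (nat_lit 14) y (sel (nat_lit 13) y (nat_lit 0x107010803000004001007) (nat_lit 0x4020402040302040200000300600a)) (sel (nat_lit 15) y (nat_lit 0x8010703000002002009) (nat_lit 0x402040204020403020000100100800a)))))
noncomputable def gwh_1 (y : ℕ) : ℕ := (sel (nat_lit 19) y (sel (nat_lit 17) y (nat_lit 0x200020000100000300b) (sel (nat_lit 18) y (nat_lit 0x400040000100000300c) (nat_lit 0x700080000100000300d))) (sel (nat_lit 21) y (sel (nat_lit 20) y (nat_lit 0x30300000000200e) (nat_lit 0x204020402040204030000100000900a)) (sel (nat_lit 22) y (nat_lit 0x800070000100000300f) (nat_lit 0x30a000000002010))))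
noncomputable def gwh (y : ℕ) : ℕ := (sel (nat_lit 16) y (gwh_0 y) (gwh_1 y))
def sg : List (List ℕ) := [[], [1], [2], [3], [4], [5], [6], [7], [8], [3], [3]]
def BL : List ℕ := [0x3010301, 0x3020302, 0x3040304, 0x4010401, 0x102010203, 0x2070207, 0x7040804, 0x701080301, 0x70707, 0x7030801, 0x20402040204020403, 0x20002, 0x40004, 0x70008, 0x303, 0x80007, 0x30a]
def Sub : List (List ℕ) := []
theorem hA : prepA 129705083257453936896 PX00c.R sg 10927685746443616478429440 BL Sub get gd = true := by decide +kernel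
theorem hw : allR (okW BL gwh) 0 23 = true := by decide +kernel
theorem b0 : allR (blk get gs (gwB gwh 23) gd 10927685746443616478429440) 4 4 = true := by decide +kernel
theorem hb : ∀ b, 4 ≤ b → b < 8 → blk get gs (gwB gwh 23) gd 10927685746443616478429440 b = true :=
  (allR_range b0 (by norm_num : 4 + 4 = 8))
def TL : List (ℕ × List ℕ) := [(486, [3])]
theorem hM : prepM sg get 8 TL = true := by decide +kernel
theorem mem {G : Type*} [Group G] {ev : ℕ → G} (hev : Good ev 129705083257453936896) (hR : Rels ev PX00c.R) :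
    ∀ w ∈ TL.map Prod.snd, evL ev w ∈ gen ev Sub :=
  cert_mem hev hR hA hM hw hb

end c

theorem res {G : Type*} [Group G] {a b z w t x : G} (H : Rel a b z w t x) : z = 1 := by
  have i_a : a⁻¹ = a := inv_eq_of_mul_eq_one_right H.hX.hN.aa
  have i_b : b⁻¹ = b := inv_eq_of_mul_eq_one_right H.hX.hN.bb
  have i_z : z⁻¹ = z := inv_eq_of_mul_eq_one_right H.hX.hN.zz
  have i_w : w⁻¹ = w := inv_eq_of_mul_eq_one_right H.hX.hN.ww
  have h : z * 1 = 1 := rels_of_mem_nil (c.mem (good H) (rels H)) [3] (List.mem_of_elem_eq_true (by decide))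
  exact mul_inv_eq_one.mp (by simpa only [mul_inv_rev, inv_inv, mul_assoc, mul_one, one_mul, inv_one, pow_succ, pow_zero, i_a, i_b, i_z, i_w] using h)

end PX00c

namespace PX02c

structure Rel {G : Type*} [Group G] (a b z w t x : G) : Prop where
  hX : PX0.Rel a b z w t x
  bx : (b * x) ^ 2 = 1 * t ^ 2

def R : List (List ℕ) := [[1, 1], [2, 2], [3, 3], [4, 4], [5, 5, 5], [5, 4, 5, 4, 5, 4], [3, 1, 3, 1], [3, 2, 3, 2], [3, 4, 3, 4], [3, 5, 3, 6], [1, 2, 1, 2, 3], [5, 1, 6, 1], [5, 2, 6, 2], [4, 1, 4, 1], [2, 4, 2, 4, 2, 4, 2, 4, 3], [1, 4, 2, 4, 2, 6, 4, 2, 4, 5, 5, 4, 2, 4, 6], [7, 7, 7], [7, 5, 8, 6], [7, 4, 8, 4], [7, 3, 8, 1], [7, 1, 8, 3, 1], [2, 7, 2, 7, 6, 6]]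

def ev {G : Type*} [Group G] (a b z w t x : G) (l : ℕ) : G := [1, a, b, z, w, t, t⁻¹, x, x⁻¹].getD l 1

theorem good {G : Type*} [Group G] {a b z w t x : G} (H : Rel a b z w t x) : Good (ev a b z w t x) 129705083257453936896 := by
  have i_a : a⁻¹ = a := inv_eq_of_mul_eq_one_right H.hX.hN.aa
  have i_b : b⁻¹ = b := inv_eq_of_mul_eq_one_right H.hX.hN.bb
  have i_z : z⁻¹ = z := inv_eq_of_mul_eq_one_right H.hX.hN.zz
  have i_w : w⁻¹ = w := inv_eq_of_mul_eq_one_right H.hX.hN.ww
  refine good_list (n := 9) rfl (by norm_num) rfl fun l hl => ?_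
  interval_cases l
  · exact inv_one.symm
  · exact i_a.symm
  · exact i_b.symm
  · exact i_z.symm
  · exact i_w.symm
  · rfl
  · exact (inv_inv _).symm
  · rfl
  · exact (inv_inv _).symm

theorem rels {G : Type*} [Group G] {a b z w t x : G} (H : Rel a b z w t x) : Rels (ev a b z w t x) R := by
  have i_a : a⁻¹ = a := inv_eq_of_mul_eq_one_right H.hX.hN.aa
  have i_b : b⁻¹ = b := inv_eq_of_mul_eq_one_right H.hX.hN.bb
  have i_z : z⁻¹ = z := inv_eq_of_mul_eq_one_right H.hX.hN.zz
  have i_w : w⁻¹ = w := inv_eq_of_mul_eq_one_right H.hX.hN.ww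
  unfold R
  refine Rels.cons ?_ ?_
  · show a * (a * 1) = 1
    simpa only [mul_inv_rev, inv_inv, mul_assoc, mul_one, one_mul, inv_one, pow_succ, pow_zero, i_a, i_b, i_z, i_w] using mul_inv_eq_one.mpr H.hX.hN.aa
  refine Rels.cons ?_ ?_
  · show b * (b * 1) = 1
    simpa only [mul_inv_rev, inv_inv, mul_assoc, mul_one, one_mul, inv_one, pow_succ, pow_zero, i_a, i_b, i_z, i_w] using mul_inv_eq_one.mpr H.hX.hN.bb
  refine Rels.cons ?_ ?_
  · show z * (z * 1) = 1
    simpa only [mul_inv_rev, inv_inv, mul_assoc, mul_one, one_mul, inv_one, pow_succ, pow_zero, i_a, i_b, i_z, i_w] using mul_inv_eq_one.mpr H.hX.hN.zz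
  refine Rels.cons ?_ ?_
  · show w * (w * 1) = 1
    simpa only [mul_inv_rev, inv_inv, mul_assoc, mul_one, one_mul, inv_one, pow_succ, pow_zero, i_a, i_b, i_z, i_w] using mul_inv_eq_one.mpr H.hX.hN.ww
  refine Rels.cons ?_ ?_
  · show t * (t * (t * 1)) = 1
    simpa only [mul_inv_rev, inv_inv, mul_assoc, mul_one, one_mul, inv_one, pow_succ, pow_zero, i_a, i_b, i_z, i_w] using mul_inv_eq_one.mpr H.hX.hN.t3
  refine Rels.cons ?_ ?_
  · show t * (w * (t * (w * (t * (w * 1))))) = 1
    simpa only [mul_inv_rev, inv_inv, mul_assoc, mul_one, one_mul, inv_one, pow_succ, pow_zero, i_a, i_b, i_z, i_w] using mul_inv_eq_one.mpr H.hX.hN.tw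
  refine Rels.cons ?_ ?_
  · show z * (a * (z * (a * 1))) = 1
    simpa only [mul_inv_rev, inv_inv, mul_assoc, mul_one, one_mul, inv_one, pow_succ, pow_zero, i_a, i_b, i_z, i_w] using mul_inv_eq_one.mpr H.hX.hN.za
  refine Rels.cons ?_ ?_
  · show z * (b * (z * (b * 1))) = 1
    simpa only [mul_inv_rev, inv_inv, mul_assoc, mul_one, one_mul, inv_one, pow_succ, pow_zero, i_a, i_b, i_z, i_w] using mul_inv_eq_one.mpr H.hX.hN.zb
  refine Rels.cons ?_ ?_
  · show z * (w * (z * (w * 1))) = 1
    simpa only [mul_inv_rev, inv_inv, mul_assoc, mul_one, one_mul, inv_one, pow_succ, pow_zero, i_a, i_b, i_z, i_w] using mul_inv_eq_one.mpr H.hX.hN.zw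
  refine Rels.cons ?_ ?_
  · show z * (t * (z * (t⁻¹ * 1))) = 1
    simpa only [mul_inv_rev, inv_inv, mul_assoc, mul_one, one_mul, inv_one, pow_succ, pow_zero, i_a, i_b, i_z, i_w] using mul_inv_eq_one.mpr H.hX.hN.zt
  refine Rels.cons ?_ ?_
  · show a * (b * (a * (b * (z * 1)))) = 1
    simpa only [mul_inv_rev, inv_inv, mul_assoc, mul_one, one_mul, inv_one, pow_succ, pow_zero, i_a, i_b, i_z, i_w] using mul_inv_eq_one.mpr H.hX.hN.ab
  refine Rels.cons ?_ ?_
  · show t * (a * (t⁻¹ * (a * 1))) = 1
    simpa only [mul_inv_rev, inv_inv, mul_assoc, mul_one, one_mul, inv_one, pow_succ, pow_zero, i_a, i_b, i_z, i_w] using mul_inv_eq_one.mpr H.hX.hN.ta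
  refine Rels.cons ?_ ?_
  · show t * (b * (t⁻¹ * (b * 1))) = 1
    simpa only [mul_inv_rev, inv_inv, mul_assoc, mul_one, one_mul, inv_one, pow_succ, pow_zero, i_a, i_b, i_z, i_w] using mul_inv_eq_one.mpr H.hX.hN.tb
  refine Rels.cons ?_ ?_
  · show w * (a * (w * (a * 1))) = 1
    simpa only [mul_inv_rev, inv_inv, mul_assoc, mul_one, one_mul, inv_one, pow_succ, pow_zero, i_a, i_b, i_z, i_w] using mul_inv_eq_one.mpr H.hX.hN.wa
  refine Rels.cons ?_ ?_
  · show b * (w * (b * (w * (b * (w * (b * (w * (z * 1)))))))) = 1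
    simpa only [mul_inv_rev, inv_inv, mul_assoc, mul_one, one_mul, inv_one, pow_succ, pow_zero, i_a, i_b, i_z, i_w] using mul_inv_eq_one.mpr H.hX.hN.bw
  refine Rels.cons ?_ ?_
  · show a * (w * (b * (w * (b * (t⁻¹ * (w * (b * (w * (t * (t * (w * (b * (w * (t⁻¹ * 1)))))))))))))) = 1
    simpa only [mul_inv_rev, inv_inv, mul_assoc, mul_one, one_mul, inv_one, pow_succ, pow_zero, i_a, i_b, i_z, i_w] using mul_inv_eq_one.mpr H.hX.hN.pr
  refine Rels.cons ?_ ?_
  · show x * (x * (x * 1)) = 1
    simpa only [mul_inv_rev, inv_inv, mul_assoc, mul_one, one_mul, inv_one, pow_succ, pow_zero, i_a, i_b, i_z, i_w] using mul_inv_eq_one.mpr H.hX.x3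
  refine Rels.cons ?_ ?_
  · show x * (t * (x⁻¹ * (t⁻¹ * 1))) = 1
    simpa only [mul_inv_rev, inv_inv, mul_assoc, mul_one, one_mul, inv_one, pow_succ, pow_zero, i_a, i_b, i_z, i_w] using mul_inv_eq_one.mpr H.hX.xt
  refine Rels.cons ?_ ?_
  · show x * (w * (x⁻¹ * (w * 1))) = 1
    simpa only [mul_inv_rev, inv_inv, mul_assoc, mul_one, one_mul, inv_one, pow_succ, pow_zero, i_a, i_b, i_z, i_w] using mul_inv_eq_one.mpr H.hX.xw
  refine Rels.cons ?_ ?_
  · show x * (z * (x⁻¹ * (a * 1))) = 1
    simpa only [mul_inv_rev, inv_inv, mul_assoc, mul_one, one_mul, inv_one, pow_succ, pow_zero, i_a, i_b, i_z, i_w] using mul_inv_eq_one.mpr H.hX.xz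
  refine Rels.cons ?_ ?_
  · show x * (a * (x⁻¹ * (z * (a * 1)))) = 1
    simpa only [mul_inv_rev, inv_inv, mul_assoc, mul_one, one_mul, inv_one, pow_succ, pow_zero, i_a, i_b, i_z, i_w] using mul_inv_eq_one.mpr H.hX.xa
  refine Rels.cons ?_ ?_
  · show b * (x * (b * (x * (t⁻¹ * (t⁻¹ * 1))))) = 1
    simpa only [mul_inv_rev, inv_inv, mul_assoc, mul_one, one_mul, inv_one, pow_succ, pow_zero, i_a, i_b, i_z, i_w] using mul_inv_eq_one.mpr H.bx
  intro r hr
  exact absurd hr List.not_mem_nil

/-- The relations hold for the letters of any assignment satisfying the relators. -/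
theorem rel_of {G : Type*} [Group G] {e : ℕ → G} (hg : Good e 129705083257453936896) (hR : Rels e R) :
    Rel (e 1) (e 2) (e 3) (e 4) (e 5) (e 7) := by
  have j1 : (e 1)⁻¹ = e 1 := (hg.inv 1).symm
  have j2 : (e 2)⁻¹ = e 2 := (hg.inv 2).symm
  have j3 : (e 3)⁻¹ = e 3 := (hg.inv 3).symm
  have j4 : (e 4)⁻¹ = e 4 := (hg.inv 4).symm
  have j5 : (e 5)⁻¹ = e 6 := (hg.inv 5).symm
  have j6 : (e 6)⁻¹ = e 5 := (hg.inv 6).symm
  have j7 : (e 7)⁻¹ = e 8 := (hg.inv 7).symm
  have j8 : (e 8)⁻¹ = e 7 := (hg.inv 8).symm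
  have r0 : e 1 * (e 1 * 1) = 1 := hR [1, 1] (List.mem_of_elem_eq_true (by decide))
  have r1 : e 2 * (e 2 * 1) = 1 := hR [2, 2] (List.mem_of_elem_eq_true (by decide))
  have r2 : e 3 * (e 3 * 1) = 1 := hR [3, 3] (List.mem_of_elem_eq_true (by decide))
  have r3 : e 4 * (e 4 * 1) = 1 := hR [4, 4] (List.mem_of_elem_eq_true (by decide))
  have r4 : e 5 * (e 5 * (e 5 * 1)) = 1 := hR [5, 5, 5] (List.mem_of_elem_eq_true (by decide))
  have r5 : e 5 * (e 4 * (e 5 * (e 4 * (e 5 * (e 4 * 1))))) = 1 := hR [5, 4, 5, 4, 5, 4] (List.mem_of_elem_eq_true (by decide))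
  have r6 : e 3 * (e 1 * (e 3 * (e 1 * 1))) = 1 := hR [3, 1, 3, 1] (List.mem_of_elem_eq_true (by decide))
  have r7 : e 3 * (e 2 * (e 3 * (e 2 * 1))) = 1 := hR [3, 2, 3, 2] (List.mem_of_elem_eq_true (by decide))
  have r8 : e 3 * (e 4 * (e 3 * (e 4 * 1))) = 1 := hR [3, 4, 3, 4] (List.mem_of_elem_eq_true (by decide))
  have r9 : e 3 * (e 5 * (e 3 * (e 6 * 1))) = 1 := hR [3, 5, 3, 6] (List.mem_of_elem_eq_true (by decide))
  have r10 : e 1 * (e 2 * (e 1 * (e 2 * (e 3 * 1)))) = 1 := hR [1, 2, 1, 2, 3] (List.mem_of_elem_eq_true (by decide))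
  have r11 : e 5 * (e 1 * (e 6 * (e 1 * 1))) = 1 := hR [5, 1, 6, 1] (List.mem_of_elem_eq_true (by decide))
  have r12 : e 5 * (e 2 * (e 6 * (e 2 * 1))) = 1 := hR [5, 2, 6, 2] (List.mem_of_elem_eq_true (by decide))
  have r13 : e 4 * (e 1 * (e 4 * (e 1 * 1))) = 1 := hR [4, 1, 4, 1] (List.mem_of_elem_eq_true (by decide))
  have r14 : e 2 * (e 4 * (e 2 * (e 4 * (e 2 * (e 4 * (e 2 * (e 4 * (e 3 * 1)))))))) = 1 := hR [2, 4, 2, 4, 2, 4, 2, 4, 3] (List.mem_of_elem_eq_true (by decide))
  have r15 : e 1 * (e 4 * (e 2 * (e 4 * (e 2 * (e 6 * (e 4 * (e 2 * (e 4 * (e 5 * (e 5 * (e 4 * (e 2 * (e 4 * (e 6 * 1)))))))))))))) = 1 := hR [1, 4, 2, 4, 2, 6, 4, 2, 4, 5, 5, 4, 2, 4, 6] (List.mem_of_elem_eq_true (by decide))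
  have r16 : e 7 * (e 7 * (e 7 * 1)) = 1 := hR [7, 7, 7] (List.mem_of_elem_eq_true (by decide))
  have r17 : e 7 * (e 5 * (e 8 * (e 6 * 1))) = 1 := hR [7, 5, 8, 6] (List.mem_of_elem_eq_true (by decide))
  have r18 : e 7 * (e 4 * (e 8 * (e 4 * 1))) = 1 := hR [7, 4, 8, 4] (List.mem_of_elem_eq_true (by decide))
  have r19 : e 7 * (e 3 * (e 8 * (e 1 * 1))) = 1 := hR [7, 3, 8, 1] (List.mem_of_elem_eq_true (by decide))
  have r20 : e 7 * (e 1 * (e 8 * (e 3 * (e 1 * 1)))) = 1 := hR [7, 1, 8, 3, 1] (List.mem_of_elem_eq_true (by decide))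
  have r21 : e 2 * (e 7 * (e 2 * (e 7 * (e 6 * (e 6 * 1))))) = 1 := hR [2, 7, 2, 7, 6, 6] (List.mem_of_elem_eq_true (by decide))
  exact ⟨⟨⟨mul_inv_eq_one.mp (by simpa only [mul_inv_rev, mul_assoc, mul_one, one_mul, inv_one, pow_succ, pow_zero, j1, j2, j3, j4, j5, j6, j7, j8] using r0),
    mul_inv_eq_one.mp (by simpa only [mul_inv_rev, mul_assoc, mul_one, one_mul, inv_one, pow_succ, pow_zero, j1, j2, j3, j4, j5, j6, j7, j8] using r1),
    mul_inv_eq_one.mp (by simpa only [mul_inv_rev, mul_assoc, mul_one, one_mul, inv_one, pow_succ, pow_zero, j1, j2, j3, j4, j5, j6, j7, j8] using r2),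
    mul_inv_eq_one.mp (by simpa only [mul_inv_rev, mul_assoc, mul_one, one_mul, inv_one, pow_succ, pow_zero, j1, j2, j3, j4, j5, j6, j7, j8] using r3),
    mul_inv_eq_one.mp (by simpa only [mul_inv_rev, mul_assoc, mul_one, one_mul, inv_one, pow_succ, pow_zero, j1, j2, j3, j4, j5, j6, j7, j8] using r4),
    mul_inv_eq_one.mp (by simpa only [mul_inv_rev, mul_assoc, mul_one, one_mul, inv_one, pow_succ, pow_zero, j1, j2, j3, j4, j5, j6, j7, j8] using r5),
    mul_inv_eq_one.mp (by simpa only [mul_inv_rev, mul_assoc, mul_one, one_mul, inv_one, pow_succ, pow_zero, j1, j2, j3, j4, j5, j6, j7, j8] using r6),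
    mul_inv_eq_one.mp (by simpa only [mul_inv_rev, mul_assoc, mul_one, one_mul, inv_one, pow_succ, pow_zero, j1, j2, j3, j4, j5, j6, j7, j8] using r7),
    mul_inv_eq_one.mp (by simpa only [mul_inv_rev, mul_assoc, mul_one, one_mul, inv_one, pow_succ, pow_zero, j1, j2, j3, j4, j5, j6, j7, j8] using r8),
    mul_inv_eq_one.mp (by simpa only [mul_inv_rev, mul_assoc, mul_one, one_mul, inv_one, pow_succ, pow_zero, j1, j2, j3, j4, j5, j6, j7, j8] using r9),
    mul_inv_eq_one.mp (by simpa only [mul_inv_rev, mul_assoc, mul_one, one_mul, inv_one, pow_succ, pow_zero, j1, j2, j3, j4, j5, j6, j7, j8] using r10),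
    mul_inv_eq_one.mp (by simpa only [mul_inv_rev, mul_assoc, mul_one, one_mul, inv_one, pow_succ, pow_zero, j1, j2, j3, j4, j5, j6, j7, j8] using r11),
    mul_inv_eq_one.mp (by simpa only [mul_inv_rev, mul_assoc, mul_one, one_mul, inv_one, pow_succ, pow_zero, j1, j2, j3, j4, j5, j6, j7, j8] using r12),
    mul_inv_eq_one.mp (by simpa only [mul_inv_rev, mul_assoc, mul_one, one_mul, inv_one, pow_succ, pow_zero, j1, j2, j3, j4, j5, j6, j7, j8] using r13),
    mul_inv_eq_one.mp (by simpa only [mul_inv_rev, mul_assoc, mul_one, one_mul, inv_one, pow_succ, pow_zero, j1, j2, j3, j4, j5, j6, j7, j8] using r14),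
    mul_inv_eq_one.mp (by simpa only [mul_inv_rev, mul_assoc, mul_one, one_mul, inv_one, pow_succ, pow_zero, j1, j2, j3, j4, j5, j6, j7, j8] using r15)⟩,
    mul_inv_eq_one.mp (by simpa only [mul_inv_rev, mul_assoc, mul_one, one_mul, inv_one, pow_succ, pow_zero, j1, j2, j3, j4, j5, j6, j7, j8] using r16),
    mul_inv_eq_one.mp (by simpa only [mul_inv_rev, mul_assoc, mul_one, one_mul, inv_one, pow_succ, pow_zero, j1, j2, j3, j4, j5, j6, j7, j8] using r17),
    mul_inv_eq_one.mp (by simpa only [mul_inv_rev, mul_assoc, mul_one, one_mul, inv_one, pow_succ, pow_zero, j1, j2, j3, j4, j5, j6, j7, j8] using r18),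
    mul_inv_eq_one.mp (by simpa only [mul_inv_rev, mul_assoc, mul_one, one_mul, inv_one, pow_succ, pow_zero, j1, j2, j3, j4, j5, j6, j7, j8] using r19),
    mul_inv_eq_one.mp (by simpa only [mul_inv_rev, mul_assoc, mul_one, one_mul, inv_one, pow_succ, pow_zero, j1, j2, j3, j4, j5, j6, j7, j8] using r20)⟩,
    mul_inv_eq_one.mp (by simpa only [mul_inv_rev, mul_assoc, mul_one, one_mul, inv_one, pow_succ, pow_zero, j1, j2, j3, j4, j5, j6, j7, j8] using r21)⟩

theorem gen_top : gen (pgEv 129705083257453936896 R) [[1], [2], [3], [4], [5], [7]] = ⊤ := pg_gen (n := 9) (by norm_num) (by decide)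
namespace c

noncomputable def get (y : ℕ) : ℕ := (sel (nat_lit 1) y (nat_lit 0x0) (sel (nat_lit 2) y (nat_lit 0x700002f00004c0800004c00002f0600004b0000340500003400004b0700004b00004a0800004a00004b0700002d00004b0800004b00002d0400002e00004a0400004a00002e0500003300004a0600004a0000330800002d00004a0700004a00002d0400002c0000490400004900002c07000028000049080000490000280400002b0000480400004800002b08000028000048070000480000280500004700004606000046000047050000280000470600004700002806000028000046050000460000280400003600004504000045000036020000280000450200004500002804000027000044040000440000270800002600004407000044000026040000250000430400004300002507000024000043080000430000240500004200004006000040000042050000240000420600004200002406000041000023050000230000410700002100004108000041000021050000400000240600002400004004000021000040040000400000210500003f0000220600002200003f0800002000003f0700003f0000200500002600003e0600003e0000260400002000003e0400003e0000200400001f00003d0400003d00001f0800001e00003d0700003d00001e0100002000003c0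100003c0000200600001e00003c0500003c00001e0100003700003b0100003b0000370600001d00003b0500003b00001d0300002800003a0300003a0000280400001c00003a0400003a00001c0400001b0000390400003900001b0700001a0000390800003900001a05000038000037060000370000380500001a0000380600003800001a03000020000037030000370000200600001a0000370500003700001a0200001a0000360200003600001a0200001f0000350200003500001f03000019000035030000350000190400001900003404000034000019070000170000340800003400001704000018000033040000330000180800001700003307000033000017040000160000320400003200001607000014000032080000320000140500003100002f0600002f00003105000014000031060000310000140200003000002b0200002b00003007000013000030080000300000130500002f0000140600001400002f0400001300002f0400002f0000130200002c00002e0200002e00002c0800001200002e0700002e0000120500001700002d0600002d0000170400001200002d0400002d0000120700001100002c0800002c0000110800001100002b0700002b0000110500002a0000290600002900002a0500001100002a0600002a00001102000012000029020000290000120600001100002905000029000011040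000110000280400002800001102000016000027020000270000160800000e0000270700002700000e0400000e0000260400002600000e02000025000018020000180000250700000d0000250800002500000d0400000d0000240400002400000d04000010000023040000230000100700000c0000230800002300000c0400000f0000220400002200000f0800000c0000220700002200000c0500000c0000210600002100000c0600000c0000200500002000000c0300000f00001f0300001f00000f0800000b00001f0700001f00000b0100000c00001e0100001e00000c0400000b00001e0400001e00000b0100001a00001d0100001d00001a0400000a00001d0400001d00000a0300001100001c0300001c0000110200000900001c0200001c0000090700000800001b0800001b0000080300000c00001a0300001a00000c0400000800001a0400001a0000080200001900000f0200000f000019070000060000190800001900000605000007000018060000180000070800000600001807000018000006040000060000170400001700000607000005000016080000160000050500001500000706000007000015080000050000150700001500000504000005000014040000140000050500001300001206000012000013050000040000130600001300000406000004000012050000120000040200000400001102000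01100000407000003000010080000100000030800000300000f0700000f0000030200000600000e0200000e0000060500000300000e0600000e0000030200000500000d0200000d0000050600000300000d0500000d0000030400000300000c0400000c0000030100000300000b0100000b0000030100000800000a0100000a0000080200000200000a0200000a000002030000040000090300000900000404000001000009040000090000010300000300000803000008000003020000010000080200000800000108000000000007070000070000000500000600000506000005000006050000000000060600000600000006000000000005050000050000000400000000000404000004000000020000000000030200000300000001000000000002010000020000000300000000000103000001000000) (nat_lit 0xa000000000000090000000000000300000000000003000000000000000000010000000000000000000100000008000003000000030000080000001b0000100000001000001b000000390000230000002300003900000041000055000000550000410100004a00004a0100004a00004a0000006200004a0000004a0000620000006300004b0000004b0000630000004e0000340000003400004e00000035000019000000190000350000001f00000f0000000f00001f0000003d000022000000220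0003d0000003f0000570000005700003f000000540000560000005600005401000064000058010000580000640400005400006404000064000054080000530000640700006400005308000062000063070000630000620500004e0000630600006300004e0300004b0000630300006300004b0100004a0000620100006200004a0600005d0000610500006100005d02000049000061020000610000490200006000005d0200005d000060060000600000490500004900006007000047000060080000600000470500005f0000480600004800005f0200005e00005f0200005f00005e0800004600005f0700005f0000460400005200005e0400005e0000520700004500005e0800005e0000450400005100005d0400005d0000510800004500005d0700005d0000450500005c00005b0600005b00005c0500004500005c0600005c0000450200004600005b0200005b0000460600004500005b0500005b0000450600005a0000430500004300005a0600005900005a0500005a0000590700004200005a0800005a000042040000410000590400005900004107000040000059080000590000400400003f0000580400005800003f05000044000058060000580000440800003e0000580700005800003e0500005700003d0600003d00005701000054000057010000570000540800003c0000570700005700003c0100003f000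0560100005600003f0800003b0000560700005600003b020000550000510200005100005506000055000039050000390000550700003800005508000055000038020000520000540200005400005208000037000054070000540000370400003700005304000053000037070000360000520800005200003608000036000051070000510000360500005000004f0600004f00005005000036000050060000500000360200003700004f0200004f0000370600003600004f0500004f0000360400003500004e0400004e0000350300003400004e0300004e0000340600004d0000320500003200004d0600004c00004d0500004d00004c0700003100004d0800004d0000310400003000004c0400004c000030)))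
noncomputable def gs (y : ℕ) : ℕ := (sel (nat_lit 5) y (sel (nat_lit 2) y (sel (nat_lit 1) y (nat_lit 0x0) (nat_lit 0x0)) (sel (nat_lit 3) y (nat_lit 0x0) (sel (nat_lit 4) y (nat_lit 0x0) (nat_lit 0x8000000800000080000008000007000020e00002090000237800000080000008000001000022e000023180000008000000800000080000008000000800000600002240000204000020b800000080000050000220000020400002098000000800000080000008000004000021800002020000201000021180000008000003000021400002000000207800000080000020000210000020000002058000000800000080000010000208000020b800000080000008000000800000080000008000000)))) (sel (nat_lit 8) y (sel (nat_lit 6) y (nat_lit 0x800000080000010000276000027b800000080000050000276000022c000022f80000008000000800000800002700000226000020a0000209000023b80000008000000800000d0000240000023800002360000223000026b80000008000000800000c0000264000021e000022b8000000800000b0000260000021e0000229800000080000008000000800000a0000258000021c0000229800000080000090000254000021c000021f800000080000090000250000021a000024780000008000002000024c0000216000022d80000008000000800000300002460000212000021f80000008000008000022800002040000209000020c000024380000008000007000023e000020a000020f)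 (sel (nat_lit 7) y (nat_lit 0x800001100002bc0000256000025d8000000800001100002b8000025200002a98000000800000300002b4000024e00002758000000800000c00002b00000246000024b8000000800000100002a800002ad8000000800001000002a80000248000025d80000008000000800000f00002a20000245000025b8000000800000c000029e000023c00002438000000800000b000029a000023c000023f8000000800000c00002960000234000023b80000008000001000028d000029380000008000008000027e000022c000022f0000232000028f8000000800000e0000234000020800002070000231000028b8000000800000800002860000279000027c000027a00002818000000800000e0000282000022e0000206000020b000023d80000008000000) (nat_lit 0x80000008000012000029e000028500002f9800001400002f200002f98000000800000b00002f200002820000287800000700002f20000284000029b8000000800000c00002ee000027400002818000000800000b00002ea0000274000027f8000000800000100002e400002e780000008000000800001300002e000002b700002b4000024c00002140000211000024700002a78000000800000b00002dc000026e00002718000000800000c00002d80000268000026b8000000800000100002cf00002d5800000080000120000264000025f00002d18000000800000e00002680000220000021f000025f00002cd800000080000070000260000025d00002c98000000800000e00002c4000025c000021e0000225000026f8000000800000b00002c0000025400002598000000)))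 (sel (nat_lit 9) y (nat_lit 0x8000000800001200002d800002d500003398000012000033800002d700003358000000800000c000033400002cc00002d18000000800000b000032e00002c400002c98000007000032e00002c600002dd8000000800000700002c000002bd00003298000016000032800002be00002ab000031b80000008000016000032400002ba00002aa00002c980000008000008000031400002a600002a900002ae000031f800001200002b000002ad000031f80000008000008000031a000030f00003120000310000031780000008000000800000080000008000001000030c000031180000008000005000030c00002a600002a980000008000015000030800002a000002a38000000800001200002960000293000030380000120000302000029500002ff8000000800000c00002fe000028a000028f) (sel (nat_lit 10) y (nat_lit 0x800002200003230000349000035d000035a00002f0000028900002f7000037d00002f4000029c000026c00002db000033c000033a00003368000021000035f000037b800002000002fa00003780000364800001d00002fd00003760000363800001e00002a00000374000030b800001f0000245000037200002a5800001e0000263000037000002c2800001d00002ca000036f000032d800001c000032a000036d0000326800001b00003260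000333000036a0000368800001a000033000002de00002720000299000030600003040000300000029100002ed00003520000350000034c000031d0000369800000b00003660000318000031b80000008000019000036000002fb000035f8000018000036000002fd0000309800000080000008000017000035a0000356000035980000008000008000034600002e000002e500002e80000355800001200002ee00002e700003558000000800000700002ea00002e5000034f8000008000034e000034100003440000342000034b8000000800000c000034a00002e200003178000000800000b000034600002e2000031580000008000001000033e000034380000008000005000033e00002e000002e5) (nat_lit 0x8000027800002780000278000027800002780000278000027800002780000278000027800002780000278000027800002780000278000027800002780000278000027800002780000278000027800002780000278000027800002780000260000389800002500002010000387800001f0000205000038400002108000024000022b0000382000024a800001e0000267000038000002b2800002300002d2000037f0000321)))))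
noncomputable def gd (y : ℕ) : ℕ := (nat_lit 0x3660000360000035e000035a0000354000034e000034a00003460000342000033e00003380000334000032e00003280000324000031e000031a0000318000031600003140000310000030c0000308000030200002fe00002f800002f200002ee00002ea00002e600002e400002e000002dc00002d800002d400002d000002cc00002c800002c400002c000002bc00002b800002b400002b000002ac00002a800002a600002a2000029e000029a00002960000292000028e000028a000028600002820000280000027e000027a000027600002740000270000026e000026a000026800002640000260000025e000025c000025800002540000250000024c000024a00002460000242000023e000023c000023a000023600002340000230000022e000022c000022a000022800002240000220000021e000021c000021800002140000210000020e000020a000020800002060000204000020200002000000000)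
noncomputable def gwh_0 (y : ℕ) : ℕ := (sel (nat_lit 8) y (sel (nat_lit 4) y (sel (nat_lit 2) y (sel (nat_lit 1) y (nat_lit 0x50505000000003000) (nat_lit 0x2030203000003001001)) (sel (nat_lit 3) y (nat_lit 0x4030403000003001002) (nat_lit 0x203010201000003002003))) (sel (nat_lit 6) y (sel (nat_lit 5) y (nat_lit 0x6020502000002002004) (nat_lit 0x5020602000000004004)) (sel (nat_lit 7) y (nat_lit 0x8060705000002002005) (nat_lit 0x70606020702000003003006)))) (sel (nat_lit 12) y (sel (nat_lit 10) y (sel (nat_lit 9) y (nat_lit 0x4010401000002002007) (nat_lit 0x8010703000002002008)) (sel (nat_lit 11) y (nat_lit 0x8040704000002002009) (nat_lit 0x7040804000000004009))) (sel (nat_lit 14) y (sel (nat_lit 13) y (nat_lit 0x70207060602000001005006) (nat_lit 0x4050405040500000300300a)) (sel (nat_lit 15) y (nat_lit 0x3020302000002002001) (nat_lit 0x603050300000300100b)))))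
noncomputable def gwh_1 (y : ℕ) : ℕ := (sel (nat_lit 24) y (sel (nat_lit 20) y (sel (nat_lit 18) y (sel (nat_lit 17) y (nat_lit 0x601050100000200200c) (nat_lit 0x7050806000000004005)) (sel (nat_lit 19) y (nat_lit 0x2040204020403020400000200700d) (nat_lit 0x7070700000000300e))) (sel (nat_lit 22) y (sel (nat_lit 21) y (nat_lit 0x3040304000002002002) (nat_lit 0x80301070100000200300f)) (sel (nat_lit 23) y (nat_lit 0x2050206000003001004) (nat_lit 0x306030500000200200b)))) (sel (nat_lit 28) y (sel (nat_lit 26) y (sel (nat_lit 25) y (nat_lit 0x1070308000003001008) (nat_lit 0x4020402060402040505040204060100000100e010)) (sel (nat_lit 27) y (nat_lit 0x401040100001000004007) (nat_lit 0x1000100001000003011))) (sel (nat_lit 30) y (sel (nat_lit 29) y (nat_lit 0x5000600001000003012) (nat_lit 0x4000400001000003013)) (sel (nat_lit 31) y (nat_lit 0x2000200001000003014) (nat_lit 0x7000800001000003015)))))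
noncomputable def gwh_2 (y : ℕ) : ℕ := (sel (nat_lit 35) y (sel (nat_lit 33) y (nat_lit 0x101000000002016) (sel (nat_lit 34) y (nat_lit 0x4050504020406010402040206040200001008007010) (nat_lit 0x6000500001000003017))) (sel (nat_lit 36) y (nat_lit 0x8000700001000003018) (sel (nat_lit 37) y (nat_lit 0x303000000002019) (nat_lit 0x30a00000000201a))))
noncomputable def gwh (y : ℕ) : ℕ := (sel (nat_lit 16) y (gwh_0 y) (sel (nat_lit 32) y (gwh_1 y) (gwh_2 y)))
def sg : List (List ℕ) := [[], [1], [2], [3], [4], [5], [6], [7], [8], [3], [3]]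
def BL : List ℕ := [0x50505, 0x3020302, 0x3040304, 0x102010203, 0x5020602, 0x7050806, 0x20702070606, 0x4010401, 0x7030801, 0x7040804, 0x50405040504, 0x3050306, 0x5010601, 0x20402040204020403, 0x70707, 0x701080301, 0x10402040206040204050504020406, 0x10001, 0x50006, 0x40004, 0x20002, 0x70008, 0x101, 0x60005, 0x80007, 0x303, 0x30a]
def Sub : List (List ℕ) := []
theorem hA : prepA 129705083257453936896 PX02c.R sg 10927685746443616478429440 BL Sub get gd = true := by decide +kernel
theorem hw : allR (okW BL gwh) 0 38 = true := by decide +kernel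
theorem b0 : allR (blk get gs (gwB gwh 38) gd 10927685746443616478429440) 4 7 = true := by decide +kernel
theorem hb : ∀ b, 4 ≤ b → b < 11 → blk get gs (gwB gwh 38) gd 10927685746443616478429440 b = true :=
  (allR_range b0 (by norm_num : 4 + 7 = 11))
def TL : List (ℕ × List ℕ) := [(650, [3])]
theorem hM : prepM sg get 11 TL = true := by decide +kernel
theorem mem {G : Type*} [Group G] {ev : ℕ → G} (hev : Good ev 129705083257453936896) (hR : Rels ev PX02c.R) :
    ∀ w ∈ TL.map Prod.snd, evL ev w ∈ gen ev Sub :=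
  cert_mem hev hR hA hM hw hb

end c

theorem res {G : Type*} [Group G] {a b z w t x : G} (H : Rel a b z w t x) : z = 1 := by
  have i_a : a⁻¹ = a := inv_eq_of_mul_eq_one_right H.hX.hN.aa
  have i_b : b⁻¹ = b := inv_eq_of_mul_eq_one_right H.hX.hN.bb
  have i_z : z⁻¹ = z := inv_eq_of_mul_eq_one_right H.hX.hN.zz
  have i_w : w⁻¹ = w := inv_eq_of_mul_eq_one_right H.hX.hN.ww
  have h : z * 1 = 1 := rels_of_mem_nil (c.mem (good H) (rels H)) [3] (List.mem_of_elem_eq_true (by decide))
  exact mul_inv_eq_one.mp (by simpa only [mul_inv_rev, inv_inv, mul_assoc, mul_one, one_mul, inv_one, pow_succ, pow_zero, i_a, i_b, i_z, i_w] using h)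

end PX02c

namespace PX10c

structure Rel {G : Type*} [Group G] (a b z w t x : G) : Prop where
  hX : PX0.Rel a b z w t x
  bx : (b * x) ^ 2 = z * t ^ 0

def R : List (List ℕ) := [[1, 1], [2, 2], [3, 3], [4, 4], [5, 5, 5], [5, 4, 5, 4, 5, 4], [3, 1, 3, 1], [3, 2, 3, 2], [3, 4, 3, 4], [3, 5, 3, 6], [1, 2, 1, 2, 3], [5, 1, 6, 1], [5, 2, 6, 2], [4, 1, 4, 1], [2, 4, 2, 4, 2, 4, 2, 4, 3], [1, 4, 2, 4, 2, 6, 4, 2, 4, 5, 5, 4, 2, 4, 6], [7, 7, 7], [7, 5, 8, 6], [7, 4, 8, 4], [7, 3, 8, 1], [7, 1, 8, 3, 1], [2, 7, 2, 7, 3]]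

def ev {G : Type*} [Group G] (a b z w t x : G) (l : ℕ) : G := [1, a, b, z, w, t, t⁻¹, x, x⁻¹].getD l 1

theorem good {G : Type*} [Group G] {a b z w t x : G} (H : Rel a b z w t x) : Good (ev a b z w t x) 129705083257453936896 := by
  have i_a : a⁻¹ = a := inv_eq_of_mul_eq_one_right H.hX.hN.aa
  have i_b : b⁻¹ = b := inv_eq_of_mul_eq_one_right H.hX.hN.bb
  have i_z : z⁻¹ = z := inv_eq_of_mul_eq_one_right H.hX.hN.zz
  have i_w : w⁻¹ = w := inv_eq_of_mul_eq_one_right H.hX.hN.ww
  refine good_list (n := 9) rfl (by norm_num) rfl fun l hl => ?_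
  interval_cases l
  · exact inv_one.symm
  · exact i_a.symm
  · exact i_b.symm
  · exact i_z.symm
  · exact i_w.symm
  · rfl
  · exact (inv_inv _).symm
  · rfl
  · exact (inv_inv _).symm

theorem rels {G : Type*} [Group G] {a b z w t x : G} (H : Rel a b z w t x) : Rels (ev a b z w t x) R := by
  have i_a : a⁻¹ = a := inv_eq_of_mul_eq_one_right H.hX.hN.aa
  have i_b : b⁻¹ = b := inv_eq_of_mul_eq_one_right H.hX.hN.bb
  have i_z : z⁻¹ = z := inv_eq_of_mul_eq_one_right H.hX.hN.zz
  have i_w : w⁻¹ = w := inv_eq_of_mul_eq_one_right H.hX.hN.ww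
  unfold R
  refine Rels.cons ?_ ?_
  · show a * (a * 1) = 1
    simpa only [mul_inv_rev, inv_inv, mul_assoc, mul_one, one_mul, inv_one, pow_succ, pow_zero, i_a, i_b, i_z, i_w] using mul_inv_eq_one.mpr H.hX.hN.aa
  refine Rels.cons ?_ ?_
  · show b * (b * 1) = 1
    simpa only [mul_inv_rev, inv_inv, mul_assoc, mul_one, one_mul, inv_one, pow_succ, pow_zero, i_a, i_b, i_z, i_w] using mul_inv_eq_one.mpr H.hX.hN.bb
  refine Rels.cons ?_ ?_
  · show z * (z * 1) = 1
    simpa only [mul_inv_rev, inv_inv, mul_assoc, mul_one, one_mul, inv_one, pow_succ, pow_zero, i_a, i_b, i_z, i_w] using mul_inv_eq_one.mpr H.hX.hN.zz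
  refine Rels.cons ?_ ?_
  · show w * (w * 1) = 1
    simpa only [mul_inv_rev, inv_inv, mul_assoc, mul_one, one_mul, inv_one, pow_succ, pow_zero, i_a, i_b, i_z, i_w] using mul_inv_eq_one.mpr H.hX.hN.ww
  refine Rels.cons ?_ ?_
  · show t * (t * (t * 1)) = 1
    simpa only [mul_inv_rev, inv_inv, mul_assoc, mul_one, one_mul, inv_one, pow_succ, pow_zero, i_a, i_b, i_z, i_w] using mul_inv_eq_one.mpr H.hX.hN.t3
  refine Rels.cons ?_ ?_
  · show t * (w * (t * (w * (t * (w * 1))))) = 1
    simpa only [mul_inv_rev, inv_inv, mul_assoc, mul_one, one_mul, inv_one, pow_succ, pow_zero, i_a, i_b, i_z, i_w] using mul_inv_eq_one.mpr H.hX.hN.tw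
  refine Rels.cons ?_ ?_
  · show z * (a * (z * (a * 1))) = 1
    simpa only [mul_inv_rev, inv_inv, mul_assoc, mul_one, one_mul, inv_one, pow_succ, pow_zero, i_a, i_b, i_z, i_w] using mul_inv_eq_one.mpr H.hX.hN.za
  refine Rels.cons ?_ ?_
  · show z * (b * (z * (b * 1))) = 1
    simpa only [mul_inv_rev, inv_inv, mul_assoc, mul_one, one_mul, inv_one, pow_succ, pow_zero, i_a, i_b, i_z, i_w] using mul_inv_eq_one.mpr H.hX.hN.zb
  refine Rels.cons ?_ ?_
  · show z * (w * (z * (w * 1))) = 1
    simpa only [mul_inv_rev, inv_inv, mul_assoc, mul_one, one_mul, inv_one, pow_succ, pow_zero, i_a, i_b, i_z, i_w] using mul_inv_eq_one.mpr H.hX.hN.zw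
  refine Rels.cons ?_ ?_
  · show z * (t * (z * (t⁻¹ * 1))) = 1
    simpa only [mul_inv_rev, inv_inv, mul_assoc, mul_one, one_mul, inv_one, pow_succ, pow_zero, i_a, i_b, i_z, i_w] using mul_inv_eq_one.mpr H.hX.hN.zt
  refine Rels.cons ?_ ?_
  · show a * (b * (a * (b * (z * 1)))) = 1
    simpa only [mul_inv_rev, inv_inv, mul_assoc, mul_one, one_mul, inv_one, pow_succ, pow_zero, i_a, i_b, i_z, i_w] using mul_inv_eq_one.mpr H.hX.hN.ab
  refine Rels.cons ?_ ?_
  · show t * (a * (t⁻¹ * (a * 1))) = 1
    simpa only [mul_inv_rev, inv_inv, mul_assoc, mul_one, one_mul, inv_one, pow_succ, pow_zero, i_a, i_b, i_z, i_w] using mul_inv_eq_one.mpr H.hX.hN.ta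
  refine Rels.cons ?_ ?_
  · show t * (b * (t⁻¹ * (b * 1))) = 1
    simpa only [mul_inv_rev, inv_inv, mul_assoc, mul_one, one_mul, inv_one, pow_succ, pow_zero, i_a, i_b, i_z, i_w] using mul_inv_eq_one.mpr H.hX.hN.tb
  refine Rels.cons ?_ ?_
  · show w * (a * (w * (a * 1))) = 1
    simpa only [mul_inv_rev, inv_inv, mul_assoc, mul_one, one_mul, inv_one, pow_succ, pow_zero, i_a, i_b, i_z, i_w] using mul_inv_eq_one.mpr H.hX.hN.wa
  refine Rels.cons ?_ ?_
  · show b * (w * (b * (w * (b * (w * (b * (w * (z * 1)))))))) = 1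
    simpa only [mul_inv_rev, inv_inv, mul_assoc, mul_one, one_mul, inv_one, pow_succ, pow_zero, i_a, i_b, i_z, i_w] using mul_inv_eq_one.mpr H.hX.hN.bw
  refine Rels.cons ?_ ?_
  · show a * (w * (b * (w * (b * (t⁻¹ * (w * (b * (w * (t * (t * (w * (b * (w * (t⁻¹ * 1)))))))))))))) = 1
    simpa only [mul_inv_rev, inv_inv, mul_assoc, mul_one, one_mul, inv_one, pow_succ, pow_zero, i_a, i_b, i_z, i_w] using mul_inv_eq_one.mpr H.hX.hN.pr
  refine Rels.cons ?_ ?_
  · show x * (x * (x * 1)) = 1
    simpa only [mul_inv_rev, inv_inv, mul_assoc, mul_one, one_mul, inv_one, pow_succ, pow_zero, i_a, i_b, i_z, i_w] using mul_inv_eq_one.mpr H.hX.x3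
  refine Rels.cons ?_ ?_
  · show x * (t * (x⁻¹ * (t⁻¹ * 1))) = 1
    simpa only [mul_inv_rev, inv_inv, mul_assoc, mul_one, one_mul, inv_one, pow_succ, pow_zero, i_a, i_b, i_z, i_w] using mul_inv_eq_one.mpr H.hX.xt
  refine Rels.cons ?_ ?_
  · show x * (w * (x⁻¹ * (w * 1))) = 1
    simpa only [mul_inv_rev, inv_inv, mul_assoc, mul_one, one_mul, inv_one, pow_succ, pow_zero, i_a, i_b, i_z, i_w] using mul_inv_eq_one.mpr H.hX.xw
  refine Rels.cons ?_ ?_
  · show x * (z * (x⁻¹ * (a * 1))) = 1
    simpa only [mul_inv_rev, inv_inv, mul_assoc, mul_one, one_mul, inv_one, pow_succ, pow_zero, i_a, i_b, i_z, i_w] using mul_inv_eq_one.mpr H.hX.xz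
  refine Rels.cons ?_ ?_
  · show x * (a * (x⁻¹ * (z * (a * 1)))) = 1
    simpa only [mul_inv_rev, inv_inv, mul_assoc, mul_one, one_mul, inv_one, pow_succ, pow_zero, i_a, i_b, i_z, i_w] using mul_inv_eq_one.mpr H.hX.xa
  refine Rels.cons ?_ ?_
  · show b * (x * (b * (x * (z * 1)))) = 1
    simpa only [mul_inv_rev, inv_inv, mul_assoc, mul_one, one_mul, inv_one, pow_succ, pow_zero, i_a, i_b, i_z, i_w] using mul_inv_eq_one.mpr H.bx
  intro r hr
  exact absurd hr List.not_mem_nil

/-- The relations hold for the letters of any assignment satisfying the relators. -/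
theorem rel_of {G : Type*} [Group G] {e : ℕ → G} (hg : Good e 129705083257453936896) (hR : Rels e R) :
    Rel (e 1) (e 2) (e 3) (e 4) (e 5) (e 7) := by
  have j1 : (e 1)⁻¹ = e 1 := (hg.inv 1).symm
  have j2 : (e 2)⁻¹ = e 2 := (hg.inv 2).symm
  have j3 : (e 3)⁻¹ = e 3 := (hg.inv 3).symm
  have j4 : (e 4)⁻¹ = e 4 := (hg.inv 4).symm
  have j5 : (e 5)⁻¹ = e 6 := (hg.inv 5).symm
  have j6 : (e 6)⁻¹ = e 5 := (hg.inv 6).symm
  have j7 : (e 7)⁻¹ = e 8 := (hg.inv 7).symm
  have j8 : (e 8)⁻¹ = e 7 := (hg.inv 8).symm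
  have r0 : e 1 * (e 1 * 1) = 1 := hR [1, 1] (List.mem_of_elem_eq_true (by decide))
  have r1 : e 2 * (e 2 * 1) = 1 := hR [2, 2] (List.mem_of_elem_eq_true (by decide))
  have r2 : e 3 * (e 3 * 1) = 1 := hR [3, 3] (List.mem_of_elem_eq_true (by decide))
  have r3 : e 4 * (e 4 * 1) = 1 := hR [4, 4] (List.mem_of_elem_eq_true (by decide))
  have r4 : e 5 * (e 5 * (e 5 * 1)) = 1 := hR [5, 5, 5] (List.mem_of_elem_eq_true (by decide))
  have r5 : e 5 * (e 4 * (e 5 * (e 4 * (e 5 * (e 4 * 1))))) = 1 := hR [5, 4, 5, 4, 5, 4] (List.mem_of_elem_eq_true (by decide))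
  have r6 : e 3 * (e 1 * (e 3 * (e 1 * 1))) = 1 := hR [3, 1, 3, 1] (List.mem_of_elem_eq_true (by decide))
  have r7 : e 3 * (e 2 * (e 3 * (e 2 * 1))) = 1 := hR [3, 2, 3, 2] (List.mem_of_elem_eq_true (by decide))
  have r8 : e 3 * (e 4 * (e 3 * (e 4 * 1))) = 1 := hR [3, 4, 3, 4] (List.mem_of_elem_eq_true (by decide))
  have r9 : e 3 * (e 5 * (e 3 * (e 6 * 1))) = 1 := hR [3, 5, 3, 6] (List.mem_of_elem_eq_true (by decide))
  have r10 : e 1 * (e 2 * (e 1 * (e 2 * (e 3 * 1)))) = 1 := hR [1, 2, 1, 2, 3] (List.mem_of_elem_eq_true (by decide))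
  have r11 : e 5 * (e 1 * (e 6 * (e 1 * 1))) = 1 := hR [5, 1, 6, 1] (List.mem_of_elem_eq_true (by decide))
  have r12 : e 5 * (e 2 * (e 6 * (e 2 * 1))) = 1 := hR [5, 2, 6, 2] (List.mem_of_elem_eq_true (by decide))
  have r13 : e 4 * (e 1 * (e 4 * (e 1 * 1))) = 1 := hR [4, 1, 4, 1] (List.mem_of_elem_eq_true (by decide))
  have r14 : e 2 * (e 4 * (e 2 * (e 4 * (e 2 * (e 4 * (e 2 * (e 4 * (e 3 * 1)))))))) = 1 := hR [2, 4, 2, 4, 2, 4, 2, 4, 3] (List.mem_of_elem_eq_true (by decide))
  have r15 : e 1 * (e 4 * (e 2 * (e 4 * (e 2 * (e 6 * (e 4 * (e 2 * (e 4 * (e 5 * (e 5 * (e 4 * (e 2 * (e 4 * (e 6 * 1)))))))))))))) = 1 := hR [1, 4, 2, 4, 2, 6, 4, 2, 4, 5, 5, 4, 2, 4, 6] (List.mem_of_elem_eq_true (by decide))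
  have r16 : e 7 * (e 7 * (e 7 * 1)) = 1 := hR [7, 7, 7] (List.mem_of_elem_eq_true (by decide))
  have r17 : e 7 * (e 5 * (e 8 * (e 6 * 1))) = 1 := hR [7, 5, 8, 6] (List.mem_of_elem_eq_true (by decide))
  have r18 : e 7 * (e 4 * (e 8 * (e 4 * 1))) = 1 := hR [7, 4, 8, 4] (List.mem_of_elem_eq_true (by decide))
  have r19 : e 7 * (e 3 * (e 8 * (e 1 * 1))) = 1 := hR [7, 3, 8, 1] (List.mem_of_elem_eq_true (by decide))
  have r20 : e 7 * (e 1 * (e 8 * (e 3 * (e 1 * 1)))) = 1 := hR [7, 1, 8, 3, 1] (List.mem_of_elem_eq_true (by decide))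
  have r21 : e 2 * (e 7 * (e 2 * (e 7 * (e 3 * 1)))) = 1 := hR [2, 7, 2, 7, 3] (List.mem_of_elem_eq_true (by decide))
  exact ⟨⟨⟨mul_inv_eq_one.mp (by simpa only [mul_inv_rev, mul_assoc, mul_one, one_mul, inv_one, pow_succ, pow_zero, j1, j2, j3, j4, j5, j6, j7, j8] using r0),
    mul_inv_eq_one.mp (by simpa only [mul_inv_rev, mul_assoc, mul_one, one_mul, inv_one, pow_succ, pow_zero, j1, j2, j3, j4, j5, j6, j7, j8] using r1),
    mul_inv_eq_one.mp (by simpa only [mul_inv_rev, mul_assoc, mul_one, one_mul, inv_one, pow_succ, pow_zero, j1, j2, j3, j4, j5, j6, j7, j8] using r2),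
    mul_inv_eq_one.mp (by simpa only [mul_inv_rev, mul_assoc, mul_one, one_mul, inv_one, pow_succ, pow_zero, j1, j2, j3, j4, j5, j6, j7, j8] using r3),
    mul_inv_eq_one.mp (by simpa only [mul_inv_rev, mul_assoc, mul_one, one_mul, inv_one, pow_succ, pow_zero, j1, j2, j3, j4, j5, j6, j7, j8] using r4),
    mul_inv_eq_one.mp (by simpa only [mul_inv_rev, mul_assoc, mul_one, one_mul, inv_one, pow_succ, pow_zero, j1, j2, j3, j4, j5, j6, j7, j8] using r5),
    mul_inv_eq_one.mp (by simpa only [mul_inv_rev, mul_assoc, mul_one, one_mul, inv_one, pow_succ, pow_zero, j1, j2, j3, j4, j5, j6, j7, j8] using r6),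
    mul_inv_eq_one.mp (by simpa only [mul_inv_rev, mul_assoc, mul_one, one_mul, inv_one, pow_succ, pow_zero, j1, j2, j3, j4, j5, j6, j7, j8] using r7),
    mul_inv_eq_one.mp (by simpa only [mul_inv_rev, mul_assoc, mul_one, one_mul, inv_one, pow_succ, pow_zero, j1, j2, j3, j4, j5, j6, j7, j8] using r8),
    mul_inv_eq_one.mp (by simpa only [mul_inv_rev, mul_assoc, mul_one, one_mul, inv_one, pow_succ, pow_zero, j1, j2, j3, j4, j5, j6, j7, j8] using r9),
    mul_inv_eq_one.mp (by simpa only [mul_inv_rev, mul_assoc, mul_one, one_mul, inv_one, pow_succ, pow_zero, j1, j2, j3, j4, j5, j6, j7, j8] using r10),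
    mul_inv_eq_one.mp (by simpa only [mul_inv_rev, mul_assoc, mul_one, one_mul, inv_one, pow_succ, pow_zero, j1, j2, j3, j4, j5, j6, j7, j8] using r11),
    mul_inv_eq_one.mp (by simpa only [mul_inv_rev, mul_assoc, mul_one, one_mul, inv_one, pow_succ, pow_zero, j1, j2, j3, j4, j5, j6, j7, j8] using r12),
    mul_inv_eq_one.mp (by simpa only [mul_inv_rev, mul_assoc, mul_one, one_mul, inv_one, pow_succ, pow_zero, j1, j2, j3, j4, j5, j6, j7, j8] using r13),
    mul_inv_eq_one.mp (by simpa only [mul_inv_rev, mul_assoc, mul_one, one_mul, inv_one, pow_succ, pow_zero, j1, j2, j3, j4, j5, j6, j7, j8] using r14),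
    mul_inv_eq_one.mp (by simpa only [mul_inv_rev, mul_assoc, mul_one, one_mul, inv_one, pow_succ, pow_zero, j1, j2, j3, j4, j5, j6, j7, j8] using r15)⟩,
    mul_inv_eq_one.mp (by simpa only [mul_inv_rev, mul_assoc, mul_one, one_mul, inv_one, pow_succ, pow_zero, j1, j2, j3, j4, j5, j6, j7, j8] using r16),
    mul_inv_eq_one.mp (by simpa only [mul_inv_rev, mul_assoc, mul_one, one_mul, inv_one, pow_succ, pow_zero, j1, j2, j3, j4, j5, j6, j7, j8] using r17),
    mul_inv_eq_one.mp (by simpa only [mul_inv_rev, mul_assoc, mul_one, one_mul, inv_one, pow_succ, pow_zero, j1, j2, j3, j4, j5, j6, j7, j8] using r18),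
    mul_inv_eq_one.mp (by simpa only [mul_inv_rev, mul_assoc, mul_one, one_mul, inv_one, pow_succ, pow_zero, j1, j2, j3, j4, j5, j6, j7, j8] using r19),
    mul_inv_eq_one.mp (by simpa only [mul_inv_rev, mul_assoc, mul_one, one_mul, inv_one, pow_succ, pow_zero, j1, j2, j3, j4, j5, j6, j7, j8] using r20)⟩,
    mul_inv_eq_one.mp (by simpa only [mul_inv_rev, mul_assoc, mul_one, one_mul, inv_one, pow_succ, pow_zero, j1, j2, j3, j4, j5, j6, j7, j8] using r21)⟩

theorem gen_top : gen (pgEv 129705083257453936896 R) [[1], [2], [3], [4], [5], [7]] = ⊤ := pg_gen (n := 9) (by norm_num) (by decide)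
namespace c

noncomputable def get (y : ℕ) : ℕ := (sel (nat_lit 1) y (nat_lit 0x0) (nat_lit 0xa000000000000090000000000000300000000000003000000000000000000010000000000000000000100000003000006000000060000030300000b00000b0300000b00000b01000003000003010000030000030000000a0000030000000300000a0000000000000500000005000000000000020000010000000100000200000009000007000000070000090200000c0000090200000900000c0700000300000c0800000c0000030200000800000b0200000b0000080800000300000b0700000b0000030200000500000a0200000a0000050100000300000a0100000a00000303000004000009030000090000040800000200000907000009000002070000010000080800000800000108000001000007070000070000010300000300000603000006000003020000010000060200000600000101000001000005010000050000010800000000000407000004000000020000000000030200000300000001000000000002010000020000000300000000000103000001000000))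
noncomputable def gs (y : ℕ) : ℕ := (sel (nat_lit 2) y (sel (nat_lit 1) y (nat_lit 0x0) (nat_lit 0x0)) (sel (nat_lit 3) y (nat_lit 0x0) (sel (nat_lit 4) y (nat_lit 0x0) (nat_lit 0x800000e800000e800000e800000e800000e800000d0000233800000c0000201000023180000090000205000022f000020a800000b000020a0000211000021d000022d000021a8000002000021a000022b000021b800000a00002170000229800000900002040000227000021980000080000208000022400002028000007000020f000022200002128000006000020e000020b000020c000021f00002218000005000021400002060000205000021f80000008000004000021a000020400002010000211800000080000030000216000020d000020a0000209800000080000020000212000020200002078000000800000080000008000001000020a00002000000205800000080000008000000800000080000008000000))))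
noncomputable def gd (y : ℕ) : ℕ := (nat_lit 0x21e000021a000021600002120000210000020e000020a000020800002060000204000020200002000000000)
noncomputable def gwh (y : ℕ) : ℕ := (sel (nat_lit 6) y (sel (nat_lit 3) y (sel (nat_lit 1) y (nat_lit 0x2030203000003001000) (sel (nat_lit 2) y (nat_lit 0x8010703000002002001) (nat_lit 0x102030102000002003002))) (sel (nat_lit 4) y (nat_lit 0x703020702000003002003) (sel (nat_lit 5) y (nat_lit 0x702070302000001004003) (nat_lit 0x20703020700001002003003)))) (sel (nat_lit 9) y (sel (nat_lit 7) y (nat_lit 0x7000800001000003004) (sel (nat_lit 8) y (nat_lit 0x1000100001000003005) (nat_lit 0x2000200001000003006))) (sel (nat_lit 11) y (sel (nat_lit 10) y (nat_lit 0x101000000002007) (nat_lit 0x70302070200001003002003)) (sel (nat_lit 12) y (nat_lit 0x303000000002008) (nat_lit 0x30a000000002009)))))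
def sg : List (List ℕ) := [[], [1], [2], [3], [4], [5], [6], [7], [8], [3], [3]]
def BL : List ℕ := [0x3020302, 0x7030801, 0x102010203, 0x207020703, 0x70008, 0x10001, 0x20002, 0x101, 0x303, 0x30a]
def Sub : List (List ℕ) := []
theorem hA : prepA 129705083257453936896 PX10c.R sg 10927685746443616478429440 BL Sub get gd = true := by decide +kernel
theorem hw : allR (okW BL gwh) 0 13 = true := by decide +kernel
theorem b0 : allR (blk get gs (gwB gwh 13) gd 10927685746443616478429440) 4 1 = true := by decide +kernel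
theorem hb : ∀ b, 4 ≤ b → b < 5 → blk get gs (gwB gwh 13) gd 10927685746443616478429440 b = true :=
  (allR_range b0 (by norm_num : 4 + 1 = 5))
def TL : List (ℕ × List ℕ) := [(308, [3])]
theorem hM : prepM sg get 5 TL = true := by decide +kernel
theorem mem {G : Type*} [Group G] {ev : ℕ → G} (hev : Good ev 129705083257453936896) (hR : Rels ev PX10c.R) :
    ∀ w ∈ TL.map Prod.snd, evL ev w ∈ gen ev Sub :=
  cert_mem hev hR hA hM hw hb

end c

theorem res {G : Type*} [Group G] {a b z w t x : G} (H : Rel a b z w t x) : z = 1 := by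
  have i_a : a⁻¹ = a := inv_eq_of_mul_eq_one_right H.hX.hN.aa
  have i_b : b⁻¹ = b := inv_eq_of_mul_eq_one_right H.hX.hN.bb
  have i_z : z⁻¹ = z := inv_eq_of_mul_eq_one_right H.hX.hN.zz
  have i_w : w⁻¹ = w := inv_eq_of_mul_eq_one_right H.hX.hN.ww
  have h : z * 1 = 1 := rels_of_mem_nil (c.mem (good H) (rels H)) [3] (List.mem_of_elem_eq_true (by decide))
  exact mul_inv_eq_one.mp (by simpa only [mul_inv_rev, inv_inv, mul_assoc, mul_one, one_mul, inv_one, pow_succ, pow_zero, i_a, i_b, i_z, i_w] using h)

end PX10c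

namespace PX11c

structure Rel {G : Type*} [Group G] (a b z w t x : G) : Prop where
  hX : PX0.Rel a b z w t x
  bx : (b * x) ^ 2 = z * t ^ 1

def R : List (List ℕ) := [[1, 1], [2, 2], [3, 3], [4, 4], [5, 5, 5], [5, 4, 5, 4, 5, 4], [3, 1, 3, 1], [3, 2, 3, 2], [3, 4, 3, 4], [3, 5, 3, 6], [1, 2, 1, 2, 3], [5, 1, 6, 1], [5, 2, 6, 2], [4, 1, 4, 1], [2, 4, 2, 4, 2, 4, 2, 4, 3], [1, 4, 2, 4, 2, 6, 4, 2, 4, 5, 5, 4, 2, 4, 6], [7, 7, 7], [7, 5, 8, 6], [7, 4, 8, 4], [7, 3, 8, 1], [7, 1, 8, 3, 1], [2, 7, 2, 7, 6, 3]]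

def ev {G : Type*} [Group G] (a b z w t x : G) (l : ℕ) : G := [1, a, b, z, w, t, t⁻¹, x, x⁻¹].getD l 1

theorem good {G : Type*} [Group G] {a b z w t x : G} (H : Rel a b z w t x) : Good (ev a b z w t x) 129705083257453936896 := by
  have i_a : a⁻¹ = a := inv_eq_of_mul_eq_one_right H.hX.hN.aa
  have i_b : b⁻¹ = b := inv_eq_of_mul_eq_one_right H.hX.hN.bb
  have i_z : z⁻¹ = z := inv_eq_of_mul_eq_one_right H.hX.hN.zz
  have i_w : w⁻¹ = w := inv_eq_of_mul_eq_one_right H.hX.hN.ww
  refine good_list (n := 9) rfl (by norm_num) rfl fun l hl => ?_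
  interval_cases l
  · exact inv_one.symm
  · exact i_a.symm
  · exact i_b.symm
  · exact i_z.symm
  · exact i_w.symm
  · rfl
  · exact (inv_inv _).symm
  · rfl
  · exact (inv_inv _).symm

theorem rels {G : Type*} [Group G] {a b z w t x : G} (H : Rel a b z w t x) : Rels (ev a b z w t x) R := by
  have i_a : a⁻¹ = a := inv_eq_of_mul_eq_one_right H.hX.hN.aa
  have i_b : b⁻¹ = b := inv_eq_of_mul_eq_one_right H.hX.hN.bb
  have i_z : z⁻¹ = z := inv_eq_of_mul_eq_one_right H.hX.hN.zz
  have i_w : w⁻¹ = w := inv_eq_of_mul_eq_one_right H.hX.hN.ww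
  unfold R
  refine Rels.cons ?_ ?_
  · show a * (a * 1) = 1
    simpa only [mul_inv_rev, inv_inv, mul_assoc, mul_one, one_mul, inv_one, pow_succ, pow_zero, i_a, i_b, i_z, i_w] using mul_inv_eq_one.mpr H.hX.hN.aa
  refine Rels.cons ?_ ?_
  · show b * (b * 1) = 1
    simpa only [mul_inv_rev, inv_inv, mul_assoc, mul_one, one_mul, inv_one, pow_succ, pow_zero, i_a, i_b, i_z, i_w] using mul_inv_eq_one.mpr H.hX.hN.bb
  refine Rels.cons ?_ ?_
  · show z * (z * 1) = 1
    simpa only [mul_inv_rev, inv_inv, mul_assoc, mul_one, one_mul, inv_one, pow_succ, pow_zero, i_a, i_b, i_z, i_w] using mul_inv_eq_one.mpr H.hX.hN.zz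
  refine Rels.cons ?_ ?_
  · show w * (w * 1) = 1
    simpa only [mul_inv_rev, inv_inv, mul_assoc, mul_one, one_mul, inv_one, pow_succ, pow_zero, i_a, i_b, i_z, i_w] using mul_inv_eq_one.mpr H.hX.hN.ww
  refine Rels.cons ?_ ?_
  · show t * (t * (t * 1)) = 1
    simpa only [mul_inv_rev, inv_inv, mul_assoc, mul_one, one_mul, inv_one, pow_succ, pow_zero, i_a, i_b, i_z, i_w] using mul_inv_eq_one.mpr H.hX.hN.t3
  refine Rels.cons ?_ ?_
  · show t * (w * (t * (w * (t * (w * 1))))) = 1
    simpa only [mul_inv_rev, inv_inv, mul_assoc, mul_one, one_mul, inv_one, pow_succ, pow_zero, i_a, i_b, i_z, i_w] using mul_inv_eq_one.mpr H.hX.hN.tw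
  refine Rels.cons ?_ ?_
  · show z * (a * (z * (a * 1))) = 1
    simpa only [mul_inv_rev, inv_inv, mul_assoc, mul_one, one_mul, inv_one, pow_succ, pow_zero, i_a, i_b, i_z, i_w] using mul_inv_eq_one.mpr H.hX.hN.za
  refine Rels.cons ?_ ?_
  · show z * (b * (z * (b * 1))) = 1
    simpa only [mul_inv_rev, inv_inv, mul_assoc, mul_one, one_mul, inv_one, pow_succ, pow_zero, i_a, i_b, i_z, i_w] using mul_inv_eq_one.mpr H.hX.hN.zb
  refine Rels.cons ?_ ?_
  · show z * (w * (z * (w * 1))) = 1
    simpa only [mul_inv_rev, inv_inv, mul_assoc, mul_one, one_mul, inv_one, pow_succ, pow_zero, i_a, i_b, i_z, i_w] using mul_inv_eq_one.mpr H.hX.hN.zw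
  refine Rels.cons ?_ ?_
  · show z * (t * (z * (t⁻¹ * 1))) = 1
    simpa only [mul_inv_rev, inv_inv, mul_assoc, mul_one, one_mul, inv_one, pow_succ, pow_zero, i_a, i_b, i_z, i_w] using mul_inv_eq_one.mpr H.hX.hN.zt
  refine Rels.cons ?_ ?_
  · show a * (b * (a * (b * (z * 1)))) = 1
    simpa only [mul_inv_rev, inv_inv, mul_assoc, mul_one, one_mul, inv_one, pow_succ, pow_zero, i_a, i_b, i_z, i_w] using mul_inv_eq_one.mpr H.hX.hN.ab
  refine Rels.cons ?_ ?_
  · show t * (a * (t⁻¹ * (a * 1))) = 1
    simpa only [mul_inv_rev, inv_inv, mul_assoc, mul_one, one_mul, inv_one, pow_succ, pow_zero, i_a, i_b, i_z, i_w] using mul_inv_eq_one.mpr H.hX.hN.ta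
  refine Rels.cons ?_ ?_
  · show t * (b * (t⁻¹ * (b * 1))) = 1
    simpa only [mul_inv_rev, inv_inv, mul_assoc, mul_one, one_mul, inv_one, pow_succ, pow_zero, i_a, i_b, i_z, i_w] using mul_inv_eq_one.mpr H.hX.hN.tb
  refine Rels.cons ?_ ?_
  · show w * (a * (w * (a * 1))) = 1
    simpa only [mul_inv_rev, inv_inv, mul_assoc, mul_one, one_mul, inv_one, pow_succ, pow_zero, i_a, i_b, i_z, i_w] using mul_inv_eq_one.mpr H.hX.hN.wa
  refine Rels.cons ?_ ?_
  · show b * (w * (b * (w * (b * (w * (b * (w * (z * 1)))))))) = 1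
    simpa only [mul_inv_rev, inv_inv, mul_assoc, mul_one, one_mul, inv_one, pow_succ, pow_zero, i_a, i_b, i_z, i_w] using mul_inv_eq_one.mpr H.hX.hN.bw
  refine Rels.cons ?_ ?_
  · show a * (w * (b * (w * (b * (t⁻¹ * (w * (b * (w * (t * (t * (w * (b * (w * (t⁻¹ * 1)))))))))))))) = 1
    simpa only [mul_inv_rev, inv_inv, mul_assoc, mul_one, one_mul, inv_one, pow_succ, pow_zero, i_a, i_b, i_z, i_w] using mul_inv_eq_one.mpr H.hX.hN.pr
  refine Rels.cons ?_ ?_
  · show x * (x * (x * 1)) = 1
    simpa only [mul_inv_rev, inv_inv, mul_assoc, mul_one, one_mul, inv_one, pow_succ, pow_zero, i_a, i_b, i_z, i_w] using mul_inv_eq_one.mpr H.hX.x3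
  refine Rels.cons ?_ ?_
  · show x * (t * (x⁻¹ * (t⁻¹ * 1))) = 1
    simpa only [mul_inv_rev, inv_inv, mul_assoc, mul_one, one_mul, inv_one, pow_succ, pow_zero, i_a, i_b, i_z, i_w] using mul_inv_eq_one.mpr H.hX.xt
  refine Rels.cons ?_ ?_
  · show x * (w * (x⁻¹ * (w * 1))) = 1
    simpa only [mul_inv_rev, inv_inv, mul_assoc, mul_one, one_mul, inv_one, pow_succ, pow_zero, i_a, i_b, i_z, i_w] using mul_inv_eq_one.mpr H.hX.xw
  refine Rels.cons ?_ ?_
  · show x * (z * (x⁻¹ * (a * 1))) = 1
    simpa only [mul_inv_rev, inv_inv, mul_assoc, mul_one, one_mul, inv_one, pow_succ, pow_zero, i_a, i_b, i_z, i_w] using mul_inv_eq_one.mpr H.hX.xz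
  refine Rels.cons ?_ ?_
  · show x * (a * (x⁻¹ * (z * (a * 1)))) = 1
    simpa only [mul_inv_rev, inv_inv, mul_assoc, mul_one, one_mul, inv_one, pow_succ, pow_zero, i_a, i_b, i_z, i_w] using mul_inv_eq_one.mpr H.hX.xa
  refine Rels.cons ?_ ?_
  · show b * (x * (b * (x * (t⁻¹ * (z * 1))))) = 1
    simpa only [mul_inv_rev, inv_inv, mul_assoc, mul_one, one_mul, inv_one, pow_succ, pow_zero, i_a, i_b, i_z, i_w] using mul_inv_eq_one.mpr H.bx
  intro r hr
  exact absurd hr List.not_mem_nil

/-- The relations hold for the letters of any assignment satisfying the relators. -/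
theorem rel_of {G : Type*} [Group G] {e : ℕ → G} (hg : Good e 129705083257453936896) (hR : Rels e R) :
    Rel (e 1) (e 2) (e 3) (e 4) (e 5) (e 7) := by
  have j1 : (e 1)⁻¹ = e 1 := (hg.inv 1).symm
  have j2 : (e 2)⁻¹ = e 2 := (hg.inv 2).symm
  have j3 : (e 3)⁻¹ = e 3 := (hg.inv 3).symm
  have j4 : (e 4)⁻¹ = e 4 := (hg.inv 4).symm
  have j5 : (e 5)⁻¹ = e 6 := (hg.inv 5).symm
  have j6 : (e 6)⁻¹ = e 5 := (hg.inv 6).symm
  have j7 : (e 7)⁻¹ = e 8 := (hg.inv 7).symm
  have j8 : (e 8)⁻¹ = e 7 := (hg.inv 8).symm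
  have r0 : e 1 * (e 1 * 1) = 1 := hR [1, 1] (List.mem_of_elem_eq_true (by decide))
  have r1 : e 2 * (e 2 * 1) = 1 := hR [2, 2] (List.mem_of_elem_eq_true (by decide))
  have r2 : e 3 * (e 3 * 1) = 1 := hR [3, 3] (List.mem_of_elem_eq_true (by decide))
  have r3 : e 4 * (e 4 * 1) = 1 := hR [4, 4] (List.mem_of_elem_eq_true (by decide))
  have r4 : e 5 * (e 5 * (e 5 * 1)) = 1 := hR [5, 5, 5] (List.mem_of_elem_eq_true (by decide))
  have r5 : e 5 * (e 4 * (e 5 * (e 4 * (e 5 * (e 4 * 1))))) = 1 := hR [5, 4, 5, 4, 5, 4] (List.mem_of_elem_eq_true (by decide))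
  have r6 : e 3 * (e 1 * (e 3 * (e 1 * 1))) = 1 := hR [3, 1, 3, 1] (List.mem_of_elem_eq_true (by decide))
  have r7 : e 3 * (e 2 * (e 3 * (e 2 * 1))) = 1 := hR [3, 2, 3, 2] (List.mem_of_elem_eq_true (by decide))
  have r8 : e 3 * (e 4 * (e 3 * (e 4 * 1))) = 1 := hR [3, 4, 3, 4] (List.mem_of_elem_eq_true (by decide))
  have r9 : e 3 * (e 5 * (e 3 * (e 6 * 1))) = 1 := hR [3, 5, 3, 6] (List.mem_of_elem_eq_true (by decide))
  have r10 : e 1 * (e 2 * (e 1 * (e 2 * (e 3 * 1)))) = 1 := hR [1, 2, 1, 2, 3] (List.mem_of_elem_eq_true (by decide))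
  have r11 : e 5 * (e 1 * (e 6 * (e 1 * 1))) = 1 := hR [5, 1, 6, 1] (List.mem_of_elem_eq_true (by decide))
  have r12 : e 5 * (e 2 * (e 6 * (e 2 * 1))) = 1 := hR [5, 2, 6, 2] (List.mem_of_elem_eq_true (by decide))
  have r13 : e 4 * (e 1 * (e 4 * (e 1 * 1))) = 1 := hR [4, 1, 4, 1] (List.mem_of_elem_eq_true (by decide))
  have r14 : e 2 * (e 4 * (e 2 * (e 4 * (e 2 * (e 4 * (e 2 * (e 4 * (e 3 * 1)))))))) = 1 := hR [2, 4, 2, 4, 2, 4, 2, 4, 3] (List.mem_of_elem_eq_true (by decide))
  have r15 : e 1 * (e 4 * (e 2 * (e 4 * (e 2 * (e 6 * (e 4 * (e 2 * (e 4 * (e 5 * (e 5 * (e 4 * (e 2 * (e 4 * (e 6 * 1)))))))))))))) = 1 := hR [1, 4, 2, 4, 2, 6, 4, 2, 4, 5, 5, 4, 2, 4, 6] (List.mem_of_elem_eq_true (by decide))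
  have r16 : e 7 * (e 7 * (e 7 * 1)) = 1 := hR [7, 7, 7] (List.mem_of_elem_eq_true (by decide))
  have r17 : e 7 * (e 5 * (e 8 * (e 6 * 1))) = 1 := hR [7, 5, 8, 6] (List.mem_of_elem_eq_true (by decide))
  have r18 : e 7 * (e 4 * (e 8 * (e 4 * 1))) = 1 := hR [7, 4, 8, 4] (List.mem_of_elem_eq_true (by decide))
  have r19 : e 7 * (e 3 * (e 8 * (e 1 * 1))) = 1 := hR [7, 3, 8, 1] (List.mem_of_elem_eq_true (by decide))
  have r20 : e 7 * (e 1 * (e 8 * (e 3 * (e 1 * 1)))) = 1 := hR [7, 1, 8, 3, 1] (List.mem_of_elem_eq_true (by decide))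
  have r21 : e 2 * (e 7 * (e 2 * (e 7 * (e 6 * (e 3 * 1))))) = 1 := hR [2, 7, 2, 7, 6, 3] (List.mem_of_elem_eq_true (by decide))
  exact ⟨⟨⟨mul_inv_eq_one.mp (by simpa only [mul_inv_rev, mul_assoc, mul_one, one_mul, inv_one, pow_succ, pow_zero, j1, j2, j3, j4, j5, j6, j7, j8] using r0),
    mul_inv_eq_one.mp (by simpa only [mul_inv_rev, mul_assoc, mul_one, one_mul, inv_one, pow_succ, pow_zero, j1, j2, j3, j4, j5, j6, j7, j8] using r1),
    mul_inv_eq_one.mp (by simpa only [mul_inv_rev, mul_assoc, mul_one, one_mul, inv_one, pow_succ, pow_zero, j1, j2, j3, j4, j5, j6, j7, j8] using r2),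
    mul_inv_eq_one.mp (by simpa only [mul_inv_rev, mul_assoc, mul_one, one_mul, inv_one, pow_succ, pow_zero, j1, j2, j3, j4, j5, j6, j7, j8] using r3),
    mul_inv_eq_one.mp (by simpa only [mul_inv_rev, mul_assoc, mul_one, one_mul, inv_one, pow_succ, pow_zero, j1, j2, j3, j4, j5, j6, j7, j8] using r4),
    mul_inv_eq_one.mp (by simpa only [mul_inv_rev, mul_assoc, mul_one, one_mul, inv_one, pow_succ, pow_zero, j1, j2, j3, j4, j5, j6, j7, j8] using r5),
    mul_inv_eq_one.mp (by simpa only [mul_inv_rev, mul_assoc, mul_one, one_mul, inv_one, pow_succ, pow_zero, j1, j2, j3, j4, j5, j6, j7, j8] using r6),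
    mul_inv_eq_one.mp (by simpa only [mul_inv_rev, mul_assoc, mul_one, one_mul, inv_one, pow_succ, pow_zero, j1, j2, j3, j4, j5, j6, j7, j8] using r7),
    mul_inv_eq_one.mp (by simpa only [mul_inv_rev, mul_assoc, mul_one, one_mul, inv_one, pow_succ, pow_zero, j1, j2, j3, j4, j5, j6, j7, j8] using r8),
    mul_inv_eq_one.mp (by simpa only [mul_inv_rev, mul_assoc, mul_one, one_mul, inv_one, pow_succ, pow_zero, j1, j2, j3, j4, j5, j6, j7, j8] using r9),
    mul_inv_eq_one.mp (by simpa only [mul_inv_rev, mul_assoc, mul_one, one_mul, inv_one, pow_succ, pow_zero, j1, j2, j3, j4, j5, j6, j7, j8] using r10),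
    mul_inv_eq_one.mp (by simpa only [mul_inv_rev, mul_assoc, mul_one, one_mul, inv_one, pow_succ, pow_zero, j1, j2, j3, j4, j5, j6, j7, j8] using r11),
    mul_inv_eq_one.mp (by simpa only [mul_inv_rev, mul_assoc, mul_one, one_mul, inv_one, pow_succ, pow_zero, j1, j2, j3, j4, j5, j6, j7, j8] using r12),
    mul_inv_eq_one.mp (by simpa only [mul_inv_rev, mul_assoc, mul_one, one_mul, inv_one, pow_succ, pow_zero, j1, j2, j3, j4, j5, j6, j7, j8] using r13),
    mul_inv_eq_one.mp (by simpa only [mul_inv_rev, mul_assoc, mul_one, one_mul, inv_one, pow_succ, pow_zero, j1, j2, j3, j4, j5, j6, j7, j8] using r14),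
    mul_inv_eq_one.mp (by simpa only [mul_inv_rev, mul_assoc, mul_one, one_mul, inv_one, pow_succ, pow_zero, j1, j2, j3, j4, j5, j6, j7, j8] using r15)⟩,
    mul_inv_eq_one.mp (by simpa only [mul_inv_rev, mul_assoc, mul_one, one_mul, inv_one, pow_succ, pow_zero, j1, j2, j3, j4, j5, j6, j7, j8] using r16),
    mul_inv_eq_one.mp (by simpa only [mul_inv_rev, mul_assoc, mul_one, one_mul, inv_one, pow_succ, pow_zero, j1, j2, j3, j4, j5, j6, j7, j8] using r17),
    mul_inv_eq_one.mp (by simpa only [mul_inv_rev, mul_assoc, mul_one, one_mul, inv_one, pow_succ, pow_zero, j1, j2, j3, j4, j5, j6, j7, j8] using r18),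
    mul_inv_eq_one.mp (by simpa only [mul_inv_rev, mul_assoc, mul_one, one_mul, inv_one, pow_succ, pow_zero, j1, j2, j3, j4, j5, j6, j7, j8] using r19),
    mul_inv_eq_one.mp (by simpa only [mul_inv_rev, mul_assoc, mul_one, one_mul, inv_one, pow_succ, pow_zero, j1, j2, j3, j4, j5, j6, j7, j8] using r20)⟩,
    mul_inv_eq_one.mp (by simpa only [mul_inv_rev, mul_assoc, mul_one, one_mul, inv_one, pow_succ, pow_zero, j1, j2, j3, j4, j5, j6, j7, j8] using r21)⟩

theorem gen_top : gen (pgEv 129705083257453936896 R) [[1], [2], [3], [4], [5], [7]] = ⊤ := pg_gen (n := 9) (by norm_num) (by decide)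
namespace c

noncomputable def get (y : ℕ) : ℕ := (sel (nat_lit 1) y (nat_lit 0x0) (nat_lit 0xa000000000000090000000000000300000000000003000000000000000000000000010000000100000000000006000007000000070000060000000d0000110000001100000d030000110000110300001100001100000016000011000000110000160000000c0000060000000600000c000000070000100000001000000703000016000011030000110000160800000f0000170700001700000f06000011000017050000170000110800000c0000160700001600000c0600000c0000130500001300000c0300001000000c0300000c00001007000013000015080000150000130500001200000b0600000b000012020000030000150200001500000303000014000015030000150000140200000b0000140200001400000b020000090000130200001300000908000009000012070000120000090300000a0000120300001200000a080000060000110700001100000602000004000010020000100000040600000600000f0500000f0000060200000800000f0200000f0000080700000800000e0800000e0000080200000d00000e0200000e00000d0800000700000d0700000d0000070100000600000c0100000c0000060200000500000c0200000c0000050300000300000b0300000b0000030800000200000a0700000a0000020600000300000a0500000a000003060000050000090500000900000501000002000009010000090000020600000100000805000008000001020000000000070200000700000003000006000007030000070000060200000100000602000006000001010000000000050100000500000003000004000005030000050000040100000100000401000004000001080000000000030700000300000006000000000002050000020000000300000000000103000001000000))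
noncomputable def gs (y : ℕ) : ℕ := (sel (nat_lit 3) y (sel (nat_lit 1) y (nat_lit 0x0) (sel (nat_lit 2) y (nat_lit 0x0) (nat_lit 0x0))) (sel (nat_lit 4) y (nat_lit 0x0) (sel (nat_lit 5) y (nat_lit 0x800000a000023a000021d000023c000023200002358000009000021c00002190000231800000200002380000236000021c80000008000000800000080000080000230000021a0000215800000080000008000000800000700002280000212000020d8000000800000600002240000222000021000002010000213800000080000008000005000021e000020a0000201000020d8000000800000080000040000218000020400002038000000800000300002140000202000020b800000080000008000002000020e000020c000020080000008000000800000100002080000206000020080000008000000800000080000008000000) (nat_lit 0x800001480000148000014800001480000148000014800001480000148000014800001480000148000014800001480000148000014800001480000148000013000025b8000010000020100002588000012000020d00002570000210800001100002230000255000022e800000d0000253000024700002480000228000022700002248000010000024a0000251800000f000022e000024e0000245800000e000020f000024d0000241800000d00002410000243000023f000023a00002040000211800000c000022e0000221000024580000040000246000022e000022b80000008000000800000700002340000216000021f800000b000021e0000208000022d))))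
noncomputable def gd (y : ℕ) : ℕ := (nat_lit 0x24600002440000238000023600002340000230000022e000022c000022800002240000222000021e000021c000021800002140000212000020e000020c000020800002060000204000020200002000000000)
noncomputable def gwh_0 (y : ℕ) : ℕ := (sel (nat_lit 8) y (sel (nat_lit 4) y (sel (nat_lit 2) y (sel (nat_lit 1) y (nat_lit 0x3010301000000004000) (nat_lit 0x3020302000000004001)) (sel (nat_lit 3) y (nat_lit 0x1050106000003001002) (nat_lit 0x6070508000003001003))) (sel (nat_lit 6) y (sel (nat_lit 5) y (nat_lit 0x203010201000003002004) (nat_lit 0x60302070207000004002005)) (sel (nat_lit 7) y (nat_lit 0x2050206000003001006) (nat_lit 0x1070308000003001007)))) (sel (nat_lit 12) y (sel (nat_lit 10) y (sel (nat_lit 9) y (nat_lit 0x3060305000002002008) (nat_lit 0x20706030207000002004005)) (sel (nat_lit 11) y (nat_lit 0x2030203000003001001) (nat_lit 0x8010703000002002007))) (sel (nat_lit 14) y (sel (nat_lit 13) y (nat_lit 0x2070207060300001000006005) (nat_lit 0x3000300001000003009)) (sel (nat_lit 15) y (nat_lit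 0x800070000100000300a) (nat_lit 0x30300000000200b)))))
noncomputable def gwh_1 (y : ℕ) : ℕ := (sel (nat_lit 17) y (nat_lit 0x700080000100000300c) (sel (nat_lit 18) y (nat_lit 0x200020000100000300d) (nat_lit 0x30a00000000200e)))
noncomputable def gwh (y : ℕ) : ℕ := (sel (nat_lit 16) y (gwh_0 y) (gwh_1 y))
def sg : List (List ℕ) := [[], [1], [2], [3], [4], [5], [6], [7], [8], [3], [3]]
def BL : List ℕ := [0x3010301, 0x3020302, 0x5010601, 0x7050806, 0x102010203, 0x20702070603, 0x5020602, 0x7030801, 0x3050306, 0x30003, 0x80007, 0x303, 0x70008, 0x20002, 0x30a]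
def Sub : List (List ℕ) := []
theorem hA : prepA 129705083257453936896 PX11c.R sg 10927685746443616478429440 BL Sub get gd = true := by decide +kernel
theorem hw : allR (okW BL gwh) 0 19 = true := by decide +kernel
theorem b0 : allR (blk get gs (gwB gwh 19) gd 10927685746443616478429440) 4 2 = true := by decide +kernel
theorem hb : ∀ b, 4 ≤ b → b < 6 → blk get gs (gwB gwh 19) gd 10927685746443616478429440 b = true :=
  (allR_range b0 (by norm_num : 4 + 2 = 6))
def TL : List (ℕ × List ℕ) := [(348, [3])]
theorem hM : prepM sg get 6 TL = true := by decide +kernel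
theorem mem {G : Type*} [Group G] {ev : ℕ → G} (hev : Good ev 129705083257453936896) (hR : Rels ev PX11c.R) :
    ∀ w ∈ TL.map Prod.snd, evL ev w ∈ gen ev Sub :=
  cert_mem hev hR hA hM hw hb

end c

theorem res {G : Type*} [Group G] {a b z w t x : G} (H : Rel a b z w t x) : z = 1 := by
  have i_a : a⁻¹ = a := inv_eq_of_mul_eq_one_right H.hX.hN.aa
  have i_b : b⁻¹ = b := inv_eq_of_mul_eq_one_right H.hX.hN.bb
  have i_z : z⁻¹ = z := inv_eq_of_mul_eq_one_right H.hX.hN.zz
  have i_w : w⁻¹ = w := inv_eq_of_mul_eq_one_right H.hX.hN.ww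
  have h : z * 1 = 1 := rels_of_mem_nil (c.mem (good H) (rels H)) [3] (List.mem_of_elem_eq_true (by decide))
  exact mul_inv_eq_one.mp (by simpa only [mul_inv_rev, inv_inv, mul_assoc, mul_one, one_mul, inv_one, pow_succ, pow_zero, i_a, i_b, i_z, i_w] using h)

end PX11c

namespace PX12c

structure Rel {G : Type*} [Group G] (a b z w t x : G) : Prop where
  hX : PX0.Rel a b z w t x
  bx : (b * x) ^ 2 = z * t ^ 2

def R : List (List ℕ) := [[1, 1], [2, 2], [3, 3], [4, 4], [5, 5, 5], [5, 4, 5, 4, 5, 4], [3, 1, 3, 1], [3, 2, 3, 2], [3, 4, 3, 4], [3, 5, 3, 6], [1, 2, 1, 2, 3], [5, 1, 6, 1], [5, 2, 6, 2], [4, 1, 4, 1], [2, 4, 2, 4, 2, 4, 2, 4, 3], [1, 4, 2, 4, 2, 6, 4, 2, 4, 5, 5, 4, 2, 4, 6], [7, 7, 7], [7, 5, 8, 6], [7, 4, 8, 4], [7, 3, 8, 1], [7, 1, 8, 3, 1], [2, 7, 2, 7, 6, 6, 3]]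

def ev {G : Type*} [Group G] (a b z w t x : G) (l : ℕ) : G := [1, a, b, z, w, t, t⁻¹, x, x⁻¹].getD l 1

theorem good {G : Type*} [Group G] {a b z w t x : G} (H : Rel a b z w t x) : Good (ev a b z w t x) 129705083257453936896 := by
  have i_a : a⁻¹ = a := inv_eq_of_mul_eq_one_right H.hX.hN.aa
  have i_b : b⁻¹ = b := inv_eq_of_mul_eq_one_right H.hX.hN.bb
  have i_z : z⁻¹ = z := inv_eq_of_mul_eq_one_right H.hX.hN.zz
  have i_w : w⁻¹ = w := inv_eq_of_mul_eq_one_right H.hX.hN.ww
  refine good_list (n := 9) rfl (by norm_num) rfl fun l hl => ?_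
  interval_cases l
  · exact inv_one.symm
  · exact i_a.symm
  · exact i_b.symm
  · exact i_z.symm
  · exact i_w.symm
  · rfl
  · exact (inv_inv _).symm
  · rfl
  · exact (inv_inv _).symm

theorem rels {G : Type*} [Group G] {a b z w t x : G} (H : Rel a b z w t x) : Rels (ev a b z w t x) R := by
  have i_a : a⁻¹ = a := inv_eq_of_mul_eq_one_right H.hX.hN.aa
  have i_b : b⁻¹ = b := inv_eq_of_mul_eq_one_right H.hX.hN.bb
  have i_z : z⁻¹ = z := inv_eq_of_mul_eq_one_right H.hX.hN.zz
  have i_w : w⁻¹ = w := inv_eq_of_mul_eq_one_right H.hX.hN.ww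
  unfold R
  refine Rels.cons ?_ ?_
  · show a * (a * 1) = 1
    simpa only [mul_inv_rev, inv_inv, mul_assoc, mul_one, one_mul, inv_one, pow_succ, pow_zero, i_a, i_b, i_z, i_w] using mul_inv_eq_one.mpr H.hX.hN.aa
  refine Rels.cons ?_ ?_
  · show b * (b * 1) = 1
    simpa only [mul_inv_rev, inv_inv, mul_assoc, mul_one, one_mul, inv_one, pow_succ, pow_zero, i_a, i_b, i_z, i_w] using mul_inv_eq_one.mpr H.hX.hN.bb
  refine Rels.cons ?_ ?_
  · show z * (z * 1) = 1
    simpa only [mul_inv_rev, inv_inv, mul_assoc, mul_one, one_mul, inv_one, pow_succ, pow_zero, i_a, i_b, i_z, i_w] using mul_inv_eq_one.mpr H.hX.hN.zz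
  refine Rels.cons ?_ ?_
  · show w * (w * 1) = 1
    simpa only [mul_inv_rev, inv_inv, mul_assoc, mul_one, one_mul, inv_one, pow_succ, pow_zero, i_a, i_b, i_z, i_w] using mul_inv_eq_one.mpr H.hX.hN.ww
  refine Rels.cons ?_ ?_
  · show t * (t * (t * 1)) = 1
    simpa only [mul_inv_rev, inv_inv, mul_assoc, mul_one, one_mul, inv_one, pow_succ, pow_zero, i_a, i_b, i_z, i_w] using mul_inv_eq_one.mpr H.hX.hN.t3
  refine Rels.cons ?_ ?_
  · show t * (w * (t * (w * (t * (w * 1))))) = 1
    simpa only [mul_inv_rev, inv_inv, mul_assoc, mul_one, one_mul, inv_one, pow_succ, pow_zero, i_a, i_b, i_z, i_w] using mul_inv_eq_one.mpr H.hX.hN.tw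
  refine Rels.cons ?_ ?_
  · show z * (a * (z * (a * 1))) = 1
    simpa only [mul_inv_rev, inv_inv, mul_assoc, mul_one, one_mul, inv_one, pow_succ, pow_zero, i_a, i_b, i_z, i_w] using mul_inv_eq_one.mpr H.hX.hN.za
  refine Rels.cons ?_ ?_
  · show z * (b * (z * (b * 1))) = 1
    simpa only [mul_inv_rev, inv_inv, mul_assoc, mul_one, one_mul, inv_one, pow_succ, pow_zero, i_a, i_b, i_z, i_w] using mul_inv_eq_one.mpr H.hX.hN.zb
  refine Rels.cons ?_ ?_
  · show z * (w * (z * (w * 1))) = 1
    simpa only [mul_inv_rev, inv_inv, mul_assoc, mul_one, one_mul, inv_one, pow_succ, pow_zero, i_a, i_b, i_z, i_w] using mul_inv_eq_one.mpr H.hX.hN.zw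
  refine Rels.cons ?_ ?_
  · show z * (t * (z * (t⁻¹ * 1))) = 1
    simpa only [mul_inv_rev, inv_inv, mul_assoc, mul_one, one_mul, inv_one, pow_succ, pow_zero, i_a, i_b, i_z, i_w] using mul_inv_eq_one.mpr H.hX.hN.zt
  refine Rels.cons ?_ ?_
  · show a * (b * (a * (b * (z * 1)))) = 1
    simpa only [mul_inv_rev, inv_inv, mul_assoc, mul_one, one_mul, inv_one, pow_succ, pow_zero, i_a, i_b, i_z, i_w] using mul_inv_eq_one.mpr H.hX.hN.ab
  refine Rels.cons ?_ ?_
  · show t * (a * (t⁻¹ * (a * 1))) = 1
    simpa only [mul_inv_rev, inv_inv, mul_assoc, mul_one, one_mul, inv_one, pow_succ, pow_zero, i_a, i_b, i_z, i_w] using mul_inv_eq_one.mpr H.hX.hN.ta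
  refine Rels.cons ?_ ?_
  · show t * (b * (t⁻¹ * (b * 1))) = 1
    simpa only [mul_inv_rev, inv_inv, mul_assoc, mul_one, one_mul, inv_one, pow_succ, pow_zero, i_a, i_b, i_z, i_w] using mul_inv_eq_one.mpr H.hX.hN.tb
  refine Rels.cons ?_ ?_
  · show w * (a * (w * (a * 1))) = 1
    simpa only [mul_inv_rev, inv_inv, mul_assoc, mul_one, one_mul, inv_one, pow_succ, pow_zero, i_a, i_b, i_z, i_w] using mul_inv_eq_one.mpr H.hX.hN.wa
  refine Rels.cons ?_ ?_
  · show b * (w * (b * (w * (b * (w * (b * (w * (z * 1)))))))) = 1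
    simpa only [mul_inv_rev, inv_inv, mul_assoc, mul_one, one_mul, inv_one, pow_succ, pow_zero, i_a, i_b, i_z, i_w] using mul_inv_eq_one.mpr H.hX.hN.bw
  refine Rels.cons ?_ ?_
  · show a * (w * (b * (w * (b * (t⁻¹ * (w * (b * (w * (t * (t * (w * (b * (w * (t⁻¹ * 1)))))))))))))) = 1
    simpa only [mul_inv_rev, inv_inv, mul_assoc, mul_one, one_mul, inv_one, pow_succ, pow_zero, i_a, i_b, i_z, i_w] using mul_inv_eq_one.mpr H.hX.hN.pr
  refine Rels.cons ?_ ?_
  · show x * (x * (x * 1)) = 1
    simpa only [mul_inv_rev, inv_inv, mul_assoc, mul_one, one_mul, inv_one, pow_succ, pow_zero, i_a, i_b, i_z, i_w] using mul_inv_eq_one.mpr H.hX.x3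
  refine Rels.cons ?_ ?_
  · show x * (t * (x⁻¹ * (t⁻¹ * 1))) = 1
    simpa only [mul_inv_rev, inv_inv, mul_assoc, mul_one, one_mul, inv_one, pow_succ, pow_zero, i_a, i_b, i_z, i_w] using mul_inv_eq_one.mpr H.hX.xt
  refine Rels.cons ?_ ?_
  · show x * (w * (x⁻¹ * (w * 1))) = 1
    simpa only [mul_inv_rev, inv_inv, mul_assoc, mul_one, one_mul, inv_one, pow_succ, pow_zero, i_a, i_b, i_z, i_w] using mul_inv_eq_one.mpr H.hX.xw
  refine Rels.cons ?_ ?_
  · show x * (z * (x⁻¹ * (a * 1))) = 1
    simpa only [mul_inv_rev, inv_inv, mul_assoc, mul_one, one_mul, inv_one, pow_succ, pow_zero, i_a, i_b, i_z, i_w] using mul_inv_eq_one.mpr H.hX.xz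
  refine Rels.cons ?_ ?_
  · show x * (a * (x⁻¹ * (z * (a * 1)))) = 1
    simpa only [mul_inv_rev, inv_inv, mul_assoc, mul_one, one_mul, inv_one, pow_succ, pow_zero, i_a, i_b, i_z, i_w] using mul_inv_eq_one.mpr H.hX.xa
  refine Rels.cons ?_ ?_
  · show b * (x * (b * (x * (t⁻¹ * (t⁻¹ * (z * 1)))))) = 1
    simpa only [mul_inv_rev, inv_inv, mul_assoc, mul_one, one_mul, inv_one, pow_succ, pow_zero, i_a, i_b, i_z, i_w] using mul_inv_eq_one.mpr H.bx
  intro r hr
  exact absurd hr List.not_mem_nil

/-- The relations hold for the letters of any assignment satisfying the relators. -/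
theorem rel_of {G : Type*} [Group G] {e : ℕ → G} (hg : Good e 129705083257453936896) (hR : Rels e R) :
    Rel (e 1) (e 2) (e 3) (e 4) (e 5) (e 7) := by
  have j1 : (e 1)⁻¹ = e 1 := (hg.inv 1).symm
  have j2 : (e 2)⁻¹ = e 2 := (hg.inv 2).symm
  have j3 : (e 3)⁻¹ = e 3 := (hg.inv 3).symm
  have j4 : (e 4)⁻¹ = e 4 := (hg.inv 4).symm
  have j5 : (e 5)⁻¹ = e 6 := (hg.inv 5).symm
  have j6 : (e 6)⁻¹ = e 5 := (hg.inv 6).symm
  have j7 : (e 7)⁻¹ = e 8 := (hg.inv 7).symm
  have j8 : (e 8)⁻¹ = e 7 := (hg.inv 8).symm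
  have r0 : e 1 * (e 1 * 1) = 1 := hR [1, 1] (List.mem_of_elem_eq_true (by decide))
  have r1 : e 2 * (e 2 * 1) = 1 := hR [2, 2] (List.mem_of_elem_eq_true (by decide))
  have r2 : e 3 * (e 3 * 1) = 1 := hR [3, 3] (List.mem_of_elem_eq_true (by decide))
  have r3 : e 4 * (e 4 * 1) = 1 := hR [4, 4] (List.mem_of_elem_eq_true (by decide))
  have r4 : e 5 * (e 5 * (e 5 * 1)) = 1 := hR [5, 5, 5] (List.mem_of_elem_eq_true (by decide))
  have r5 : e 5 * (e 4 * (e 5 * (e 4 * (e 5 * (e 4 * 1))))) = 1 := hR [5, 4, 5, 4, 5, 4] (List.mem_of_elem_eq_true (by decide))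
  have r6 : e 3 * (e 1 * (e 3 * (e 1 * 1))) = 1 := hR [3, 1, 3, 1] (List.mem_of_elem_eq_true (by decide))
  have r7 : e 3 * (e 2 * (e 3 * (e 2 * 1))) = 1 := hR [3, 2, 3, 2] (List.mem_of_elem_eq_true (by decide))
  have r8 : e 3 * (e 4 * (e 3 * (e 4 * 1))) = 1 := hR [3, 4, 3, 4] (List.mem_of_elem_eq_true (by decide))
  have r9 : e 3 * (e 5 * (e 3 * (e 6 * 1))) = 1 := hR [3, 5, 3, 6] (List.mem_of_elem_eq_true (by decide))
  have r10 : e 1 * (e 2 * (e 1 * (e 2 * (e 3 * 1)))) = 1 := hR [1, 2, 1, 2, 3] (List.mem_of_elem_eq_true (by decide))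
  have r11 : e 5 * (e 1 * (e 6 * (e 1 * 1))) = 1 := hR [5, 1, 6, 1] (List.mem_of_elem_eq_true (by decide))
  have r12 : e 5 * (e 2 * (e 6 * (e 2 * 1))) = 1 := hR [5, 2, 6, 2] (List.mem_of_elem_eq_true (by decide))
  have r13 : e 4 * (e 1 * (e 4 * (e 1 * 1))) = 1 := hR [4, 1, 4, 1] (List.mem_of_elem_eq_true (by decide))
  have r14 : e 2 * (e 4 * (e 2 * (e 4 * (e 2 * (e 4 * (e 2 * (e 4 * (e 3 * 1)))))))) = 1 := hR [2, 4, 2, 4, 2, 4, 2, 4, 3] (List.mem_of_elem_eq_true (by decide))
  have r15 : e 1 * (e 4 * (e 2 * (e 4 * (e 2 * (e 6 * (e 4 * (e 2 * (e 4 * (e 5 * (e 5 * (e 4 * (e 2 * (e 4 * (e 6 * 1)))))))))))))) = 1 := hR [1, 4, 2, 4, 2, 6, 4, 2, 4, 5, 5, 4, 2, 4, 6] (List.mem_of_elem_eq_true (by decide))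
  have r16 : e 7 * (e 7 * (e 7 * 1)) = 1 := hR [7, 7, 7] (List.mem_of_elem_eq_true (by decide))
  have r17 : e 7 * (e 5 * (e 8 * (e 6 * 1))) = 1 := hR [7, 5, 8, 6] (List.mem_of_elem_eq_true (by decide))
  have r18 : e 7 * (e 4 * (e 8 * (e 4 * 1))) = 1 := hR [7, 4, 8, 4] (List.mem_of_elem_eq_true (by decide))
  have r19 : e 7 * (e 3 * (e 8 * (e 1 * 1))) = 1 := hR [7, 3, 8, 1] (List.mem_of_elem_eq_true (by decide))
  have r20 : e 7 * (e 1 * (e 8 * (e 3 * (e 1 * 1)))) = 1 := hR [7, 1, 8, 3, 1] (List.mem_of_elem_eq_true (by decide))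
  have r21 : e 2 * (e 7 * (e 2 * (e 7 * (e 6 * (e 6 * (e 3 * 1)))))) = 1 := hR [2, 7, 2, 7, 6, 6, 3] (List.mem_of_elem_eq_true (by decide))
  exact ⟨⟨⟨mul_inv_eq_one.mp (by simpa only [mul_inv_rev, mul_assoc, mul_one, one_mul, inv_one, pow_succ, pow_zero, j1, j2, j3, j4, j5, j6, j7, j8] using r0),
    mul_inv_eq_one.mp (by simpa only [mul_inv_rev, mul_assoc, mul_one, one_mul, inv_one, pow_succ, pow_zero, j1, j2, j3, j4, j5, j6, j7, j8] using r1),
    mul_inv_eq_one.mp (by simpa only [mul_inv_rev, mul_assoc, mul_one, one_mul, inv_one, pow_succ, pow_zero, j1, j2, j3, j4, j5, j6, j7, j8] using r2),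
    mul_inv_eq_one.mp (by simpa only [mul_inv_rev, mul_assoc, mul_one, one_mul, inv_one, pow_succ, pow_zero, j1, j2, j3, j4, j5, j6, j7, j8] using r3),
    mul_inv_eq_one.mp (by simpa only [mul_inv_rev, mul_assoc, mul_one, one_mul, inv_one, pow_succ, pow_zero, j1, j2, j3, j4, j5, j6, j7, j8] using r4),
    mul_inv_eq_one.mp (by simpa only [mul_inv_rev, mul_assoc, mul_one, one_mul, inv_one, pow_succ, pow_zero, j1, j2, j3, j4, j5, j6, j7, j8] using r5),
    mul_inv_eq_one.mp (by simpa only [mul_inv_rev, mul_assoc, mul_one, one_mul, inv_one, pow_succ, pow_zero, j1, j2, j3, j4, j5, j6, j7, j8] using r6),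
    mul_inv_eq_one.mp (by simpa only [mul_inv_rev, mul_assoc, mul_one, one_mul, inv_one, pow_succ, pow_zero, j1, j2, j3, j4, j5, j6, j7, j8] using r7),
    mul_inv_eq_one.mp (by simpa only [mul_inv_rev, mul_assoc, mul_one, one_mul, inv_one, pow_succ, pow_zero, j1, j2, j3, j4, j5, j6, j7, j8] using r8),
    mul_inv_eq_one.mp (by simpa only [mul_inv_rev, mul_assoc, mul_one, one_mul, inv_one, pow_succ, pow_zero, j1, j2, j3, j4, j5, j6, j7, j8] using r9),
    mul_inv_eq_one.mp (by simpa only [mul_inv_rev, mul_assoc, mul_one, one_mul, inv_one, pow_succ, pow_zero, j1, j2, j3, j4, j5, j6, j7, j8] using r10),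
    mul_inv_eq_one.mp (by simpa only [mul_inv_rev, mul_assoc, mul_one, one_mul, inv_one, pow_succ, pow_zero, j1, j2, j3, j4, j5, j6, j7, j8] using r11),
    mul_inv_eq_one.mp (by simpa only [mul_inv_rev, mul_assoc, mul_one, one_mul, inv_one, pow_succ, pow_zero, j1, j2, j3, j4, j5, j6, j7, j8] using r12),
    mul_inv_eq_one.mp (by simpa only [mul_inv_rev, mul_assoc, mul_one, one_mul, inv_one, pow_succ, pow_zero, j1, j2, j3, j4, j5, j6, j7, j8] using r13),
    mul_inv_eq_one.mp (by simpa only [mul_inv_rev, mul_assoc, mul_one, one_mul, inv_one, pow_succ, pow_zero, j1, j2, j3, j4, j5, j6, j7, j8] using r14),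
    mul_inv_eq_one.mp (by simpa only [mul_inv_rev, mul_assoc, mul_one, one_mul, inv_one, pow_succ, pow_zero, j1, j2, j3, j4, j5, j6, j7, j8] using r15)⟩,
    mul_inv_eq_one.mp (by simpa only [mul_inv_rev, mul_assoc, mul_one, one_mul, inv_one, pow_succ, pow_zero, j1, j2, j3, j4, j5, j6, j7, j8] using r16),
    mul_inv_eq_one.mp (by simpa only [mul_inv_rev, mul_assoc, mul_one, one_mul, inv_one, pow_succ, pow_zero, j1, j2, j3, j4, j5, j6, j7, j8] using r17),
    mul_inv_eq_one.mp (by simpa only [mul_inv_rev, mul_assoc, mul_one, one_mul, inv_one, pow_succ, pow_zero, j1, j2, j3, j4, j5, j6, j7, j8] using r18),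
    mul_inv_eq_one.mp (by simpa only [mul_inv_rev, mul_assoc, mul_one, one_mul, inv_one, pow_succ, pow_zero, j1, j2, j3, j4, j5, j6, j7, j8] using r19),
    mul_inv_eq_one.mp (by simpa only [mul_inv_rev, mul_assoc, mul_one, one_mul, inv_one, pow_succ, pow_zero, j1, j2, j3, j4, j5, j6, j7, j8] using r20)⟩,
    mul_inv_eq_one.mp (by simpa only [mul_inv_rev, mul_assoc, mul_one, one_mul, inv_one, pow_succ, pow_zero, j1, j2, j3, j4, j5, j6, j7, j8] using r21)⟩

theorem gen_top : gen (pgEv 129705083257453936896 R) [[1], [2], [3], [4], [5], [7]] = ⊤ := pg_gen (n := 9) (by norm_num) (by decide)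
namespace c

noncomputable def get (y : ℕ) : ℕ := (sel (nat_lit 1) y (nat_lit 0x0) (nat_lit 0xa0000000000000900000000000003000000000000030000000000000000000100000000000000000001000000100000030000000300001000000016000019000000190000160500001a0000180600001800001a0300000e00000e0300000e00000e0000002000000e0000000e0000200000002100000f0000000f00002100000015000010000000100000150000000a0000090000000900000a00000017000013000000130000170800001000001f0700001f0000100000001e0000100000001000001e0000001d0000190000001900001d0500001d0000120600001200001d0000002200001d0000001d0000220300002000000e0300000e0000200500001800000e0600000e00001806000012000022050000220000120700001500002108000021000015020000200000210200002100002008000014000020070000200000140600001700001f0500001f0000170800001e00001f0700001f00001e0200001d00001e0200001e00001d0800001c00001d0700001d00001c0500001700000d0600000d0000170200000400001c0200001c0000040300001b00001c0300001c00001b0200000d00001b0200001b00000d0800001600001a0700001a0000160200001000001902000019000010080000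0b0000180700001800000b0800000a0000170700001700000a0300000c0000170300001700000c0600000b0000160500001600000b02000003000016020000160000030600000a0000150500001500000a01000003000015010000150000030100000800001401000014000008020000050000140200001400000508000009000013070000130000090600001100001305000013000011060000070000120500001200000702000009000012020000120000090800000100001107000011000001050000010000100600001000000106000009000010050000100000090800000f0000100700001000000f0200000e00000f0200000f00000e0800000800000e0700000e0000080300000400000d0300000d0000040800000200000c0700000c0000020600000400000c0500000c0000040600000800000b0500000b0000080200000200000b0200000b0000020600000600000a0500000a0000060100000200000a0100000a000002060000010000090500000900000102000000000008020000080000000300000700000803000008000007020000010000070200000700000101000000000006010000060000000300000500000603000006000005010000010000050100000500000108000000000004070000040000000500000000000306000003000000060000020000030500000300000206000000000002050000020000000300000000000103000001000000))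
noncomputable def gs (y : ℕ) : ℕ := (sel (nat_lit 3) y (sel (nat_lit 1) y (nat_lit 0x0) (sel (nat_lit 2) y (nat_lit 0x0) (nat_lit 0x0))) (sel (nat_lit 5) y (sel (nat_lit 4) y (nat_lit 0x0) (nat_lit 0x80000008000008000023a000020a000020000002158000000800000600002360000230000021780000008000005000023200002160000211800000080000008000001000022c00002168000007000022a000022800002260000214000020100002178000000800000080000008000000800000600002200000208000020380000008000005000021c000020200002158000000800000400002180000202000020f800000080000008000003000021200002100000200800000080000008000002000020c000020a0000200800000080000008000000800000100002040000202800000080000008000000)) (sel (nat_lit 6) y (nat_lit 0x80000110000229000027c00002628000014000022b000027a00002658000015000022c00002780000241800001400002390000276000024880000130000238000022d0000275000025e8000012000025c00002738000011000024d0000270000025b8000010000024c000022c0000233000026e800000f0000267000026d800000e0000258000025400002080000215000021200002350000267800000d0000226000023d0000261800000c0000226000021f000024b8000000800000b00002620000260000023a000020d000021b0000241800000080000008000007000025c000025a0000258000025400002250000256800000080000008000000800000a00002240000221000024780000030000252000025000002248000000800000080000008000000800000080000090000246000022200002198000000800000500002420000204000021d80000008000004000023e00002040000219)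 (nat_lit 0x80000198000019800001980000198000019800001980000198000019800001980000198000019800001980000198000019800001980000198000019800001980000198000019800001980000198000019800001980000198000018000028b800001600002010000289800001500002070000286000022e800001100002430000285000024c8000017000024c000022a0000228000028000002680000282000024e800000c000024a0000245000024f8000016000026a000027f))))
noncomputable def gd (y : ℕ) : ℕ := (nat_lit 0x26600002620000260000025c000025a000025800002520000250000024e000024c000024a00002460000242000023e000023a000023600002320000230000022a0000228000022600002240000220000021c0000218000021600002120000210000020c000020a00002080000204000020200002000000000)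
noncomputable def gwh_0 (y : ℕ) : ℕ := (sel (nat_lit 8) y (sel (nat_lit 4) y (sel (nat_lit 2) y (sel (nat_lit 1) y (nat_lit 0x50505000000003000) (nat_lit 0x3010301000000004001)) (sel (nat_lit 3) y (nat_lit 0x3020302000000004002) (nat_lit 0x1050106000003001003))) (sel (nat_lit 6) y (sel (nat_lit 5) y (nat_lit 0x2050206000003001004) (nat_lit 0x6070508000003001005)) (sel (nat_lit 7) y (nat_lit 0x6030207020706000005002006) (nat_lit 0x203010201000003002007)))) (sel (nat_lit 12) y (sel (nat_lit 10) y (sel (nat_lit 9) y (nat_lit 0x1070308000003001008) (nat_lit 0x3060305000002002009)) (sel (nat_lit 11) y (nat_lit 0x6060302070207000004003006) (nat_lit 0x8060705000002002005))) (sel (nat_lit 14) y (sel (nat_lit 13) y (nat_lit 0x8010703000002002008) (nat_lit 0x606030207020700001004003006)) (sel (nat_lit 15) y (nat_lit 0x60500000000200a) (nat_lit 0x602050200001002002004)))))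
noncomputable def gwh_1 (y : ℕ) : ℕ := (sel (nat_lit 20) y (sel (nat_lit 18) y (sel (nat_lit 17) y (nat_lit 0x200020000100000300b) (nat_lit 0x70800000000200c)) (sel (nat_lit 19) y (nat_lit 0x508060700001001003005) (nat_lit 0x700080000100000300d))) (sel (nat_lit 22) y (sel (nat_lit 21) y (nat_lit 0x600050000100000300e) (nat_lit 0x30300000000200f)) (sel (nat_lit 23) y (nat_lit 0x706060302070200001003004006) (nat_lit 0x30a000000002010))))
noncomputable def gwh (y : ℕ) : ℕ := (sel (nat_lit 16) y (gwh_0 y) (gwh_1 y))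
def sg : List (List ℕ) := [[], [1], [2], [3], [4], [5], [6], [7], [8], [3], [3]]
def BL : List ℕ := [0x50505, 0x3010301, 0x3020302, 0x5010601, 0x5020602, 0x7050806, 0x2070207060603, 0x102010203, 0x7030801, 0x3050306, 0x605, 0x20002, 0x708, 0x70008, 0x60005, 0x303, 0x30a]
def Sub : List (List ℕ) := []
theorem hA : prepA 129705083257453936896 PX12c.R sg 10927685746443616478429440 BL Sub get gd = true := by decide +kernel
theorem hw : allR (okW BL gwh) 0 24 = true := by decide +kernel
theorem b0 : allR (blk get gs (gwB gwh 24) gd 10927685746443616478429440) 4 3 = true := by decide +kernel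
theorem hb : ∀ b, 4 ≤ b → b < 7 → blk get gs (gwB gwh 24) gd 10927685746443616478429440 b = true :=
  (allR_range b0 (by norm_num : 4 + 3 = 7))
def TL : List (ℕ × List ℕ) := [(396, [3])]
theorem hM : prepM sg get 7 TL = true := by decide +kernel
theorem mem {G : Type*} [Group G] {ev : ℕ → G} (hev : Good ev 129705083257453936896) (hR : Rels ev PX12c.R) :
    ∀ w ∈ TL.map Prod.snd, evL ev w ∈ gen ev Sub :=
  cert_mem hev hR hA hM hw hb

end c

theorem res {G : Type*} [Group G] {a b z w t x : G} (H : Rel a b z w t x) : z = 1 := by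
  have i_a : a⁻¹ = a := inv_eq_of_mul_eq_one_right H.hX.hN.aa
  have i_b : b⁻¹ = b := inv_eq_of_mul_eq_one_right H.hX.hN.bb
  have i_z : z⁻¹ = z := inv_eq_of_mul_eq_one_right H.hX.hN.zz
  have i_w : w⁻¹ = w := inv_eq_of_mul_eq_one_right H.hX.hN.ww
  have h : z * 1 = 1 := rels_of_mem_nil (c.mem (good H) (rels H)) [3] (List.mem_of_elem_eq_true (by decide))
  exact mul_inv_eq_one.mp (by simpa only [mul_inv_rev, inv_inv, mul_assoc, mul_one, one_mul, inv_one, pow_succ, pow_zero, i_a, i_b, i_z, i_w] using h)

end PX12c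

namespace PX20c

structure Rel {G : Type*} [Group G] (a b z w t x : G) : Prop where
  hX : PX0.Rel a b z w t x
  bx : (b * x) ^ 2 = a * t ^ 0

def R : List (List ℕ) := [[1, 1], [2, 2], [3, 3], [4, 4], [5, 5, 5], [5, 4, 5, 4, 5, 4], [3, 1, 3, 1], [3, 2, 3, 2], [3, 4, 3, 4], [3, 5, 3, 6], [1, 2, 1, 2, 3], [5, 1, 6, 1], [5, 2, 6, 2], [4, 1, 4, 1], [2, 4, 2, 4, 2, 4, 2, 4, 3], [1, 4, 2, 4, 2, 6, 4, 2, 4, 5, 5, 4, 2, 4, 6], [7, 7, 7], [7, 5, 8, 6], [7, 4, 8, 4], [7, 3, 8, 1], [7, 1, 8, 3, 1], [2, 7, 2, 7, 1]]

def ev {G : Type*} [Group G] (a b z w t x : G) (l : ℕ) : G := [1, a, b, z, w, t, t⁻¹, x, x⁻¹].getD l 1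

theorem good {G : Type*} [Group G] {a b z w t x : G} (H : Rel a b z w t x) : Good (ev a b z w t x) 129705083257453936896 := by
  have i_a : a⁻¹ = a := inv_eq_of_mul_eq_one_right H.hX.hN.aa
  have i_b : b⁻¹ = b := inv_eq_of_mul_eq_one_right H.hX.hN.bb
  have i_z : z⁻¹ = z := inv_eq_of_mul_eq_one_right H.hX.hN.zz
  have i_w : w⁻¹ = w := inv_eq_of_mul_eq_one_right H.hX.hN.ww
  refine good_list (n := 9) rfl (by norm_num) rfl fun l hl => ?_
  interval_cases l
  · exact inv_one.symm
  · exact i_a.symm
  · exact i_b.symm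
  · exact i_z.symm
  · exact i_w.symm
  · rfl
  · exact (inv_inv _).symm
  · rfl
  · exact (inv_inv _).symm

theorem rels {G : Type*} [Group G] {a b z w t x : G} (H : Rel a b z w t x) : Rels (ev a b z w t x) R := by
  have i_a : a⁻¹ = a := inv_eq_of_mul_eq_one_right H.hX.hN.aa
  have i_b : b⁻¹ = b := inv_eq_of_mul_eq_one_right H.hX.hN.bb
  have i_z : z⁻¹ = z := inv_eq_of_mul_eq_one_right H.hX.hN.zz
  have i_w : w⁻¹ = w := inv_eq_of_mul_eq_one_right H.hX.hN.ww
  unfold R
  refine Rels.cons ?_ ?_
  · show a * (a * 1) = 1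
    simpa only [mul_inv_rev, inv_inv, mul_assoc, mul_one, one_mul, inv_one, pow_succ, pow_zero, i_a, i_b, i_z, i_w] using mul_inv_eq_one.mpr H.hX.hN.aa
  refine Rels.cons ?_ ?_
  · show b * (b * 1) = 1
    simpa only [mul_inv_rev, inv_inv, mul_assoc, mul_one, one_mul, inv_one, pow_succ, pow_zero, i_a, i_b, i_z, i_w] using mul_inv_eq_one.mpr H.hX.hN.bb
  refine Rels.cons ?_ ?_
  · show z * (z * 1) = 1
    simpa only [mul_inv_rev, inv_inv, mul_assoc, mul_one, one_mul, inv_one, pow_succ, pow_zero, i_a, i_b, i_z, i_w] using mul_inv_eq_one.mpr H.hX.hN.zz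
  refine Rels.cons ?_ ?_
  · show w * (w * 1) = 1
    simpa only [mul_inv_rev, inv_inv, mul_assoc, mul_one, one_mul, inv_one, pow_succ, pow_zero, i_a, i_b, i_z, i_w] using mul_inv_eq_one.mpr H.hX.hN.ww
  refine Rels.cons ?_ ?_
  · show t * (t * (t * 1)) = 1
    simpa only [mul_inv_rev, inv_inv, mul_assoc, mul_one, one_mul, inv_one, pow_succ, pow_zero, i_a, i_b, i_z, i_w] using mul_inv_eq_one.mpr H.hX.hN.t3
  refine Rels.cons ?_ ?_
  · show t * (w * (t * (w * (t * (w * 1))))) = 1
    simpa only [mul_inv_rev, inv_inv, mul_assoc, mul_one, one_mul, inv_one, pow_succ, pow_zero, i_a, i_b, i_z, i_w] using mul_inv_eq_one.mpr H.hX.hN.tw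
  refine Rels.cons ?_ ?_
  · show z * (a * (z * (a * 1))) = 1
    simpa only [mul_inv_rev, inv_inv, mul_assoc, mul_one, one_mul, inv_one, pow_succ, pow_zero, i_a, i_b, i_z, i_w] using mul_inv_eq_one.mpr H.hX.hN.za
  refine Rels.cons ?_ ?_
  · show z * (b * (z * (b * 1))) = 1
    simpa only [mul_inv_rev, inv_inv, mul_assoc, mul_one, one_mul, inv_one, pow_succ, pow_zero, i_a, i_b, i_z, i_w] using mul_inv_eq_one.mpr H.hX.hN.zb
  refine Rels.cons ?_ ?_
  · show z * (w * (z * (w * 1))) = 1
    simpa only [mul_inv_rev, inv_inv, mul_assoc, mul_one, one_mul, inv_one, pow_succ, pow_zero, i_a, i_b, i_z, i_w] using mul_inv_eq_one.mpr H.hX.hN.zw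
  refine Rels.cons ?_ ?_
  · show z * (t * (z * (t⁻¹ * 1))) = 1
    simpa only [mul_inv_rev, inv_inv, mul_assoc, mul_one, one_mul, inv_one, pow_succ, pow_zero, i_a, i_b, i_z, i_w] using mul_inv_eq_one.mpr H.hX.hN.zt
  refine Rels.cons ?_ ?_
  · show a * (b * (a * (b * (z * 1)))) = 1
    simpa only [mul_inv_rev, inv_inv, mul_assoc, mul_one, one_mul, inv_one, pow_succ, pow_zero, i_a, i_b, i_z, i_w] using mul_inv_eq_one.mpr H.hX.hN.ab
  refine Rels.cons ?_ ?_
  · show t * (a * (t⁻¹ * (a * 1))) = 1
    simpa only [mul_inv_rev, inv_inv, mul_assoc, mul_one, one_mul, inv_one, pow_succ, pow_zero, i_a, i_b, i_z, i_w] using mul_inv_eq_one.mpr H.hX.hN.ta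
  refine Rels.cons ?_ ?_
  · show t * (b * (t⁻¹ * (b * 1))) = 1
    simpa only [mul_inv_rev, inv_inv, mul_assoc, mul_one, one_mul, inv_one, pow_succ, pow_zero, i_a, i_b, i_z, i_w] using mul_inv_eq_one.mpr H.hX.hN.tb
  refine Rels.cons ?_ ?_
  · show w * (a * (w * (a * 1))) = 1
    simpa only [mul_inv_rev, inv_inv, mul_assoc, mul_one, one_mul, inv_one, pow_succ, pow_zero, i_a, i_b, i_z, i_w] using mul_inv_eq_one.mpr H.hX.hN.wa
  refine Rels.cons ?_ ?_
  · show b * (w * (b * (w * (b * (w * (b * (w * (z * 1)))))))) = 1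
    simpa only [mul_inv_rev, inv_inv, mul_assoc, mul_one, one_mul, inv_one, pow_succ, pow_zero, i_a, i_b, i_z, i_w] using mul_inv_eq_one.mpr H.hX.hN.bw
  refine Rels.cons ?_ ?_
  · show a * (w * (b * (w * (b * (t⁻¹ * (w * (b * (w * (t * (t * (w * (b * (w * (t⁻¹ * 1)))))))))))))) = 1
    simpa only [mul_inv_rev, inv_inv, mul_assoc, mul_one, one_mul, inv_one, pow_succ, pow_zero, i_a, i_b, i_z, i_w] using mul_inv_eq_one.mpr H.hX.hN.pr
  refine Rels.cons ?_ ?_
  · show x * (x * (x * 1)) = 1
    simpa only [mul_inv_rev, inv_inv, mul_assoc, mul_one, one_mul, inv_one, pow_succ, pow_zero, i_a, i_b, i_z, i_w] using mul_inv_eq_one.mpr H.hX.x3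
  refine Rels.cons ?_ ?_
  · show x * (t * (x⁻¹ * (t⁻¹ * 1))) = 1
    simpa only [mul_inv_rev, inv_inv, mul_assoc, mul_one, one_mul, inv_one, pow_succ, pow_zero, i_a, i_b, i_z, i_w] using mul_inv_eq_one.mpr H.hX.xt
  refine Rels.cons ?_ ?_
  · show x * (w * (x⁻¹ * (w * 1))) = 1
    simpa only [mul_inv_rev, inv_inv, mul_assoc, mul_one, one_mul, inv_one, pow_succ, pow_zero, i_a, i_b, i_z, i_w] using mul_inv_eq_one.mpr H.hX.xw
  refine Rels.cons ?_ ?_
  · show x * (z * (x⁻¹ * (a * 1))) = 1
    simpa only [mul_inv_rev, inv_inv, mul_assoc, mul_one, one_mul, inv_one, pow_succ, pow_zero, i_a, i_b, i_z, i_w] using mul_inv_eq_one.mpr H.hX.xz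
  refine Rels.cons ?_ ?_
  · show x * (a * (x⁻¹ * (z * (a * 1)))) = 1
    simpa only [mul_inv_rev, inv_inv, mul_assoc, mul_one, one_mul, inv_one, pow_succ, pow_zero, i_a, i_b, i_z, i_w] using mul_inv_eq_one.mpr H.hX.xa
  refine Rels.cons ?_ ?_
  · show b * (x * (b * (x * (a * 1)))) = 1
    simpa only [mul_inv_rev, inv_inv, mul_assoc, mul_one, one_mul, inv_one, pow_succ, pow_zero, i_a, i_b, i_z, i_w] using mul_inv_eq_one.mpr H.bx
  intro r hr
  exact absurd hr List.not_mem_nil

/-- The relations hold for the letters of any assignment satisfying the relators. -/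
theorem rel_of {G : Type*} [Group G] {e : ℕ → G} (hg : Good e 129705083257453936896) (hR : Rels e R) :
    Rel (e 1) (e 2) (e 3) (e 4) (e 5) (e 7) := by
  have j1 : (e 1)⁻¹ = e 1 := (hg.inv 1).symm
  have j2 : (e 2)⁻¹ = e 2 := (hg.inv 2).symm
  have j3 : (e 3)⁻¹ = e 3 := (hg.inv 3).symm
  have j4 : (e 4)⁻¹ = e 4 := (hg.inv 4).symm
  have j5 : (e 5)⁻¹ = e 6 := (hg.inv 5).symm
  have j6 : (e 6)⁻¹ = e 5 := (hg.inv 6).symm
  have j7 : (e 7)⁻¹ = e 8 := (hg.inv 7).symm
  have j8 : (e 8)⁻¹ = e 7 := (hg.inv 8).symm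
  have r0 : e 1 * (e 1 * 1) = 1 := hR [1, 1] (List.mem_of_elem_eq_true (by decide))
  have r1 : e 2 * (e 2 * 1) = 1 := hR [2, 2] (List.mem_of_elem_eq_true (by decide))
  have r2 : e 3 * (e 3 * 1) = 1 := hR [3, 3] (List.mem_of_elem_eq_true (by decide))
  have r3 : e 4 * (e 4 * 1) = 1 := hR [4, 4] (List.mem_of_elem_eq_true (by decide))
  have r4 : e 5 * (e 5 * (e 5 * 1)) = 1 := hR [5, 5, 5] (List.mem_of_elem_eq_true (by decide))
  have r5 : e 5 * (e 4 * (e 5 * (e 4 * (e 5 * (e 4 * 1))))) = 1 := hR [5, 4, 5, 4, 5, 4] (List.mem_of_elem_eq_true (by decide))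
  have r6 : e 3 * (e 1 * (e 3 * (e 1 * 1))) = 1 := hR [3, 1, 3, 1] (List.mem_of_elem_eq_true (by decide))
  have r7 : e 3 * (e 2 * (e 3 * (e 2 * 1))) = 1 := hR [3, 2, 3, 2] (List.mem_of_elem_eq_true (by decide))
  have r8 : e 3 * (e 4 * (e 3 * (e 4 * 1))) = 1 := hR [3, 4, 3, 4] (List.mem_of_elem_eq_true (by decide))
  have r9 : e 3 * (e 5 * (e 3 * (e 6 * 1))) = 1 := hR [3, 5, 3, 6] (List.mem_of_elem_eq_true (by decide))
  have r10 : e 1 * (e 2 * (e 1 * (e 2 * (e 3 * 1)))) = 1 := hR [1, 2, 1, 2, 3] (List.mem_of_elem_eq_true (by decide))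
  have r11 : e 5 * (e 1 * (e 6 * (e 1 * 1))) = 1 := hR [5, 1, 6, 1] (List.mem_of_elem_eq_true (by decide))
  have r12 : e 5 * (e 2 * (e 6 * (e 2 * 1))) = 1 := hR [5, 2, 6, 2] (List.mem_of_elem_eq_true (by decide))
  have r13 : e 4 * (e 1 * (e 4 * (e 1 * 1))) = 1 := hR [4, 1, 4, 1] (List.mem_of_elem_eq_true (by decide))
  have r14 : e 2 * (e 4 * (e 2 * (e 4 * (e 2 * (e 4 * (e 2 * (e 4 * (e 3 * 1)))))))) = 1 := hR [2, 4, 2, 4, 2, 4, 2, 4, 3] (List.mem_of_elem_eq_true (by decide))
  have r15 : e 1 * (e 4 * (e 2 * (e 4 * (e 2 * (e 6 * (e 4 * (e 2 * (e 4 * (e 5 * (e 5 * (e 4 * (e 2 * (e 4 * (e 6 * 1)))))))))))))) = 1 := hR [1, 4, 2, 4, 2, 6, 4, 2, 4, 5, 5, 4, 2, 4, 6] (List.mem_of_elem_eq_true (by decide))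
  have r16 : e 7 * (e 7 * (e 7 * 1)) = 1 := hR [7, 7, 7] (List.mem_of_elem_eq_true (by decide))
  have r17 : e 7 * (e 5 * (e 8 * (e 6 * 1))) = 1 := hR [7, 5, 8, 6] (List.mem_of_elem_eq_true (by decide))
  have r18 : e 7 * (e 4 * (e 8 * (e 4 * 1))) = 1 := hR [7, 4, 8, 4] (List.mem_of_elem_eq_true (by decide))
  have r19 : e 7 * (e 3 * (e 8 * (e 1 * 1))) = 1 := hR [7, 3, 8, 1] (List.mem_of_elem_eq_true (by decide))
  have r20 : e 7 * (e 1 * (e 8 * (e 3 * (e 1 * 1)))) = 1 := hR [7, 1, 8, 3, 1] (List.mem_of_elem_eq_true (by decide))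
  have r21 : e 2 * (e 7 * (e 2 * (e 7 * (e 1 * 1)))) = 1 := hR [2, 7, 2, 7, 1] (List.mem_of_elem_eq_true (by decide))
  exact ⟨⟨⟨mul_inv_eq_one.mp (by simpa only [mul_inv_rev, mul_assoc, mul_one, one_mul, inv_one, pow_succ, pow_zero, j1, j2, j3, j4, j5, j6, j7, j8] using r0),
    mul_inv_eq_one.mp (by simpa only [mul_inv_rev, mul_assoc, mul_one, one_mul, inv_one, pow_succ, pow_zero, j1, j2, j3, j4, j5, j6, j7, j8] using r1),
    mul_inv_eq_one.mp (by simpa only [mul_inv_rev, mul_assoc, mul_one, one_mul, inv_one, pow_succ, pow_zero, j1, j2, j3, j4, j5, j6, j7, j8] using r2),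
    mul_inv_eq_one.mp (by simpa only [mul_inv_rev, mul_assoc, mul_one, one_mul, inv_one, pow_succ, pow_zero, j1, j2, j3, j4, j5, j6, j7, j8] using r3),
    mul_inv_eq_one.mp (by simpa only [mul_inv_rev, mul_assoc, mul_one, one_mul, inv_one, pow_succ, pow_zero, j1, j2, j3, j4, j5, j6, j7, j8] using r4),
    mul_inv_eq_one.mp (by simpa only [mul_inv_rev, mul_assoc, mul_one, one_mul, inv_one, pow_succ, pow_zero, j1, j2, j3, j4, j5, j6, j7, j8] using r5),
    mul_inv_eq_one.mp (by simpa only [mul_inv_rev, mul_assoc, mul_one, one_mul, inv_one, pow_succ, pow_zero, j1, j2, j3, j4, j5, j6, j7, j8] using r6),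
    mul_inv_eq_one.mp (by simpa only [mul_inv_rev, mul_assoc, mul_one, one_mul, inv_one, pow_succ, pow_zero, j1, j2, j3, j4, j5, j6, j7, j8] using r7),
    mul_inv_eq_one.mp (by simpa only [mul_inv_rev, mul_assoc, mul_one, one_mul, inv_one, pow_succ, pow_zero, j1, j2, j3, j4, j5, j6, j7, j8] using r8),
    mul_inv_eq_one.mp (by simpa only [mul_inv_rev, mul_assoc, mul_one, one_mul, inv_one, pow_succ, pow_zero, j1, j2, j3, j4, j5, j6, j7, j8] using r9),
    mul_inv_eq_one.mp (by simpa only [mul_inv_rev, mul_assoc, mul_one, one_mul, inv_one, pow_succ, pow_zero, j1, j2, j3, j4, j5, j6, j7, j8] using r10),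
    mul_inv_eq_one.mp (by simpa only [mul_inv_rev, mul_assoc, mul_one, one_mul, inv_one, pow_succ, pow_zero, j1, j2, j3, j4, j5, j6, j7, j8] using r11),
    mul_inv_eq_one.mp (by simpa only [mul_inv_rev, mul_assoc, mul_one, one_mul, inv_one, pow_succ, pow_zero, j1, j2, j3, j4, j5, j6, j7, j8] using r12),
    mul_inv_eq_one.mp (by simpa only [mul_inv_rev, mul_assoc, mul_one, one_mul, inv_one, pow_succ, pow_zero, j1, j2, j3, j4, j5, j6, j7, j8] using r13),
    mul_inv_eq_one.mp (by simpa only [mul_inv_rev, mul_assoc, mul_one, one_mul, inv_one, pow_succ, pow_zero, j1, j2, j3, j4, j5, j6, j7, j8] using r14),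
    mul_inv_eq_one.mp (by simpa only [mul_inv_rev, mul_assoc, mul_one, one_mul, inv_one, pow_succ, pow_zero, j1, j2, j3, j4, j5, j6, j7, j8] using r15)⟩,
    mul_inv_eq_one.mp (by simpa only [mul_inv_rev, mul_assoc, mul_one, one_mul, inv_one, pow_succ, pow_zero, j1, j2, j3, j4, j5, j6, j7, j8] using r16),
    mul_inv_eq_one.mp (by simpa only [mul_inv_rev, mul_assoc, mul_one, one_mul, inv_one, pow_succ, pow_zero, j1, j2, j3, j4, j5, j6, j7, j8] using r17),
    mul_inv_eq_one.mp (by simpa only [mul_inv_rev, mul_assoc, mul_one, one_mul, inv_one, pow_succ, pow_zero, j1, j2, j3, j4, j5, j6, j7, j8] using r18),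
    mul_inv_eq_one.mp (by simpa only [mul_inv_rev, mul_assoc, mul_one, one_mul, inv_one, pow_succ, pow_zero, j1, j2, j3, j4, j5, j6, j7, j8] using r19),
    mul_inv_eq_one.mp (by simpa only [mul_inv_rev, mul_assoc, mul_one, one_mul, inv_one, pow_succ, pow_zero, j1, j2, j3, j4, j5, j6, j7, j8] using r20)⟩,
    mul_inv_eq_one.mp (by simpa only [mul_inv_rev, mul_assoc, mul_one, one_mul, inv_one, pow_succ, pow_zero, j1, j2, j3, j4, j5, j6, j7, j8] using r21)⟩

theorem gen_top : gen (pgEv 129705083257453936896 R) [[1], [2], [3], [4], [5], [7]] = ⊤ := pg_gen (n := 9) (by norm_num) (by decide)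
namespace c

noncomputable def get (y : ℕ) : ℕ := (sel (nat_lit 1) y (nat_lit 0x0) (sel (nat_lit 2) y (nat_lit 0x3300002f0000002f00003300000005000016000000160000050000003e0000350000003500003e000000170000120000001200001700000034000023000000230000340000002500002d0000002d00002500000036000038000000380000360200003d00003f0200003f00003d0400003600003f0400003f0000360800003500003f0700003f0000350400003400003e0400003e0000340200003300003e0200003e0000330700003300003d0800003d0000330400003000003d0400003d0000300300003b00003c0300003c00003b0800002f00003c0700003c00002f0800003300003b0700003b0000330100003a00003b0100003b00003a0400002c00003b0400003b00002c0400002800003a0400003a0000280800002700003a0700003a00002703000033000039030000390000330400002600003904000039000026070000380000340800003400003802000025000038020000380000250200003700002e0200002e00003707000023000037080000370000230200002d0000360200003600002d08000023000036070000360000230200002f0000350200003500002f040000230000350400003500002302000022000034020000340000220100002f000033010000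3300002f0400001f0000330400003300001f03000025000032030000320000250400001e0000320400003200001e0700002b0000310800003100002b0200001d0000310200003100001d0700001f0000300800003000001f0200001c0000300200003000001c0400001b00002f0400002f00001b0100002400002e0100002e0000240400001800002e0400002e0000180700002200002d0800002d0000220400001700002d0400002d0000170700002c00001f0800001f00002c0100002800002c0100002c0000280200001500002c0200002c0000150200001400002b0200002b0000140200002900002a0200002a0000290400001600002a0400002a0000160100001400002a0100002a0000140700002900002808000028000029070000130000290800002900001302000021000028020000280000210800001300002807000028000013040000130000270400002700001302000019000026020000260000190300001f0000260300002600001f01000013000026010000260000130400001200002504000025000012070000100000250800002500001004000011000024040000240000110800001000002407000024000010020000100000230200002300001001000010000022010000220000100400000f0000220400002200000f0300001d0000210300002100001d0700000c0000210800002100000c0100001c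0000200100002000001c0800000c0000200700002000000c0100001b00001f0100001f00001b0200000c00001f0200001f00000c0300001200001e0300001e0000120200000a00001e0200001e00000a0100001500001d0100001d0000150400000b00001d0400001d00000b0700000900001d0800001d0000090400000a00001c0400001c00000a0800000900001c0700001c0000090300001300001b0300001b0000130200000900001b0200001b0000090300001000001a0300001a0000100400000800001a0400001a00000801000009000019010000190000090400000700001904000019000007010000110000180100001800001102000006000018020000180000060700000f0000170800001700000f0200000500001702000017000005020000120000160200001600001208000007000016070000160000070300000a0000160300001600000a010000050000160100001600000507000015000014080000140000150400000600001504000015000006070000040000150800001500000404000005000014040000140000050800000400001407000014000004020000040000130200001300000407000003000012080000120000030200000e0000110200001100000e080000030000110700001100000304000003000010040000100000030200000700000f0200000f0000070100000300000f0100000f00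00030300000b00000e0300000e00000b0700000200000e0800000e0000020100000a00000d0100000d00000a0300000500000d0300000d0000050800000200000d0700000d0000020100000400000c0100000c0000040400000200000c0400000c0000020100000600000b0100000b0000060700000100000b0800000b0000010800000100000a0700000a000001030000040000090300000900000404000001000009040000090000010300000300000803000008000003020000010000080200000800000103000002000007030000070000020100000100000701000007000001070000000000060800000600000008000000000005070000050000000400000000000404000004000000020000000000030200000300000001000000000002010000020000000300000000000103000001000000) (nat_lit 0xa00000000000009000000000000030000000000000300000000000000000001000000000000000000010000000b0000060000000600000b0000001500001d0000001d0000150000002c0000280000002800002c0000003a00003b0000003b00003a0200004000003a0200003a000040040000370000400400004000003707000035000040080000400000350200002800001d0200001d00002800000031000028000000280000310700003b00002f0800002f00003b0300003b00003b0300003b00003b0000002900002b0000002b0000290000003b00003c0000003c00003b0000002a0000140000001400002a)))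
noncomputable def gs (y : ℕ) : ℕ := (sel (nat_lit 4) y (sel (nat_lit 2) y (sel (nat_lit 1) y (nat_lit 0x0) (nat_lit 0x0)) (sel (nat_lit 3) y (nat_lit 0x0) (nat_lit 0x0))) (sel (nat_lit 6) y (sel (nat_lit 5) y (nat_lit 0x8000000800000b000023a00002060000209800000080000008000000800000a0000232000020400002030000229800000080000008000009000022c00002130000210000020d8000000800000800002280000202000020b000021d800000080000070000222000020200002010000219800000600002220000202000020980000008000005000021e0000202000020780000008000004000021a0000200000020b8000000800000080000030000214000020000002078000000800000200002100000200000020580000008000001000020c000020000002038000000800000080000008000000800000080000008000000) (nat_lit 0x80000008000005000027a000022c00002318000000800000800002760000220000023f000026980000008000007000027200002200000217000026180000008000011000026e00002200000217000025d80000008000002000026a0000247000024a8000000800000400002640000216000023f800000c00002640000214000021b8000000800000b00002600000214000021980000008000002000025c0000216000023980000008000003000025800002120000231800000080000050000254000020c0000215800000080000110000250000021d000022b000023580000008000010000024c00002450000248000022f8000000800000f0000244000020800002050000237800000e000024400002080000203000020f80000010000244000022500002268000000800000d000023a000023f800000c000023e0000206000020b))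 (sel (nat_lit 7) y (nat_lit 0x800000500002bc000027000002af8000000800000300002b8000026c00002878000000800001000002b400002680000243000029f8000000800001000002b000002750000272000026f80000008000000800000500002aa000025200002838000000800001300002a6000024e000027b80000008000010000026e0000220000023f00002a1800001100002a000002690000279000029380000008000000800000f0000298000023a0000239000029580000120000298000023c00002458000000800000d000029000002958000000800000a00002900000238000022100002778000000800000080000090000288000025f000025c000025780000010000288000025f00002718000000800000c0000284000023000002378000000800000b0000280000023000002338000000) (sel (nat_lit 8) y (nat_lit 0x800001800002c500002fa00002e88000018000024a00002f8000024c800001a00002c200002f600002eb800001a000028700002f500002a6800001900002c700002f300002d1800001800002c900002f300002ce800001700002ce00002bb00002b8000026a000026300002b100002e500002f100002ee800000a00002ec00002c400002bf00002e7800000b00002ec00002c200002c78000000800001600002e800002d500002d2000028c0000254000022f000027b00002c18000000800001300002e400002b200002bd8000000800000600002e000002bf00002df8000000800001500002da00002a500002bd800000500002da00002a200002d98000000800000b00002d6000028e00002918000000800000300002d2000028a00002bd8000000800001000002c0000027c000028500002cf8000000800000f00002ac0000280000027f00002cb8000000800000a00002c6000027e000027d00002a98000000800001400002c2000027e000025b000025800002100000215000025d00002af80000008000000)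 (nat_lit 0x8000021800002180000218000021800002180000218000021800002180000218000021800002180000218000021800002180000218000020000031f800001c0000201000031d800001b000020b000031a000021a800001a0000241000031900002668000018000030c000031600002a0800001a00002d9000031500002da800001f000030700002da00002a00000240000025100002ab00002cc00003110000313800000f00002dd000030900002c5000030f800000c000030e00002c200002cb8000000800001e00002b5000030b80000190000296000030500002b7800001d00002e10000302800001c00002e300003028000018000029e0000300000029c800001b00002e000002fe00002df800001a000023c00002fd000029b)))))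
noncomputable def gd (y : ℕ) : ℕ := (nat_lit 0x30e00002ec00002e800002e400002e000002da00002d600002d200002ce00002ca00002c600002c200002c000002bc00002b800002b400002b000002ae00002aa00002a600002a0000029e000029800002940000290000028e000028800002840000280000027e000027a00002760000272000026e000026a00002640000260000025c000025800002540000250000024c0000244000023e000023a0000238000023600002320000230000022c00002280000222000021e000021a000021800002140000210000020c000020a000020800002060000204000020200002000000000)
noncomputable def gwh_0 (y : ℕ) : ℕ := (sel (nat_lit 8) y (sel (nat_lit 4) y (sel (nat_lit 2) y (sel (nat_lit 1) y (nat_lit 0x1030103000003001000) (nat_lit 0x2030203000003001001)) (sel (nat_lit 3) y (nat_lit 0x4030403000003001002) (nat_lit 0x7030801000000004003))) (sel (nat_lit 6) y (sel (nat_lit 5) y (nat_lit 0x4010401000002002004) (nat_lit 0x8010703000002002003)) (sel (nat_lit 7) y (nat_lit 0x803010701000002003005) (nat_lit 0x107010803000004001005)))) (sel (nat_lit 12) y (sel (nat_lit 10) y (sel (nat_lit 9) y (nat_lit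 0x102030102000002003006) (nat_lit 0x701020702000003002007)) (sel (nat_lit 11) y (nat_lit 0x8040704000002002008) (nat_lit 0x7040804000000004008))) (sel (nat_lit 14) y (sel (nat_lit 13) y (nat_lit 0x70707000000003009) (nat_lit 0x301070108000003002005)) (sel (nat_lit 15) y (nat_lit 0x702070102000001004007) (nat_lit 0x207010207000002003007)))))
noncomputable def gwh_1 (y : ℕ) : ℕ := (sel (nat_lit 24) y (sel (nat_lit 20) y (sel (nat_lit 18) y (sel (nat_lit 17) y (nat_lit 0x203010201000003002006) (nat_lit 0x1040104000003001004)) (sel (nat_lit 19) y (nat_lit 0x4080407000001003008) (nat_lit 0x4020402040302040200000300600a))) (sel (nat_lit 22) y (sel (nat_lit 21) y (nat_lit 0x4070408000003001008) (nat_lit 0x2040204020403020400000200700a)) (sel (nat_lit 23) y (nat_lit 0x402040204020403020000100100800a) (nat_lit 0x200020000100000300b)))) (sel (nat_lit 28) y (sel (nat_lit 26) y (sel (nat_lit 25) y (nat_lit 0x700080000100000300c) (nat_lit 0x400040000100000300d)) (sel (nat_lit 27) y (nat_lit 0x800070000100000300e) (nat_lit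 0x30300000000200f))) (sel (nat_lit 30) y (sel (nat_lit 29) y (nat_lit 0x807000000002010) (nat_lit 0x202000000002011)) (sel (nat_lit 31) y (nat_lit 0x204020402040204030000100000900a) (nat_lit 0x30a000000002012)))))
noncomputable def gwh (y : ℕ) : ℕ := (sel (nat_lit 16) y (gwh_0 y) (gwh_1 y))
def sg : List (List ℕ) := [[], [1], [2], [3], [4], [5], [6], [7], [8], [3], [3]]
def BL : List ℕ := [0x3010301, 0x3020302, 0x3040304, 0x7030801, 0x4010401, 0x701080301, 0x102010203, 0x207020701, 0x7040804, 0x70707, 0x20402040204020403, 0x20002, 0x70008, 0x40004, 0x80007, 0x303, 0x807, 0x202, 0x30a]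
def Sub : List (List ℕ) := []
theorem hA : prepA 129705083257453936896 PX20c.R sg 10927685746443616478429440 BL Sub get gd = true := by decide +kernel
theorem hw : allR (okW BL gwh) 0 32 = true := by decide +kernel
theorem b0 : allR (blk get gs (gwB gwh 32) gd 10927685746443616478429440) 4 5 = true := by decide +kernel
theorem hb : ∀ b, 4 ≤ b → b < 9 → blk get gs (gwB gwh 32) gd 10927685746443616478429440 b = true :=
  (allR_range b0 (by norm_num : 4 + 5 = 9))
def TL : List (ℕ × List ℕ) := [(544, [3])]
theorem hM : prepM sg get 9 TL = true := by decide +kernel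
theorem mem {G : Type*} [Group G] {ev : ℕ → G} (hev : Good ev 129705083257453936896) (hR : Rels ev PX20c.R) :
    ∀ w ∈ TL.map Prod.snd, evL ev w ∈ gen ev Sub :=
  cert_mem hev hR hA hM hw hb

end c

theorem res {G : Type*} [Group G] {a b z w t x : G} (H : Rel a b z w t x) : z = 1 := by
  have i_a : a⁻¹ = a := inv_eq_of_mul_eq_one_right H.hX.hN.aa
  have i_b : b⁻¹ = b := inv_eq_of_mul_eq_one_right H.hX.hN.bb
  have i_z : z⁻¹ = z := inv_eq_of_mul_eq_one_right H.hX.hN.zz
  have i_w : w⁻¹ = w := inv_eq_of_mul_eq_one_right H.hX.hN.ww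
  have h : z * 1 = 1 := rels_of_mem_nil (c.mem (good H) (rels H)) [3] (List.mem_of_elem_eq_true (by decide))
  exact mul_inv_eq_one.mp (by simpa only [mul_inv_rev, inv_inv, mul_assoc, mul_one, one_mul, inv_one, pow_succ, pow_zero, i_a, i_b, i_z, i_w] using h)

end PX20c

namespace PX21c

structure Rel {G : Type*} [Group G] (a b z w t x : G) : Prop where
  hX : PX0.Rel a b z w t x
  bx : (b * x) ^ 2 = a * t ^ 1

def R : List (List ℕ) := [[1, 1], [2, 2], [3, 3], [4, 4], [5, 5, 5], [5, 4, 5, 4, 5, 4], [3, 1, 3, 1], [3, 2, 3, 2], [3, 4, 3, 4], [3, 5, 3, 6], [1, 2, 1, 2, 3], [5, 1, 6, 1], [5, 2, 6, 2], [4, 1, 4, 1], [2, 4, 2, 4, 2, 4, 2, 4, 3], [1, 4, 2, 4, 2, 6, 4, 2, 4, 5, 5, 4, 2, 4, 6], [7, 7, 7], [7, 5, 8, 6], [7, 4, 8, 4], [7, 3, 8, 1], [7, 1, 8, 3, 1], [2, 7, 2, 7, 6, 1]]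

def ev {G : Type*} [Group G] (a b z w t x : G) (l : ℕ) : G := [1, a, b, z, w, t, t⁻¹, x, x⁻¹].getD l 1

theorem good {G : Type*} [Group G] {a b z w t x : G} (H : Rel a b z w t x) : Good (ev a b z w t x) 129705083257453936896 := by
  have i_a : a⁻¹ = a := inv_eq_of_mul_eq_one_right H.hX.hN.aa
  have i_b : b⁻¹ = b := inv_eq_of_mul_eq_one_right H.hX.hN.bb
  have i_z : z⁻¹ = z := inv_eq_of_mul_eq_one_right H.hX.hN.zz
  have i_w : w⁻¹ = w := inv_eq_of_mul_eq_one_right H.hX.hN.ww
  refine good_list (n := 9) rfl (by norm_num) rfl fun l hl => ?_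
  interval_cases l
  · exact inv_one.symm
  · exact i_a.symm
  · exact i_b.symm
  · exact i_z.symm
  · exact i_w.symm
  · rfl
  · exact (inv_inv _).symm
  · rfl
  · exact (inv_inv _).symm

theorem rels {G : Type*} [Group G] {a b z w t x : G} (H : Rel a b z w t x) : Rels (ev a b z w t x) R := by
  have i_a : a⁻¹ = a := inv_eq_of_mul_eq_one_right H.hX.hN.aa
  have i_b : b⁻¹ = b := inv_eq_of_mul_eq_one_right H.hX.hN.bb
  have i_z : z⁻¹ = z := inv_eq_of_mul_eq_one_right H.hX.hN.zz
  have i_w : w⁻¹ = w := inv_eq_of_mul_eq_one_right H.hX.hN.ww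
  unfold R
  refine Rels.cons ?_ ?_
  · show a * (a * 1) = 1
    simpa only [mul_inv_rev, inv_inv, mul_assoc, mul_one, one_mul, inv_one, pow_succ, pow_zero, i_a, i_b, i_z, i_w] using mul_inv_eq_one.mpr H.hX.hN.aa
  refine Rels.cons ?_ ?_
  · show b * (b * 1) = 1
    simpa only [mul_inv_rev, inv_inv, mul_assoc, mul_one, one_mul, inv_one, pow_succ, pow_zero, i_a, i_b, i_z, i_w] using mul_inv_eq_one.mpr H.hX.hN.bb
  refine Rels.cons ?_ ?_
  · show z * (z * 1) = 1
    simpa only [mul_inv_rev, inv_inv, mul_assoc, mul_one, one_mul, inv_one, pow_succ, pow_zero, i_a, i_b, i_z, i_w] using mul_inv_eq_one.mpr H.hX.hN.zz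
  refine Rels.cons ?_ ?_
  · show w * (w * 1) = 1
    simpa only [mul_inv_rev, inv_inv, mul_assoc, mul_one, one_mul, inv_one, pow_succ, pow_zero, i_a, i_b, i_z, i_w] using mul_inv_eq_one.mpr H.hX.hN.ww
  refine Rels.cons ?_ ?_
  · show t * (t * (t * 1)) = 1
    simpa only [mul_inv_rev, inv_inv, mul_assoc, mul_one, one_mul, inv_one, pow_succ, pow_zero, i_a, i_b, i_z, i_w] using mul_inv_eq_one.mpr H.hX.hN.t3
  refine Rels.cons ?_ ?_
  · show t * (w * (t * (w * (t * (w * 1))))) = 1
    simpa only [mul_inv_rev, inv_inv, mul_assoc, mul_one, one_mul, inv_one, pow_succ, pow_zero, i_a, i_b, i_z, i_w] using mul_inv_eq_one.mpr H.hX.hN.tw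
  refine Rels.cons ?_ ?_
  · show z * (a * (z * (a * 1))) = 1
    simpa only [mul_inv_rev, inv_inv, mul_assoc, mul_one, one_mul, inv_one, pow_succ, pow_zero, i_a, i_b, i_z, i_w] using mul_inv_eq_one.mpr H.hX.hN.za
  refine Rels.cons ?_ ?_
  · show z * (b * (z * (b * 1))) = 1
    simpa only [mul_inv_rev, inv_inv, mul_assoc, mul_one, one_mul, inv_one, pow_succ, pow_zero, i_a, i_b, i_z, i_w] using mul_inv_eq_one.mpr H.hX.hN.zb
  refine Rels.cons ?_ ?_
  · show z * (w * (z * (w * 1))) = 1
    simpa only [mul_inv_rev, inv_inv, mul_assoc, mul_one, one_mul, inv_one, pow_succ, pow_zero, i_a, i_b, i_z, i_w] using mul_inv_eq_one.mpr H.hX.hN.zw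
  refine Rels.cons ?_ ?_
  · show z * (t * (z * (t⁻¹ * 1))) = 1
    simpa only [mul_inv_rev, inv_inv, mul_assoc, mul_one, one_mul, inv_one, pow_succ, pow_zero, i_a, i_b, i_z, i_w] using mul_inv_eq_one.mpr H.hX.hN.zt
  refine Rels.cons ?_ ?_
  · show a * (b * (a * (b * (z * 1)))) = 1
    simpa only [mul_inv_rev, inv_inv, mul_assoc, mul_one, one_mul, inv_one, pow_succ, pow_zero, i_a, i_b, i_z, i_w] using mul_inv_eq_one.mpr H.hX.hN.ab
  refine Rels.cons ?_ ?_
  · show t * (a * (t⁻¹ * (a * 1))) = 1
    simpa only [mul_inv_rev, inv_inv, mul_assoc, mul_one, one_mul, inv_one, pow_succ, pow_zero, i_a, i_b, i_z, i_w] using mul_inv_eq_one.mpr H.hX.hN.ta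
  refine Rels.cons ?_ ?_
  · show t * (b * (t⁻¹ * (b * 1))) = 1
    simpa only [mul_inv_rev, inv_inv, mul_assoc, mul_one, one_mul, inv_one, pow_succ, pow_zero, i_a, i_b, i_z, i_w] using mul_inv_eq_one.mpr H.hX.hN.tb
  refine Rels.cons ?_ ?_
  · show w * (a * (w * (a * 1))) = 1
    simpa only [mul_inv_rev, inv_inv, mul_assoc, mul_one, one_mul, inv_one, pow_succ, pow_zero, i_a, i_b, i_z, i_w] using mul_inv_eq_one.mpr H.hX.hN.wa
  refine Rels.cons ?_ ?_
  · show b * (w * (b * (w * (b * (w * (b * (w * (z * 1)))))))) = 1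
    simpa only [mul_inv_rev, inv_inv, mul_assoc, mul_one, one_mul, inv_one, pow_succ, pow_zero, i_a, i_b, i_z, i_w] using mul_inv_eq_one.mpr H.hX.hN.bw
  refine Rels.cons ?_ ?_
  · show a * (w * (b * (w * (b * (t⁻¹ * (w * (b * (w * (t * (t * (w * (b * (w * (t⁻¹ * 1)))))))))))))) = 1
    simpa only [mul_inv_rev, inv_inv, mul_assoc, mul_one, one_mul, inv_one, pow_succ, pow_zero, i_a, i_b, i_z, i_w] using mul_inv_eq_one.mpr H.hX.hN.pr
  refine Rels.cons ?_ ?_
  · show x * (x * (x * 1)) = 1
    simpa only [mul_inv_rev, inv_inv, mul_assoc, mul_one, one_mul, inv_one, pow_succ, pow_zero, i_a, i_b, i_z, i_w] using mul_inv_eq_one.mpr H.hX.x3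
  refine Rels.cons ?_ ?_
  · show x * (t * (x⁻¹ * (t⁻¹ * 1))) = 1
    simpa only [mul_inv_rev, inv_inv, mul_assoc, mul_one, one_mul, inv_one, pow_succ, pow_zero, i_a, i_b, i_z, i_w] using mul_inv_eq_one.mpr H.hX.xt
  refine Rels.cons ?_ ?_
  · show x * (w * (x⁻¹ * (w * 1))) = 1
    simpa only [mul_inv_rev, inv_inv, mul_assoc, mul_one, one_mul, inv_one, pow_succ, pow_zero, i_a, i_b, i_z, i_w] using mul_inv_eq_one.mpr H.hX.xw
  refine Rels.cons ?_ ?_
  · show x * (z * (x⁻¹ * (a * 1))) = 1
    simpa only [mul_inv_rev, inv_inv, mul_assoc, mul_one, one_mul, inv_one, pow_succ, pow_zero, i_a, i_b, i_z, i_w] using mul_inv_eq_one.mpr H.hX.xz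
  refine Rels.cons ?_ ?_
  · show x * (a * (x⁻¹ * (z * (a * 1)))) = 1
    simpa only [mul_inv_rev, inv_inv, mul_assoc, mul_one, one_mul, inv_one, pow_succ, pow_zero, i_a, i_b, i_z, i_w] using mul_inv_eq_one.mpr H.hX.xa
  refine Rels.cons ?_ ?_
  · show b * (x * (b * (x * (t⁻¹ * (a * 1))))) = 1
    simpa only [mul_inv_rev, inv_inv, mul_assoc, mul_one, one_mul, inv_one, pow_succ, pow_zero, i_a, i_b, i_z, i_w] using mul_inv_eq_one.mpr H.bx
  intro r hr
  exact absurd hr List.not_mem_nil

/-- The relations hold for the letters of any assignment satisfying the relators. -/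
theorem rel_of {G : Type*} [Group G] {e : ℕ → G} (hg : Good e 129705083257453936896) (hR : Rels e R) :
    Rel (e 1) (e 2) (e 3) (e 4) (e 5) (e 7) := by
  have j1 : (e 1)⁻¹ = e 1 := (hg.inv 1).symm
  have j2 : (e 2)⁻¹ = e 2 := (hg.inv 2).symm
  have j3 : (e 3)⁻¹ = e 3 := (hg.inv 3).symm
  have j4 : (e 4)⁻¹ = e 4 := (hg.inv 4).symm
  have j5 : (e 5)⁻¹ = e 6 := (hg.inv 5).symm
  have j6 : (e 6)⁻¹ = e 5 := (hg.inv 6).symm
  have j7 : (e 7)⁻¹ = e 8 := (hg.inv 7).symm
  have j8 : (e 8)⁻¹ = e 7 := (hg.inv 8).symm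
  have r0 : e 1 * (e 1 * 1) = 1 := hR [1, 1] (List.mem_of_elem_eq_true (by decide))
  have r1 : e 2 * (e 2 * 1) = 1 := hR [2, 2] (List.mem_of_elem_eq_true (by decide))
  have r2 : e 3 * (e 3 * 1) = 1 := hR [3, 3] (List.mem_of_elem_eq_true (by decide))
  have r3 : e 4 * (e 4 * 1) = 1 := hR [4, 4] (List.mem_of_elem_eq_true (by decide))
  have r4 : e 5 * (e 5 * (e 5 * 1)) = 1 := hR [5, 5, 5] (List.mem_of_elem_eq_true (by decide))
  have r5 : e 5 * (e 4 * (e 5 * (e 4 * (e 5 * (e 4 * 1))))) = 1 := hR [5, 4, 5, 4, 5, 4] (List.mem_of_elem_eq_true (by decide))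
  have r6 : e 3 * (e 1 * (e 3 * (e 1 * 1))) = 1 := hR [3, 1, 3, 1] (List.mem_of_elem_eq_true (by decide))
  have r7 : e 3 * (e 2 * (e 3 * (e 2 * 1))) = 1 := hR [3, 2, 3, 2] (List.mem_of_elem_eq_true (by decide))
  have r8 : e 3 * (e 4 * (e 3 * (e 4 * 1))) = 1 := hR [3, 4, 3, 4] (List.mem_of_elem_eq_true (by decide))
  have r9 : e 3 * (e 5 * (e 3 * (e 6 * 1))) = 1 := hR [3, 5, 3, 6] (List.mem_of_elem_eq_true (by decide))
  have r10 : e 1 * (e 2 * (e 1 * (e 2 * (e 3 * 1)))) = 1 := hR [1, 2, 1, 2, 3] (List.mem_of_elem_eq_true (by decide))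
  have r11 : e 5 * (e 1 * (e 6 * (e 1 * 1))) = 1 := hR [5, 1, 6, 1] (List.mem_of_elem_eq_true (by decide))
  have r12 : e 5 * (e 2 * (e 6 * (e 2 * 1))) = 1 := hR [5, 2, 6, 2] (List.mem_of_elem_eq_true (by decide))
  have r13 : e 4 * (e 1 * (e 4 * (e 1 * 1))) = 1 := hR [4, 1, 4, 1] (List.mem_of_elem_eq_true (by decide))
  have r14 : e 2 * (e 4 * (e 2 * (e 4 * (e 2 * (e 4 * (e 2 * (e 4 * (e 3 * 1)))))))) = 1 := hR [2, 4, 2, 4, 2, 4, 2, 4, 3] (List.mem_of_elem_eq_true (by decide))
  have r15 : e 1 * (e 4 * (e 2 * (e 4 * (e 2 * (e 6 * (e 4 * (e 2 * (e 4 * (e 5 * (e 5 * (e 4 * (e 2 * (e 4 * (e 6 * 1)))))))))))))) = 1 := hR [1, 4, 2, 4, 2, 6, 4, 2, 4, 5, 5, 4, 2, 4, 6] (List.mem_of_elem_eq_true (by decide))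
  have r16 : e 7 * (e 7 * (e 7 * 1)) = 1 := hR [7, 7, 7] (List.mem_of_elem_eq_true (by decide))
  have r17 : e 7 * (e 5 * (e 8 * (e 6 * 1))) = 1 := hR [7, 5, 8, 6] (List.mem_of_elem_eq_true (by decide))
  have r18 : e 7 * (e 4 * (e 8 * (e 4 * 1))) = 1 := hR [7, 4, 8, 4] (List.mem_of_elem_eq_true (by decide))
  have r19 : e 7 * (e 3 * (e 8 * (e 1 * 1))) = 1 := hR [7, 3, 8, 1] (List.mem_of_elem_eq_true (by decide))
  have r20 : e 7 * (e 1 * (e 8 * (e 3 * (e 1 * 1)))) = 1 := hR [7, 1, 8, 3, 1] (List.mem_of_elem_eq_true (by decide))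
  have r21 : e 2 * (e 7 * (e 2 * (e 7 * (e 6 * (e 1 * 1))))) = 1 := hR [2, 7, 2, 7, 6, 1] (List.mem_of_elem_eq_true (by decide))
  exact ⟨⟨⟨mul_inv_eq_one.mp (by simpa only [mul_inv_rev, mul_assoc, mul_one, one_mul, inv_one, pow_succ, pow_zero, j1, j2, j3, j4, j5, j6, j7, j8] using r0),
    mul_inv_eq_one.mp (by simpa only [mul_inv_rev, mul_assoc, mul_one, one_mul, inv_one, pow_succ, pow_zero, j1, j2, j3, j4, j5, j6, j7, j8] using r1),
    mul_inv_eq_one.mp (by simpa only [mul_inv_rev, mul_assoc, mul_one, one_mul, inv_one, pow_succ, pow_zero, j1, j2, j3, j4, j5, j6, j7, j8] using r2),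
    mul_inv_eq_one.mp (by simpa only [mul_inv_rev, mul_assoc, mul_one, one_mul, inv_one, pow_succ, pow_zero, j1, j2, j3, j4, j5, j6, j7, j8] using r3),
    mul_inv_eq_one.mp (by simpa only [mul_inv_rev, mul_assoc, mul_one, one_mul, inv_one, pow_succ, pow_zero, j1, j2, j3, j4, j5, j6, j7, j8] using r4),
    mul_inv_eq_one.mp (by simpa only [mul_inv_rev, mul_assoc, mul_one, one_mul, inv_one, pow_succ, pow_zero, j1, j2, j3, j4, j5, j6, j7, j8] using r5),
    mul_inv_eq_one.mp (by simpa only [mul_inv_rev, mul_assoc, mul_one, one_mul, inv_one, pow_succ, pow_zero, j1, j2, j3, j4, j5, j6, j7, j8] using r6),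
    mul_inv_eq_one.mp (by simpa only [mul_inv_rev, mul_assoc, mul_one, one_mul, inv_one, pow_succ, pow_zero, j1, j2, j3, j4, j5, j6, j7, j8] using r7),
    mul_inv_eq_one.mp (by simpa only [mul_inv_rev, mul_assoc, mul_one, one_mul, inv_one, pow_succ, pow_zero, j1, j2, j3, j4, j5, j6, j7, j8] using r8),
    mul_inv_eq_one.mp (by simpa only [mul_inv_rev, mul_assoc, mul_one, one_mul, inv_one, pow_succ, pow_zero, j1, j2, j3, j4, j5, j6, j7, j8] using r9),
    mul_inv_eq_one.mp (by simpa only [mul_inv_rev, mul_assoc, mul_one, one_mul, inv_one, pow_succ, pow_zero, j1, j2, j3, j4, j5, j6, j7, j8] using r10),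
    mul_inv_eq_one.mp (by simpa only [mul_inv_rev, mul_assoc, mul_one, one_mul, inv_one, pow_succ, pow_zero, j1, j2, j3, j4, j5, j6, j7, j8] using r11),
    mul_inv_eq_one.mp (by simpa only [mul_inv_rev, mul_assoc, mul_one, one_mul, inv_one, pow_succ, pow_zero, j1, j2, j3, j4, j5, j6, j7, j8] using r12),
    mul_inv_eq_one.mp (by simpa only [mul_inv_rev, mul_assoc, mul_one, one_mul, inv_one, pow_succ, pow_zero, j1, j2, j3, j4, j5, j6, j7, j8] using r13),
    mul_inv_eq_one.mp (by simpa only [mul_inv_rev, mul_assoc, mul_one, one_mul, inv_one, pow_succ, pow_zero, j1, j2, j3, j4, j5, j6, j7, j8] using r14),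
    mul_inv_eq_one.mp (by simpa only [mul_inv_rev, mul_assoc, mul_one, one_mul, inv_one, pow_succ, pow_zero, j1, j2, j3, j4, j5, j6, j7, j8] using r15)⟩,
    mul_inv_eq_one.mp (by simpa only [mul_inv_rev, mul_assoc, mul_one, one_mul, inv_one, pow_succ, pow_zero, j1, j2, j3, j4, j5, j6, j7, j8] using r16),
    mul_inv_eq_one.mp (by simpa only [mul_inv_rev, mul_assoc, mul_one, one_mul, inv_one, pow_succ, pow_zero, j1, j2, j3, j4, j5, j6, j7, j8] using r17),
    mul_inv_eq_one.mp (by simpa only [mul_inv_rev, mul_assoc, mul_one, one_mul, inv_one, pow_succ, pow_zero, j1, j2, j3, j4, j5, j6, j7, j8] using r18),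
    mul_inv_eq_one.mp (by simpa only [mul_inv_rev, mul_assoc, mul_one, one_mul, inv_one, pow_succ, pow_zero, j1, j2, j3, j4, j5, j6, j7, j8] using r19),
    mul_inv_eq_one.mp (by simpa only [mul_inv_rev, mul_assoc, mul_one, one_mul, inv_one, pow_succ, pow_zero, j1, j2, j3, j4, j5, j6, j7, j8] using r20)⟩,
    mul_inv_eq_one.mp (by simpa only [mul_inv_rev, mul_assoc, mul_one, one_mul, inv_one, pow_succ, pow_zero, j1, j2, j3, j4, j5, j6, j7, j8] using r21)⟩

theorem gen_top : gen (pgEv 129705083257453936896 R) [[1], [2], [3], [4], [5], [7]] = ⊤ := pg_gen (n := 9) (by norm_num) (by decide)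
namespace c

noncomputable def get (y : ℕ) : ℕ := (sel (nat_lit 1) y (nat_lit 0x0) (nat_lit 0x14000000000000130000000000000700000800001c0800001c0000080000000800001d0000001d0000080000001c00001e0000001e00001c0200001f0000190200001900001f0700002000001f0800001f000020060000130000200500002000001307000006000020080000200000060300001e00001f0300001f00001e0800000600001f0700001f0000060800001e0000080700000800001e0800000700001e0700001e0000070600000300001e0500001e0000031200000000000011000000000000100000000000000f0000000000000e0000000000000d0000000000000c0000000000000b0000000000000a000000000000090000000000000700000100000308000003000001000000010000040000000400000106000000000009050000090000000000000a0000000000000000000a060000010000080500000800000106000002000007050000070000020400000000000e0400000e0000000000000000000f0000000f0000000400000d0000010400000100000d0400000200000c0400000c0000020800000000001107000011000000000000000000120000001200000007000010000014080000140000100200001800001402000014000018030000000000130300001300000003000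001000014030000140000010000001600000000000000000016000000010000150000001500000103000013000016030000160000130800001c00001d0700001d00001c0100001b00001c0100001c00001b0200001a00001b0200001b00001a0100001900001a0100001a00001908000018000019070000190000180100001700001801000018000017020000000000170200001700000001000015000016010000160000150300001400001503000015000014010000130000140100001400001307000005000013080000130000050700001100001208000012000011010000100000110100001100001003000005000010030000100000050400000e00000f0400000f00000e0100000d00000e0100000e00000d0700000c00000d0800000d00000c0100000b00000c0100000c00000b0400000500000b0400000b0000050500000900000a0600000a000009010000080000090100000900000807000007000008080000080000070100000600000701000007000006060000050000060500000600000501000002000005010000050000020800000300000407000004000003080000020000030700000300000208000001000002070000020000010100000000000101000001000000))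
noncomputable def gs (y : ℕ) : ℕ := (sel (nat_lit 3) y (sel (nat_lit 1) y (nat_lit 0x0) (sel (nat_lit 2) y (nat_lit 0x0) (nat_lit 0x0))) (sel (nat_lit 5) y (sel (nat_lit 4) y (nat_lit 0x0) (nat_lit 0x80000030000201000023d000022b8000002000022b000023a0000224000020800002028000001000022a0000228000022680000008000000800000080000008000000800000080000008000000800000080000008000000800000080000008000000800000080000008000000800000080000008000000800000080000008000000800000080000008000000800000080000008000000)) (sel (nat_lit 6) y (nat_lit 0x800001d0000238000027d000026f800001c0000273000027b000023300002350000237800001b00002300000245000022600002770000279800001a00002700000275800000e0000274000020a0000225800000080000190000270000020d000026d800000080000180000256000025f000026b8000018000026a000020400002558000000800001700002010000241000022600002240000208000020200002008000016000024b0000220000021e00002080000202000020080000150000253000021a0000218000021600002140000208000020200002008000014000025b0000210000020e000020c000020a00002080000202000020080000130000201000025f00002040000202000020080000120000207000025c8000011000020600002040000202800001000002130000259800000f0000201000025700002110000213800000e000020e00002540000202800000d000020c000020a0000208800000c000021d0000250800000b000021c000021a000024f0000200800000a0000203000024d00002198000009000021600002140000208800000800002230000248800000700002220000220000024700002260000242800000600002260000224000021f800000500002260000242000022d000022f8000004000023b000023f80000040000229000023c)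 (nat_lit 0x800001f800001f800001f800001f800001f800001f800001f800001f800001f800001f800001f800001f800001f800001f800001f800001f800001f800001f800001f800001f800001f800001f800001f800001f800001f800001f800001f800001f800001f800001f800001e000025b000021000002810000236000023400002320000230000022e000022c80000120000239000027e))))
noncomputable def gd (y : ℕ) : ℕ := (nat_lit 0x2740000270000026a00002380000236000023400002320000230000022e000022c000022a00002280000226000022400002220000220000021e000021c000021a00002180000216000021400002120000210000020e000020c000020a000020800002060000204000020200002000000000)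
noncomputable def gwh_0 (y : ℕ) : ℕ := (sel (nat_lit 8) y (sel (nat_lit 4) y (sel (nat_lit 2) y (sel (nat_lit 1) y (nat_lit 0x1030103000003001000) (nat_lit 0x70108030100001000005001)) (sel (nat_lit 3) y (nat_lit 0x1000100001000003002) (nat_lit 0x303000000002003))) (sel (nat_lit 6) y (sel (nat_lit 5) y (nat_lit 0x102030102000002003004) (nat_lit 0x3080107000001003005)) (sel (nat_lit 7) y (nat_lit 0x30107010800001003002001) (nat_lit 0x708000000002006)))) (sel (nat_lit 12) y (sel (nat_lit 10) y (sel (nat_lit 9) y (nat_lit 0x1040104000003001007) (nat_lit 0x7040804000000004008)) (sel (nat_lit 11) y (nat_lit 0x104010400001003001007) (nat_lit 0x404000000002009))) (sel (nat_lit 14) y (sel (nat_lit 13) y (nat_lit 0x105010600000300100a) (nat_lit 0x705080600000000400b)) (sel (nat_lit 15) y (nat_lit 0x50106010000100000400a) (nat_lit 0x50600000000200c)))))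
noncomputable def gwh_1 (y : ℕ) : ℕ := (sel (nat_lit 23) y (sel (nat_lit 19) y (sel (nat_lit 17) y (nat_lit 0x707070000100100200d) (sel (nat_lit 18) y (nat_lit 0x80700000000200e) (nat_lit 0x1070707010a00000000600f))) (sel (nat_lit 21) y (sel (nat_lit 20) y (nat_lit 0x1070105010801060c000000009010) (nat_lit 0x1070104010801040e000000009011)) (sel (nat_lit 22) y (nat_lit 0x1070103010810000000007012) (nat_lit 0x107010801030112000000008013)))) (sel (nat_lit 26) y (sel (nat_lit 24) y (nat_lit 0x607050800000300100b) (sel (nat_lit 25) y (nat_lit 0x8010703000002002005) (nat_lit 0x7070700000000300d))) (sel (nat_lit 28) y (sel (nat_lit 27) y (nat_lit 0x70601020702000003003014) (nat_lit 0x10201020300001000005004)) (sel (nat_lit 29) y (nat_lit 0x8000700001000003015) (nat_lit 0x201070102010701061400000000a016)))))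
noncomputable def gwh (y : ℕ) : ℕ := (sel (nat_lit 16) y (gwh_0 y) (gwh_1 y))
def sg : List (List ℕ) := [[], [1], [2], [3], [4], [5], [6], [7], [8], [1, 7, 1, 1, 7, 1, 1, 7, 1], [1, 8, 1, 1, 8, 1, 1, 8, 1], [1, 7, 1, 5, 1, 8, 1, 6], [5, 1, 7, 1, 6, 1, 8, 1], [1, 7, 1, 4, 1, 8, 1, 4], [4, 1, 7, 1, 4, 1, 8, 1], [1, 7, 1, 3, 1, 8, 1, 1], [1, 1, 7, 1, 3, 1, 8, 1], [1, 7, 1, 1, 1, 8, 1, 3, 1], [1, 3, 1, 7, 1, 1, 1, 8, 1], [2, 1, 7, 1, 2, 1, 7, 1, 6], [5, 1, 8, 1, 2, 1, 8, 1, 2]]
def BL : List ℕ := [0x3010301, 0x701080301, 0x10001, 0x303, 0x102010203, 0x7030801, 0x708, 0x4010401, 0x7040804, 0x404, 0x5010601, 0x7050806, 0x506, 0x70707, 0x807, 0x1070707010a, 0x1070105010801060c, 0x1070104010801040e, 0x1070103010810, 0x107010801030112, 0x20702070601, 0x80007, 0x2010701020107010614]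
def Sub : List (List ℕ) := []
theorem hA : prepA 129705083257453936896 PX21c.R sg 27883091610518724965067285990866310206231823909120 BL Sub get gd = true := by decide +kernel
theorem hw : allR (okW BL gwh) 0 30 = true := by decide +kernel
theorem b0 : allR (blk get gs (gwB gwh 30) gd 27883091610518724965067285990866310206231823909120) 4 3 = true := by decide +kernel
theorem hb : ∀ b, 4 ≤ b → b < 7 → blk get gs (gwB gwh 30) gd 27883091610518724965067285990866310206231823909120 b = true :=
  (allR_range b0 (by norm_num : 4 + 3 = 7))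
def TL : List (ℕ × List ℕ) := [(352, [1, 7, 1, 1, 7, 1, 1, 7, 1]), (354, [1, 7, 1, 5, 1, 8, 1, 6]), (356, [1, 7, 1, 4, 1, 8, 1, 4]), (358, [1, 7, 1, 3, 1, 8, 1, 1]), (360, [1, 7, 1, 1, 1, 8, 1, 3, 1]), (386, [2, 1, 7, 1, 2, 1, 7, 1, 6])]
theorem hM : prepM sg get 7 TL = true := by decide +kernel
theorem mem {G : Type*} [Group G] {ev : ℕ → G} (hev : Good ev 129705083257453936896) (hR : Rels ev PX21c.R) :
    ∀ w ∈ TL.map Prod.snd, evL ev w ∈ gen ev Sub :=
  cert_mem hev hR hA hM hw hb

end c

theorem x3 {G : Type*} [Group G] {a b z w t x : G} (H : Rel a b z w t x) : (a * x * a) ^ 3 = 1 := by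
  have i_a : a⁻¹ = a := inv_eq_of_mul_eq_one_right H.hX.hN.aa
  have i_b : b⁻¹ = b := inv_eq_of_mul_eq_one_right H.hX.hN.bb
  have i_z : z⁻¹ = z := inv_eq_of_mul_eq_one_right H.hX.hN.zz
  have i_w : w⁻¹ = w := inv_eq_of_mul_eq_one_right H.hX.hN.ww
  have h : a * (x * (a * (a * (x * (a * (a * (x * (a * 1)))))))) = 1 := rels_of_mem_nil (c.mem (good H) (rels H)) [1, 7, 1, 1, 7, 1, 1, 7, 1] (List.mem_of_elem_eq_true (by decide))
  exact mul_inv_eq_one.mp (by simpa only [mul_inv_rev, inv_inv, mul_assoc, mul_one, one_mul, inv_one, pow_succ, pow_zero, i_a, i_b, i_z, i_w] using h)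

theorem xt {G : Type*} [Group G] {a b z w t x : G} (H : Rel a b z w t x) : (a * x * a) * t = t * (a * x * a) := by
  have i_a : a⁻¹ = a := inv_eq_of_mul_eq_one_right H.hX.hN.aa
  have i_b : b⁻¹ = b := inv_eq_of_mul_eq_one_right H.hX.hN.bb
  have i_z : z⁻¹ = z := inv_eq_of_mul_eq_one_right H.hX.hN.zz
  have i_w : w⁻¹ = w := inv_eq_of_mul_eq_one_right H.hX.hN.ww
  have h : a * (x * (a * (t * (a * (x⁻¹ * (a * (t⁻¹ * 1))))))) = 1 := rels_of_mem_nil (c.mem (good H) (rels H)) [1, 7, 1, 5, 1, 8, 1, 6] (List.mem_of_elem_eq_true (by decide))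
  exact mul_inv_eq_one.mp (by simpa only [mul_inv_rev, inv_inv, mul_assoc, mul_one, one_mul, inv_one, pow_succ, pow_zero, i_a, i_b, i_z, i_w] using h)

theorem xw {G : Type*} [Group G] {a b z w t x : G} (H : Rel a b z w t x) : (a * x * a) * w = w * (a * x * a) := by
  have i_a : a⁻¹ = a := inv_eq_of_mul_eq_one_right H.hX.hN.aa
  have i_b : b⁻¹ = b := inv_eq_of_mul_eq_one_right H.hX.hN.bb
  have i_z : z⁻¹ = z := inv_eq_of_mul_eq_one_right H.hX.hN.zz
  have i_w : w⁻¹ = w := inv_eq_of_mul_eq_one_right H.hX.hN.ww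
  have h : a * (x * (a * (w * (a * (x⁻¹ * (a * (w * 1))))))) = 1 := rels_of_mem_nil (c.mem (good H) (rels H)) [1, 7, 1, 4, 1, 8, 1, 4] (List.mem_of_elem_eq_true (by decide))
  exact mul_inv_eq_one.mp (by simpa only [mul_inv_rev, inv_inv, mul_assoc, mul_one, one_mul, inv_one, pow_succ, pow_zero, i_a, i_b, i_z, i_w] using h)

theorem xz {G : Type*} [Group G] {a b z w t x : G} (H : Rel a b z w t x) : (a * x * a) * z * (a * x * a)⁻¹ = a := by
  have i_a : a⁻¹ = a := inv_eq_of_mul_eq_one_right H.hX.hN.aa
  have i_b : b⁻¹ = b := inv_eq_of_mul_eq_one_right H.hX.hN.bb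
  have i_z : z⁻¹ = z := inv_eq_of_mul_eq_one_right H.hX.hN.zz
  have i_w : w⁻¹ = w := inv_eq_of_mul_eq_one_right H.hX.hN.ww
  have h : a * (x * (a * (z * (a * (x⁻¹ * (a * (a * 1))))))) = 1 := rels_of_mem_nil (c.mem (good H) (rels H)) [1, 7, 1, 3, 1, 8, 1, 1] (List.mem_of_elem_eq_true (by decide))
  exact mul_inv_eq_one.mp (by simpa only [mul_inv_rev, inv_inv, mul_assoc, mul_one, one_mul, inv_one, pow_succ, pow_zero, i_a, i_b, i_z, i_w] using h)

theorem xa {G : Type*} [Group G] {a b z w t x : G} (H : Rel a b z w t x) : (a * x * a) * a * (a * x * a)⁻¹ = a * z := by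
  have i_a : a⁻¹ = a := inv_eq_of_mul_eq_one_right H.hX.hN.aa
  have i_b : b⁻¹ = b := inv_eq_of_mul_eq_one_right H.hX.hN.bb
  have i_z : z⁻¹ = z := inv_eq_of_mul_eq_one_right H.hX.hN.zz
  have i_w : w⁻¹ = w := inv_eq_of_mul_eq_one_right H.hX.hN.ww
  have h : a * (x * (a * (a * (a * (x⁻¹ * (a * (z * (a * 1)))))))) = 1 := rels_of_mem_nil (c.mem (good H) (rels H)) [1, 7, 1, 1, 1, 8, 1, 3, 1] (List.mem_of_elem_eq_true (by decide))
  exact mul_inv_eq_one.mp (by simpa only [mul_inv_rev, inv_inv, mul_assoc, mul_one, one_mul, inv_one, pow_succ, pow_zero, i_a, i_b, i_z, i_w] using h)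

theorem bx2 {G : Type*} [Group G] {a b z w t x : G} (H : Rel a b z w t x) : (b * (a * x * a)) ^ 2 = t := by
  have i_a : a⁻¹ = a := inv_eq_of_mul_eq_one_right H.hX.hN.aa
  have i_b : b⁻¹ = b := inv_eq_of_mul_eq_one_right H.hX.hN.bb
  have i_z : z⁻¹ = z := inv_eq_of_mul_eq_one_right H.hX.hN.zz
  have i_w : w⁻¹ = w := inv_eq_of_mul_eq_one_right H.hX.hN.ww
  have h : b * (a * (x * (a * (b * (a * (x * (a * (t⁻¹ * 1)))))))) = 1 := rels_of_mem_nil (c.mem (good H) (rels H)) [2, 1, 7, 1, 2, 1, 7, 1, 6] (List.mem_of_elem_eq_true (by decide))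
  exact mul_inv_eq_one.mp (by simpa only [mul_inv_rev, inv_inv, mul_assoc, mul_one, one_mul, inv_one, pow_succ, pow_zero, i_a, i_b, i_z, i_w] using h)

end PX21c

namespace PX22c

structure Rel {G : Type*} [Group G] (a b z w t x : G) : Prop where
  hX : PX0.Rel a b z w t x
  bx : (b * x) ^ 2 = a * t ^ 2

def R : List (List ℕ) := [[1, 1], [2, 2], [3, 3], [4, 4], [5, 5, 5], [5, 4, 5, 4, 5, 4], [3, 1, 3, 1], [3, 2, 3, 2], [3, 4, 3, 4], [3, 5, 3, 6], [1, 2, 1, 2, 3], [5, 1, 6, 1], [5, 2, 6, 2], [4, 1, 4, 1], [2, 4, 2, 4, 2, 4, 2, 4, 3], [1, 4, 2, 4, 2, 6, 4, 2, 4, 5, 5, 4, 2, 4, 6], [7, 7, 7], [7, 5, 8, 6], [7, 4, 8, 4], [7, 3, 8, 1], [7, 1, 8, 3, 1], [2, 7, 2, 7, 6, 6, 1]]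

def ev {G : Type*} [Group G] (a b z w t x : G) (l : ℕ) : G := [1, a, b, z, w, t, t⁻¹, x, x⁻¹].getD l 1

theorem good {G : Type*} [Group G] {a b z w t x : G} (H : Rel a b z w t x) : Good (ev a b z w t x) 129705083257453936896 := by
  have i_a : a⁻¹ = a := inv_eq_of_mul_eq_one_right H.hX.hN.aa
  have i_b : b⁻¹ = b := inv_eq_of_mul_eq_one_right H.hX.hN.bb
  have i_z : z⁻¹ = z := inv_eq_of_mul_eq_one_right H.hX.hN.zz
  have i_w : w⁻¹ = w := inv_eq_of_mul_eq_one_right H.hX.hN.ww
  refine good_list (n := 9) rfl (by norm_num) rfl fun l hl => ?_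
  interval_cases l
  · exact inv_one.symm
  · exact i_a.symm
  · exact i_b.symm
  · exact i_z.symm
  · exact i_w.symm
  · rfl
  · exact (inv_inv _).symm
  · rfl
  · exact (inv_inv _).symm

theorem rels {G : Type*} [Group G] {a b z w t x : G} (H : Rel a b z w t x) : Rels (ev a b z w t x) R := by
  have i_a : a⁻¹ = a := inv_eq_of_mul_eq_one_right H.hX.hN.aa
  have i_b : b⁻¹ = b := inv_eq_of_mul_eq_one_right H.hX.hN.bb
  have i_z : z⁻¹ = z := inv_eq_of_mul_eq_one_right H.hX.hN.zz
  have i_w : w⁻¹ = w := inv_eq_of_mul_eq_one_right H.hX.hN.ww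
  unfold R
  refine Rels.cons ?_ ?_
  · show a * (a * 1) = 1
    simpa only [mul_inv_rev, inv_inv, mul_assoc, mul_one, one_mul, inv_one, pow_succ, pow_zero, i_a, i_b, i_z, i_w] using mul_inv_eq_one.mpr H.hX.hN.aa
  refine Rels.cons ?_ ?_
  · show b * (b * 1) = 1
    simpa only [mul_inv_rev, inv_inv, mul_assoc, mul_one, one_mul, inv_one, pow_succ, pow_zero, i_a, i_b, i_z, i_w] using mul_inv_eq_one.mpr H.hX.hN.bb
  refine Rels.cons ?_ ?_
  · show z * (z * 1) = 1
    simpa only [mul_inv_rev, inv_inv, mul_assoc, mul_one, one_mul, inv_one, pow_succ, pow_zero, i_a, i_b, i_z, i_w] using mul_inv_eq_one.mpr H.hX.hN.zz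
  refine Rels.cons ?_ ?_
  · show w * (w * 1) = 1
    simpa only [mul_inv_rev, inv_inv, mul_assoc, mul_one, one_mul, inv_one, pow_succ, pow_zero, i_a, i_b, i_z, i_w] using mul_inv_eq_one.mpr H.hX.hN.ww
  refine Rels.cons ?_ ?_
  · show t * (t * (t * 1)) = 1
    simpa only [mul_inv_rev, inv_inv, mul_assoc, mul_one, one_mul, inv_one, pow_succ, pow_zero, i_a, i_b, i_z, i_w] using mul_inv_eq_one.mpr H.hX.hN.t3
  refine Rels.cons ?_ ?_
  · show t * (w * (t * (w * (t * (w * 1))))) = 1
    simpa only [mul_inv_rev, inv_inv, mul_assoc, mul_one, one_mul, inv_one, pow_succ, pow_zero, i_a, i_b, i_z, i_w] using mul_inv_eq_one.mpr H.hX.hN.tw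
  refine Rels.cons ?_ ?_
  · show z * (a * (z * (a * 1))) = 1
    simpa only [mul_inv_rev, inv_inv, mul_assoc, mul_one, one_mul, inv_one, pow_succ, pow_zero, i_a, i_b, i_z, i_w] using mul_inv_eq_one.mpr H.hX.hN.za
  refine Rels.cons ?_ ?_
  · show z * (b * (z * (b * 1))) = 1
    simpa only [mul_inv_rev, inv_inv, mul_assoc, mul_one, one_mul, inv_one, pow_succ, pow_zero, i_a, i_b, i_z, i_w] using mul_inv_eq_one.mpr H.hX.hN.zb
  refine Rels.cons ?_ ?_
  · show z * (w * (z * (w * 1))) = 1
    simpa only [mul_inv_rev, inv_inv, mul_assoc, mul_one, one_mul, inv_one, pow_succ, pow_zero, i_a, i_b, i_z, i_w] using mul_inv_eq_one.mpr H.hX.hN.zw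
  refine Rels.cons ?_ ?_
  · show z * (t * (z * (t⁻¹ * 1))) = 1
    simpa only [mul_inv_rev, inv_inv, mul_assoc, mul_one, one_mul, inv_one, pow_succ, pow_zero, i_a, i_b, i_z, i_w] using mul_inv_eq_one.mpr H.hX.hN.zt
  refine Rels.cons ?_ ?_
  · show a * (b * (a * (b * (z * 1)))) = 1
    simpa only [mul_inv_rev, inv_inv, mul_assoc, mul_one, one_mul, inv_one, pow_succ, pow_zero, i_a, i_b, i_z, i_w] using mul_inv_eq_one.mpr H.hX.hN.ab
  refine Rels.cons ?_ ?_
  · show t * (a * (t⁻¹ * (a * 1))) = 1
    simpa only [mul_inv_rev, inv_inv, mul_assoc, mul_one, one_mul, inv_one, pow_succ, pow_zero, i_a, i_b, i_z, i_w] using mul_inv_eq_one.mpr H.hX.hN.ta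
  refine Rels.cons ?_ ?_
  · show t * (b * (t⁻¹ * (b * 1))) = 1
    simpa only [mul_inv_rev, inv_inv, mul_assoc, mul_one, one_mul, inv_one, pow_succ, pow_zero, i_a, i_b, i_z, i_w] using mul_inv_eq_one.mpr H.hX.hN.tb
  refine Rels.cons ?_ ?_
  · show w * (a * (w * (a * 1))) = 1
    simpa only [mul_inv_rev, inv_inv, mul_assoc, mul_one, one_mul, inv_one, pow_succ, pow_zero, i_a, i_b, i_z, i_w] using mul_inv_eq_one.mpr H.hX.hN.wa
  refine Rels.cons ?_ ?_
  · show b * (w * (b * (w * (b * (w * (b * (w * (z * 1)))))))) = 1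
    simpa only [mul_inv_rev, inv_inv, mul_assoc, mul_one, one_mul, inv_one, pow_succ, pow_zero, i_a, i_b, i_z, i_w] using mul_inv_eq_one.mpr H.hX.hN.bw
  refine Rels.cons ?_ ?_
  · show a * (w * (b * (w * (b * (t⁻¹ * (w * (b * (w * (t * (t * (w * (b * (w * (t⁻¹ * 1)))))))))))))) = 1
    simpa only [mul_inv_rev, inv_inv, mul_assoc, mul_one, one_mul, inv_one, pow_succ, pow_zero, i_a, i_b, i_z, i_w] using mul_inv_eq_one.mpr H.hX.hN.pr
  refine Rels.cons ?_ ?_
  · show x * (x * (x * 1)) = 1
    simpa only [mul_inv_rev, inv_inv, mul_assoc, mul_one, one_mul, inv_one, pow_succ, pow_zero, i_a, i_b, i_z, i_w] using mul_inv_eq_one.mpr H.hX.x3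
  refine Rels.cons ?_ ?_
  · show x * (t * (x⁻¹ * (t⁻¹ * 1))) = 1
    simpa only [mul_inv_rev, inv_inv, mul_assoc, mul_one, one_mul, inv_one, pow_succ, pow_zero, i_a, i_b, i_z, i_w] using mul_inv_eq_one.mpr H.hX.xt
  refine Rels.cons ?_ ?_
  · show x * (w * (x⁻¹ * (w * 1))) = 1
    simpa only [mul_inv_rev, inv_inv, mul_assoc, mul_one, one_mul, inv_one, pow_succ, pow_zero, i_a, i_b, i_z, i_w] using mul_inv_eq_one.mpr H.hX.xw
  refine Rels.cons ?_ ?_
  · show x * (z * (x⁻¹ * (a * 1))) = 1
    simpa only [mul_inv_rev, inv_inv, mul_assoc, mul_one, one_mul, inv_one, pow_succ, pow_zero, i_a, i_b, i_z, i_w] using mul_inv_eq_one.mpr H.hX.xz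
  refine Rels.cons ?_ ?_
  · show x * (a * (x⁻¹ * (z * (a * 1)))) = 1
    simpa only [mul_inv_rev, inv_inv, mul_assoc, mul_one, one_mul, inv_one, pow_succ, pow_zero, i_a, i_b, i_z, i_w] using mul_inv_eq_one.mpr H.hX.xa
  refine Rels.cons ?_ ?_
  · show b * (x * (b * (x * (t⁻¹ * (t⁻¹ * (a * 1)))))) = 1
    simpa only [mul_inv_rev, inv_inv, mul_assoc, mul_one, one_mul, inv_one, pow_succ, pow_zero, i_a, i_b, i_z, i_w] using mul_inv_eq_one.mpr H.bx
  intro r hr
  exact absurd hr List.not_mem_nil

/-- The relations hold for the letters of any assignment satisfying the relators. -/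
theorem rel_of {G : Type*} [Group G] {e : ℕ → G} (hg : Good e 129705083257453936896) (hR : Rels e R) :
    Rel (e 1) (e 2) (e 3) (e 4) (e 5) (e 7) := by
  have j1 : (e 1)⁻¹ = e 1 := (hg.inv 1).symm
  have j2 : (e 2)⁻¹ = e 2 := (hg.inv 2).symm
  have j3 : (e 3)⁻¹ = e 3 := (hg.inv 3).symm
  have j4 : (e 4)⁻¹ = e 4 := (hg.inv 4).symm
  have j5 : (e 5)⁻¹ = e 6 := (hg.inv 5).symm
  have j6 : (e 6)⁻¹ = e 5 := (hg.inv 6).symm
  have j7 : (e 7)⁻¹ = e 8 := (hg.inv 7).symm
  have j8 : (e 8)⁻¹ = e 7 := (hg.inv 8).symm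
  have r0 : e 1 * (e 1 * 1) = 1 := hR [1, 1] (List.mem_of_elem_eq_true (by decide))
  have r1 : e 2 * (e 2 * 1) = 1 := hR [2, 2] (List.mem_of_elem_eq_true (by decide))
  have r2 : e 3 * (e 3 * 1) = 1 := hR [3, 3] (List.mem_of_elem_eq_true (by decide))
  have r3 : e 4 * (e 4 * 1) = 1 := hR [4, 4] (List.mem_of_elem_eq_true (by decide))
  have r4 : e 5 * (e 5 * (e 5 * 1)) = 1 := hR [5, 5, 5] (List.mem_of_elem_eq_true (by decide))
  have r5 : e 5 * (e 4 * (e 5 * (e 4 * (e 5 * (e 4 * 1))))) = 1 := hR [5, 4, 5, 4, 5, 4] (List.mem_of_elem_eq_true (by decide))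
  have r6 : e 3 * (e 1 * (e 3 * (e 1 * 1))) = 1 := hR [3, 1, 3, 1] (List.mem_of_elem_eq_true (by decide))
  have r7 : e 3 * (e 2 * (e 3 * (e 2 * 1))) = 1 := hR [3, 2, 3, 2] (List.mem_of_elem_eq_true (by decide))
  have r8 : e 3 * (e 4 * (e 3 * (e 4 * 1))) = 1 := hR [3, 4, 3, 4] (List.mem_of_elem_eq_true (by decide))
  have r9 : e 3 * (e 5 * (e 3 * (e 6 * 1))) = 1 := hR [3, 5, 3, 6] (List.mem_of_elem_eq_true (by decide))
  have r10 : e 1 * (e 2 * (e 1 * (e 2 * (e 3 * 1)))) = 1 := hR [1, 2, 1, 2, 3] (List.mem_of_elem_eq_true (by decide))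
  have r11 : e 5 * (e 1 * (e 6 * (e 1 * 1))) = 1 := hR [5, 1, 6, 1] (List.mem_of_elem_eq_true (by decide))
  have r12 : e 5 * (e 2 * (e 6 * (e 2 * 1))) = 1 := hR [5, 2, 6, 2] (List.mem_of_elem_eq_true (by decide))
  have r13 : e 4 * (e 1 * (e 4 * (e 1 * 1))) = 1 := hR [4, 1, 4, 1] (List.mem_of_elem_eq_true (by decide))
  have r14 : e 2 * (e 4 * (e 2 * (e 4 * (e 2 * (e 4 * (e 2 * (e 4 * (e 3 * 1)))))))) = 1 := hR [2, 4, 2, 4, 2, 4, 2, 4, 3] (List.mem_of_elem_eq_true (by decide))
  have r15 : e 1 * (e 4 * (e 2 * (e 4 * (e 2 * (e 6 * (e 4 * (e 2 * (e 4 * (e 5 * (e 5 * (e 4 * (e 2 * (e 4 * (e 6 * 1)))))))))))))) = 1 := hR [1, 4, 2, 4, 2, 6, 4, 2, 4, 5, 5, 4, 2, 4, 6] (List.mem_of_elem_eq_true (by decide))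
  have r16 : e 7 * (e 7 * (e 7 * 1)) = 1 := hR [7, 7, 7] (List.mem_of_elem_eq_true (by decide))
  have r17 : e 7 * (e 5 * (e 8 * (e 6 * 1))) = 1 := hR [7, 5, 8, 6] (List.mem_of_elem_eq_true (by decide))
  have r18 : e 7 * (e 4 * (e 8 * (e 4 * 1))) = 1 := hR [7, 4, 8, 4] (List.mem_of_elem_eq_true (by decide))
  have r19 : e 7 * (e 3 * (e 8 * (e 1 * 1))) = 1 := hR [7, 3, 8, 1] (List.mem_of_elem_eq_true (by decide))
  have r20 : e 7 * (e 1 * (e 8 * (e 3 * (e 1 * 1)))) = 1 := hR [7, 1, 8, 3, 1] (List.mem_of_elem_eq_true (by decide))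
  have r21 : e 2 * (e 7 * (e 2 * (e 7 * (e 6 * (e 6 * (e 1 * 1)))))) = 1 := hR [2, 7, 2, 7, 6, 6, 1] (List.mem_of_elem_eq_true (by decide))
  exact ⟨⟨⟨mul_inv_eq_one.mp (by simpa only [mul_inv_rev, mul_assoc, mul_one, one_mul, inv_one, pow_succ, pow_zero, j1, j2, j3, j4, j5, j6, j7, j8] using r0),
    mul_inv_eq_one.mp (by simpa only [mul_inv_rev, mul_assoc, mul_one, one_mul, inv_one, pow_succ, pow_zero, j1, j2, j3, j4, j5, j6, j7, j8] using r1),
    mul_inv_eq_one.mp (by simpa only [mul_inv_rev, mul_assoc, mul_one, one_mul, inv_one, pow_succ, pow_zero, j1, j2, j3, j4, j5, j6, j7, j8] using r2),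
    mul_inv_eq_one.mp (by simpa only [mul_inv_rev, mul_assoc, mul_one, one_mul, inv_one, pow_succ, pow_zero, j1, j2, j3, j4, j5, j6, j7, j8] using r3),
    mul_inv_eq_one.mp (by simpa only [mul_inv_rev, mul_assoc, mul_one, one_mul, inv_one, pow_succ, pow_zero, j1, j2, j3, j4, j5, j6, j7, j8] using r4),
    mul_inv_eq_one.mp (by simpa only [mul_inv_rev, mul_assoc, mul_one, one_mul, inv_one, pow_succ, pow_zero, j1, j2, j3, j4, j5, j6, j7, j8] using r5),
    mul_inv_eq_one.mp (by simpa only [mul_inv_rev, mul_assoc, mul_one, one_mul, inv_one, pow_succ, pow_zero, j1, j2, j3, j4, j5, j6, j7, j8] using r6),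
    mul_inv_eq_one.mp (by simpa only [mul_inv_rev, mul_assoc, mul_one, one_mul, inv_one, pow_succ, pow_zero, j1, j2, j3, j4, j5, j6, j7, j8] using r7),
    mul_inv_eq_one.mp (by simpa only [mul_inv_rev, mul_assoc, mul_one, one_mul, inv_one, pow_succ, pow_zero, j1, j2, j3, j4, j5, j6, j7, j8] using r8),
    mul_inv_eq_one.mp (by simpa only [mul_inv_rev, mul_assoc, mul_one, one_mul, inv_one, pow_succ, pow_zero, j1, j2, j3, j4, j5, j6, j7, j8] using r9),
    mul_inv_eq_one.mp (by simpa only [mul_inv_rev, mul_assoc, mul_one, one_mul, inv_one, pow_succ, pow_zero, j1, j2, j3, j4, j5, j6, j7, j8] using r10),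
    mul_inv_eq_one.mp (by simpa only [mul_inv_rev, mul_assoc, mul_one, one_mul, inv_one, pow_succ, pow_zero, j1, j2, j3, j4, j5, j6, j7, j8] using r11),
    mul_inv_eq_one.mp (by simpa only [mul_inv_rev, mul_assoc, mul_one, one_mul, inv_one, pow_succ, pow_zero, j1, j2, j3, j4, j5, j6, j7, j8] using r12),
    mul_inv_eq_one.mp (by simpa only [mul_inv_rev, mul_assoc, mul_one, one_mul, inv_one, pow_succ, pow_zero, j1, j2, j3, j4, j5, j6, j7, j8] using r13),
    mul_inv_eq_one.mp (by simpa only [mul_inv_rev, mul_assoc, mul_one, one_mul, inv_one, pow_succ, pow_zero, j1, j2, j3, j4, j5, j6, j7, j8] using r14),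
    mul_inv_eq_one.mp (by simpa only [mul_inv_rev, mul_assoc, mul_one, one_mul, inv_one, pow_succ, pow_zero, j1, j2, j3, j4, j5, j6, j7, j8] using r15)⟩,
    mul_inv_eq_one.mp (by simpa only [mul_inv_rev, mul_assoc, mul_one, one_mul, inv_one, pow_succ, pow_zero, j1, j2, j3, j4, j5, j6, j7, j8] using r16),
    mul_inv_eq_one.mp (by simpa only [mul_inv_rev, mul_assoc, mul_one, one_mul, inv_one, pow_succ, pow_zero, j1, j2, j3, j4, j5, j6, j7, j8] using r17),
    mul_inv_eq_one.mp (by simpa only [mul_inv_rev, mul_assoc, mul_one, one_mul, inv_one, pow_succ, pow_zero, j1, j2, j3, j4, j5, j6, j7, j8] using r18),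
    mul_inv_eq_one.mp (by simpa only [mul_inv_rev, mul_assoc, mul_one, one_mul, inv_one, pow_succ, pow_zero, j1, j2, j3, j4, j5, j6, j7, j8] using r19),
    mul_inv_eq_one.mp (by simpa only [mul_inv_rev, mul_assoc, mul_one, one_mul, inv_one, pow_succ, pow_zero, j1, j2, j3, j4, j5, j6, j7, j8] using r20)⟩,
    mul_inv_eq_one.mp (by simpa only [mul_inv_rev, mul_assoc, mul_one, one_mul, inv_one, pow_succ, pow_zero, j1, j2, j3, j4, j5, j6, j7, j8] using r21)⟩

theorem gen_top : gen (pgEv 129705083257453936896 R) [[1], [2], [3], [4], [5], [7]] = ⊤ := pg_gen (n := 9) (by norm_num) (by decide)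
namespace c

noncomputable def get (y : ℕ) : ℕ := (sel (nat_lit 1) y (nat_lit 0x0) (sel (nat_lit 2) y (nat_lit 0x400002a00004c0400004c00002a0500002d00004b0600004b00002d0400002900004b0400004b0000290700002800004a0800004a0000280800002800004907000049000028050000480000470600004700004805000028000048060000480000280600002800004705000047000028020000390000460200004600003904000028000046040000460000280500004500004406000044000045050000270000450600004500002706000027000044050000440000270200002700004302000043000027040000260000420400004200002607000025000042080000420000250500004100003f0600003f0000410500002500004106000041000025020000400000320200003200004007000024000040080000400000240500003f0000250600002500003f0400002400003f0400003f0000240100003900003e0100003e0000390400002200003e0400003e0000220400002100003d0400003d0000210800002000003d0700003d0000200600002000003c0500003c0000200100002800003b0100003b0000280200002000003b0200003b0000200100003300003a0100003a0000330700001e00003a0800003a00001e03000030000039030000390000300400001e0000390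400003900001e0200002c0000380200003800002c0800001c0000380700003800001c0100001900003801000038000019040000190000370400003700001908000018000037070000370000180100002e0000360100003600002e05000021000036060000360000210200001700003602000036000017080000150000350700003500001505000018000034060000340000180400001500003404000034000015070000140000330800003300001408000014000032070000320000140200001500003102000031000015060000140000310500003100001404000014000030040000300000140200001b00002f0200002f00001b0300002200002f0300002f0000220100001400002f0100002f0000140200002600002e0200002e0000260800001300002e0700002e0000130400001300002d0400002d0000130700001200002c0800002c0000120400001200002b0400002b0000120500002a0000290600002900002a0500001100002a0600002a000011060000110000290500002900001102000011000028020000280000110100001100002701000027000011030000200000270300002700002004000010000027040000270000100300001f0000260300002600001f0700000e0000260800002600000e0400000e0000250400002500000e05000024000023060000230000240500000d0000240600002400000d060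0000d0000230500002300000d0100001e0000220100002200001e0200000d0000220200002200000d0200001a0000210200002100001a0800000c0000210700002100000c0100001d0000200100002000001d0400000c0000200400002000000c0100001700001f0100001f0000170700000b00001f0800001f00000b0300001400001e0300001e0000140200000a00001e0200001e00000a0300001100001d0300001d0000110400000900001d0400001d0000090300000f00001c0300001c00000f0500000800001c0600001c0000080100000a00001b0100001b00000a0400000800001b0400001b0000080600001700001a0500001a0000170700000600001a0800001a000006050000070000190600001900000708000006000019070000190000060400000600001804000018000006070000050000170800001700000505000016000007060000070000160800000500001607000016000005060000040000150500001500000402000004000014020000140000040200000600001302000013000006050000030000130600001300000302000005000012020000120000050600000300001205000012000003040000030000110400001100000302000008000010020000100000080300000c0000100300001000000c01000003000010010000100000030100000600000f0100000f0000060500000200000f06000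00f0000020100000500000e0100000e0000050600000200000e0500000e0000020100000400000d0100000d0000040400000200000d0400000d0000020100000900000c0100000c0000090200000200000c0200000c0000020300000500000b0300000b0000050600000100000b0500000b0000010300000400000a0300000a0000040400000100000a0400000a000001030000030000090300000900000302000001000009020000090000010300000200000803000008000002010000010000080100000800000108000000000007070000070000000500000600000506000005000006050000000000060600000600000006000000000005050000050000000400000000000404000004000000020000000000030200000300000001000000000002010000020000000300000000000103000001000000) (nat_lit 0xa00000000000009000000000000030000000000000300000000000000000001000000000000000000010000000a0000040000000400000a0000001e0000140000001400001e00000039000030000000300000390000005600005d0000005d0000560000006600006e0000006e000066080000660000700700007000006606000068000070050000700000680200001900002c0200002c0000190100005b00005b0100005b00005b00000038000019000000190000380000007100005b0000005b0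0007102000035000033020000330000350000001c0000060000000600001c0000003500005a0000005a0000350200004d0000490200004900004d0000000800000000000000000008010000560000560100005600005600000054000033000000330000540000004d0000650000006500004d00000010000003000000030000100000006d0000560000005600006d0000002f0000140000001400002f00000064000049000000490000640000002700001100000011000027000000510000300000003000005100000043000028000000280000430000005500005e0000005e00005500000046000061000000610000460100006e0000660100006600006e0200006f0000690200006900006f04000072000060040000600000720100006a0000720100007200006a0500005c0000720600007200005c0100005b0000710100007100005b0400005a0000710400007100005a02000059000070020000700000590500006f0000580600005800006f0800005600006f0700006f0000560200005600006e0200006e0000560600005500006e0500006e0000550100005600006d0100006d0000560600005100006d0500006d0000510600006c00004f0500004f00006c0600006b00006c0500006c00006b0700004e00006c0800006c00004e0400004d00006b0400006b00004d0700004c00006b0800006b00004c05000050000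06a0600006a0000500800004b00006a0700006a00004b0400004a0000690400006900004a070000460000690800006900004604000049000068040000680000490800004600006807000068000046050000670000660600006600006705000046000067060000670000460200005d0000660200006600005d0600004600006605000066000046020000650000490200004900006507000045000065080000650000450200004d0000640200006400004d080000430000640700006400004306000063000042050000420000630600006200006305000063000062070000410000630800006300004104000040000062040000620000400700003f0000620800006200003f040000430000610400006100004301000055000061010000610000550200003e0000610200006100003e0500006000003d0600003d0000600200004a0000600200006000004a0800003c0000600700006000003c0200003c00005f0200005f00003c0100004700005f0100005f0000470600003b00005f0500005f00003b0200005100005e0200005e0000510100004600005e0100005e0000460400003b00005e0400005e00003b0600003900005d0500005d0000390100005000005c0100005c0000500400003600005c0400005c0000360400003500005b0400005b0000350500003700005b0600005b0000370800003400005b0700005b00003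40100003500005a0100005a0000350200003300005a0200005a0000330400003300005904000059000033070000300000590800005900003004000032000058040000580000320800003000005807000058000030050000570000560600005600005705000030000057060000570000300600003000005605000056000030020000300000550200005500003002000054000035020000350000540300003a0000540300005400003a0700002f0000540800005400002f05000053000052060000520000530500002f0000530600005300002f01000031000052010000520000310600002f0000520500005200002f01000030000051010000510000300300003e0000510300005100003e0400002f0000510400005100002f0400002e0000500400005000002e0800002d0000500700005000002d0400002c00004f0400004f00002c0700002b00004f0800004f00002b0500004e00004c0600004c00004e0500002b00004e0600004e00002b0700002a00004d0800004d00002a0500004c00002b0600002b00004c)))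
noncomputable def gs (y : ℕ) : ℕ := (sel (nat_lit 6) y (sel (nat_lit 3) y (sel (nat_lit 1) y (nat_lit 0x0) (sel (nat_lit 2) y (nat_lit 0x0) (nat_lit 0x0))) (sel (nat_lit 4) y (nat_lit 0x0) (sel (nat_lit 5) y (nat_lit 0x800000c000023c0000204000020b8000000800000b00002380000204000020980000008000000800000a0000230000021700002140000211800000200002300000217000022380000008000009000022c0000202000020b800000080000080000228000020200002098000000800000700002240000202000020780000008000006000022000002020000201000021580000008000005000021c000020000002098000000800000400002180000200000020780000008000003000021400002000000205800000080000020000210000020000002038000000800000080000010000208000020b800000080000008000000800000080000008000000) (nat_lit 0x8000012000027c000022a000024900002678000000800000080000010000274000027780000008000000800000600002700000226000021b000026180000008000011000026c000022000002020000209000020c00002518000000800000700002680000222000025d800000080000100000264000021e0000249800000080000030000260000021a000024180000008000004000025c000021600002378000000800000f00002580000212000022d800000080000070000254000021000002198000000800000e0000250000020d00002498000000800000d000024c000020a000020f800000080000008000000800000d000020e00002090000245800000080000008000000))))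 (sel (nat_lit 9) y (sel (nat_lit 7) y (nat_lit 0x8000000800001700002b8000024e00002460000244000023b0000291800001600002b8000024c000022f000025b8000000800001500002b4000024a000024d8000000800000600002ae0000267000027f0000297800001400002ae0000253000026f80000008000000800001300002a800002420000206000020b000024b800000080000008000000800000b00002a00000240000024380000008000000800000a00002980000263000026000002578000002000029800002630000273800000080000110000294000023e000022f000022c0000229000027d800000080000008000000800000080000010000288000028b800000080000008000000800000700002800000230000023780000040000280000023200002698000000) (sel (nat_lit 8) y (nat_lit 0x8000000800001300002fa00002880000236000023d0000293800000080000008000000800000100002f000002f380000008000000800001900002ec0000286000025f000025c00002140000219000026100002bf8000000800000100002e600002e9800000080000008000000800001800002e0000027a000027d8000000800000100002d700002dd8000000800001100002a4000024000002270000275000027800002d980000008000013000027a00002280000225000027700002d58000000800000700002d0000027200002bf8000000800001500002cc0000268000026d80000008000000800000600002c6000026a000025e00002878000000800001000002c2000026200002a78000000800000400002be0000262000029f)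 (nat_lit 0x80000008000015000033800002a800002ad800000d000033800002aa00002b580000008000006000033400002c500003210000323800000080000180000330000029e00002a780000008000015000032c000029e00002a58000000800000100003260000329800000080000008000000800001100002ac00002a30000319000031c000031a000031f8000012000031e000029800002a700002c5800000080000010000316000031b800000080000080000316000029800002a18000000800000700003100000298000029f80000040000310000029a00002d180000008000015000030c00002920000295800000080000180000308000028e00002918000000800000100003010000305800000080000008000013000028e00002380000237000028b00002ff))) (sel (nat_lit 10) y (nat_lit 0x80000008000018000037a00002ec00002f980000008000015000037600002ec00002f780000008000001000036e00003738000000800000b000036e00002ee00003438000000800001100002f60000286000028500002e700002ea000036b80000008000011000036600002e400002840000289000028c00003038000000800000e00002e000002dd0000361800000e000036000002df000035d80000008000018000035c00002d400002d98000000800001a000035600003130000310000029c00002540000235000028100002e58000006000035600002d200002c000003258000000800000d00002cc00002cb000035180000110000350000034f000034c00002f400002f200002f98000000800000b000034a00002c600002cb8000008000034a00002c800002f180000008000019000034400002c60000283000028000002340000255000029d00003118000007000034400002c800002ed800000080000008000007000033e00002b2000030f)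 (sel (nat_lit 11) y (nat_lit 0x8000025000038f00003b7800002400002a600003b4000031f8000021000036d00003b200003688000020000023700003b000002808000023000032600003ae000038d8000020000029f00003ae0000310800002200002f600003ac00003678000021000028700003ac00002e48000021000032500003ab0000348800002000002ed00003a9000035a800001f000034600003a90000358800001e0000358000039100003a7000036e800001d00003740000372000037b00003a400003940000393800001c000037c000035300003a200003a00000380000030e000029600002e300003640000362000035e00002db000032f0000396800001b000035500002ce00002b1000033f000039f8000009000039e0000340000038180000008000007000039a0000336000033d80000008000000800000d000032c000032700003958000000800000b00003900000324000032780000008000008000038c000031400003278000000800000e000030800003050000387800000e00003860000307000038380000008000018000038200002fe00003038000000800000d000037e00002fc000030d) (nat_lit 0x800002d800002d800002d800002d800002d800002d800002d800002d800002d800002d800002d800002d800002d800002c00003e3800002b000020100003e18000020000020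700003de00002188000021000024100003dc00002608000020000029f00003da00002be8000027000032700003d900003428000021000037100003d70000392800002a000039200003bf000032a00003280000331000039900003d4800002900003d20000376000036f80000280000398000033200003c8000033d00003cf000033a00002b600003d1000030b000038a0000388000038400003c30000379800002600002bd00003cd8000025000039d00003cb8000022000024c00003c600002bb8000020000033c00003c5000039b8000026000033500003c48000027000020a00003c000002598000021000033400003bc00003238000026000036c00003ba8000021000020500003b80000234)))))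
noncomputable def gd (y : ℕ) : ℕ := (nat_lit 0x39e000039a000039800003940000390000038c00003860000382000037e000037a00003760000372000036e000036a00003660000360000035c00003560000350000034a00003440000342000033e000033800003340000330000032c000032800003260000324000031e000031a00003160000310000030c00003080000304000030200002fe00002fa00002f800002f600002f200002f000002ec00002e800002e600002e400002e000002dc00002d800002d400002d000002cc00002ca00002c600002c200002be00002b800002b400002ae00002ac00002a800002a600002a400002a0000029e0000298000029400002920000290000028e000028a000028800002860000280000027c000027a000027600002740000270000026c000026800002640000260000025c000025800002540000250000024c000024a0000248000024400002420000240000023c000023800002360000230000022c000022800002240000220000021c000021800002140000210000020e000020a000020800002060000204000020200002000000000)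
noncomputable def gwh_0 (y : ℕ) : ℕ := (sel (nat_lit 8) y (sel (nat_lit 4) y (sel (nat_lit 2) y (sel (nat_lit 1) y (nat_lit 0x50505000000003000) (nat_lit 0x1030103000003001001)) (sel (nat_lit 3) y (nat_lit 0x2030203000003001002) (nat_lit 0x4030403000003001003))) (sel (nat_lit 6) y (sel (nat_lit 5) y (nat_lit 0x6030503000003001004) (nat_lit 0x203010201000003002005)) (sel (nat_lit 7) y (nat_lit 0x4010401000002002006) (nat_lit 0x6010501000002002007)))) (sel (nat_lit 12) y (sel (nat_lit 10) y (sel (nat_lit 9) y (nat_lit 0x5010601000000004007) (nat_lit 0x102030102000002003005)) (sel (nat_lit 11) y (nat_lit 0x6020502000002002008) (nat_lit 0x5020602000000004008))) (sel (nat_lit 14) y (sel (nat_lit 13) y (nat_lit 0x8060705000002002009) (nat_lit 0x7050806000000004009)) (sel (nat_lit 15) y (nat_lit 0x5030603000001003004) (nat_lit 0x703080100000000400a)))))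
noncomputable def gwh_1 (y : ℕ) : ℕ := (sel (nat_lit 24) y (sel (nat_lit 20) y (sel (nat_lit 18) y (sel (nat_lit 17) y (nat_lit 0x706060102070200000300400b) (nat_lit 0x10701080300000400100c)) (sel (nat_lit 19) y (nat_lit 0x4050405040500000300300d) (nat_lit 0x2060205000001003008))) (sel (nat_lit 22) y (sel (nat_lit 21) y (nat_lit 0x804070400000200200e) (nat_lit 0x30107010800000300200c)) (sel (nat_lit 23) y (nat_lit 0x702070606010200000100600b) (nat_lit 0x704080400000000400e)))) (sel (nat_lit 28) y (sel (nat_lit 26) y (sel (nat_lit 25) y (nat_lit 0x4020402040302040200000300600f) (nat_lit 0x2040204020403020400000200700f)) (sel (nat_lit 27) y (nat_lit 0x5040504050400000000600d) (nat_lit 0x6040204050504020406010402040200000500a010))) (sel (nat_lit 30) y (sel (nat_lit 29) y (nat_lit 0x207020706060100000000700b) (nat_lit 0x501060100001000004007)) (sel (nat_lit 31) y (nat_lit 0x1000100001000003011) (nat_lit 0x4000400001000003012)))))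
noncomputable def gwh_2 (y : ℕ) : ℕ := (sel (nat_lit 38) y (sel (nat_lit 35) y (sel (nat_lit 33) y (nat_lit 0x2000200001000003013) (sel (nat_lit 34) y (nat_lit 0x8000700001000003014) (nat_lit 0x6000500001000003015))) (sel (nat_lit 36) y (nat_lit 0x7000800001000003016) (sel (nat_lit 37) y (nat_lit 0x101000000002017) (nat_lit 0x202000000002018)))) (sel (nat_lit 41) y (sel (nat_lit 39) y (nat_lit 0x5000600001000003019) (sel (nat_lit 40) y (nat_lit 0x40204050504020406010402040206000006009010) (nat_lit 0x6070508000003001009))) (sel (nat_lit 42) y (nat_lit 0x70207060601020000100100600b) (sel (nat_lit 43) y (nat_lit 0x30300000000201a) (nat_lit 0x30a00000000201b)))))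
noncomputable def gwh (y : ℕ) : ℕ := (sel (nat_lit 16) y (gwh_0 y) (sel (nat_lit 32) y (gwh_1 y) (gwh_2 y)))
def sg : List (List ℕ) := [[], [1], [2], [3], [4], [5], [6], [7], [8], [3], [3]]
def BL : List ℕ := [0x50505, 0x3010301, 0x3020302, 0x3040304, 0x3050306, 0x102010203, 0x4010401, 0x5010601, 0x5020602, 0x7050806, 0x7030801, 0x2070207060601, 0x701080301, 0x50405040504, 0x7040804, 0x20402040204020403, 0x10402040206040204050504020406, 0x10001, 0x40004, 0x20002, 0x80007, 0x60005, 0x70008, 0x101, 0x202, 0x50006, 0x303, 0x30a]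
def Sub : List (List ℕ) := []
theorem hA : prepA 129705083257453936896 PX22c.R sg 10927685746443616478429440 BL Sub get gd = true := by decide +kernel
theorem hw : allR (okW BL gwh) 0 44 = true := by decide +kernel
theorem b0 : allR (blk get gs (gwB gwh 44) gd 10927685746443616478429440) 4 8 = true := by decide +kernel
theorem hb : ∀ b, 4 ≤ b → b < 12 → blk get gs (gwB gwh 44) gd 10927685746443616478429440 b = true :=
  (allR_range b0 (by norm_num : 4 + 8 = 12))
def TL : List (ℕ × List ℕ) := [(740, [3])]
theorem hM : prepM sg get 12 TL = true := by decide +kernel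
theorem mem {G : Type*} [Group G] {ev : ℕ → G} (hev : Good ev 129705083257453936896) (hR : Rels ev PX22c.R) :
    ∀ w ∈ TL.map Prod.snd, evL ev w ∈ gen ev Sub :=
  cert_mem hev hR hA hM hw hb

end c

theorem res {G : Type*} [Group G] {a b z w t x : G} (H : Rel a b z w t x) : z = 1 := by
  have i_a : a⁻¹ = a := inv_eq_of_mul_eq_one_right H.hX.hN.aa
  have i_b : b⁻¹ = b := inv_eq_of_mul_eq_one_right H.hX.hN.bb
  have i_z : z⁻¹ = z := inv_eq_of_mul_eq_one_right H.hX.hN.zz
  have i_w : w⁻¹ = w := inv_eq_of_mul_eq_one_right H.hX.hN.ww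
  have h : z * 1 = 1 := rels_of_mem_nil (c.mem (good H) (rels H)) [3] (List.mem_of_elem_eq_true (by decide))
  exact mul_inv_eq_one.mp (by simpa only [mul_inv_rev, inv_inv, mul_assoc, mul_one, one_mul, inv_one, pow_succ, pow_zero, i_a, i_b, i_z, i_w] using h)

end PX22c

namespace PX30c

structure Rel {G : Type*} [Group G] (a b z w t x : G) : Prop where
  hX : PX0.Rel a b z w t x
  bx : (b * x) ^ 2 = a * z * t ^ 0

def R : List (List ℕ) := [[1, 1], [2, 2], [3, 3], [4, 4], [5, 5, 5], [5, 4, 5, 4, 5, 4], [3, 1, 3, 1], [3, 2, 3, 2], [3, 4, 3, 4], [3, 5, 3, 6], [1, 2, 1, 2, 3], [5, 1, 6, 1], [5, 2, 6, 2], [4, 1, 4, 1], [2, 4, 2, 4, 2, 4, 2, 4, 3], [1, 4, 2, 4, 2, 6, 4, 2, 4, 5, 5, 4, 2, 4, 6], [7, 7, 7], [7, 5, 8, 6], [7, 4, 8, 4], [7, 3, 8, 1], [7, 1, 8, 3, 1], [2, 7, 2, 7, 3, 1]]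

def ev {G : Type*} [Group G] (a b z w t x : G) (l : ℕ) : G := [1, a, b, z, w, t, t⁻¹, x, x⁻¹].getD l 1

theorem good {G : Type*} [Group G] {a b z w t x : G} (H : Rel a b z w t x) : Good (ev a b z w t x) 129705083257453936896 := by
  have i_a : a⁻¹ = a := inv_eq_of_mul_eq_one_right H.hX.hN.aa
  have i_b : b⁻¹ = b := inv_eq_of_mul_eq_one_right H.hX.hN.bb
  have i_z : z⁻¹ = z := inv_eq_of_mul_eq_one_right H.hX.hN.zz
  have i_w : w⁻¹ = w := inv_eq_of_mul_eq_one_right H.hX.hN.ww
  refine good_list (n := 9) rfl (by norm_num) rfl fun l hl => ?_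
  interval_cases l
  · exact inv_one.symm
  · exact i_a.symm
  · exact i_b.symm
  · exact i_z.symm
  · exact i_w.symm
  · rfl
  · exact (inv_inv _).symm
  · rfl
  · exact (inv_inv _).symm

theorem rels {G : Type*} [Group G] {a b z w t x : G} (H : Rel a b z w t x) : Rels (ev a b z w t x) R := by
  have i_a : a⁻¹ = a := inv_eq_of_mul_eq_one_right H.hX.hN.aa
  have i_b : b⁻¹ = b := inv_eq_of_mul_eq_one_right H.hX.hN.bb
  have i_z : z⁻¹ = z := inv_eq_of_mul_eq_one_right H.hX.hN.zz
  have i_w : w⁻¹ = w := inv_eq_of_mul_eq_one_right H.hX.hN.ww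
  unfold R
  refine Rels.cons ?_ ?_
  · show a * (a * 1) = 1
    simpa only [mul_inv_rev, inv_inv, mul_assoc, mul_one, one_mul, inv_one, pow_succ, pow_zero, i_a, i_b, i_z, i_w] using mul_inv_eq_one.mpr H.hX.hN.aa
  refine Rels.cons ?_ ?_
  · show b * (b * 1) = 1
    simpa only [mul_inv_rev, inv_inv, mul_assoc, mul_one, one_mul, inv_one, pow_succ, pow_zero, i_a, i_b, i_z, i_w] using mul_inv_eq_one.mpr H.hX.hN.bb
  refine Rels.cons ?_ ?_
  · show z * (z * 1) = 1
    simpa only [mul_inv_rev, inv_inv, mul_assoc, mul_one, one_mul, inv_one, pow_succ, pow_zero, i_a, i_b, i_z, i_w] using mul_inv_eq_one.mpr H.hX.hN.zz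
  refine Rels.cons ?_ ?_
  · show w * (w * 1) = 1
    simpa only [mul_inv_rev, inv_inv, mul_assoc, mul_one, one_mul, inv_one, pow_succ, pow_zero, i_a, i_b, i_z, i_w] using mul_inv_eq_one.mpr H.hX.hN.ww
  refine Rels.cons ?_ ?_
  · show t * (t * (t * 1)) = 1
    simpa only [mul_inv_rev, inv_inv, mul_assoc, mul_one, one_mul, inv_one, pow_succ, pow_zero, i_a, i_b, i_z, i_w] using mul_inv_eq_one.mpr H.hX.hN.t3
  refine Rels.cons ?_ ?_
  · show t * (w * (t * (w * (t * (w * 1))))) = 1
    simpa only [mul_inv_rev, inv_inv, mul_assoc, mul_one, one_mul, inv_one, pow_succ, pow_zero, i_a, i_b, i_z, i_w] using mul_inv_eq_one.mpr H.hX.hN.tw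
  refine Rels.cons ?_ ?_
  · show z * (a * (z * (a * 1))) = 1
    simpa only [mul_inv_rev, inv_inv, mul_assoc, mul_one, one_mul, inv_one, pow_succ, pow_zero, i_a, i_b, i_z, i_w] using mul_inv_eq_one.mpr H.hX.hN.za
  refine Rels.cons ?_ ?_
  · show z * (b * (z * (b * 1))) = 1
    simpa only [mul_inv_rev, inv_inv, mul_assoc, mul_one, one_mul, inv_one, pow_succ, pow_zero, i_a, i_b, i_z, i_w] using mul_inv_eq_one.mpr H.hX.hN.zb
  refine Rels.cons ?_ ?_
  · show z * (w * (z * (w * 1))) = 1
    simpa only [mul_inv_rev, inv_inv, mul_assoc, mul_one, one_mul, inv_one, pow_succ, pow_zero, i_a, i_b, i_z, i_w] using mul_inv_eq_one.mpr H.hX.hN.zw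
  refine Rels.cons ?_ ?_
  · show z * (t * (z * (t⁻¹ * 1))) = 1
    simpa only [mul_inv_rev, inv_inv, mul_assoc, mul_one, one_mul, inv_one, pow_succ, pow_zero, i_a, i_b, i_z, i_w] using mul_inv_eq_one.mpr H.hX.hN.zt
  refine Rels.cons ?_ ?_
  · show a * (b * (a * (b * (z * 1)))) = 1
    simpa only [mul_inv_rev, inv_inv, mul_assoc, mul_one, one_mul, inv_one, pow_succ, pow_zero, i_a, i_b, i_z, i_w] using mul_inv_eq_one.mpr H.hX.hN.ab
  refine Rels.cons ?_ ?_
  · show t * (a * (t⁻¹ * (a * 1))) = 1
    simpa only [mul_inv_rev, inv_inv, mul_assoc, mul_one, one_mul, inv_one, pow_succ, pow_zero, i_a, i_b, i_z, i_w] using mul_inv_eq_one.mpr H.hX.hN.ta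
  refine Rels.cons ?_ ?_
  · show t * (b * (t⁻¹ * (b * 1))) = 1
    simpa only [mul_inv_rev, inv_inv, mul_assoc, mul_one, one_mul, inv_one, pow_succ, pow_zero, i_a, i_b, i_z, i_w] using mul_inv_eq_one.mpr H.hX.hN.tb
  refine Rels.cons ?_ ?_
  · show w * (a * (w * (a * 1))) = 1
    simpa only [mul_inv_rev, inv_inv, mul_assoc, mul_one, one_mul, inv_one, pow_succ, pow_zero, i_a, i_b, i_z, i_w] using mul_inv_eq_one.mpr H.hX.hN.wa
  refine Rels.cons ?_ ?_
  · show b * (w * (b * (w * (b * (w * (b * (w * (z * 1)))))))) = 1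
    simpa only [mul_inv_rev, inv_inv, mul_assoc, mul_one, one_mul, inv_one, pow_succ, pow_zero, i_a, i_b, i_z, i_w] using mul_inv_eq_one.mpr H.hX.hN.bw
  refine Rels.cons ?_ ?_
  · show a * (w * (b * (w * (b * (t⁻¹ * (w * (b * (w * (t * (t * (w * (b * (w * (t⁻¹ * 1)))))))))))))) = 1
    simpa only [mul_inv_rev, inv_inv, mul_assoc, mul_one, one_mul, inv_one, pow_succ, pow_zero, i_a, i_b, i_z, i_w] using mul_inv_eq_one.mpr H.hX.hN.pr
  refine Rels.cons ?_ ?_
  · show x * (x * (x * 1)) = 1
    simpa only [mul_inv_rev, inv_inv, mul_assoc, mul_one, one_mul, inv_one, pow_succ, pow_zero, i_a, i_b, i_z, i_w] using mul_inv_eq_one.mpr H.hX.x3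
  refine Rels.cons ?_ ?_
  · show x * (t * (x⁻¹ * (t⁻¹ * 1))) = 1
    simpa only [mul_inv_rev, inv_inv, mul_assoc, mul_one, one_mul, inv_one, pow_succ, pow_zero, i_a, i_b, i_z, i_w] using mul_inv_eq_one.mpr H.hX.xt
  refine Rels.cons ?_ ?_
  · show x * (w * (x⁻¹ * (w * 1))) = 1
    simpa only [mul_inv_rev, inv_inv, mul_assoc, mul_one, one_mul, inv_one, pow_succ, pow_zero, i_a, i_b, i_z, i_w] using mul_inv_eq_one.mpr H.hX.xw
  refine Rels.cons ?_ ?_
  · show x * (z * (x⁻¹ * (a * 1))) = 1
    simpa only [mul_inv_rev, inv_inv, mul_assoc, mul_one, one_mul, inv_one, pow_succ, pow_zero, i_a, i_b, i_z, i_w] using mul_inv_eq_one.mpr H.hX.xz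
  refine Rels.cons ?_ ?_
  · show x * (a * (x⁻¹ * (z * (a * 1)))) = 1
    simpa only [mul_inv_rev, inv_inv, mul_assoc, mul_one, one_mul, inv_one, pow_succ, pow_zero, i_a, i_b, i_z, i_w] using mul_inv_eq_one.mpr H.hX.xa
  refine Rels.cons ?_ ?_
  · show b * (x * (b * (x * (z * (a * 1))))) = 1
    simpa only [mul_inv_rev, inv_inv, mul_assoc, mul_one, one_mul, inv_one, pow_succ, pow_zero, i_a, i_b, i_z, i_w] using mul_inv_eq_one.mpr H.bx
  intro r hr
  exact absurd hr List.not_mem_nil

/-- The relations hold for the letters of any assignment satisfying the relators. -/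
theorem rel_of {G : Type*} [Group G] {e : ℕ → G} (hg : Good e 129705083257453936896) (hR : Rels e R) :
    Rel (e 1) (e 2) (e 3) (e 4) (e 5) (e 7) := by
  have j1 : (e 1)⁻¹ = e 1 := (hg.inv 1).symm
  have j2 : (e 2)⁻¹ = e 2 := (hg.inv 2).symm
  have j3 : (e 3)⁻¹ = e 3 := (hg.inv 3).symm
  have j4 : (e 4)⁻¹ = e 4 := (hg.inv 4).symm
  have j5 : (e 5)⁻¹ = e 6 := (hg.inv 5).symm
  have j6 : (e 6)⁻¹ = e 5 := (hg.inv 6).symm
  have j7 : (e 7)⁻¹ = e 8 := (hg.inv 7).symm
  have j8 : (e 8)⁻¹ = e 7 := (hg.inv 8).symm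
  have r0 : e 1 * (e 1 * 1) = 1 := hR [1, 1] (List.mem_of_elem_eq_true (by decide))
  have r1 : e 2 * (e 2 * 1) = 1 := hR [2, 2] (List.mem_of_elem_eq_true (by decide))
  have r2 : e 3 * (e 3 * 1) = 1 := hR [3, 3] (List.mem_of_elem_eq_true (by decide))
  have r3 : e 4 * (e 4 * 1) = 1 := hR [4, 4] (List.mem_of_elem_eq_true (by decide))
  have r4 : e 5 * (e 5 * (e 5 * 1)) = 1 := hR [5, 5, 5] (List.mem_of_elem_eq_true (by decide))
  have r5 : e 5 * (e 4 * (e 5 * (e 4 * (e 5 * (e 4 * 1))))) = 1 := hR [5, 4, 5, 4, 5, 4] (List.mem_of_elem_eq_true (by decide))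
  have r6 : e 3 * (e 1 * (e 3 * (e 1 * 1))) = 1 := hR [3, 1, 3, 1] (List.mem_of_elem_eq_true (by decide))
  have r7 : e 3 * (e 2 * (e 3 * (e 2 * 1))) = 1 := hR [3, 2, 3, 2] (List.mem_of_elem_eq_true (by decide))
  have r8 : e 3 * (e 4 * (e 3 * (e 4 * 1))) = 1 := hR [3, 4, 3, 4] (List.mem_of_elem_eq_true (by decide))
  have r9 : e 3 * (e 5 * (e 3 * (e 6 * 1))) = 1 := hR [3, 5, 3, 6] (List.mem_of_elem_eq_true (by decide))
  have r10 : e 1 * (e 2 * (e 1 * (e 2 * (e 3 * 1)))) = 1 := hR [1, 2, 1, 2, 3] (List.mem_of_elem_eq_true (by decide))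
  have r11 : e 5 * (e 1 * (e 6 * (e 1 * 1))) = 1 := hR [5, 1, 6, 1] (List.mem_of_elem_eq_true (by decide))
  have r12 : e 5 * (e 2 * (e 6 * (e 2 * 1))) = 1 := hR [5, 2, 6, 2] (List.mem_of_elem_eq_true (by decide))
  have r13 : e 4 * (e 1 * (e 4 * (e 1 * 1))) = 1 := hR [4, 1, 4, 1] (List.mem_of_elem_eq_true (by decide))
  have r14 : e 2 * (e 4 * (e 2 * (e 4 * (e 2 * (e 4 * (e 2 * (e 4 * (e 3 * 1)))))))) = 1 := hR [2, 4, 2, 4, 2, 4, 2, 4, 3] (List.mem_of_elem_eq_true (by decide))
  have r15 : e 1 * (e 4 * (e 2 * (e 4 * (e 2 * (e 6 * (e 4 * (e 2 * (e 4 * (e 5 * (e 5 * (e 4 * (e 2 * (e 4 * (e 6 * 1)))))))))))))) = 1 := hR [1, 4, 2, 4, 2, 6, 4, 2, 4, 5, 5, 4, 2, 4, 6] (List.mem_of_elem_eq_true (by decide))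
  have r16 : e 7 * (e 7 * (e 7 * 1)) = 1 := hR [7, 7, 7] (List.mem_of_elem_eq_true (by decide))
  have r17 : e 7 * (e 5 * (e 8 * (e 6 * 1))) = 1 := hR [7, 5, 8, 6] (List.mem_of_elem_eq_true (by decide))
  have r18 : e 7 * (e 4 * (e 8 * (e 4 * 1))) = 1 := hR [7, 4, 8, 4] (List.mem_of_elem_eq_true (by decide))
  have r19 : e 7 * (e 3 * (e 8 * (e 1 * 1))) = 1 := hR [7, 3, 8, 1] (List.mem_of_elem_eq_true (by decide))
  have r20 : e 7 * (e 1 * (e 8 * (e 3 * (e 1 * 1)))) = 1 := hR [7, 1, 8, 3, 1] (List.mem_of_elem_eq_true (by decide))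
  have r21 : e 2 * (e 7 * (e 2 * (e 7 * (e 3 * (e 1 * 1))))) = 1 := hR [2, 7, 2, 7, 3, 1] (List.mem_of_elem_eq_true (by decide))
  exact ⟨⟨⟨mul_inv_eq_one.mp (by simpa only [mul_inv_rev, mul_assoc, mul_one, one_mul, inv_one, pow_succ, pow_zero, j1, j2, j3, j4, j5, j6, j7, j8] using r0),
    mul_inv_eq_one.mp (by simpa only [mul_inv_rev, mul_assoc, mul_one, one_mul, inv_one, pow_succ, pow_zero, j1, j2, j3, j4, j5, j6, j7, j8] using r1),
    mul_inv_eq_one.mp (by simpa only [mul_inv_rev, mul_assoc, mul_one, one_mul, inv_one, pow_succ, pow_zero, j1, j2, j3, j4, j5, j6, j7, j8] using r2),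
    mul_inv_eq_one.mp (by simpa only [mul_inv_rev, mul_assoc, mul_one, one_mul, inv_one, pow_succ, pow_zero, j1, j2, j3, j4, j5, j6, j7, j8] using r3),
    mul_inv_eq_one.mp (by simpa only [mul_inv_rev, mul_assoc, mul_one, one_mul, inv_one, pow_succ, pow_zero, j1, j2, j3, j4, j5, j6, j7, j8] using r4),
    mul_inv_eq_one.mp (by simpa only [mul_inv_rev, mul_assoc, mul_one, one_mul, inv_one, pow_succ, pow_zero, j1, j2, j3, j4, j5, j6, j7, j8] using r5),
    mul_inv_eq_one.mp (by simpa only [mul_inv_rev, mul_assoc, mul_one, one_mul, inv_one, pow_succ, pow_zero, j1, j2, j3, j4, j5, j6, j7, j8] using r6),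
    mul_inv_eq_one.mp (by simpa only [mul_inv_rev, mul_assoc, mul_one, one_mul, inv_one, pow_succ, pow_zero, j1, j2, j3, j4, j5, j6, j7, j8] using r7),
    mul_inv_eq_one.mp (by simpa only [mul_inv_rev, mul_assoc, mul_one, one_mul, inv_one, pow_succ, pow_zero, j1, j2, j3, j4, j5, j6, j7, j8] using r8),
    mul_inv_eq_one.mp (by simpa only [mul_inv_rev, mul_assoc, mul_one, one_mul, inv_one, pow_succ, pow_zero, j1, j2, j3, j4, j5, j6, j7, j8] using r9),
    mul_inv_eq_one.mp (by simpa only [mul_inv_rev, mul_assoc, mul_one, one_mul, inv_one, pow_succ, pow_zero, j1, j2, j3, j4, j5, j6, j7, j8] using r10),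
    mul_inv_eq_one.mp (by simpa only [mul_inv_rev, mul_assoc, mul_one, one_mul, inv_one, pow_succ, pow_zero, j1, j2, j3, j4, j5, j6, j7, j8] using r11),
    mul_inv_eq_one.mp (by simpa only [mul_inv_rev, mul_assoc, mul_one, one_mul, inv_one, pow_succ, pow_zero, j1, j2, j3, j4, j5, j6, j7, j8] using r12),
    mul_inv_eq_one.mp (by simpa only [mul_inv_rev, mul_assoc, mul_one, one_mul, inv_one, pow_succ, pow_zero, j1, j2, j3, j4, j5, j6, j7, j8] using r13),
    mul_inv_eq_one.mp (by simpa only [mul_inv_rev, mul_assoc, mul_one, one_mul, inv_one, pow_succ, pow_zero, j1, j2, j3, j4, j5, j6, j7, j8] using r14),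
    mul_inv_eq_one.mp (by simpa only [mul_inv_rev, mul_assoc, mul_one, one_mul, inv_one, pow_succ, pow_zero, j1, j2, j3, j4, j5, j6, j7, j8] using r15)⟩,
    mul_inv_eq_one.mp (by simpa only [mul_inv_rev, mul_assoc, mul_one, one_mul, inv_one, pow_succ, pow_zero, j1, j2, j3, j4, j5, j6, j7, j8] using r16),
    mul_inv_eq_one.mp (by simpa only [mul_inv_rev, mul_assoc, mul_one, one_mul, inv_one, pow_succ, pow_zero, j1, j2, j3, j4, j5, j6, j7, j8] using r17),
    mul_inv_eq_one.mp (by simpa only [mul_inv_rev, mul_assoc, mul_one, one_mul, inv_one, pow_succ, pow_zero, j1, j2, j3, j4, j5, j6, j7, j8] using r18),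
    mul_inv_eq_one.mp (by simpa only [mul_inv_rev, mul_assoc, mul_one, one_mul, inv_one, pow_succ, pow_zero, j1, j2, j3, j4, j5, j6, j7, j8] using r19),
    mul_inv_eq_one.mp (by simpa only [mul_inv_rev, mul_assoc, mul_one, one_mul, inv_one, pow_succ, pow_zero, j1, j2, j3, j4, j5, j6, j7, j8] using r20)⟩,
    mul_inv_eq_one.mp (by simpa only [mul_inv_rev, mul_assoc, mul_one, one_mul, inv_one, pow_succ, pow_zero, j1, j2, j3, j4, j5, j6, j7, j8] using r21)⟩

theorem gen_top : gen (pgEv 129705083257453936896 R) [[1], [2], [3], [4], [5], [7]] = ⊤ := pg_gen (n := 9) (by norm_num) (by decide)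
namespace c

noncomputable def get (y : ℕ) : ℕ := (sel (nat_lit 1) y (nat_lit 0x0) (nat_lit 0xa000000000000090000000000000300000000000003000000000000000000010000000000000000000100000005000009000000090000050100000d00000d0100000d00000d0200000500000d0200000d00000503000005000005030000050000050300000d00000d0300000d00000d01000003000003010000030000030000000c0000030000000300000c0100000000000101000001000000000000000000060000000600000000000002000001000000010000020000000800000b0000000b0000080200000e0000080200000800000e0700000300000e0800000e0000030800000300000d0700000d0000030200000600000c0200000c0000060100000300000c0100000c0000030100000800000b0100000b0000080300000400000b0300000b0000040800000200000b0700000b0000020100000700000a0100000a0000070200000200000a0200000a00000201000005000009010000090000050700000100000908000009000001080000010000080700000800000103000003000007030000070000030200000100000702000007000001010000010000060100000600000107000000000005080000050000000800000000000407000004000000020000000000030200000300000001000000000002010000020000000300000000000103000001000000))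
noncomputable def gs (y : ℕ) : ℕ := (sel (nat_lit 3) y (sel (nat_lit 1) y (nat_lit 0x0) (sel (nat_lit 2) y (nat_lit 0x0) (nat_lit 0x0))) (sel (nat_lit 4) y (nat_lit 0x0) (sel (nat_lit 5) y (nat_lit 0x800001000002140000239000023b000023d000023a800000f0000237000022400002040000209000023b800000e00002240000204000023100002000000209800000d00002080000231000021300002148000004000022400002350000225800000b00002210000233800000c0000204000022f0000223800000b000020b000022e800000a000020a000022c000020280000090000211000022b000021a8000008000021a00002170000218000020e000022700002298000007000021f000021c0000206000020500002278000000800000080000060000220000020f000020c000020b80000008000005000021a0000202000020100002118000004000021a0000202000020780000008000003000021600002020000201000020d80000008000002000021200002000000209800000080000008000001000020c000020000002058000000800000080000008000000800000080000008000000) (nat_lit 0x800001480000148000014800001480000148000014800001480000148000014800001480000148000014800001480000148000014800001480000148000014800001480000148000014800001480000148000014800001480000148000014800001480000148000013000024380000120000201000024180000110000209000023f0000212))))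
noncomputable def gd (y : ℕ) : ℕ := (nat_lit 0x22600002240000220000021a000021600002120000210000020c000020a000020800002060000204000020200002000000000)
noncomputable def gwh_0 (y : ℕ) : ℕ := (sel (nat_lit 8) y (sel (nat_lit 4) y (sel (nat_lit 2) y (sel (nat_lit 1) y (nat_lit 0x2030203000003001000) (nat_lit 0x7030801000000004001)) (sel (nat_lit 3) y (nat_lit 0x203010201000003002002) (nat_lit 0x8010703000002002001))) (sel (nat_lit 6) y (sel (nat_lit 5) y (nat_lit 0x803010701000002003003) (nat_lit 0x102030102000002003002)) (sel (nat_lit 7) y (nat_lit 0x70207030102000001005004) (nat_lit 0x2070301020700001002004004)))) (sel (nat_lit 12) y (sel (nat_lit 10) y (sel (nat_lit 9) y (nat_lit 0x7000800001000003005) (nat_lit 0x1000100001000003006)) (sel (nat_lit 11) y (nat_lit 0x101000000002007) (nat_lit 0x2000200001000003008))) (sel (nat_lit 14) y (sel (nat_lit 13) y (nat_lit 0x107010803000004001003) (nat_lit 0x70301020702000003003004)) (sel (nat_lit 15) y (nat_lit 0x20702070301000000006004) (nat_lit 0x20102030100001001004002)))))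
noncomputable def gwh_1 (y : ℕ) : ℕ := (sel (nat_lit 17) y (nat_lit 0x8000700001000003009) (sel (nat_lit 18) y (nat_lit 0x30300000000200a) (nat_lit 0x30a00000000200b)))
noncomputable def gwh (y : ℕ) : ℕ := (sel (nat_lit 16) y (gwh_0 y) (gwh_1 y))
def sg : List (List ℕ) := [[], [1], [2], [3], [4], [5], [6], [7], [8], [3], [3]]
def BL : List ℕ := [0x3020302, 0x7030801, 0x102010203, 0x701080301, 0x20702070301, 0x70008, 0x10001, 0x101, 0x20002, 0x80007, 0x303, 0x30a]
def Sub : List (List ℕ) := []
theorem hA : prepA 129705083257453936896 PX30c.R sg 10927685746443616478429440 BL Sub get gd = true := by decide +kernel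
theorem hw : allR (okW BL gwh) 0 19 = true := by decide +kernel
theorem b0 : allR (blk get gs (gwB gwh 19) gd 10927685746443616478429440) 4 2 = true := by decide +kernel
theorem hb : ∀ b, 4 ≤ b → b < 6 → blk get gs (gwB gwh 19) gd 10927685746443616478429440 b = true :=
  (allR_range b0 (by norm_num : 4 + 2 = 6))
def TL : List (ℕ × List ℕ) := [(324, [3])]
theorem hM : prepM sg get 6 TL = true := by decide +kernel
theorem mem {G : Type*} [Group G] {ev : ℕ → G} (hev : Good ev 129705083257453936896) (hR : Rels ev PX30c.R) :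
    ∀ w ∈ TL.map Prod.snd, evL ev w ∈ gen ev Sub :=
  cert_mem hev hR hA hM hw hb

end c

theorem res {G : Type*} [Group G] {a b z w t x : G} (H : Rel a b z w t x) : z = 1 := by
  have i_a : a⁻¹ = a := inv_eq_of_mul_eq_one_right H.hX.hN.aa
  have i_b : b⁻¹ = b := inv_eq_of_mul_eq_one_right H.hX.hN.bb
  have i_z : z⁻¹ = z := inv_eq_of_mul_eq_one_right H.hX.hN.zz
  have i_w : w⁻¹ = w := inv_eq_of_mul_eq_one_right H.hX.hN.ww
  have h : z * 1 = 1 := rels_of_mem_nil (c.mem (good H) (rels H)) [3] (List.mem_of_elem_eq_true (by decide))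
  exact mul_inv_eq_one.mp (by simpa only [mul_inv_rev, inv_inv, mul_assoc, mul_one, one_mul, inv_one, pow_succ, pow_zero, i_a, i_b, i_z, i_w] using h)

end PX30c

namespace PX31c

structure Rel {G : Type*} [Group G] (a b z w t x : G) : Prop where
  hX : PX0.Rel a b z w t x
  bx : (b * x) ^ 2 = a * z * t ^ 1

def R : List (List ℕ) := [[1, 1], [2, 2], [3, 3], [4, 4], [5, 5, 5], [5, 4, 5, 4, 5, 4], [3, 1, 3, 1], [3, 2, 3, 2], [3, 4, 3, 4], [3, 5, 3, 6], [1, 2, 1, 2, 3], [5, 1, 6, 1], [5, 2, 6, 2], [4, 1, 4, 1], [2, 4, 2, 4, 2, 4, 2, 4, 3], [1, 4, 2, 4, 2, 6, 4, 2, 4, 5, 5, 4, 2, 4, 6], [7, 7, 7], [7, 5, 8, 6], [7, 4, 8, 4], [7, 3, 8, 1], [7, 1, 8, 3, 1], [2, 7, 2, 7, 6, 3, 1]]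

def ev {G : Type*} [Group G] (a b z w t x : G) (l : ℕ) : G := [1, a, b, z, w, t, t⁻¹, x, x⁻¹].getD l 1

theorem good {G : Type*} [Group G] {a b z w t x : G} (H : Rel a b z w t x) : Good (ev a b z w t x) 129705083257453936896 := by
  have i_a : a⁻¹ = a := inv_eq_of_mul_eq_one_right H.hX.hN.aa
  have i_b : b⁻¹ = b := inv_eq_of_mul_eq_one_right H.hX.hN.bb
  have i_z : z⁻¹ = z := inv_eq_of_mul_eq_one_right H.hX.hN.zz
  have i_w : w⁻¹ = w := inv_eq_of_mul_eq_one_right H.hX.hN.ww
  refine good_list (n := 9) rfl (by norm_num) rfl fun l hl => ?_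
  interval_cases l
  · exact inv_one.symm
  · exact i_a.symm
  · exact i_b.symm
  · exact i_z.symm
  · exact i_w.symm
  · rfl
  · exact (inv_inv _).symm
  · rfl
  · exact (inv_inv _).symm

theorem rels {G : Type*} [Group G] {a b z w t x : G} (H : Rel a b z w t x) : Rels (ev a b z w t x) R := by
  have i_a : a⁻¹ = a := inv_eq_of_mul_eq_one_right H.hX.hN.aa
  have i_b : b⁻¹ = b := inv_eq_of_mul_eq_one_right H.hX.hN.bb
  have i_z : z⁻¹ = z := inv_eq_of_mul_eq_one_right H.hX.hN.zz
  have i_w : w⁻¹ = w := inv_eq_of_mul_eq_one_right H.hX.hN.ww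
  unfold R
  refine Rels.cons ?_ ?_
  · show a * (a * 1) = 1
    simpa only [mul_inv_rev, inv_inv, mul_assoc, mul_one, one_mul, inv_one, pow_succ, pow_zero, i_a, i_b, i_z, i_w] using mul_inv_eq_one.mpr H.hX.hN.aa
  refine Rels.cons ?_ ?_
  · show b * (b * 1) = 1
    simpa only [mul_inv_rev, inv_inv, mul_assoc, mul_one, one_mul, inv_one, pow_succ, pow_zero, i_a, i_b, i_z, i_w] using mul_inv_eq_one.mpr H.hX.hN.bb
  refine Rels.cons ?_ ?_
  · show z * (z * 1) = 1
    simpa only [mul_inv_rev, inv_inv, mul_assoc, mul_one, one_mul, inv_one, pow_succ, pow_zero, i_a, i_b, i_z, i_w] using mul_inv_eq_one.mpr H.hX.hN.zz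
  refine Rels.cons ?_ ?_
  · show w * (w * 1) = 1
    simpa only [mul_inv_rev, inv_inv, mul_assoc, mul_one, one_mul, inv_one, pow_succ, pow_zero, i_a, i_b, i_z, i_w] using mul_inv_eq_one.mpr H.hX.hN.ww
  refine Rels.cons ?_ ?_
  · show t * (t * (t * 1)) = 1
    simpa only [mul_inv_rev, inv_inv, mul_assoc, mul_one, one_mul, inv_one, pow_succ, pow_zero, i_a, i_b, i_z, i_w] using mul_inv_eq_one.mpr H.hX.hN.t3
  refine Rels.cons ?_ ?_
  · show t * (w * (t * (w * (t * (w * 1))))) = 1
    simpa only [mul_inv_rev, inv_inv, mul_assoc, mul_one, one_mul, inv_one, pow_succ, pow_zero, i_a, i_b, i_z, i_w] using mul_inv_eq_one.mpr H.hX.hN.tw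
  refine Rels.cons ?_ ?_
  · show z * (a * (z * (a * 1))) = 1
    simpa only [mul_inv_rev, inv_inv, mul_assoc, mul_one, one_mul, inv_one, pow_succ, pow_zero, i_a, i_b, i_z, i_w] using mul_inv_eq_one.mpr H.hX.hN.za
  refine Rels.cons ?_ ?_
  · show z * (b * (z * (b * 1))) = 1
    simpa only [mul_inv_rev, inv_inv, mul_assoc, mul_one, one_mul, inv_one, pow_succ, pow_zero, i_a, i_b, i_z, i_w] using mul_inv_eq_one.mpr H.hX.hN.zb
  refine Rels.cons ?_ ?_
  · show z * (w * (z * (w * 1))) = 1
    simpa only [mul_inv_rev, inv_inv, mul_assoc, mul_one, one_mul, inv_one, pow_succ, pow_zero, i_a, i_b, i_z, i_w] using mul_inv_eq_one.mpr H.hX.hN.zw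
  refine Rels.cons ?_ ?_
  · show z * (t * (z * (t⁻¹ * 1))) = 1
    simpa only [mul_inv_rev, inv_inv, mul_assoc, mul_one, one_mul, inv_one, pow_succ, pow_zero, i_a, i_b, i_z, i_w] using mul_inv_eq_one.mpr H.hX.hN.zt
  refine Rels.cons ?_ ?_
  · show a * (b * (a * (b * (z * 1)))) = 1
    simpa only [mul_inv_rev, inv_inv, mul_assoc, mul_one, one_mul, inv_one, pow_succ, pow_zero, i_a, i_b, i_z, i_w] using mul_inv_eq_one.mpr H.hX.hN.ab
  refine Rels.cons ?_ ?_
  · show t * (a * (t⁻¹ * (a * 1))) = 1
    simpa only [mul_inv_rev, inv_inv, mul_assoc, mul_one, one_mul, inv_one, pow_succ, pow_zero, i_a, i_b, i_z, i_w] using mul_inv_eq_one.mpr H.hX.hN.ta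
  refine Rels.cons ?_ ?_
  · show t * (b * (t⁻¹ * (b * 1))) = 1
    simpa only [mul_inv_rev, inv_inv, mul_assoc, mul_one, one_mul, inv_one, pow_succ, pow_zero, i_a, i_b, i_z, i_w] using mul_inv_eq_one.mpr H.hX.hN.tb
  refine Rels.cons ?_ ?_
  · show w * (a * (w * (a * 1))) = 1
    simpa only [mul_inv_rev, inv_inv, mul_assoc, mul_one, one_mul, inv_one, pow_succ, pow_zero, i_a, i_b, i_z, i_w] using mul_inv_eq_one.mpr H.hX.hN.wa
  refine Rels.cons ?_ ?_
  · show b * (w * (b * (w * (b * (w * (b * (w * (z * 1)))))))) = 1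
    simpa only [mul_inv_rev, inv_inv, mul_assoc, mul_one, one_mul, inv_one, pow_succ, pow_zero, i_a, i_b, i_z, i_w] using mul_inv_eq_one.mpr H.hX.hN.bw
  refine Rels.cons ?_ ?_
  · show a * (w * (b * (w * (b * (t⁻¹ * (w * (b * (w * (t * (t * (w * (b * (w * (t⁻¹ * 1)))))))))))))) = 1
    simpa only [mul_inv_rev, inv_inv, mul_assoc, mul_one, one_mul, inv_one, pow_succ, pow_zero, i_a, i_b, i_z, i_w] using mul_inv_eq_one.mpr H.hX.hN.pr
  refine Rels.cons ?_ ?_
  · show x * (x * (x * 1)) = 1
    simpa only [mul_inv_rev, inv_inv, mul_assoc, mul_one, one_mul, inv_one, pow_succ, pow_zero, i_a, i_b, i_z, i_w] using mul_inv_eq_one.mpr H.hX.x3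
  refine Rels.cons ?_ ?_
  · show x * (t * (x⁻¹ * (t⁻¹ * 1))) = 1
    simpa only [mul_inv_rev, inv_inv, mul_assoc, mul_one, one_mul, inv_one, pow_succ, pow_zero, i_a, i_b, i_z, i_w] using mul_inv_eq_one.mpr H.hX.xt
  refine Rels.cons ?_ ?_
  · show x * (w * (x⁻¹ * (w * 1))) = 1
    simpa only [mul_inv_rev, inv_inv, mul_assoc, mul_one, one_mul, inv_one, pow_succ, pow_zero, i_a, i_b, i_z, i_w] using mul_inv_eq_one.mpr H.hX.xw
  refine Rels.cons ?_ ?_
  · show x * (z * (x⁻¹ * (a * 1))) = 1
    simpa only [mul_inv_rev, inv_inv, mul_assoc, mul_one, one_mul, inv_one, pow_succ, pow_zero, i_a, i_b, i_z, i_w] using mul_inv_eq_one.mpr H.hX.xz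
  refine Rels.cons ?_ ?_
  · show x * (a * (x⁻¹ * (z * (a * 1)))) = 1
    simpa only [mul_inv_rev, inv_inv, mul_assoc, mul_one, one_mul, inv_one, pow_succ, pow_zero, i_a, i_b, i_z, i_w] using mul_inv_eq_one.mpr H.hX.xa
  refine Rels.cons ?_ ?_
  · show b * (x * (b * (x * (t⁻¹ * (z * (a * 1)))))) = 1
    simpa only [mul_inv_rev, inv_inv, mul_assoc, mul_one, one_mul, inv_one, pow_succ, pow_zero, i_a, i_b, i_z, i_w] using mul_inv_eq_one.mpr H.bx
  intro r hr
  exact absurd hr List.not_mem_nil

/-- The relations hold for the letters of any assignment satisfying the relators. -/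
theorem rel_of {G : Type*} [Group G] {e : ℕ → G} (hg : Good e 129705083257453936896) (hR : Rels e R) :
    Rel (e 1) (e 2) (e 3) (e 4) (e 5) (e 7) := by
  have j1 : (e 1)⁻¹ = e 1 := (hg.inv 1).symm
  have j2 : (e 2)⁻¹ = e 2 := (hg.inv 2).symm
  have j3 : (e 3)⁻¹ = e 3 := (hg.inv 3).symm
  have j4 : (e 4)⁻¹ = e 4 := (hg.inv 4).symm
  have j5 : (e 5)⁻¹ = e 6 := (hg.inv 5).symm
  have j6 : (e 6)⁻¹ = e 5 := (hg.inv 6).symm
  have j7 : (e 7)⁻¹ = e 8 := (hg.inv 7).symm
  have j8 : (e 8)⁻¹ = e 7 := (hg.inv 8).symm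
  have r0 : e 1 * (e 1 * 1) = 1 := hR [1, 1] (List.mem_of_elem_eq_true (by decide))
  have r1 : e 2 * (e 2 * 1) = 1 := hR [2, 2] (List.mem_of_elem_eq_true (by decide))
  have r2 : e 3 * (e 3 * 1) = 1 := hR [3, 3] (List.mem_of_elem_eq_true (by decide))
  have r3 : e 4 * (e 4 * 1) = 1 := hR [4, 4] (List.mem_of_elem_eq_true (by decide))
  have r4 : e 5 * (e 5 * (e 5 * 1)) = 1 := hR [5, 5, 5] (List.mem_of_elem_eq_true (by decide))
  have r5 : e 5 * (e 4 * (e 5 * (e 4 * (e 5 * (e 4 * 1))))) = 1 := hR [5, 4, 5, 4, 5, 4] (List.mem_of_elem_eq_true (by decide))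
  have r6 : e 3 * (e 1 * (e 3 * (e 1 * 1))) = 1 := hR [3, 1, 3, 1] (List.mem_of_elem_eq_true (by decide))
  have r7 : e 3 * (e 2 * (e 3 * (e 2 * 1))) = 1 := hR [3, 2, 3, 2] (List.mem_of_elem_eq_true (by decide))
  have r8 : e 3 * (e 4 * (e 3 * (e 4 * 1))) = 1 := hR [3, 4, 3, 4] (List.mem_of_elem_eq_true (by decide))
  have r9 : e 3 * (e 5 * (e 3 * (e 6 * 1))) = 1 := hR [3, 5, 3, 6] (List.mem_of_elem_eq_true (by decide))
  have r10 : e 1 * (e 2 * (e 1 * (e 2 * (e 3 * 1)))) = 1 := hR [1, 2, 1, 2, 3] (List.mem_of_elem_eq_true (by decide))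
  have r11 : e 5 * (e 1 * (e 6 * (e 1 * 1))) = 1 := hR [5, 1, 6, 1] (List.mem_of_elem_eq_true (by decide))
  have r12 : e 5 * (e 2 * (e 6 * (e 2 * 1))) = 1 := hR [5, 2, 6, 2] (List.mem_of_elem_eq_true (by decide))
  have r13 : e 4 * (e 1 * (e 4 * (e 1 * 1))) = 1 := hR [4, 1, 4, 1] (List.mem_of_elem_eq_true (by decide))
  have r14 : e 2 * (e 4 * (e 2 * (e 4 * (e 2 * (e 4 * (e 2 * (e 4 * (e 3 * 1)))))))) = 1 := hR [2, 4, 2, 4, 2, 4, 2, 4, 3] (List.mem_of_elem_eq_true (by decide))
  have r15 : e 1 * (e 4 * (e 2 * (e 4 * (e 2 * (e 6 * (e 4 * (e 2 * (e 4 * (e 5 * (e 5 * (e 4 * (e 2 * (e 4 * (e 6 * 1)))))))))))))) = 1 := hR [1, 4, 2, 4, 2, 6, 4, 2, 4, 5, 5, 4, 2, 4, 6] (List.mem_of_elem_eq_true (by decide))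
  have r16 : e 7 * (e 7 * (e 7 * 1)) = 1 := hR [7, 7, 7] (List.mem_of_elem_eq_true (by decide))
  have r17 : e 7 * (e 5 * (e 8 * (e 6 * 1))) = 1 := hR [7, 5, 8, 6] (List.mem_of_elem_eq_true (by decide))
  have r18 : e 7 * (e 4 * (e 8 * (e 4 * 1))) = 1 := hR [7, 4, 8, 4] (List.mem_of_elem_eq_true (by decide))
  have r19 : e 7 * (e 3 * (e 8 * (e 1 * 1))) = 1 := hR [7, 3, 8, 1] (List.mem_of_elem_eq_true (by decide))
  have r20 : e 7 * (e 1 * (e 8 * (e 3 * (e 1 * 1)))) = 1 := hR [7, 1, 8, 3, 1] (List.mem_of_elem_eq_true (by decide))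
  have r21 : e 2 * (e 7 * (e 2 * (e 7 * (e 6 * (e 3 * (e 1 * 1)))))) = 1 := hR [2, 7, 2, 7, 6, 3, 1] (List.mem_of_elem_eq_true (by decide))
  exact ⟨⟨⟨mul_inv_eq_one.mp (by simpa only [mul_inv_rev, mul_assoc, mul_one, one_mul, inv_one, pow_succ, pow_zero, j1, j2, j3, j4, j5, j6, j7, j8] using r0),
    mul_inv_eq_one.mp (by simpa only [mul_inv_rev, mul_assoc, mul_one, one_mul, inv_one, pow_succ, pow_zero, j1, j2, j3, j4, j5, j6, j7, j8] using r1),
    mul_inv_eq_one.mp (by simpa only [mul_inv_rev, mul_assoc, mul_one, one_mul, inv_one, pow_succ, pow_zero, j1, j2, j3, j4, j5, j6, j7, j8] using r2),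
    mul_inv_eq_one.mp (by simpa only [mul_inv_rev, mul_assoc, mul_one, one_mul, inv_one, pow_succ, pow_zero, j1, j2, j3, j4, j5, j6, j7, j8] using r3),
    mul_inv_eq_one.mp (by simpa only [mul_inv_rev, mul_assoc, mul_one, one_mul, inv_one, pow_succ, pow_zero, j1, j2, j3, j4, j5, j6, j7, j8] using r4),
    mul_inv_eq_one.mp (by simpa only [mul_inv_rev, mul_assoc, mul_one, one_mul, inv_one, pow_succ, pow_zero, j1, j2, j3, j4, j5, j6, j7, j8] using r5),
    mul_inv_eq_one.mp (by simpa only [mul_inv_rev, mul_assoc, mul_one, one_mul, inv_one, pow_succ, pow_zero, j1, j2, j3, j4, j5, j6, j7, j8] using r6),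
    mul_inv_eq_one.mp (by simpa only [mul_inv_rev, mul_assoc, mul_one, one_mul, inv_one, pow_succ, pow_zero, j1, j2, j3, j4, j5, j6, j7, j8] using r7),
    mul_inv_eq_one.mp (by simpa only [mul_inv_rev, mul_assoc, mul_one, one_mul, inv_one, pow_succ, pow_zero, j1, j2, j3, j4, j5, j6, j7, j8] using r8),
    mul_inv_eq_one.mp (by simpa only [mul_inv_rev, mul_assoc, mul_one, one_mul, inv_one, pow_succ, pow_zero, j1, j2, j3, j4, j5, j6, j7, j8] using r9),
    mul_inv_eq_one.mp (by simpa only [mul_inv_rev, mul_assoc, mul_one, one_mul, inv_one, pow_succ, pow_zero, j1, j2, j3, j4, j5, j6, j7, j8] using r10),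
    mul_inv_eq_one.mp (by simpa only [mul_inv_rev, mul_assoc, mul_one, one_mul, inv_one, pow_succ, pow_zero, j1, j2, j3, j4, j5, j6, j7, j8] using r11),
    mul_inv_eq_one.mp (by simpa only [mul_inv_rev, mul_assoc, mul_one, one_mul, inv_one, pow_succ, pow_zero, j1, j2, j3, j4, j5, j6, j7, j8] using r12),
    mul_inv_eq_one.mp (by simpa only [mul_inv_rev, mul_assoc, mul_one, one_mul, inv_one, pow_succ, pow_zero, j1, j2, j3, j4, j5, j6, j7, j8] using r13),
    mul_inv_eq_one.mp (by simpa only [mul_inv_rev, mul_assoc, mul_one, one_mul, inv_one, pow_succ, pow_zero, j1, j2, j3, j4, j5, j6, j7, j8] using r14),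
    mul_inv_eq_one.mp (by simpa only [mul_inv_rev, mul_assoc, mul_one, one_mul, inv_one, pow_succ, pow_zero, j1, j2, j3, j4, j5, j6, j7, j8] using r15)⟩,
    mul_inv_eq_one.mp (by simpa only [mul_inv_rev, mul_assoc, mul_one, one_mul, inv_one, pow_succ, pow_zero, j1, j2, j3, j4, j5, j6, j7, j8] using r16),
    mul_inv_eq_one.mp (by simpa only [mul_inv_rev, mul_assoc, mul_one, one_mul, inv_one, pow_succ, pow_zero, j1, j2, j3, j4, j5, j6, j7, j8] using r17),
    mul_inv_eq_one.mp (by simpa only [mul_inv_rev, mul_assoc, mul_one, one_mul, inv_one, pow_succ, pow_zero, j1, j2, j3, j4, j5, j6, j7, j8] using r18),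
    mul_inv_eq_one.mp (by simpa only [mul_inv_rev, mul_assoc, mul_one, one_mul, inv_one, pow_succ, pow_zero, j1, j2, j3, j4, j5, j6, j7, j8] using r19),
    mul_inv_eq_one.mp (by simpa only [mul_inv_rev, mul_assoc, mul_one, one_mul, inv_one, pow_succ, pow_zero, j1, j2, j3, j4, j5, j6, j7, j8] using r20)⟩,
    mul_inv_eq_one.mp (by simpa only [mul_inv_rev, mul_assoc, mul_one, one_mul, inv_one, pow_succ, pow_zero, j1, j2, j3, j4, j5, j6, j7, j8] using r21)⟩

theorem gen_top : gen (pgEv 129705083257453936896 R) [[1], [2], [3], [4], [5], [7]] = ⊤ := pg_gen (n := 9) (by norm_num) (by decide)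
namespace c

noncomputable def get (y : ℕ) : ℕ := (sel (nat_lit 1) y (nat_lit 0x0) (nat_lit 0xa000000000000090000000000000300000000000003000000000000000000000000010000000100000000000006000007000000070000060000000e0000140000001400000e0800000f0000020700000200000f0100001400000e0100000e0000140300000e00000e0300000e00000e0000001500000f0000000f0000150000001a0000140000001400001a0000001900000e0000000e0000190000000c0000060000000600000c00000007000013000000130000070100001a00000e0100000e00001a0300001900000e0300000e0000190500001600000e0600000e0000160800000c00001a0700001a00000c07000019000013080000130000190300001300000c0300000c00001302000015000019020000190000150700001100001808000018000011020000030000180200001800000303000017000018030000180000170200000b0000170200001700000b080000090000160700001600000907000002000015080000150000020800000a0000150700001500000a0800000600001407000014000006010000070000130100001300000702000004000013020000130000040300000d0000100300001000000d08000008000012070000120000080600001000001205000012000010060000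0600001105000011000006020000080000110200001100000808000001000010070000100000010200000e00000f0200000f00000e0800000700000e0700000e0000070800000400000d0700000d0000040100000300000d0100000d0000030200000500000c0200000c0000050300000300000b0300000b0000030800000200000a0700000a0000020600000300000a0500000a000003060000070000090500000900000702000002000009020000090000020600000100000805000008000001020000000000070200000700000003000006000007030000070000060200000100000602000006000001010000000000050100000500000003000004000005030000050000040100000100000401000004000001080000000000030700000300000006000000000002050000020000000300000000000103000001000000))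
noncomputable def gs (y : ℕ) : ℕ := (sel (nat_lit 3) y (sel (nat_lit 1) y (nat_lit 0x0) (sel (nat_lit 2) y (nat_lit 0x0) (nat_lit 0x0))) (sel (nat_lit 4) y (nat_lit 0x0) (sel (nat_lit 5) y (nat_lit 0x80000008000008000023a000021a8000000800000080000070000234000020600002000000211800000080000060000228000020700002238000004000022e0000228000021380000008000003000022a0000212000020d8000000800000080000008000000800000500002200000204000020b0000208800000080000008000000800000400002180000204000020380000008000003000021400002020000211800000080000008000002000020e000020c000020080000008000000800000100002080000206000020080000008000000800000080000008000000) (nat_lit 0x800001680000168000016800001680000168000016800001680000168000015000026d80000110000201000026a8000010000020d000026900002108000014000022500002670000238800000d000026300002610000250000023e0000214000026400002268000013000023d000025f80000120000254000025d80000110000252000025b80000100000226000025a0000248800000f00002380000258000024f800000f00002240000257000024c800000e000020f0000257000024b800000d0000236000020e000022d0000247000024400002040000211800000c00002240000237000024b000024f800000600002240000237000024c800000b00002240000217000023f800000080000090000234000020600002000000203000023d0000249800000a000021e0000208000023580000008000009000024400002210000233000022f0000230000022b800000200002420000240000021c80000008000000))))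
noncomputable def gd (y : ℕ) : ℕ := (nat_lit 0x24e000024800002420000240000023e000023a00002380000234000022e000022a0000228000022600002240000220000021e000021c000021800002140000212000020e000020c000020800002060000204000020200002000000000)
noncomputable def gwh_0 (y : ℕ) : ℕ := (sel (nat_lit 8) y (sel (nat_lit 4) y (sel (nat_lit 2) y (sel (nat_lit 1) y (nat_lit 0x3010301000000004000) (nat_lit 0x3020302000000004001)) (sel (nat_lit 3) y (nat_lit 0x2050206000003001002) (nat_lit 0x6070508000003001003))) (sel (nat_lit 6) y (sel (nat_lit 5) y (nat_lit 0x301070108000003002004) (nat_lit 0x8010703000002002005)) (sel (nat_lit 7) y (nat_lit 0x203010201000003002006) (nat_lit 0x70707000000003007)))) (sel (nat_lit 12) y (sel (nat_lit 10) y (sel (nat_lit 9) y (nat_lit 0x2070603010207000002005008) (nat_lit 0x2030203000003001001)) (sel (nat_lit 11) y (nat_lit 0x8060705000002002003) (nat_lit 0x803010701000002003004))) (sel (nat_lit 14) y (sel (nat_lit 13) y (nat_lit 0x207020706030100001000007008) (nat_lit 0x3000300001000003009)) (sel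 (nat_lit 15) y (nat_lit 0x800070000100000300a) (nat_lit 0x200020000100000300b)))))
noncomputable def gwh_1 (y : ℕ) : ℕ := (sel (nat_lit 18) y (sel (nat_lit 17) y (nat_lit 0x30300000000200c) (nat_lit 0x10100000000200d)) (sel (nat_lit 19) y (nat_lit 0x70800000000200e) (sel (nat_lit 20) y (nat_lit 0x700080000100000300f) (nat_lit 0x30a000000002010))))
noncomputable def gwh (y : ℕ) : ℕ := (sel (nat_lit 16) y (gwh_0 y) (gwh_1 y))
def sg : List (List ℕ) := [[], [1], [2], [3], [4], [5], [6], [7], [8], [3], [3]]
def BL : List ℕ := [0x3010301, 0x3020302, 0x5020602, 0x7050806, 0x701080301, 0x7030801, 0x102010203, 0x70707, 0x2070207060301, 0x30003, 0x80007, 0x20002, 0x303, 0x101, 0x708, 0x70008, 0x30a]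
def Sub : List (List ℕ) := []
theorem hA : prepA 129705083257453936896 PX31c.R sg 10927685746443616478429440 BL Sub get gd = true := by decide +kernel
theorem hw : allR (okW BL gwh) 0 21 = true := by decide +kernel
theorem b0 : allR (blk get gs (gwB gwh 21) gd 10927685746443616478429440) 4 2 = true := by decide +kernel
theorem hb : ∀ b, 4 ≤ b → b < 6 → blk get gs (gwB gwh 21) gd 10927685746443616478429440 b = true :=
  (allR_range b0 (by norm_num : 4 + 2 = 6))
def TL : List (ℕ × List ℕ) := [(366, [3])]
theorem hM : prepM sg get 6 TL = true := by decide +kernel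
theorem mem {G : Type*} [Group G] {ev : ℕ → G} (hev : Good ev 129705083257453936896) (hR : Rels ev PX31c.R) :
    ∀ w ∈ TL.map Prod.snd, evL ev w ∈ gen ev Sub :=
  cert_mem hev hR hA hM hw hb

end c

theorem res {G : Type*} [Group G] {a b z w t x : G} (H : Rel a b z w t x) : z = 1 := by
  have i_a : a⁻¹ = a := inv_eq_of_mul_eq_one_right H.hX.hN.aa
  have i_b : b⁻¹ = b := inv_eq_of_mul_eq_one_right H.hX.hN.bb
  have i_z : z⁻¹ = z := inv_eq_of_mul_eq_one_right H.hX.hN.zz
  have i_w : w⁻¹ = w := inv_eq_of_mul_eq_one_right H.hX.hN.ww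
  have h : z * 1 = 1 := rels_of_mem_nil (c.mem (good H) (rels H)) [3] (List.mem_of_elem_eq_true (by decide))
  exact mul_inv_eq_one.mp (by simpa only [mul_inv_rev, inv_inv, mul_assoc, mul_one, one_mul, inv_one, pow_succ, pow_zero, i_a, i_b, i_z, i_w] using h)

end PX31c

namespace PX32c

structure Rel {G : Type*} [Group G] (a b z w t x : G) : Prop where
  hX : PX0.Rel a b z w t x
  bx : (b * x) ^ 2 = a * z * t ^ 2

def R : List (List ℕ) := [[1, 1], [2, 2], [3, 3], [4, 4], [5, 5, 5], [5, 4, 5, 4, 5, 4], [3, 1, 3, 1], [3, 2, 3, 2], [3, 4, 3, 4], [3, 5, 3, 6], [1, 2, 1, 2, 3], [5, 1, 6, 1], [5, 2, 6, 2], [4, 1, 4, 1], [2, 4, 2, 4, 2, 4, 2, 4, 3], [1, 4, 2, 4, 2, 6, 4, 2, 4, 5, 5, 4, 2, 4, 6], [7, 7, 7], [7, 5, 8, 6], [7, 4, 8, 4], [7, 3, 8, 1], [7, 1, 8, 3, 1], [2, 7, 2, 7, 6, 6, 3, 1]]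

def ev {G : Type*} [Group G] (a b z w t x : G) (l : ℕ) : G := [1, a, b, z, w, t, t⁻¹, x, x⁻¹].getD l 1

theorem good {G : Type*} [Group G] {a b z w t x : G} (H : Rel a b z w t x) : Good (ev a b z w t x) 129705083257453936896 := by
  have i_a : a⁻¹ = a := inv_eq_of_mul_eq_one_right H.hX.hN.aa
  have i_b : b⁻¹ = b := inv_eq_of_mul_eq_one_right H.hX.hN.bb
  have i_z : z⁻¹ = z := inv_eq_of_mul_eq_one_right H.hX.hN.zz
  have i_w : w⁻¹ = w := inv_eq_of_mul_eq_one_right H.hX.hN.ww
  refine good_list (n := 9) rfl (by norm_num) rfl fun l hl => ?_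
  interval_cases l
  · exact inv_one.symm
  · exact i_a.symm
  · exact i_b.symm
  · exact i_z.symm
  · exact i_w.symm
  · rfl
  · exact (inv_inv _).symm
  · rfl
  · exact (inv_inv _).symm

theorem rels {G : Type*} [Group G] {a b z w t x : G} (H : Rel a b z w t x) : Rels (ev a b z w t x) R := by
  have i_a : a⁻¹ = a := inv_eq_of_mul_eq_one_right H.hX.hN.aa
  have i_b : b⁻¹ = b := inv_eq_of_mul_eq_one_right H.hX.hN.bb
  have i_z : z⁻¹ = z := inv_eq_of_mul_eq_one_right H.hX.hN.zz
  have i_w : w⁻¹ = w := inv_eq_of_mul_eq_one_right H.hX.hN.ww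
  unfold R
  refine Rels.cons ?_ ?_
  · show a * (a * 1) = 1
    simpa only [mul_inv_rev, inv_inv, mul_assoc, mul_one, one_mul, inv_one, pow_succ, pow_zero, i_a, i_b, i_z, i_w] using mul_inv_eq_one.mpr H.hX.hN.aa
  refine Rels.cons ?_ ?_
  · show b * (b * 1) = 1
    simpa only [mul_inv_rev, inv_inv, mul_assoc, mul_one, one_mul, inv_one, pow_succ, pow_zero, i_a, i_b, i_z, i_w] using mul_inv_eq_one.mpr H.hX.hN.bb
  refine Rels.cons ?_ ?_
  · show z * (z * 1) = 1
    simpa only [mul_inv_rev, inv_inv, mul_assoc, mul_one, one_mul, inv_one, pow_succ, pow_zero, i_a, i_b, i_z, i_w] using mul_inv_eq_one.mpr H.hX.hN.zz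
  refine Rels.cons ?_ ?_
  · show w * (w * 1) = 1
    simpa only [mul_inv_rev, inv_inv, mul_assoc, mul_one, one_mul, inv_one, pow_succ, pow_zero, i_a, i_b, i_z, i_w] using mul_inv_eq_one.mpr H.hX.hN.ww
  refine Rels.cons ?_ ?_
  · show t * (t * (t * 1)) = 1
    simpa only [mul_inv_rev, inv_inv, mul_assoc, mul_one, one_mul, inv_one, pow_succ, pow_zero, i_a, i_b, i_z, i_w] using mul_inv_eq_one.mpr H.hX.hN.t3
  refine Rels.cons ?_ ?_
  · show t * (w * (t * (w * (t * (w * 1))))) = 1
    simpa only [mul_inv_rev, inv_inv, mul_assoc, mul_one, one_mul, inv_one, pow_succ, pow_zero, i_a, i_b, i_z, i_w] using mul_inv_eq_one.mpr H.hX.hN.tw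
  refine Rels.cons ?_ ?_
  · show z * (a * (z * (a * 1))) = 1
    simpa only [mul_inv_rev, inv_inv, mul_assoc, mul_one, one_mul, inv_one, pow_succ, pow_zero, i_a, i_b, i_z, i_w] using mul_inv_eq_one.mpr H.hX.hN.za
  refine Rels.cons ?_ ?_
  · show z * (b * (z * (b * 1))) = 1
    simpa only [mul_inv_rev, inv_inv, mul_assoc, mul_one, one_mul, inv_one, pow_succ, pow_zero, i_a, i_b, i_z, i_w] using mul_inv_eq_one.mpr H.hX.hN.zb
  refine Rels.cons ?_ ?_
  · show z * (w * (z * (w * 1))) = 1
    simpa only [mul_inv_rev, inv_inv, mul_assoc, mul_one, one_mul, inv_one, pow_succ, pow_zero, i_a, i_b, i_z, i_w] using mul_inv_eq_one.mpr H.hX.hN.zw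
  refine Rels.cons ?_ ?_
  · show z * (t * (z * (t⁻¹ * 1))) = 1
    simpa only [mul_inv_rev, inv_inv, mul_assoc, mul_one, one_mul, inv_one, pow_succ, pow_zero, i_a, i_b, i_z, i_w] using mul_inv_eq_one.mpr H.hX.hN.zt
  refine Rels.cons ?_ ?_
  · show a * (b * (a * (b * (z * 1)))) = 1
    simpa only [mul_inv_rev, inv_inv, mul_assoc, mul_one, one_mul, inv_one, pow_succ, pow_zero, i_a, i_b, i_z, i_w] using mul_inv_eq_one.mpr H.hX.hN.ab
  refine Rels.cons ?_ ?_
  · show t * (a * (t⁻¹ * (a * 1))) = 1
    simpa only [mul_inv_rev, inv_inv, mul_assoc, mul_one, one_mul, inv_one, pow_succ, pow_zero, i_a, i_b, i_z, i_w] using mul_inv_eq_one.mpr H.hX.hN.ta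
  refine Rels.cons ?_ ?_
  · show t * (b * (t⁻¹ * (b * 1))) = 1
    simpa only [mul_inv_rev, inv_inv, mul_assoc, mul_one, one_mul, inv_one, pow_succ, pow_zero, i_a, i_b, i_z, i_w] using mul_inv_eq_one.mpr H.hX.hN.tb
  refine Rels.cons ?_ ?_
  · show w * (a * (w * (a * 1))) = 1
    simpa only [mul_inv_rev, inv_inv, mul_assoc, mul_one, one_mul, inv_one, pow_succ, pow_zero, i_a, i_b, i_z, i_w] using mul_inv_eq_one.mpr H.hX.hN.wa
  refine Rels.cons ?_ ?_
  · show b * (w * (b * (w * (b * (w * (b * (w * (z * 1)))))))) = 1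
    simpa only [mul_inv_rev, inv_inv, mul_assoc, mul_one, one_mul, inv_one, pow_succ, pow_zero, i_a, i_b, i_z, i_w] using mul_inv_eq_one.mpr H.hX.hN.bw
  refine Rels.cons ?_ ?_
  · show a * (w * (b * (w * (b * (t⁻¹ * (w * (b * (w * (t * (t * (w * (b * (w * (t⁻¹ * 1)))))))))))))) = 1
    simpa only [mul_inv_rev, inv_inv, mul_assoc, mul_one, one_mul, inv_one, pow_succ, pow_zero, i_a, i_b, i_z, i_w] using mul_inv_eq_one.mpr H.hX.hN.pr
  refine Rels.cons ?_ ?_
  · show x * (x * (x * 1)) = 1
    simpa only [mul_inv_rev, inv_inv, mul_assoc, mul_one, one_mul, inv_one, pow_succ, pow_zero, i_a, i_b, i_z, i_w] using mul_inv_eq_one.mpr H.hX.x3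
  refine Rels.cons ?_ ?_
  · show x * (t * (x⁻¹ * (t⁻¹ * 1))) = 1
    simpa only [mul_inv_rev, inv_inv, mul_assoc, mul_one, one_mul, inv_one, pow_succ, pow_zero, i_a, i_b, i_z, i_w] using mul_inv_eq_one.mpr H.hX.xt
  refine Rels.cons ?_ ?_
  · show x * (w * (x⁻¹ * (w * 1))) = 1
    simpa only [mul_inv_rev, inv_inv, mul_assoc, mul_one, one_mul, inv_one, pow_succ, pow_zero, i_a, i_b, i_z, i_w] using mul_inv_eq_one.mpr H.hX.xw
  refine Rels.cons ?_ ?_
  · show x * (z * (x⁻¹ * (a * 1))) = 1
    simpa only [mul_inv_rev, inv_inv, mul_assoc, mul_one, one_mul, inv_one, pow_succ, pow_zero, i_a, i_b, i_z, i_w] using mul_inv_eq_one.mpr H.hX.xz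
  refine Rels.cons ?_ ?_
  · show x * (a * (x⁻¹ * (z * (a * 1)))) = 1
    simpa only [mul_inv_rev, inv_inv, mul_assoc, mul_one, one_mul, inv_one, pow_succ, pow_zero, i_a, i_b, i_z, i_w] using mul_inv_eq_one.mpr H.hX.xa
  refine Rels.cons ?_ ?_
  · show b * (x * (b * (x * (t⁻¹ * (t⁻¹ * (z * (a * 1))))))) = 1
    simpa only [mul_inv_rev, inv_inv, mul_assoc, mul_one, one_mul, inv_one, pow_succ, pow_zero, i_a, i_b, i_z, i_w] using mul_inv_eq_one.mpr H.bx
  intro r hr
  exact absurd hr List.not_mem_nil

/-- The relations hold for the letters of any assignment satisfying the relators. -/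
theorem rel_of {G : Type*} [Group G] {e : ℕ → G} (hg : Good e 129705083257453936896) (hR : Rels e R) :
    Rel (e 1) (e 2) (e 3) (e 4) (e 5) (e 7) := by
  have j1 : (e 1)⁻¹ = e 1 := (hg.inv 1).symm
  have j2 : (e 2)⁻¹ = e 2 := (hg.inv 2).symm
  have j3 : (e 3)⁻¹ = e 3 := (hg.inv 3).symm
  have j4 : (e 4)⁻¹ = e 4 := (hg.inv 4).symm
  have j5 : (e 5)⁻¹ = e 6 := (hg.inv 5).symm
  have j6 : (e 6)⁻¹ = e 5 := (hg.inv 6).symm
  have j7 : (e 7)⁻¹ = e 8 := (hg.inv 7).symm
  have j8 : (e 8)⁻¹ = e 7 := (hg.inv 8).symm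
  have r0 : e 1 * (e 1 * 1) = 1 := hR [1, 1] (List.mem_of_elem_eq_true (by decide))
  have r1 : e 2 * (e 2 * 1) = 1 := hR [2, 2] (List.mem_of_elem_eq_true (by decide))
  have r2 : e 3 * (e 3 * 1) = 1 := hR [3, 3] (List.mem_of_elem_eq_true (by decide))
  have r3 : e 4 * (e 4 * 1) = 1 := hR [4, 4] (List.mem_of_elem_eq_true (by decide))
  have r4 : e 5 * (e 5 * (e 5 * 1)) = 1 := hR [5, 5, 5] (List.mem_of_elem_eq_true (by decide))
  have r5 : e 5 * (e 4 * (e 5 * (e 4 * (e 5 * (e 4 * 1))))) = 1 := hR [5, 4, 5, 4, 5, 4] (List.mem_of_elem_eq_true (by decide))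
  have r6 : e 3 * (e 1 * (e 3 * (e 1 * 1))) = 1 := hR [3, 1, 3, 1] (List.mem_of_elem_eq_true (by decide))
  have r7 : e 3 * (e 2 * (e 3 * (e 2 * 1))) = 1 := hR [3, 2, 3, 2] (List.mem_of_elem_eq_true (by decide))
  have r8 : e 3 * (e 4 * (e 3 * (e 4 * 1))) = 1 := hR [3, 4, 3, 4] (List.mem_of_elem_eq_true (by decide))
  have r9 : e 3 * (e 5 * (e 3 * (e 6 * 1))) = 1 := hR [3, 5, 3, 6] (List.mem_of_elem_eq_true (by decide))
  have r10 : e 1 * (e 2 * (e 1 * (e 2 * (e 3 * 1)))) = 1 := hR [1, 2, 1, 2, 3] (List.mem_of_elem_eq_true (by decide))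
  have r11 : e 5 * (e 1 * (e 6 * (e 1 * 1))) = 1 := hR [5, 1, 6, 1] (List.mem_of_elem_eq_true (by decide))
  have r12 : e 5 * (e 2 * (e 6 * (e 2 * 1))) = 1 := hR [5, 2, 6, 2] (List.mem_of_elem_eq_true (by decide))
  have r13 : e 4 * (e 1 * (e 4 * (e 1 * 1))) = 1 := hR [4, 1, 4, 1] (List.mem_of_elem_eq_true (by decide))
  have r14 : e 2 * (e 4 * (e 2 * (e 4 * (e 2 * (e 4 * (e 2 * (e 4 * (e 3 * 1)))))))) = 1 := hR [2, 4, 2, 4, 2, 4, 2, 4, 3] (List.mem_of_elem_eq_true (by decide))
  have r15 : e 1 * (e 4 * (e 2 * (e 4 * (e 2 * (e 6 * (e 4 * (e 2 * (e 4 * (e 5 * (e 5 * (e 4 * (e 2 * (e 4 * (e 6 * 1)))))))))))))) = 1 := hR [1, 4, 2, 4, 2, 6, 4, 2, 4, 5, 5, 4, 2, 4, 6] (List.mem_of_elem_eq_true (by decide))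
  have r16 : e 7 * (e 7 * (e 7 * 1)) = 1 := hR [7, 7, 7] (List.mem_of_elem_eq_true (by decide))
  have r17 : e 7 * (e 5 * (e 8 * (e 6 * 1))) = 1 := hR [7, 5, 8, 6] (List.mem_of_elem_eq_true (by decide))
  have r18 : e 7 * (e 4 * (e 8 * (e 4 * 1))) = 1 := hR [7, 4, 8, 4] (List.mem_of_elem_eq_true (by decide))
  have r19 : e 7 * (e 3 * (e 8 * (e 1 * 1))) = 1 := hR [7, 3, 8, 1] (List.mem_of_elem_eq_true (by decide))
  have r20 : e 7 * (e 1 * (e 8 * (e 3 * (e 1 * 1)))) = 1 := hR [7, 1, 8, 3, 1] (List.mem_of_elem_eq_true (by decide))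
  have r21 : e 2 * (e 7 * (e 2 * (e 7 * (e 6 * (e 6 * (e 3 * (e 1 * 1))))))) = 1 := hR [2, 7, 2, 7, 6, 6, 3, 1] (List.mem_of_elem_eq_true (by decide))
  exact ⟨⟨⟨mul_inv_eq_one.mp (by simpa only [mul_inv_rev, mul_assoc, mul_one, one_mul, inv_one, pow_succ, pow_zero, j1, j2, j3, j4, j5, j6, j7, j8] using r0),
    mul_inv_eq_one.mp (by simpa only [mul_inv_rev, mul_assoc, mul_one, one_mul, inv_one, pow_succ, pow_zero, j1, j2, j3, j4, j5, j6, j7, j8] using r1),
    mul_inv_eq_one.mp (by simpa only [mul_inv_rev, mul_assoc, mul_one, one_mul, inv_one, pow_succ, pow_zero, j1, j2, j3, j4, j5, j6, j7, j8] using r2),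
    mul_inv_eq_one.mp (by simpa only [mul_inv_rev, mul_assoc, mul_one, one_mul, inv_one, pow_succ, pow_zero, j1, j2, j3, j4, j5, j6, j7, j8] using r3),
    mul_inv_eq_one.mp (by simpa only [mul_inv_rev, mul_assoc, mul_one, one_mul, inv_one, pow_succ, pow_zero, j1, j2, j3, j4, j5, j6, j7, j8] using r4),
    mul_inv_eq_one.mp (by simpa only [mul_inv_rev, mul_assoc, mul_one, one_mul, inv_one, pow_succ, pow_zero, j1, j2, j3, j4, j5, j6, j7, j8] using r5),
    mul_inv_eq_one.mp (by simpa only [mul_inv_rev, mul_assoc, mul_one, one_mul, inv_one, pow_succ, pow_zero, j1, j2, j3, j4, j5, j6, j7, j8] using r6),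
    mul_inv_eq_one.mp (by simpa only [mul_inv_rev, mul_assoc, mul_one, one_mul, inv_one, pow_succ, pow_zero, j1, j2, j3, j4, j5, j6, j7, j8] using r7),
    mul_inv_eq_one.mp (by simpa only [mul_inv_rev, mul_assoc, mul_one, one_mul, inv_one, pow_succ, pow_zero, j1, j2, j3, j4, j5, j6, j7, j8] using r8),
    mul_inv_eq_one.mp (by simpa only [mul_inv_rev, mul_assoc, mul_one, one_mul, inv_one, pow_succ, pow_zero, j1, j2, j3, j4, j5, j6, j7, j8] using r9),
    mul_inv_eq_one.mp (by simpa only [mul_inv_rev, mul_assoc, mul_one, one_mul, inv_one, pow_succ, pow_zero, j1, j2, j3, j4, j5, j6, j7, j8] using r10),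
    mul_inv_eq_one.mp (by simpa only [mul_inv_rev, mul_assoc, mul_one, one_mul, inv_one, pow_succ, pow_zero, j1, j2, j3, j4, j5, j6, j7, j8] using r11),
    mul_inv_eq_one.mp (by simpa only [mul_inv_rev, mul_assoc, mul_one, one_mul, inv_one, pow_succ, pow_zero, j1, j2, j3, j4, j5, j6, j7, j8] using r12),
    mul_inv_eq_one.mp (by simpa only [mul_inv_rev, mul_assoc, mul_one, one_mul, inv_one, pow_succ, pow_zero, j1, j2, j3, j4, j5, j6, j7, j8] using r13),
    mul_inv_eq_one.mp (by simpa only [mul_inv_rev, mul_assoc, mul_one, one_mul, inv_one, pow_succ, pow_zero, j1, j2, j3, j4, j5, j6, j7, j8] using r14),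
    mul_inv_eq_one.mp (by simpa only [mul_inv_rev, mul_assoc, mul_one, one_mul, inv_one, pow_succ, pow_zero, j1, j2, j3, j4, j5, j6, j7, j8] using r15)⟩,
    mul_inv_eq_one.mp (by simpa only [mul_inv_rev, mul_assoc, mul_one, one_mul, inv_one, pow_succ, pow_zero, j1, j2, j3, j4, j5, j6, j7, j8] using r16),
    mul_inv_eq_one.mp (by simpa only [mul_inv_rev, mul_assoc, mul_one, one_mul, inv_one, pow_succ, pow_zero, j1, j2, j3, j4, j5, j6, j7, j8] using r17),
    mul_inv_eq_one.mp (by simpa only [mul_inv_rev, mul_assoc, mul_one, one_mul, inv_one, pow_succ, pow_zero, j1, j2, j3, j4, j5, j6, j7, j8] using r18),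
    mul_inv_eq_one.mp (by simpa only [mul_inv_rev, mul_assoc, mul_one, one_mul, inv_one, pow_succ, pow_zero, j1, j2, j3, j4, j5, j6, j7, j8] using r19),
    mul_inv_eq_one.mp (by simpa only [mul_inv_rev, mul_assoc, mul_one, one_mul, inv_one, pow_succ, pow_zero, j1, j2, j3, j4, j5, j6, j7, j8] using r20)⟩,
    mul_inv_eq_one.mp (by simpa only [mul_inv_rev, mul_assoc, mul_one, one_mul, inv_one, pow_succ, pow_zero, j1, j2, j3, j4, j5, j6, j7, j8] using r21)⟩

theorem gen_top : gen (pgEv 129705083257453936896 R) [[1], [2], [3], [4], [5], [7]] = ⊤ := pg_gen (n := 9) (by norm_num) (by decide)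
namespace c

noncomputable def get (y : ℕ) : ℕ := (sel (nat_lit 1) y (nat_lit 0x0) (nat_lit 0xa00000000000009000000000000030000000000000300000000000000000001000000000000000000010000000d0000070000000700000d00000019000020000000200000190700002100001908000019000021060000130000210500002100001307000012000021080000210000120200000d0000200200002000000d0100001800001f0100001f0000180500001300001f0600001f0000130300001800001f0300001f0000180200000c00001f0200001f00000c07000019000012080000120000190200001300001c0200001c0000130300001c0000140300001400001c0100001c00001c0100001c00001c0100001e00001e0100001e00001e0100000b0000050100000500000b0100000a0000040100000400000a0000000f00000b0000000b00000f0000000e00000a0000000a00000e00000002000001000000010000020300000c0000060300000600000c0100000c00000c0100000c00000c0000000c0000100000001000000c00000006000017000000170000060700001b0000180800001800001b0500001e00001c0600001c00001e0800000b00001e0700001e00000b0700001d00001c0800001c00001d0100001500001d0100001d0000150700000a00001d0800001d00000a050000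1c00000c0600000c00001c0800000a00001c0700001c00000a0500001b00001a0600001a00001b0200000b00001b0200001b00000b0500000900001b0600001b0000090600000900001a0500001a0000090200000700001902000019000007020000060000180200001800000608000008000017070000170000080300000c0000170300001700000c0100000600001701000017000006050000160000140600001400001605000006000016060000160000060800000500001607000016000005070000150000140800001400001507000004000015080000150000040800000400001407000014000004070000030000130800001300000302000004000012020000120000040600000300001205000012000003020000080000110200001100000801000003000011010000110000030100000c0000100100001000000c030000060000100300001000000608000002000010070000100000020100000500000f0100000f0000050500000200000f0600000f0000020100000400000e0100000e0000040600000200000e0500000e0000020700000d00000c0800000c00000d0700000100000d0800000d0000010800000100000c0700000c0000010500000b00000a0600000a00000b0300000500000b0300000b0000050500000100000b0600000b0000010300000400000a0300000a0000040600000100000a0500000a000001030000030000090300000900000302000001000009020000090000010300000200000803000008000002010000010000080100000800000107000000000007080000070000000800000000000607000006000000050000050000040600000400000505000000000005060000050000000600000000000405000004000000020000000000030200000300000001000000000002010000020000000300000000000103000001000000))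
noncomputable def gs (y : ℕ) : ℕ := (sel (nat_lit 3) y (sel (nat_lit 1) y (nat_lit 0x0) (sel (nat_lit 2) y (nat_lit 0x0) (nat_lit 0x0))) (sel (nat_lit 5) y (sel (nat_lit 4) y (nat_lit 0x0) (nat_lit 0x8000000800000c000023a000020400002078000000800000b00002360000217000021400002118000000800000a0000230000020200002010000223800000900002300000202000020d80000008000008000022c000020200002098000000800000700002280000202000020780000008000006000022200002258000000800000080000010000218000021d8000005000021c0000200000020980000008000004000021800002000000207800000080000030000214000020000002058000000800000200002100000200000020380000008000000800000080000010000206000020980000008000000800000080000008000000)) (sel (nat_lit 6) y (nat_lit 0x8000014000022f000027b8000014000022b00002798000018000021c0000276000022d8000017000021800002760000229800001600002230000271000023080000150000233000027080000140000235000027080000130000232000026f000024e800001200002500000239000023600002170000257000025c000026d000025280000110000252000024d000024e0000260000026a0000268000025b800000d000025e0000220000026980000008000006000025e000026380000100000262000021a00002438000000800000d00002220000219000025f8000000800000100002560000259800000f00002580000214000021d8000000800000080000008000000800000e000024c000020c000020300002138000002000024c000023300002348000000800000d0000240000020a0000247800000d00002460000208000020d800000080000060000240000024380000008000000)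 (nat_lit 0x80000228000022800002280000228000022800002280000228000022800002280000228000022800002280000228000022800002100002a180000150000201000029f8000020000020f000029c0000224800001f0000255000029b0000292800001e00002920000227000028b0000290000028d000028e00002970000299800000600002890000295800001d0000294000023a000023f80000008000000800001c000028a000027200002750000253800001b000028a000026000002868000003000028a0000275000025380000008000011000023c000027c000021a000020a0000208000020f0000255800001a00002830000285000024a0000248000020c0000205000023f800001900002440000265000026700002838000008000026a0000281000026b800000a0000268000027f000021f0000269))))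
noncomputable def gd (y : ℕ) : ℕ := (nat_lit 0x2940000292000028a00002680000262000025e0000258000025600002540000252000024c000024600002420000240000023e000023a00002360000230000022c000022800002240000222000021c000021800002140000210000020e000020c000020800002060000204000020200002000000000)
noncomputable def gwh_0 (y : ℕ) : ℕ := (sel (nat_lit 8) y (sel (nat_lit 4) y (sel (nat_lit 2) y (sel (nat_lit 1) y (nat_lit 0x50505000000003000) (nat_lit 0x1030103000003001001)) (sel (nat_lit 3) y (nat_lit 0x2030203000003001002) (nat_lit 0x6030503000003001003))) (sel (nat_lit 6) y (sel (nat_lit 5) y (nat_lit 0x5030603000001003003) (nat_lit 0x70707000000003004)) (sel (nat_lit 7) y (nat_lit 0x6010501000002002005) (nat_lit 0x5010601000000004005)))) (sel (nat_lit 12) y (sel (nat_lit 10) y (sel (nat_lit 9) y (nat_lit 0x8010703000002002006) (nat_lit 0x803010701000002003007)) (sel (nat_lit 11) y (nat_lit 0x102030102000002003008) (nat_lit 0x6020502000002002009))) (sel (nat_lit 14) y (sel (nat_lit 13) y (nat_lit 0x806070500000200200a) (nat_lit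 0x301070108000003002007)) (sel (nat_lit 15) y (nat_lit 0x5020602000000004009) (nat_lit 0x7030801000000004006)))))
noncomputable def gwh_1 (y : ℕ) : ℕ := (sel (nat_lit 24) y (sel (nat_lit 20) y (sel (nat_lit 18) y (sel (nat_lit 17) y (nat_lit 0x20706060301020700000200600b) (nat_lit 0x2070606030102070000100200600b)) (sel (nat_lit 19) y (nat_lit 0x300030000100000300c) (nat_lit 0x10100000000200d))) (sel (nat_lit 22) y (sel (nat_lit 21) y (nat_lit 0x30300000000200e) (nat_lit 0x700080000100000300f)) (sel (nat_lit 23) y (nat_lit 0x6000500001000003010) (nat_lit 0x5000600001000003011)))) (sel (nat_lit 28) y (sel (nat_lit 26) y (sel (nat_lit 25) y (nat_lit 0x107010803000004001007) (nat_lit 0x70207060603010200000100700b)) (sel (nat_lit 27) y (nat_lit 0x2060205000001003009) (nat_lit 0x203010201000003002008))) (sel (nat_lit 30) y (sel (nat_lit 29) y (nat_lit 0x705080600000000400a) (nat_lit 0x7060603010207020000100300500b)) (sel (nat_lit 31) y (nat_lit 0x2000200001000003012) (nat_lit 0x8000700001000003013)))))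
noncomputable def gwh_2 (y : ℕ) : ℕ := (nat_lit 0x30a000000002014)
noncomputable def gwh (y : ℕ) : ℕ := (sel (nat_lit 16) y (gwh_0 y) (sel (nat_lit 32) y (gwh_1 y) (gwh_2 y)))
def sg : List (List ℕ) := [[], [1], [2], [3], [4], [5], [6], [7], [8], [3], [3]]
def BL : List ℕ := [0x50505, 0x3010301, 0x3020302, 0x3050306, 0x70707, 0x5010601, 0x7030801, 0x701080301, 0x102010203, 0x5020602, 0x7050806, 0x207020706060301, 0x30003, 0x101, 0x303, 0x70008, 0x60005, 0x50006, 0x20002, 0x80007, 0x30a]
def Sub : List (List ℕ) := []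
theorem hA : prepA 129705083257453936896 PX32c.R sg 10927685746443616478429440 BL Sub get gd = true := by decide +kernel
theorem hw : allR (okW BL gwh) 0 33 = true := by decide +kernel
theorem b0 : allR (blk get gs (gwB gwh 33) gd 10927685746443616478429440) 4 3 = true := by decide +kernel
theorem hb : ∀ b, 4 ≤ b → b < 7 → blk get gs (gwB gwh 33) gd 10927685746443616478429440 b = true :=
  (allR_range b0 (by norm_num : 4 + 3 = 7))
def TL : List (ℕ × List ℕ) := [(418, [3])]
theorem hM : prepM sg get 7 TL = true := by decide +kernel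
theorem mem {G : Type*} [Group G] {ev : ℕ → G} (hev : Good ev 129705083257453936896) (hR : Rels ev PX32c.R) :
    ∀ w ∈ TL.map Prod.snd, evL ev w ∈ gen ev Sub :=
  cert_mem hev hR hA hM hw hb

end c

theorem res {G : Type*} [Group G] {a b z w t x : G} (H : Rel a b z w t x) : z = 1 := by
  have i_a : a⁻¹ = a := inv_eq_of_mul_eq_one_right H.hX.hN.aa
  have i_b : b⁻¹ = b := inv_eq_of_mul_eq_one_right H.hX.hN.bb
  have i_z : z⁻¹ = z := inv_eq_of_mul_eq_one_right H.hX.hN.zz
  have i_w : w⁻¹ = w := inv_eq_of_mul_eq_one_right H.hX.hN.ww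
  have h : z * 1 = 1 := rels_of_mem_nil (c.mem (good H) (rels H)) [3] (List.mem_of_elem_eq_true (by decide))
  exact mul_inv_eq_one.mp (by simpa only [mul_inv_rev, inv_inv, mul_assoc, mul_one, one_mul, inv_one, pow_succ, pow_zero, i_a, i_b, i_z, i_w] using h)

end PX32c

namespace PJ1

structure Rel {G : Type*} [Group G] (a b z w t r x u : G) : Prop where
  hC : PC2.Rel a b z w t r
  x3 : x ^ 3 = 1
  xt : x * t = t * x
  xw : x * w = w * x
  xz : x * z * x⁻¹ = a
  xa : x * a * x⁻¹ = a * z
  bx : (b * x) ^ 2 = t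
  uu : u * u = 1
  ux : u * x * u = x⁻¹
  uz : (u * z) ^ 3 = 1
  uw : u * w = w * u
  ut : u * t = t * u
  rr : z * x⁻¹ * u * x * r = r * (z * x⁻¹ * u * x)

def R : List (List ℕ) := [[1, 1], [2, 2], [3, 3], [4, 4], [5, 5, 5], [5, 4, 5, 4, 5, 4], [3, 1, 3, 1], [3, 2, 3, 2], [3, 4, 3, 4], [3, 5, 3, 6], [1, 2, 1, 2, 3], [5, 1, 6, 1], [5, 2, 6, 2], [4, 1, 4, 1], [2, 4, 2, 4, 2, 4, 2, 4, 3], [1, 4, 2, 4, 2, 6, 4, 2, 4, 5, 5, 4, 2, 4, 6], [7, 7, 7, 7, 7], [7, 5, 7, 5], [3, 7, 3, 8], [7, 7, 1, 8, 8, 2], [4, 7, 6, 8, 8], [9, 9, 9], [9, 5, 10, 6], [9, 4, 10, 4], [9, 3, 10, 1], [9, 1, 10, 3, 1], [2, 9, 2, 9, 6], [11, 11], [11, 9, 11, 9], [11, 3, 11, 3, 11, 3], [11, 4, 11, 4], [11, 5, 11, 6], [3, 10, 11, 9, 7, 10, 11, 9, 3, 8]]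

def ev {G : Type*} [Group G] (a b z w t r x u : G) (l : ℕ) : G := [1, a, b, z, w, t, t⁻¹, r, r⁻¹, x, x⁻¹, u].getD l 1

theorem good {G : Type*} [Group G] {a b z w t r x u : G} (H : Rel a b z w t r x u) : Good (ev a b z w t r x u) 3415262793781239372451021056 := by
  have i_a : a⁻¹ = a := inv_eq_of_mul_eq_one_right H.hC.hN.aa
  have i_b : b⁻¹ = b := inv_eq_of_mul_eq_one_right H.hC.hN.bb
  have i_z : z⁻¹ = z := inv_eq_of_mul_eq_one_right H.hC.hN.zz
  have i_w : w⁻¹ = w := inv_eq_of_mul_eq_one_right H.hC.hN.ww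
  have i_u : u⁻¹ = u := inv_eq_of_mul_eq_one_right H.uu
  refine good_list (n := 12) rfl (by norm_num) rfl fun l hl => ?_
  interval_cases l
  · exact inv_one.symm
  · exact i_a.symm
  · exact i_b.symm
  · exact i_z.symm
  · exact i_w.symm
  · rfl
  · exact (inv_inv _).symm
  · rfl
  · exact (inv_inv _).symm
  · rfl
  · exact (inv_inv _).symm
  · exact i_u.symm

theorem rels {G : Type*} [Group G] {a b z w t r x u : G} (H : Rel a b z w t r x u) : Rels (ev a b z w t r x u) R := by
  have i_a : a⁻¹ = a := inv_eq_of_mul_eq_one_right H.hC.hN.aa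
  have i_b : b⁻¹ = b := inv_eq_of_mul_eq_one_right H.hC.hN.bb
  have i_z : z⁻¹ = z := inv_eq_of_mul_eq_one_right H.hC.hN.zz
  have i_w : w⁻¹ = w := inv_eq_of_mul_eq_one_right H.hC.hN.ww
  have i_u : u⁻¹ = u := inv_eq_of_mul_eq_one_right H.uu
  unfold R
  refine Rels.cons ?_ ?_
  · show a * (a * 1) = 1
    simpa only [mul_inv_rev, inv_inv, mul_assoc, mul_one, one_mul, inv_one, pow_succ, pow_zero, i_a, i_b, i_z, i_w, i_u] using mul_inv_eq_one.mpr H.hC.hN.aa
  refine Rels.cons ?_ ?_
  · show b * (b * 1) = 1
    simpa only [mul_inv_rev, inv_inv, mul_assoc, mul_one, one_mul, inv_one, pow_succ, pow_zero, i_a, i_b, i_z, i_w, i_u] using mul_inv_eq_one.mpr H.hC.hN.bb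
  refine Rels.cons ?_ ?_
  · show z * (z * 1) = 1
    simpa only [mul_inv_rev, inv_inv, mul_assoc, mul_one, one_mul, inv_one, pow_succ, pow_zero, i_a, i_b, i_z, i_w, i_u] using mul_inv_eq_one.mpr H.hC.hN.zz
  refine Rels.cons ?_ ?_
  · show w * (w * 1) = 1
    simpa only [mul_inv_rev, inv_inv, mul_assoc, mul_one, one_mul, inv_one, pow_succ, pow_zero, i_a, i_b, i_z, i_w, i_u] using mul_inv_eq_one.mpr H.hC.hN.ww
  refine Rels.cons ?_ ?_
  · show t * (t * (t * 1)) = 1
    simpa only [mul_inv_rev, inv_inv, mul_assoc, mul_one, one_mul, inv_one, pow_succ, pow_zero, i_a, i_b, i_z, i_w, i_u] using mul_inv_eq_one.mpr H.hC.hN.t3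
  refine Rels.cons ?_ ?_
  · show t * (w * (t * (w * (t * (w * 1))))) = 1
    simpa only [mul_inv_rev, inv_inv, mul_assoc, mul_one, one_mul, inv_one, pow_succ, pow_zero, i_a, i_b, i_z, i_w, i_u] using mul_inv_eq_one.mpr H.hC.hN.tw
  refine Rels.cons ?_ ?_
  · show z * (a * (z * (a * 1))) = 1
    simpa only [mul_inv_rev, inv_inv, mul_assoc, mul_one, one_mul, inv_one, pow_succ, pow_zero, i_a, i_b, i_z, i_w, i_u] using mul_inv_eq_one.mpr H.hC.hN.za
  refine Rels.cons ?_ ?_
  · show z * (b * (z * (b * 1))) = 1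
    simpa only [mul_inv_rev, inv_inv, mul_assoc, mul_one, one_mul, inv_one, pow_succ, pow_zero, i_a, i_b, i_z, i_w, i_u] using mul_inv_eq_one.mpr H.hC.hN.zb
  refine Rels.cons ?_ ?_
  · show z * (w * (z * (w * 1))) = 1
    simpa only [mul_inv_rev, inv_inv, mul_assoc, mul_one, one_mul, inv_one, pow_succ, pow_zero, i_a, i_b, i_z, i_w, i_u] using mul_inv_eq_one.mpr H.hC.hN.zw
  refine Rels.cons ?_ ?_
  · show z * (t * (z * (t⁻¹ * 1))) = 1
    simpa only [mul_inv_rev, inv_inv, mul_assoc, mul_one, one_mul, inv_one, pow_succ, pow_zero, i_a, i_b, i_z, i_w, i_u] using mul_inv_eq_one.mpr H.hC.hN.zt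
  refine Rels.cons ?_ ?_
  · show a * (b * (a * (b * (z * 1)))) = 1
    simpa only [mul_inv_rev, inv_inv, mul_assoc, mul_one, one_mul, inv_one, pow_succ, pow_zero, i_a, i_b, i_z, i_w, i_u] using mul_inv_eq_one.mpr H.hC.hN.ab
  refine Rels.cons ?_ ?_
  · show t * (a * (t⁻¹ * (a * 1))) = 1
    simpa only [mul_inv_rev, inv_inv, mul_assoc, mul_one, one_mul, inv_one, pow_succ, pow_zero, i_a, i_b, i_z, i_w, i_u] using mul_inv_eq_one.mpr H.hC.hN.ta
  refine Rels.cons ?_ ?_
  · show t * (b * (t⁻¹ * (b * 1))) = 1
    simpa only [mul_inv_rev, inv_inv, mul_assoc, mul_one, one_mul, inv_one, pow_succ, pow_zero, i_a, i_b, i_z, i_w, i_u] using mul_inv_eq_one.mpr H.hC.hN.tb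
  refine Rels.cons ?_ ?_
  · show w * (a * (w * (a * 1))) = 1
    simpa only [mul_inv_rev, inv_inv, mul_assoc, mul_one, one_mul, inv_one, pow_succ, pow_zero, i_a, i_b, i_z, i_w, i_u] using mul_inv_eq_one.mpr H.hC.hN.wa
  refine Rels.cons ?_ ?_
  · show b * (w * (b * (w * (b * (w * (b * (w * (z * 1)))))))) = 1
    simpa only [mul_inv_rev, inv_inv, mul_assoc, mul_one, one_mul, inv_one, pow_succ, pow_zero, i_a, i_b, i_z, i_w, i_u] using mul_inv_eq_one.mpr H.hC.hN.bw
  refine Rels.cons ?_ ?_
  · show a * (w * (b * (w * (b * (t⁻¹ * (w * (b * (w * (t * (t * (w * (b * (w * (t⁻¹ * 1)))))))))))))) = 1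
    simpa only [mul_inv_rev, inv_inv, mul_assoc, mul_one, one_mul, inv_one, pow_succ, pow_zero, i_a, i_b, i_z, i_w, i_u] using mul_inv_eq_one.mpr H.hC.hN.pr
  refine Rels.cons ?_ ?_
  · show r * (r * (r * (r * (r * 1)))) = 1
    simpa only [mul_inv_rev, inv_inv, mul_assoc, mul_one, one_mul, inv_one, pow_succ, pow_zero, i_a, i_b, i_z, i_w, i_u] using mul_inv_eq_one.mpr H.hC.r5
  refine Rels.cons ?_ ?_
  · show r * (t * (r * (t * 1))) = 1
    simpa only [mul_inv_rev, inv_inv, mul_assoc, mul_one, one_mul, inv_one, pow_succ, pow_zero, i_a, i_b, i_z, i_w, i_u] using mul_inv_eq_one.mpr H.hC.rt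
  refine Rels.cons ?_ ?_
  · show z * (r * (z * (r⁻¹ * 1))) = 1
    simpa only [mul_inv_rev, inv_inv, mul_assoc, mul_one, one_mul, inv_one, pow_succ, pow_zero, i_a, i_b, i_z, i_w, i_u] using mul_inv_eq_one.mpr H.hC.zr
  refine Rels.cons ?_ ?_
  · show r * (r * (a * (r⁻¹ * (r⁻¹ * (b * 1))))) = 1
    simpa only [mul_inv_rev, inv_inv, mul_assoc, mul_one, one_mul, inv_one, pow_succ, pow_zero, i_a, i_b, i_z, i_w, i_u] using mul_inv_eq_one.mpr H.hC.rb
  refine Rels.cons ?_ ?_
  · show w * (r * (t⁻¹ * (r⁻¹ * (r⁻¹ * 1)))) = 1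
    simpa only [mul_inv_rev, inv_inv, mul_assoc, mul_one, one_mul, inv_one, pow_succ, pow_zero, i_a, i_b, i_z, i_w, i_u] using mul_inv_eq_one.mpr H.hC.rw
  refine Rels.cons ?_ ?_
  · show x * (x * (x * 1)) = 1
    simpa only [mul_inv_rev, inv_inv, mul_assoc, mul_one, one_mul, inv_one, pow_succ, pow_zero, i_a, i_b, i_z, i_w, i_u] using mul_inv_eq_one.mpr H.x3
  refine Rels.cons ?_ ?_
  · show x * (t * (x⁻¹ * (t⁻¹ * 1))) = 1
    simpa only [mul_inv_rev, inv_inv, mul_assoc, mul_one, one_mul, inv_one, pow_succ, pow_zero, i_a, i_b, i_z, i_w, i_u] using mul_inv_eq_one.mpr H.xt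
  refine Rels.cons ?_ ?_
  · show x * (w * (x⁻¹ * (w * 1))) = 1
    simpa only [mul_inv_rev, inv_inv, mul_assoc, mul_one, one_mul, inv_one, pow_succ, pow_zero, i_a, i_b, i_z, i_w, i_u] using mul_inv_eq_one.mpr H.xw
  refine Rels.cons ?_ ?_
  · show x * (z * (x⁻¹ * (a * 1))) = 1
    simpa only [mul_inv_rev, inv_inv, mul_assoc, mul_one, one_mul, inv_one, pow_succ, pow_zero, i_a, i_b, i_z, i_w, i_u] using mul_inv_eq_one.mpr H.xz
  refine Rels.cons ?_ ?_
  · show x * (a * (x⁻¹ * (z * (a * 1)))) = 1
    simpa only [mul_inv_rev, inv_inv, mul_assoc, mul_one, one_mul, inv_one, pow_succ, pow_zero, i_a, i_b, i_z, i_w, i_u] using mul_inv_eq_one.mpr H.xa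
  refine Rels.cons ?_ ?_
  · show b * (x * (b * (x * (t⁻¹ * 1)))) = 1
    simpa only [mul_inv_rev, inv_inv, mul_assoc, mul_one, one_mul, inv_one, pow_succ, pow_zero, i_a, i_b, i_z, i_w, i_u] using mul_inv_eq_one.mpr H.bx
  refine Rels.cons ?_ ?_
  · show u * (u * 1) = 1
    simpa only [mul_inv_rev, inv_inv, mul_assoc, mul_one, one_mul, inv_one, pow_succ, pow_zero, i_a, i_b, i_z, i_w, i_u] using mul_inv_eq_one.mpr H.uu
  refine Rels.cons ?_ ?_
  · show u * (x * (u * (x * 1))) = 1
    simpa only [mul_inv_rev, inv_inv, mul_assoc, mul_one, one_mul, inv_one, pow_succ, pow_zero, i_a, i_b, i_z, i_w, i_u] using mul_inv_eq_one.mpr H.ux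
  refine Rels.cons ?_ ?_
  · show u * (z * (u * (z * (u * (z * 1))))) = 1
    simpa only [mul_inv_rev, inv_inv, mul_assoc, mul_one, one_mul, inv_one, pow_succ, pow_zero, i_a, i_b, i_z, i_w, i_u] using mul_inv_eq_one.mpr H.uz
  refine Rels.cons ?_ ?_
  · show u * (w * (u * (w * 1))) = 1
    simpa only [mul_inv_rev, inv_inv, mul_assoc, mul_one, one_mul, inv_one, pow_succ, pow_zero, i_a, i_b, i_z, i_w, i_u] using mul_inv_eq_one.mpr H.uw
  refine Rels.cons ?_ ?_
  · show u * (t * (u * (t⁻¹ * 1))) = 1
    simpa only [mul_inv_rev, inv_inv, mul_assoc, mul_one, one_mul, inv_one, pow_succ, pow_zero, i_a, i_b, i_z, i_w, i_u] using mul_inv_eq_one.mpr H.ut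
  refine Rels.cons ?_ ?_
  · show z * (x⁻¹ * (u * (x * (r * (x⁻¹ * (u * (x * (z * (r⁻¹ * 1))))))))) = 1
    simpa only [mul_inv_rev, inv_inv, mul_assoc, mul_one, one_mul, inv_one, pow_succ, pow_zero, i_a, i_b, i_z, i_w, i_u] using mul_inv_eq_one.mpr H.rr
  intro r hr
  exact absurd hr List.not_mem_nil

/-- The relations hold for the letters of any assignment satisfying the relators. -/
theorem rel_of {G : Type*} [Group G] {e : ℕ → G} (hg : Good e 3415262793781239372451021056) (hR : Rels e R) :
    Rel (e 1) (e 2) (e 3) (e 4) (e 5) (e 7) (e 9) (e 11) := by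
  have j1 : (e 1)⁻¹ = e 1 := (hg.inv 1).symm
  have j2 : (e 2)⁻¹ = e 2 := (hg.inv 2).symm
  have j3 : (e 3)⁻¹ = e 3 := (hg.inv 3).symm
  have j4 : (e 4)⁻¹ = e 4 := (hg.inv 4).symm
  have j5 : (e 5)⁻¹ = e 6 := (hg.inv 5).symm
  have j6 : (e 6)⁻¹ = e 5 := (hg.inv 6).symm
  have j7 : (e 7)⁻¹ = e 8 := (hg.inv 7).symm
  have j8 : (e 8)⁻¹ = e 7 := (hg.inv 8).symm
  have j9 : (e 9)⁻¹ = e 10 := (hg.inv 9).symm
  have j10 : (e 10)⁻¹ = e 9 := (hg.inv 10).symm
  have j11 : (e 11)⁻¹ = e 11 := (hg.inv 11).symm
  have r0 : e 1 * (e 1 * 1) = 1 := hR [1, 1] (List.mem_of_elem_eq_true (by decide))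
  have r1 : e 2 * (e 2 * 1) = 1 := hR [2, 2] (List.mem_of_elem_eq_true (by decide))
  have r2 : e 3 * (e 3 * 1) = 1 := hR [3, 3] (List.mem_of_elem_eq_true (by decide))
  have r3 : e 4 * (e 4 * 1) = 1 := hR [4, 4] (List.mem_of_elem_eq_true (by decide))
  have r4 : e 5 * (e 5 * (e 5 * 1)) = 1 := hR [5, 5, 5] (List.mem_of_elem_eq_true (by decide))
  have r5 : e 5 * (e 4 * (e 5 * (e 4 * (e 5 * (e 4 * 1))))) = 1 := hR [5, 4, 5, 4, 5, 4] (List.mem_of_elem_eq_true (by decide))
  have r6 : e 3 * (e 1 * (e 3 * (e 1 * 1))) = 1 := hR [3, 1, 3, 1] (List.mem_of_elem_eq_true (by decide))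
  have r7 : e 3 * (e 2 * (e 3 * (e 2 * 1))) = 1 := hR [3, 2, 3, 2] (List.mem_of_elem_eq_true (by decide))
  have r8 : e 3 * (e 4 * (e 3 * (e 4 * 1))) = 1 := hR [3, 4, 3, 4] (List.mem_of_elem_eq_true (by decide))
  have r9 : e 3 * (e 5 * (e 3 * (e 6 * 1))) = 1 := hR [3, 5, 3, 6] (List.mem_of_elem_eq_true (by decide))
  have r10 : e 1 * (e 2 * (e 1 * (e 2 * (e 3 * 1)))) = 1 := hR [1, 2, 1, 2, 3] (List.mem_of_elem_eq_true (by decide))
  have r11 : e 5 * (e 1 * (e 6 * (e 1 * 1))) = 1 := hR [5, 1, 6, 1] (List.mem_of_elem_eq_true (by decide))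
  have r12 : e 5 * (e 2 * (e 6 * (e 2 * 1))) = 1 := hR [5, 2, 6, 2] (List.mem_of_elem_eq_true (by decide))
  have r13 : e 4 * (e 1 * (e 4 * (e 1 * 1))) = 1 := hR [4, 1, 4, 1] (List.mem_of_elem_eq_true (by decide))
  have r14 : e 2 * (e 4 * (e 2 * (e 4 * (e 2 * (e 4 * (e 2 * (e 4 * (e 3 * 1)))))))) = 1 := hR [2, 4, 2, 4, 2, 4, 2, 4, 3] (List.mem_of_elem_eq_true (by decide))
  have r15 : e 1 * (e 4 * (e 2 * (e 4 * (e 2 * (e 6 * (e 4 * (e 2 * (e 4 * (e 5 * (e 5 * (e 4 * (e 2 * (e 4 * (e 6 * 1)))))))))))))) = 1 := hR [1, 4, 2, 4, 2, 6, 4, 2, 4, 5, 5, 4, 2, 4, 6] (List.mem_of_elem_eq_true (by decide))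
  have r16 : e 7 * (e 7 * (e 7 * (e 7 * (e 7 * 1)))) = 1 := hR [7, 7, 7, 7, 7] (List.mem_of_elem_eq_true (by decide))
  have r17 : e 7 * (e 5 * (e 7 * (e 5 * 1))) = 1 := hR [7, 5, 7, 5] (List.mem_of_elem_eq_true (by decide))
  have r18 : e 3 * (e 7 * (e 3 * (e 8 * 1))) = 1 := hR [3, 7, 3, 8] (List.mem_of_elem_eq_true (by decide))
  have r19 : e 7 * (e 7 * (e 1 * (e 8 * (e 8 * (e 2 * 1))))) = 1 := hR [7, 7, 1, 8, 8, 2] (List.mem_of_elem_eq_true (by decide))
  have r20 : e 4 * (e 7 * (e 6 * (e 8 * (e 8 * 1)))) = 1 := hR [4, 7, 6, 8, 8] (List.mem_of_elem_eq_true (by decide))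
  have r21 : e 9 * (e 9 * (e 9 * 1)) = 1 := hR [9, 9, 9] (List.mem_of_elem_eq_true (by decide))
  have r22 : e 9 * (e 5 * (e 10 * (e 6 * 1))) = 1 := hR [9, 5, 10, 6] (List.mem_of_elem_eq_true (by decide))
  have r23 : e 9 * (e 4 * (e 10 * (e 4 * 1))) = 1 := hR [9, 4, 10, 4] (List.mem_of_elem_eq_true (by decide))
  have r24 : e 9 * (e 3 * (e 10 * (e 1 * 1))) = 1 := hR [9, 3, 10, 1] (List.mem_of_elem_eq_true (by decide))
  have r25 : e 9 * (e 1 * (e 10 * (e 3 * (e 1 * 1)))) = 1 := hR [9, 1, 10, 3, 1] (List.mem_of_elem_eq_true (by decide))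
  have r26 : e 2 * (e 9 * (e 2 * (e 9 * (e 6 * 1)))) = 1 := hR [2, 9, 2, 9, 6] (List.mem_of_elem_eq_true (by decide))
  have r27 : e 11 * (e 11 * 1) = 1 := hR [11, 11] (List.mem_of_elem_eq_true (by decide))
  have r28 : e 11 * (e 9 * (e 11 * (e 9 * 1))) = 1 := hR [11, 9, 11, 9] (List.mem_of_elem_eq_true (by decide))
  have r29 : e 11 * (e 3 * (e 11 * (e 3 * (e 11 * (e 3 * 1))))) = 1 := hR [11, 3, 11, 3, 11, 3] (List.mem_of_elem_eq_true (by decide))
  have r30 : e 11 * (e 4 * (e 11 * (e 4 * 1))) = 1 := hR [11, 4, 11, 4] (List.mem_of_elem_eq_true (by decide))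
  have r31 : e 11 * (e 5 * (e 11 * (e 6 * 1))) = 1 := hR [11, 5, 11, 6] (List.mem_of_elem_eq_true (by decide))
  have r32 : e 3 * (e 10 * (e 11 * (e 9 * (e 7 * (e 10 * (e 11 * (e 9 * (e 3 * (e 8 * 1))))))))) = 1 := hR [3, 10, 11, 9, 7, 10, 11, 9, 3, 8] (List.mem_of_elem_eq_true (by decide))
  exact ⟨⟨⟨mul_inv_eq_one.mp (by simpa only [mul_inv_rev, mul_assoc, mul_one, one_mul, inv_one, pow_succ, pow_zero, j1, j2, j3, j4, j5, j6, j7, j8, j9, j10, j11] using r0),
    mul_inv_eq_one.mp (by simpa only [mul_inv_rev, mul_assoc, mul_one, one_mul, inv_one, pow_succ, pow_zero, j1, j2, j3, j4, j5, j6, j7, j8, j9, j10, j11] using r1),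
    mul_inv_eq_one.mp (by simpa only [mul_inv_rev, mul_assoc, mul_one, one_mul, inv_one, pow_succ, pow_zero, j1, j2, j3, j4, j5, j6, j7, j8, j9, j10, j11] using r2),
    mul_inv_eq_one.mp (by simpa only [mul_inv_rev, mul_assoc, mul_one, one_mul, inv_one, pow_succ, pow_zero, j1, j2, j3, j4, j5, j6, j7, j8, j9, j10, j11] using r3),
    mul_inv_eq_one.mp (by simpa only [mul_inv_rev, mul_assoc, mul_one, one_mul, inv_one, pow_succ, pow_zero, j1, j2, j3, j4, j5, j6, j7, j8, j9, j10, j11] using r4),
    mul_inv_eq_one.mp (by simpa only [mul_inv_rev, mul_assoc, mul_one, one_mul, inv_one, pow_succ, pow_zero, j1, j2, j3, j4, j5, j6, j7, j8, j9, j10, j11] using r5),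
    mul_inv_eq_one.mp (by simpa only [mul_inv_rev, mul_assoc, mul_one, one_mul, inv_one, pow_succ, pow_zero, j1, j2, j3, j4, j5, j6, j7, j8, j9, j10, j11] using r6),
    mul_inv_eq_one.mp (by simpa only [mul_inv_rev, mul_assoc, mul_one, one_mul, inv_one, pow_succ, pow_zero, j1, j2, j3, j4, j5, j6, j7, j8, j9, j10, j11] using r7),
    mul_inv_eq_one.mp (by simpa only [mul_inv_rev, mul_assoc, mul_one, one_mul, inv_one, pow_succ, pow_zero, j1, j2, j3, j4, j5, j6, j7, j8, j9, j10, j11] using r8),
    mul_inv_eq_one.mp (by simpa only [mul_inv_rev, mul_assoc, mul_one, one_mul, inv_one, pow_succ, pow_zero, j1, j2, j3, j4, j5, j6, j7, j8, j9, j10, j11] using r9),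
    mul_inv_eq_one.mp (by simpa only [mul_inv_rev, mul_assoc, mul_one, one_mul, inv_one, pow_succ, pow_zero, j1, j2, j3, j4, j5, j6, j7, j8, j9, j10, j11] using r10),
    mul_inv_eq_one.mp (by simpa only [mul_inv_rev, mul_assoc, mul_one, one_mul, inv_one, pow_succ, pow_zero, j1, j2, j3, j4, j5, j6, j7, j8, j9, j10, j11] using r11),
    mul_inv_eq_one.mp (by simpa only [mul_inv_rev, mul_assoc, mul_one, one_mul, inv_one, pow_succ, pow_zero, j1, j2, j3, j4, j5, j6, j7, j8, j9, j10, j11] using r12),
    mul_inv_eq_one.mp (by simpa only [mul_inv_rev, mul_assoc, mul_one, one_mul, inv_one, pow_succ, pow_zero, j1, j2, j3, j4, j5, j6, j7, j8, j9, j10, j11] using r13),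
    mul_inv_eq_one.mp (by simpa only [mul_inv_rev, mul_assoc, mul_one, one_mul, inv_one, pow_succ, pow_zero, j1, j2, j3, j4, j5, j6, j7, j8, j9, j10, j11] using r14),
    mul_inv_eq_one.mp (by simpa only [mul_inv_rev, mul_assoc, mul_one, one_mul, inv_one, pow_succ, pow_zero, j1, j2, j3, j4, j5, j6, j7, j8, j9, j10, j11] using r15)⟩,
    mul_inv_eq_one.mp (by simpa only [mul_inv_rev, mul_assoc, mul_one, one_mul, inv_one, pow_succ, pow_zero, j1, j2, j3, j4, j5, j6, j7, j8, j9, j10, j11] using r16),
    mul_inv_eq_one.mp (by simpa only [mul_inv_rev, mul_assoc, mul_one, one_mul, inv_one, pow_succ, pow_zero, j1, j2, j3, j4, j5, j6, j7, j8, j9, j10, j11] using r17),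
    mul_inv_eq_one.mp (by simpa only [mul_inv_rev, mul_assoc, mul_one, one_mul, inv_one, pow_succ, pow_zero, j1, j2, j3, j4, j5, j6, j7, j8, j9, j10, j11] using r18),
    mul_inv_eq_one.mp (by simpa only [mul_inv_rev, mul_assoc, mul_one, one_mul, inv_one, pow_succ, pow_zero, j1, j2, j3, j4, j5, j6, j7, j8, j9, j10, j11] using r19),
    mul_inv_eq_one.mp (by simpa only [mul_inv_rev, mul_assoc, mul_one, one_mul, inv_one, pow_succ, pow_zero, j1, j2, j3, j4, j5, j6, j7, j8, j9, j10, j11] using r20)⟩,
    mul_inv_eq_one.mp (by simpa only [mul_inv_rev, mul_assoc, mul_one, one_mul, inv_one, pow_succ, pow_zero, j1, j2, j3, j4, j5, j6, j7, j8, j9, j10, j11] using r21),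
    mul_inv_eq_one.mp (by simpa only [mul_inv_rev, mul_assoc, mul_one, one_mul, inv_one, pow_succ, pow_zero, j1, j2, j3, j4, j5, j6, j7, j8, j9, j10, j11] using r22),
    mul_inv_eq_one.mp (by simpa only [mul_inv_rev, mul_assoc, mul_one, one_mul, inv_one, pow_succ, pow_zero, j1, j2, j3, j4, j5, j6, j7, j8, j9, j10, j11] using r23),
    mul_inv_eq_one.mp (by simpa only [mul_inv_rev, mul_assoc, mul_one, one_mul, inv_one, pow_succ, pow_zero, j1, j2, j3, j4, j5, j6, j7, j8, j9, j10, j11] using r24),
    mul_inv_eq_one.mp (by simpa only [mul_inv_rev, mul_assoc, mul_one, one_mul, inv_one, pow_succ, pow_zero, j1, j2, j3, j4, j5, j6, j7, j8, j9, j10, j11] using r25),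
    mul_inv_eq_one.mp (by simpa only [mul_inv_rev, mul_assoc, mul_one, one_mul, inv_one, pow_succ, pow_zero, j1, j2, j3, j4, j5, j6, j7, j8, j9, j10, j11] using r26),
    mul_inv_eq_one.mp (by simpa only [mul_inv_rev, mul_assoc, mul_one, one_mul, inv_one, pow_succ, pow_zero, j1, j2, j3, j4, j5, j6, j7, j8, j9, j10, j11] using r27),
    mul_inv_eq_one.mp (by simpa only [mul_inv_rev, mul_assoc, mul_one, one_mul, inv_one, pow_succ, pow_zero, j1, j2, j3, j4, j5, j6, j7, j8, j9, j10, j11] using r28),
    mul_inv_eq_one.mp (by simpa only [mul_inv_rev, mul_assoc, mul_one, one_mul, inv_one, pow_succ, pow_zero, j1, j2, j3, j4, j5, j6, j7, j8, j9, j10, j11] using r29),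
    mul_inv_eq_one.mp (by simpa only [mul_inv_rev, mul_assoc, mul_one, one_mul, inv_one, pow_succ, pow_zero, j1, j2, j3, j4, j5, j6, j7, j8, j9, j10, j11] using r30),
    mul_inv_eq_one.mp (by simpa only [mul_inv_rev, mul_assoc, mul_one, one_mul, inv_one, pow_succ, pow_zero, j1, j2, j3, j4, j5, j6, j7, j8, j9, j10, j11] using r31),
    mul_inv_eq_one.mp (by simpa only [mul_inv_rev, mul_assoc, mul_one, one_mul, inv_one, pow_succ, pow_zero, j1, j2, j3, j4, j5, j6, j7, j8, j9, j10, j11] using r32)⟩

theorem gen_top : gen (pgEv 3415262793781239372451021056 R) [[1], [2], [3], [4], [5], [7], [9], [11]] = ⊤ := pg_gen (n := 12) (by norm_num) (by decide)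
namespace c

noncomputable def get (y : ℕ) : ℕ := (sel (nat_lit 1) y (nat_lit 0x80000000000000700000000000006000000000000050000000000000400000000000004000000000000030000000000000300000000000002000000000000020000000000000100000000000001000000000000) (sel (nat_lit 2) y (nat_lit 0x900001a00002d0a00002d00001a0a00000c00002d0900002d00000c0400000b00002c0400002c00000b0100000b00002b0100002b00000b0900002a0000260a00002600002a0300001a00002a0300002a00001a0900000a00002a0a00002a00000a07000024000024080000240000240b0000240000290b0000290000240900002900001c0a00001c0000290a000029000024090000240000290300000a0000290300002900000a0500002800002706000027000028070000090000280800002800000908000009000027070000270000090b0000260000260b0000260000260a00000a0000260900002600000a03000009000026030000260000090900002500001b0a00001b000025060000250000250500002500002502000009000025020000250000090900001c0000240a00002400001c06000024000024050000240000240100000900002401000024000009060000210000230500002300002101000017000023010000230000170a000008000023090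000230000080200002200002202000022000022050000220000220600002200002201000016000022010000220000160400000800002204000022000008020000180000210200002100001803000011000021030000210000110a0000070000210900002100000702000004000007020000070000040000001e0000040000000400001e0000000e0000070000000700000e020000080000050200000500000800000015000008000000080000150100000e00001e0100001e00000e0500001f0000080600000800001f0000001f0000200000002000001f01000004000007010000070000040000000400001d0000001d0000040000000d0000070000000700000d010000080000050100000500000800000014000008000000080000140100002000000f0100000f0000200500002000000806000008000020080000070000200700002000000705000007000020060000200000070400000700001f0400001f0000070200000700001e0200001e0000070100000700001d0100001d0000070b00001c00001c0b00001c00001c0400001c00001c0400001c00001c0300000600001c0300001c0000060900001b00000b0a00000b00001b0600001b00001b0500001b00001b0200000600001b0200001b0000060900000c00001a0a00001a00000c0600001a00001a0500001a00001a0100000600001a0100001a00000606000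013000019050000190000130b0000050000190b000019000005090000180000170a0000170000180600001200001805000018000012090000050000180a00001800000505000017000011060000110000170a0000050000170900001700000506000016000016050000160000160700000f0000040800000400000f0800000f0000160700001600000f0500000f0000050600000500000f0000000f0000100000001000000f020000160000160200001600001607000016000010080000100000160700000500001608000016000005030000160000160300001600001604000005000016040000160000050600000e0000150500001500000e02000005000015020000150000050600000d0000140500001400000d01000005000014010000140000050b0000040000130b000013000004090000120000110a000011000012090000040000120a0000120000040a000004000011090000110000040500001000000506000005000010080000040000100700001000000405000004000010060000100000040400000400000f0400000f0000040200000400000e0200000e0000040100000400000d0100000d0000040b00000c00000c0b00000c00000c0300000300000c0300000c0000030200000300000b0200000b0000030100000300000a0100000a000003090000090000030a000003000009070000060000060800000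60000060500000900000906000009000009090000060000090a0000090000060b0000020000090b00000900000205000008000007060000070000080700000200000808000008000002080000020000070700000700000205000006000006060000060000060400000600000604000006000006090000030000060a0000060000030b0000010000060b000006000001050000050000040600000400000503000005000005030000050000050700000100000508000005000001030000040000040300000400000408000001000004070000040000010b0000000000030b0000030000000200000200000102000001000002090000020000010a0000010000020300000200000203000002000002010000020000020100000200000204000002000002040000020000020600000200000205000002000002090000000000020a00000200000001000001000001010000010000010300000100000103000001000001040000010000010400000100000105000001000001060000010000010a00000000000109000001000000) (nat_lit 0xd0000000000000c000000000000090000000000000a0000000000000000000100000000000000000001000000240000010000000100002400000021000001000000010000210000001c0000010000000100001c00000009000001000000010000090000000600000100000001000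0060000002d0000060000000600002d0000000900000600000006000009000000230000090000000900002300000021000006000000060000210000000900001b0000001b0000090000001c0000090000000900001c0000001b0000230000002300001b0000003b0000170000001700003b00000018000009000000090000180000003500001800000018000035070000090000180800001800000900000024000021000000210000240000004100001800000018000041000000310000170000001700003100000032000018000000180000320000001800001c0000001c0000180000001a0000060000000600001a0700001a0000230800002300001a00000006000025000000250000060000003f0000060000000600003f0000003100003b0000003b0000310000001c0000350000003500001c00000009000034000000340000090000004100001c0000001c0000410000001c0000320000003200001c0000003800001b0000001b0000380800001a0000210700002100001a0000001a0000400000004000001a0000001b00003e0000003e00001b00000028000018000000180000280000003c0000310000003100003c0000001a00003d0000003d00001a0000003a0000230000002300003a000000360000170000001700003600000039000021000000210000390000002f0000110000001100002f0800002a00002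f0700002f00002a0300002f0000390300003900002f090000390000300a0000300000390500002c0000300600003000002c0000002c0000370000003700002c0400002b0000190400001900002b0000002b0000330000003300002b0400003600003c0400003c0000360b00003c0000320b00003200003c0900004100003c0a00003c00004107000028000041080000410000280600004100004105000041000041020000240000410200004100002408000023000040070000400000230200003f00003e0200003e00003f0900003f00003e0a00003e00003f0900002200003f0a00003f0000220100003100003e0100003e0000310400002300003e0400003e0000230500003e00003e0600003e00003e0a00002200003e0900003e0000220700002100003d0800003d0000210a00002b00003c0900003c00002b0200001c00003c0200003c00001c0100003800003c0100003c0000380300001b00003c0300003c00001b0300003b0000380300003800003b0100001b00003b0100003b00001b0a00002c00003a0900003a00002c0400003a00001b0400001b00003a0500003a0000390600003900003a0800001b00003a0700003a00001b0700001a00003a0800003a00001a0800001a0000390700003900001a0200001a0000380200003800001a060000300000370500003700003001000019000037010000370000190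600002f0000360500003600002f090000280000360a0000360000280b0000180000360b0000360000180700001800003508000035000018080000180000340700003400001804000019000033040000330000190b0000160000330b0000330000160200003200003102000031000032090000320000310a0000310000320400001800003204000032000018090000160000320a000032000016040000170000310400003100001705000031000031060000310000310a0000160000310900003100001601000013000030010000300000130b0000280000170b0000170000280b0000270000110b0000110000270000002e0000270000002700002e0900002f0000130a00001300002f0900002e00002f0a00002f00002e0b00001200002f0b00002f0000120b00001100002e0b00002e0000110b00001a00002d0b00002d00001a)))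
noncomputable def gs (y : ℕ) : ℕ := (sel (nat_lit 6) y (sel (nat_lit 3) y (sel (nat_lit 1) y (nat_lit 0x0) (sel (nat_lit 2) y (nat_lit 0x0) (nat_lit 0x0))) (sel (nat_lit 4) y (nat_lit 0x0) (sel (nat_lit 5) y (nat_lit 0x80000008000000800000e0000218000020b0000233800001100002350000232000020a0000104000010b0000104000020b0000233000023480000100000232000020d0000233800000e0000232000021500002258000000800000d000022c000020c000022f800000080000008000010000022400002020000225800000f000022400002040000225800000e0000224000020000002198000000800000d000021a0000203000021f800000c000021e0000206000021f8000000800000b000021a0000206000021b80000008000000800000a000020200002000000103000020b80000090000200000020b8000008000020a0000100000020b00002108000007000020a0000104000020b8000006000020a0000106000020b8000005000020a0000108000020b8000000800000400002000000100000010400002018000003000020000001000000201800000200002000000106000020180000010000200000010900002018000000) (nat_lit 0x8000000800000900002740000279800000500002780000223000025380000008000001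0000250000022200002758000000800001f000026e00002480000270000026f800001e000024d000026a800001d0000267000026a800001c000024e000026a800001b00002660000264000024e000024c0000249800001a0000264000021e0000209000021f00002658000019000024c000021a000021f000026580000180000260000021e000021b0000222800001700002600000220000026180000008000016000025c0000223000024780000008000015000025800002230000245800000080000008000009000025000002538000000800000080000140000223000024b8000013000024a000021a0000204000021b80000008000000800000080000008000012000024000002180000104000021900002418000000)))) (sel (nat_lit 9) y (sel (nat_lit 7) y (nat_lit 0x800000300002bc00002aa00002518000000800002c000029700002b9800002800002ab00002b600002b18000027000023000002b2000025e800002c000025d00002b3800002b000022e000022d00002aa000021a000021f000025d800002a000029600002aa000021c0000247800001c000029e00002ac800002900002a1000024800002ab00002998000026000029500002a88000028000029400002a600002448000027000023000002a2000025a8000026000025900002a38000025000029e00002a1000026d000025980000240000271000021a0000216000022d000029d80000140000231000029b8000013000029a000022c000020e000022d80000008000000800000080000008000012000028e000022400002060000225000028f8000023000028e0000228000028f80000008000022000023e00002270000289000028b80000160000288000022b00002898000000800002100002820000226000024180000150000282000022b000028380000008000020000027e00002230000257)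 (sel (nat_lit 8) y (nat_lit 0x800000900002fc0000287800000080000008000000800000900002de00002f3800000800002f2000023c000022700002838000000800001100002ea00002ee00002d4000028e0000238000028f00002d500002ef00002eb800003400002ed000029200002d5800000900002d500002ea800003300002d0000023b000023d00002e98000000800000d00002e2000023700002e580000008000000800001200002dc00002320000212000023300002dd800003200002dc000023b000023d800000080000220000288000023500002d700002d9800001600002d6000023700002d78000000800002100002d00000234000028f800001500002d0000023700002d18000000800003100002ca00002b5000027900002c1800000400002ca00002a5000022000002758000000800003000002c200002b5000022000002610000268000026000002b400002c3800002f00002c20000231000029900002af00002c3800002e00002c200002a500002618000000800002d00002bc00002ba00002220000279) (nat_lit 0x800003a000033d000028d00002fb80000390000339000033600002850000337800000d0000334000028400003378000038000033600002820000239000023900002898000000800000080000008000015000032e00002800000311800000080000200000328000027a0000305800000e0000328000027d000030e800000080000008000000800000f00003200000260000027f8000000800000a000031400003120000269000031980000090000312000031980000060000318000026000002798000000800000200003120000260000027580000010000312000027300003138000000800000080000370000277000030c00002e680000360000303000030b800003500002e2000023b000021800002010000207000021b000021d000025300003050000306800000e000025600002530000305800000e00003040000255000030380000008000000800003400002fc00002420000287)))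 (sel (nat_lit 10) y (nat_lit 0x800004600002ce000037a000033a800004600002770000378000032d800004500002be000037800003758000044000025000002570000308000037600002f700002e100002f600002f40000335000037480000430000375000033400002f5800000300003730000310000030880000420000370000033f000033b800001c0000331000036e8000029000032e000036c00002f800002fb80000410000323000036a8000040000032000003190000366000034a800000f0000367000031a0000329800003f000031800002630000264000022100002790000329000032a000036300003658000022000034800002d5000035f0000361800003e000035e00002f000002f000002d000002e58000016000035e00002d2000035f80000008000000800000a0000350000034e00002c900003578000009000034e000035780000008000004000034e00002c4000026200003138000002000034e00002c200002cb8000001000034e00002c6000034f8000000800000080000320000344000028d00002f9800003d00003440000288000028f800003c0000344000034100003438000000800003b00003320000282000028900003418000000) (sel (nat_lit 11) y (nat_lit 0x800004f00003bc0000234000039e00002ff80000470000238000039e000039d00003bb800005300003b7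00003b3800004a0000239000039e000038b800004c0000288000039b00002d6800005300003ae00003a1800002800002cc00003b00000340800005300003a40000397800004a00003ab00003ac0000326800005300003a10000395800001e00003250000392800004c00002c000003a6000035e800005300003a10000390800004e000027c00003a2000031d800005300003a1000038f80000480000291000038f000031a800004c0000289000038c0000332800001e000035d0000388800004900002db000038700003580000399800004c00002890000387000035a800002800003400000387000035480000470000326000038400003630000391800004a0000324000038400002e4800004d000038f000031d00003820000364800004c000031f00003820000348800004b0000387000035400003820000346800001d000034d0000380800004a000035c000037e000033680000480000352000037e000033d8000049000027d000037c000032a80000480000316000037c00003698000047000034c000037a0000334) (nat_lit 0x800005380000538000053800005380000538000053800005380000538000053800005380000538000053800005380000538000053800005380000538000053800005380000538000053800005380000538000053800005200003cd8000051000020100003cb800004e000020100003c400002d500003c9800005300003c600003a8800005300003c000003b8800005300003c200003b4800005300003c000003bc80000500000225000039e000030100003bf)))))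
noncomputable def gd (y : ℕ) : ℕ := (nat_lit 0x35e000035c0000356000034e000034c00003440000340000033600003340000332000032e00003280000326000032400003200000318000031200003100000304000030200002fc00002fa00002f800002f200002e800002e400002e200002dc00002d600002d000002ca00002c200002bc000029a000029800002960000294000028e00002880000282000027e000027800002740000260000025c0000258000025600002520000250000024a0000248000024600002440000240000023e000023c0000232000022e000022c0000224000021e000021a0000218000020a00002000000000)
noncomputable def gwh_0 (y : ℕ) : ℕ := (sel (nat_lit 8) y (sel (nat_lit 4) y (sel (nat_lit 2) y (sel (nat_lit 1) y (nat_lit 0xa060905000002002000) (nat_lit 0xa040904000002002001)) (sel (nat_lit 3) y (nat_lit 0xa010903000002002002) (nat_lit 0xa03010901000002003003))) (sel (nat_lit 6) y (sel (nat_lit 5) y (nat_lit 0x9050a06000000004000) (nat_lit 0x9040a04000000004001)) (sel (nat_lit 7) y (nat_lit 0x9030a01000000004002) (nat_lit 0x109010a03000004001003)))) (sel (nat_lit 12) y (sel (nat_lit 10) y (sel (nat_lit 9) y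 (nat_lit 0x90909000000003004) (nat_lit 0x902090602000001004005)) (sel (nat_lit 11) y (nat_lit 0x8030703000003001006) (nat_lit 0x7030803000001003006))) (sel (nat_lit 14) y (sel (nat_lit 13) y (nat_lit 0x7050705000000004007) (nat_lit 0xb090b09000002002008)) (sel (nat_lit 15) y (nat_lit 0xb040b04000002002009) (nat_lit 0xb060b0500000200200a)))))
noncomputable def gwh_1 (y : ℕ) : ℕ := (sel (nat_lit 24) y (sel (nat_lit 20) y (sel (nat_lit 18) y (sel (nat_lit 17) y (nat_lit 0xa0b090308030a0b090700000500500b) (nat_lit 0x30b030b030b00000300300c)) (sel (nat_lit 19) y (nat_lit 0x80407060800000400100d) (nat_lit 0x5050500000000300e))) (sel (nat_lit 22) y (sel (nat_lit 21) y (nat_lit 0x105010600000300100f) (nat_lit 0x2050206000003001010)) (sel (nat_lit 23) y (nat_lit 0x4030403000003001011) (nat_lit 0x60808040700000200300d)))) (sel (nat_lit 28) y (sel (nat_lit 26) y (sel (nat_lit 25) y (nat_lit 0x707070707000000005012) (nat_lit 0x70701080802000000006013)) (sel (nat_lit 27) y (nat_lit 0x4070608080000100000500d) (nat_lit 0x605000000002014)))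 (sel (nat_lit 30) y (sel (nat_lit 29) y (nat_lit 0x708000000002015) (nat_lit 0x807000000002016)) (sel (nat_lit 31) y (nat_lit 0x80804070600000300200d) (nat_lit 0xb050b0600000000400a)))))
noncomputable def gwh_2 (y : ℕ) : ℕ := (sel (nat_lit 40) y (sel (nat_lit 36) y (sel (nat_lit 34) y (sel (nat_lit 33) y (nat_lit 0x30a0109000001003002) (nat_lit 0x602090209000004001005)) (sel (nat_lit 35) y (nat_lit 0x3040304000002002011) (nat_lit 0x80802070701000003003013))) (sel (nat_lit 38) y (sel (nat_lit 37) y (nat_lit 0x10501060000100300100f) (nat_lit 0x101000000002017)) (sel (nat_lit 39) y (nat_lit 0x5000600001000003018) (nat_lit 0x1000100001000003019)))) (sel (nat_lit 44) y (sel (nat_lit 42) y (sel (nat_lit 41) y (nat_lit 0x40104010000100200201a) (nat_lit 0x20301020100000300201b)) (sel (nat_lit 43) y (nat_lit 0x2070701080800001005001013) (nat_lit 0x20200000000201c))) (sel (nat_lit 46) y (sel (nat_lit 45) y (nat_lit 0x906020902000003002005) (nat_lit 0x401040100000200201a)) (sel (nat_lit 47) y (nat_lit 0x4050405040500000300301d)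 (nat_lit 0x4020402040302040200000300601e)))))
noncomputable def gwh_3 (y : ℕ) : ℕ := (sel (nat_lit 56) y (sel (nat_lit 52) y (sel (nat_lit 50) y (sel (nat_lit 49) y (nat_lit 0x209020906000000005005) (nat_lit 0x109030a000003001002)) (sel (nat_lit 51) y (nat_lit 0x30109010a000003002003) (nat_lit 0x90b090b000003001008))) (sel (nat_lit 54) y (sel (nat_lit 53) y (nat_lit 0xa0b090308030a0b09070000100500500b) (nat_lit 0xb0b00000000201f)) (sel (nat_lit 55) y (nat_lit 0x60b050b00000300100a) (nat_lit 0x20707010808000005001013)))) (sel (nat_lit 60) y (sel (nat_lit 58) y (sel (nat_lit 57) y (nat_lit 0x70608080400000100400d) (nat_lit 0x409040a000003001001)) (sel (nat_lit 59) y (nat_lit 0x10201020300000000501b) (nat_lit 0x3010301000002002020))) (sel (nat_lit 62) y (sel (nat_lit 61) y (nat_lit 0x3020302000002002021) (nat_lit 0x70108080207000001005013)) (sel (nat_lit 63) y (nat_lit 0x9070a0b090308030a0b00000300700b) (nat_lit 0x90b090b00001003001008)))))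
noncomputable def gwh_4 (y : ℕ) : ℕ := (sel (nat_lit 72) y (sel (nat_lit 68) y (sel (nat_lit 66) y (sel (nat_lit 65) y (nat_lit 0x404000000002022) (nat_lit 0x50a0609000001003000)) (sel (nat_lit 67) y (nat_lit 0x3070308000000004006) (nat_lit 0x308030a0b09070a0b090000100800200b))) (sel (nat_lit 70) y (sel (nat_lit 69) y (nat_lit 0x3000300001000003023) (nat_lit 0x6000500001000003024)) (sel (nat_lit 71) y (nat_lit 0x7000800001000003025) (nat_lit 0x4000400001000003026)))) (sel (nat_lit 76) y (sel (nat_lit 74) y (sel (nat_lit 73) y (nat_lit 0xa000900001000003027) (nat_lit 0x8000700001000003028)) (sel (nat_lit 75) y (nat_lit 0x100010000002000003019) (nat_lit 0x2000200001000003029))) (sel (nat_lit 78) y (sel (nat_lit 77) y (nat_lit 0xa00090000002000003027) (nat_lit 0x9000a0000100000302a)) (sel (nat_lit 79) y (nat_lit 0x9000a000000200000302a) (nat_lit 0xb000b0000100000302b)))))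
noncomputable def gwh_5 (y : ℕ) : ℕ := (sel (nat_lit 81) y (nat_lit 0xa0900000000202c) (nat_lit 0x90d00000000202d))
noncomputable def gwh (y : ℕ) : ℕ := (sel (nat_lit 48) y (sel (nat_lit 16) y (gwh_0 y) (sel (nat_lit 32) y (gwh_1 y) (gwh_2 y))) (sel (nat_lit 64) y (gwh_3 y) (sel (nat_lit 80) y (gwh_4 y) (gwh_5 y))))
def sg : List (List ℕ) := [[], [1], [2], [3], [4], [5], [6], [7], [8], [9], [10], [11], [9], [10]]
def BL : List ℕ := [0x9050a06, 0x9040a04, 0x9030a01, 0x9010a0301, 0x90909, 0x209020906, 0x3070308, 0x7050705, 0xb090b09, 0xb040b04, 0xb050b06, 0x30a0b09070a0b090308, 0xb030b030b03, 0x407060808, 0x50505, 0x5010601, 0x5020602, 0x3040304, 0x707070707, 0x70701080802, 0x605, 0x708, 0x807, 0x101, 0x50006, 0x10001, 0x4010401, 0x102010203, 0x202, 0x50405040504, 0x20402040204020403, 0xb0b, 0x3010301, 0x3020302, 0x404, 0x30003, 0x60005, 0x70008, 0x40004, 0xa0009, 0x80007, 0x20002, 0x9000a, 0xb000b, 0xa09, 0x90d]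
def Sub : List (List ℕ) := [[1], [2], [3], [4], [5], [7]]
theorem hA : prepA 3415262793781239372451021056 PJ1.R sg 244422296619299262715455537807616 BL Sub get gd = true := by decide +kernel
theorem hw : allR (okW BL gwh) 0 82 = true := by decide +kernel
theorem b0 : allR (blk get gs (gwB gwh 82) gd 244422296619299262715455537807616) 4 8 = true := by decide +kernel
theorem hb : ∀ b, 4 ≤ b → b < 12 → blk get gs (gwB gwh 82) gd 244422296619299262715455537807616 b = true :=
  (allR_range b0 (by norm_num : 4 + 8 = 12))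
def TL : List (ℕ × List ℕ) := [(718, [9])]
theorem hM : prepM sg get 12 TL = true := by decide +kernel
theorem mem {G : Type*} [Group G] {ev : ℕ → G} (hev : Good ev 3415262793781239372451021056) (hR : Rels ev PJ1.R) :
    ∀ w ∈ TL.map Prod.snd, evL ev w ∈ gen ev Sub :=
  cert_mem hev hR hA hM hw hb

end c

theorem res {G : Type*} [Group G] {a b z w t r x u : G} (H : Rel a b z w t r x u) (K : Subgroup G) (k0 : a ∈ K) (k1 : b ∈ K) (k2 : z ∈ K) (k3 : w ∈ K) (k4 : t ∈ K) (k5 : r ∈ K) : x ∈ K := by
  have i_a : a⁻¹ = a := inv_eq_of_mul_eq_one_right H.hC.hN.aa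
  have i_b : b⁻¹ = b := inv_eq_of_mul_eq_one_right H.hC.hN.bb
  have i_z : z⁻¹ = z := inv_eq_of_mul_eq_one_right H.hC.hN.zz
  have i_w : w⁻¹ = w := inv_eq_of_mul_eq_one_right H.hC.hN.ww
  have i_u : u⁻¹ = u := inv_eq_of_mul_eq_one_right H.uu
  have h0 : gen (ev a b z w t r x u) c.Sub ≤ K := gen_le (by
    unfold c.Sub
    refine List.forall_mem_cons.mpr ⟨?_, ?_⟩
    · show a * 1 ∈ K
      simpa only [mul_inv_rev, inv_inv, mul_assoc, mul_one, one_mul, inv_one, pow_succ, pow_zero, i_a, i_b, i_z, i_w, i_u] using k0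
    refine List.forall_mem_cons.mpr ⟨?_, ?_⟩
    · show b * 1 ∈ K
      simpa only [mul_inv_rev, inv_inv, mul_assoc, mul_one, one_mul, inv_one, pow_succ, pow_zero, i_a, i_b, i_z, i_w, i_u] using k1
    refine List.forall_mem_cons.mpr ⟨?_, ?_⟩
    · show z * 1 ∈ K
      simpa only [mul_inv_rev, inv_inv, mul_assoc, mul_one, one_mul, inv_one, pow_succ, pow_zero, i_a, i_b, i_z, i_w, i_u] using k2
    refine List.forall_mem_cons.mpr ⟨?_, ?_⟩
    · show w * 1 ∈ K
      simpa only [mul_inv_rev, inv_inv, mul_assoc, mul_one, one_mul, inv_one, pow_succ, pow_zero, i_a, i_b, i_z, i_w, i_u] using k3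
    refine List.forall_mem_cons.mpr ⟨?_, ?_⟩
    · show t * 1 ∈ K
      simpa only [mul_inv_rev, inv_inv, mul_assoc, mul_one, one_mul, inv_one, pow_succ, pow_zero, i_a, i_b, i_z, i_w, i_u] using k4
    refine List.forall_mem_cons.mpr ⟨?_, ?_⟩
    · show r * 1 ∈ K
      simpa only [mul_inv_rev, inv_inv, mul_assoc, mul_one, one_mul, inv_one, pow_succ, pow_zero, i_a, i_b, i_z, i_w, i_u] using k5
    intro r hr
    exact absurd hr List.not_mem_nil)
  have h : x * 1 ∈ K := h0 (c.mem (good H) (rels H) [9] (List.mem_of_elem_eq_true (by decide)))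
  simpa only [mul_inv_rev, inv_inv, mul_assoc, mul_one, one_mul, inv_one, pow_succ, pow_zero, i_a, i_b, i_z, i_w, i_u] using h

end PJ1

theorem PX0.normalize {G : Type*} [Group G] {a b z w t x : G} (H : PX0.Rel a b z w t x) (hz : z ≠ 1)
    {v : G} (hv : v = 1 ∨ v = z ∨ v = a ∨ v = a * z) {j : ℕ} (hj : j < 3)
    (h : (b * x) ^ 2 = v * t ^ j) : ∃ y, PX0.Rel a b z w t y ∧ (b * y) ^ 2 = t := by
  rcases hv with rfl | rfl | rfl | rfl <;> interval_cases j
  · exact absurd (PX00c.res ⟨H, h⟩) hz
  · exact ⟨x, H, by simpa using h⟩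
  · exact absurd (PX02c.res ⟨H, h⟩) hz
  · exact absurd (PX10c.res ⟨H, h⟩) hz
  · exact absurd (PX11c.res ⟨H, h⟩) hz
  · exact absurd (PX12c.res ⟨H, h⟩) hz
  · exact absurd (PX20c.res ⟨H, h⟩) hz
  · have K : PX21c.Rel _ b z w t x := ⟨H, h⟩
    exact ⟨_, ⟨H.hN, PX21c.x3 K, PX21c.xt K, PX21c.xw K, PX21c.xz K, PX21c.xa K⟩, PX21c.bx2 K⟩
  · exact absurd (PX22c.res ⟨H, h⟩) hz
  · exact absurd (PX30c.res ⟨H, h⟩) hz
  · exact absurd (PX31c.res ⟨H, h⟩) hz
  · exact absurd (PX32c.res ⟨H, h⟩) hz

def C0.w : C0 := C0.inr A0.w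
def C0.u : C0 := C0.inr A0.u

theorem C0.rel2 : PC2.Rel C0.a0 C0.a2 C0.z C0.w C0.t C0.r := by
  constructor
  · constructor <;> decide +kernel
  all_goals decide +kernel

end Cfsg.H5
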