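import Cfsg.Agent.H5.J2P

/-!
Certificates for presentations, checked by evaluation.
-/

set_option autoImplicit false
set_option maxRecDepth 100000
set_option linter.unusedSimpArgs false
set_option linter.unusedVariables false

namespace Cfsg.H5

open Cfsg.H6

namespace PX0

namespace d

noncomputable def get (y : ℕ) : ℕ := (sel (nat_lit 1) y (nat_lit 0x0) (nat_lit 0x1200000000000011000000000000100000000000000f0000000000000e0000000000000d0000000000000c0000000000000b0000000000000a000000000000090000000000000700000900001a0800001a0000090000001b0000090000000900001b0100001c00001a0100001a00001c0300000f00001e0300001e00000f0000000f00001f0000001f00000f0100001900001d0100001d0000190700000f0000190800001900000f0700001800000f0800000f00001803000000000009030000090000000100000000000f0100000f0000000000000000000a0000000a00000003000008000001030000010000080100000a00000f0100000f00000a0000001000000a0000000a0000100100000800000e0100000e0000080100000d0000020100000200000d0300000d0000070300000700000d0300000600000c0300000c000006010000030000060100000600000306000000000015050000150000000000001600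0000000000000000160600000100001405000014000001050000130000020600000200001306000003000012050000120000030300001e00001f0300001f00001e0800001d00001e0700001e00001d0300001c00001d0300001d00001c0700000000001c0800001c0000000800001a00001b0700001b00001a0300001900001a0300001a0000190800001800001907000019000018030000170000180300001800001708000000000017070000170000000500001500001606000016000015020000140000150200001500001407000013000014080000140000130200001200001302000013000012070000110000120800001200001106000004000011050000110000040100000f0000100100001000000f0200000e00000f0200000f00000e0700000d00000e0800000e00000d0200000c00000d0200000d00000c0700000b00000c0800000c00000b0100000400000b0100000b0000040300000900000a0300000a000009020000080000090200000900000807000007000008080000080000070200000600000702000007000006070000050000060800000600000503000004000005030000050000040800000300000407000004000003020000020000030200000300000208000001000002070000020000010200000000000102000001000000))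
noncomputable def gs (y : ℕ) : ℕ := (sel (nat_lit 3) y (sel (nat_lit 1) y (nat_lit 0x0) (sel (nat_lit 2) y (nat_lit 0x0) (nat_lit 0x0))) (sel (nat_lit 4) y (nat_lit 0x0) (sel (nat_lit 5) y (nat_lit 0x80000010000222000022000002068000000800000080000008000000800000080000008000000800000080000008000000800000080000008000000800000080000008000000800000080000008000000800000080000008000000800000080000008000000800000080000008000000800000080000008000000) (nat_lit 0x80000178000017800001780000178000016000025b0000267000023a000023800002368000015000025d000026d00002320000230000022e000022c800001400002470000228000022600002240000222000022000002060000204000020200002008000013000025b000021c000021a00002180000216000021400002060000204000020200002008000012000025d0000210000020e000020c000020a0000208000020600002040000202000020080000110000235000026b8000010000025c000023700002690000235800000f00002320000260000025a0000237800000c000023d00002648000010000023c000023a00002620000260800000f00002380000236000025b0000261800000e0000230000025f800000d000025a000022d000022f800000c00002130000258800000a00002540000258800000b000021200002100000257000020080000060000203000024e000021b0000250800000a000021f00002538000009000021200002100000251000021d000021f8000005000021a000024d000020f800000800002050000249000024b00002198000007000020c000024b0000219800000600002160000214000020600002498000005000020a000020800002068000004000022b00002458000003000020100002430000229000022b800000100002260000241000020280000020000205000023f0000225))))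
noncomputable def gd (y : ℕ) : ℕ := (nat_lit 0x23c000023a00002380000236000023400002320000230000022e000022c000022a00002280000226000022400002220000220000021e000021c000021a00002180000216000021400002120000210000020e000020c000020a000020800002060000204000020200002000000000)
noncomputable def gwh_0 (y : ℕ) : ℕ := (sel (nat_lit 8) y (sel (nat_lit 4) y (sel (nat_lit 2) y (sel (nat_lit 1) y (nat_lit 0x7050806000000004000) (nat_lit 0x2060205000001003001)) (sel (nat_lit 3) y (nat_lit 0x502060200001000004001) (nat_lit 0x506000000002002))) (sel (nat_lit 6) y (sel (nat_lit 5) y (nat_lit 0x7030801000000004003) (nat_lit 0x107010803000004001004)) (sel (nat_lit 7) y (nat_lit 0x2030203000003001005) (nat_lit 0x203010201000003002006)))) (sel (nat_lit 12) y (sel (nat_lit 10) y (sel (nat_lit 9) y (nat_lit 0x10201020300001000005006) (nat_lit 0x101000000002007)) (sel (nat_lit 11) y (nat_lit 0x203020300001003001005) (nat_lit 0x303000000002008))) (sel (nat_lit 14) y (sel (nat_lit 13) y (nat_lit 0x3080107000001003003) (nat_lit 0x70707000000003009)) (sel (nat_lit 15) y (nat_lit 0x701080301000000005004)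 (nat_lit 0x801070300001002002003)))))
noncomputable def gwh_1 (y : ℕ) : ℕ := (sel (nat_lit 19) y (sel (nat_lit 17) y (nat_lit 0x80700000000200a) (sel (nat_lit 18) y (nat_lit 0x20702070308020802030a00000000b00b) (nat_lit 0x20702070108020802010c00000000b00c))) (sel (nat_lit 20) y (nat_lit 0x20702070508020802060e00000000b00d) (sel (nat_lit 21) y (nat_lit 0x703070307031000000000700e) (nat_lit 0x8030703011200000000600f))))
noncomputable def gwh (y : ℕ) : ℕ := (sel (nat_lit 16) y (gwh_0 y) (gwh_1 y))
def sg : List (List ℕ) := [[], [1], [2], [3], [4], [5], [6], [7], [8], [2, 7, 2, 7, 3, 8, 2, 8, 2, 3], [3, 2, 7, 2, 7, 3, 8, 2, 8, 2], [2, 7, 2, 7, 1, 8, 2, 8, 2, 1], [1, 2, 7, 2, 7, 1, 8, 2, 8, 2], [2, 7, 2, 7, 5, 8, 2, 8, 2, 6], [5, 2, 7, 2, 7, 6, 8, 2, 8, 2], [7, 3, 7, 3, 7, 3], [3, 8, 3, 8, 3, 8], [8, 3, 7, 3, 1], [1, 3, 8, 3, 7]]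
def BL : List ℕ := [0x7050806, 0x5020602, 0x506, 0x7030801, 0x701080301, 0x3020302, 0x102010203, 0x101, 0x303, 0x70707, 0x807, 0x20702070308020802030a, 0x20702070108020802010c, 0x20702070508020802060e, 0x7030703070310, 0x80307030112]
def Sub : List (List ℕ) := []
theorem hA : prepA 129705083257453936896 PX0.R sg 380685815092728712611291700973221858485862656 BL Sub get gd = true := by decide +kernel
theorem hw : allR (okW BL gwh) 0 22 = true := by decide +kernel
theorem b0 : allR (blk get gs (gwB gwh 22) gd 380685815092728712611291700973221858485862656) 4 2 = true := by decide +kernel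
theorem hb : ∀ b, 4 ≤ b → b < 6 → blk get gs (gwB gwh 22) gd 380685815092728712611291700973221858485862656 b = true :=
  (allR_range b0 (by norm_num : 4 + 2 = 6))
def TL : List (ℕ × List ℕ) := [(366, [2, 7, 2, 7, 3, 8, 2, 8, 2, 3]), (368, [2, 7, 2, 7, 1, 8, 2, 8, 2, 1]), (370, [2, 7, 2, 7, 5, 8, 2, 8, 2, 6]), (372, [7, 3, 7, 3, 7, 3]), (374, [8, 3, 7, 3, 1])]
theorem hM : prepM sg get 6 TL = true := by decide +kernel
theorem mem {G : Type*} [Group G] {ev : ℕ → G} (hev : Good ev 129705083257453936896) (hR : Rels ev PX0.R) :
    ∀ w ∈ TL.map Prod.snd, evL ev w ∈ gen ev Sub :=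
  cert_mem hev hR hA hM hw hb

end d

theorem bxz {G : Type*} [Group G] {a b z w t x : G} (H : Rel a b z w t x) : (b * x) ^ 2 * z = z * (b * x) ^ 2 := by
  have i_a : a⁻¹ = a := inv_eq_of_mul_eq_one_right H.hN.aa
  have i_b : b⁻¹ = b := inv_eq_of_mul_eq_one_right H.hN.bb
  have i_z : z⁻¹ = z := inv_eq_of_mul_eq_one_right H.hN.zz
  have i_w : w⁻¹ = w := inv_eq_of_mul_eq_one_right H.hN.ww
  have h : b * (x * (b * (x * (z * (x⁻¹ * (b * (x⁻¹ * (b * (z * 1))))))))) = 1 := rels_of_mem_nil (d.mem (good H) (rels H)) [2, 7, 2, 7, 3, 8, 2, 8, 2, 3] (List.mem_of_elem_eq_true (by decide))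
  exact mul_inv_eq_one.mp (by simpa only [mul_inv_rev, inv_inv, mul_assoc, mul_one, one_mul, inv_one, pow_succ, pow_zero, i_a, i_b, i_z, i_w] using h)

theorem bxa {G : Type*} [Group G] {a b z w t x : G} (H : Rel a b z w t x) : (b * x) ^ 2 * a = a * (b * x) ^ 2 := by
  have i_a : a⁻¹ = a := inv_eq_of_mul_eq_one_right H.hN.aa
  have i_b : b⁻¹ = b := inv_eq_of_mul_eq_one_right H.hN.bb
  have i_z : z⁻¹ = z := inv_eq_of_mul_eq_one_right H.hN.zz
  have i_w : w⁻¹ = w := inv_eq_of_mul_eq_one_right H.hN.ww
  have h : b * (x * (b * (x * (a * (x⁻¹ * (b * (x⁻¹ * (b * (a * 1))))))))) = 1 := rels_of_mem_nil (d.mem (good H) (rels H)) [2, 7, 2, 7, 1, 8, 2, 8, 2, 1] (List.mem_of_elem_eq_true (by decide))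
  exact mul_inv_eq_one.mp (by simpa only [mul_inv_rev, inv_inv, mul_assoc, mul_one, one_mul, inv_one, pow_succ, pow_zero, i_a, i_b, i_z, i_w] using h)

theorem bxt {G : Type*} [Group G] {a b z w t x : G} (H : Rel a b z w t x) : (b * x) ^ 2 * t = t * (b * x) ^ 2 := by
  have i_a : a⁻¹ = a := inv_eq_of_mul_eq_one_right H.hN.aa
  have i_b : b⁻¹ = b := inv_eq_of_mul_eq_one_right H.hN.bb
  have i_z : z⁻¹ = z := inv_eq_of_mul_eq_one_right H.hN.zz
  have i_w : w⁻¹ = w := inv_eq_of_mul_eq_one_right H.hN.ww
  have h : b * (x * (b * (x * (t * (x⁻¹ * (b * (x⁻¹ * (b * (t⁻¹ * 1))))))))) = 1 := rels_of_mem_nil (d.mem (good H) (rels H)) [2, 7, 2, 7, 5, 8, 2, 8, 2, 6] (List.mem_of_elem_eq_true (by decide))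
  exact mul_inv_eq_one.mp (by simpa only [mul_inv_rev, inv_inv, mul_assoc, mul_one, one_mul, inv_one, pow_succ, pow_zero, i_a, i_b, i_z, i_w] using h)

theorem xz3 {G : Type*} [Group G] {a b z w t x : G} (H : Rel a b z w t x) : (x * z) ^ 3 = 1 := by
  have i_a : a⁻¹ = a := inv_eq_of_mul_eq_one_right H.hN.aa
  have i_b : b⁻¹ = b := inv_eq_of_mul_eq_one_right H.hN.bb
  have i_z : z⁻¹ = z := inv_eq_of_mul_eq_one_right H.hN.zz
  have i_w : w⁻¹ = w := inv_eq_of_mul_eq_one_right H.hN.ww
  have h : x * (z * (x * (z * (x * (z * 1))))) = 1 := rels_of_mem_nil (d.mem (good H) (rels H)) [7, 3, 7, 3, 7, 3] (List.mem_of_elem_eq_true (by decide))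
  exact mul_inv_eq_one.mp (by simpa only [mul_inv_rev, inv_inv, mul_assoc, mul_one, one_mul, inv_one, pow_succ, pow_zero, i_a, i_b, i_z, i_w] using h)

theorem xz2 {G : Type*} [Group G] {a b z w t x : G} (H : Rel a b z w t x) : x⁻¹ * z * x = a * z := by
  have i_a : a⁻¹ = a := inv_eq_of_mul_eq_one_right H.hN.aa
  have i_b : b⁻¹ = b := inv_eq_of_mul_eq_one_right H.hN.bb
  have i_z : z⁻¹ = z := inv_eq_of_mul_eq_one_right H.hN.zz
  have i_w : w⁻¹ = w := inv_eq_of_mul_eq_one_right H.hN.ww
  have h : x⁻¹ * (z * (x * (z * (a * 1)))) = 1 := rels_of_mem_nil (d.mem (good H) (rels H)) [8, 3, 7, 3, 1] (List.mem_of_elem_eq_true (by decide))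
  exact mul_inv_eq_one.mp (by simpa only [mul_inv_rev, inv_inv, mul_assoc, mul_one, one_mul, inv_one, pow_succ, pow_zero, i_a, i_b, i_z, i_w] using h)

end PX0
end Cfsg.H5
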