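import Cfsg.Agent.H5.J2D
import Cfsg.Agent.H5.WL
import Cfsg.Agent.H8.Qd

/-!
Sylow subgroups of odd order in a group of Hall–Janko type.
-/

set_option autoImplicit false
set_option synthInstance.maxSize 4096
set_option maxRecDepth 100000

namespace Cfsg.H5

open Subgroup Cfsg.H6

namespace PJ

def X7 : List (List ℕ) := [[5, 8, 10, 8]]
def V7 : List (List ℕ) := [[], [0], [0, 0], [0, 0, 0], [0, 0, 0, 0], [0, 0, 0, 0, 0],
  [0, 0, 0, 0, 0, 0]]
def Y7 : List (List ℕ) := [[5, 8, 10, 8], [1, 3, 11, 8, 2, 11, 1]]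
def U7 : List (List ℕ) := [[], [0], [1], [0, 0], [0, 1], [1, 0], [1, 1], [0, 0, 0], [0, 0, 1],
  [0, 1, 0], [0, 1, 1], [1, 0, 0], [1, 0, 1], [1, 1, 0], [1, 1, 1], [0, 0, 0, 0], [0, 0, 1, 0],
  [0, 1, 0, 1], [0, 1, 1, 1], [1, 0, 0, 1], [1, 0, 1, 0], [1, 0, 1, 1], [1, 1, 0, 1], [1, 1, 1, 0],
  [1, 1, 1, 1], [0, 0, 0, 0, 0], [0, 1, 0, 1, 1], [0, 1, 1, 1, 1], [1, 0, 1, 0, 1], [1, 0, 1, 1, 1],
  [1, 1, 0, 1, 1], [1, 1, 1, 0, 1], [1, 1, 1, 1, 0], [1, 1, 1, 1, 1], [0, 0, 0, 0, 0, 0],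
  [0, 1, 1, 1, 1, 0], [0, 1, 1, 1, 1, 1], [1, 0, 1, 1, 1, 1], [1, 1, 0, 1, 1, 1],
  [1, 1, 1, 0, 1, 1], [1, 1, 1, 1, 0, 1], [1, 1, 1, 1, 1, 0]]
theorem c7 : clChk img 12 bs X7 V7 = true := by decide +kernel
theorem c42 : clChk img 12 bs Y7 U7 = true := by decide +kernel

def X3 : List (List ℕ) := [[9, 1, 11], [1, 2, 10, 11, 2, 3]]
def V3 : List (List ℕ) := [[], [0], [1], [0, 0], [0, 1], [1, 0], [1, 1], [0, 0, 1], [0, 1, 0],
  [0, 1, 1], [1, 0, 0], [1, 0, 1], [1, 1, 0], [0, 0, 1, 0], [0, 0, 1, 1], [0, 1, 0, 0],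
  [0, 1, 0, 1], [0, 1, 1, 0], [1, 0, 1, 1], [1, 1, 0, 1], [0, 0, 1, 0, 0], [0, 0, 1, 0, 1],
  [0, 0, 1, 1, 0], [0, 1, 0, 1, 1], [0, 1, 1, 0, 1], [0, 0, 1, 0, 1, 1], [0, 0, 1, 1, 0, 1]]
def C3 : List (List ℕ) := [[], [1, 11, 1], [1, 3, 11, 2], [1, 11, 3], [11, 1, 3, 8, 4],
  [1, 8, 1, 4], [1, 3, 11, 1, 2], [8, 4, 10], [8, 1, 4, 11], [8, 1, 4, 10], [8, 4, 11, 1, 3],
  [11, 8, 1, 4, 11], [8, 4, 11], [1, 11, 2, 1, 11], [11, 1, 8, 1, 4], [1, 2, 11, 1, 2],
  [1, 3, 8, 4], [3, 11, 3, 8, 4, 9], [11, 2, 1, 11, 1], [2, 1, 11, 3], [3, 11, 8, 4, 9],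
  [1, 7, 10, 8, 4, 9], [1, 2, 11, 2], [3, 7, 11, 8, 4], [2, 1, 11, 1], [4, 5, 8, 8]]
theorem c3 : clChk img 12 bs X3 V3 = true := by decide +kernel

def X5 : List (List ℕ) := [[1, 3, 10, 11, 9, 1], [7]]
def V5 : List (List ℕ) := [[], [0], [1], [0, 0], [0, 1], [1, 1], [0, 0, 0], [0, 0, 1], [0, 1, 1],
  [1, 1, 1], [0, 0, 0, 0], [0, 0, 0, 1], [0, 0, 1, 1], [0, 1, 1, 1], [1, 1, 1, 1], [0, 0, 0, 0, 1],
  [0, 0, 0, 1, 1], [0, 0, 1, 1, 1], [0, 1, 1, 1, 1], [0, 0, 0, 0, 1, 1], [0, 0, 0, 1, 1, 1],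
  [0, 0, 1, 1, 1, 1], [0, 0, 0, 0, 1, 1, 1], [0, 0, 0, 1, 1, 1, 1], [0, 0, 0, 0, 1, 1, 1, 1]]
def C5 : List (List ℕ) := [[], [1, 2, 7, 11, 8, 2, 1], [2, 11, 1, 7, 2, 11], [2, 11, 1, 7, 2, 9],
  [1, 2, 7, 11, 8, 1, 2]]
def W5 : List (List ℕ) := [[], [0], [0, 0], [0, 0, 0], [0, 0, 0, 0]]
theorem c5 : clChk img 12 bs X5 V5 = true := by decide +kernel
theorem c5a : clChk img 12 bs [[1, 3, 10, 11, 9, 1]] W5 = true := by decide +kernel
theorem c5b : clChk img 12 bs [[7]] W5 = true := by decide +kernel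
theorem c4 : clChk img 12 bs [[3], [6, 4, 5]] [[], [0], [1], [0, 1]] = true := by decide +kernel

end PJ

variable {G : Type*} [Group G]

theorem eq_of_index {c a b p : ℕ} [Finite G] {N : Subgroup G} (hG : Nat.card G = c * a)
    (h1 : c ∣ Nat.card N) (h2 : Nat.card N ≤ c * b) (h3 : N.index ≡ 1 [MOD p])
    (h : ∀ m ≤ b, ∀ i ≤ a, m * i = a → i % p = 1 % p → m = 1) : Nat.card N = c := by
  obtain ⟨m, hm⟩ := h1
  have hpos : 0 < Nat.card G := Nat.card_pos
  have hc : 0 < c := Nat.pos_of_ne_zero (by rintro rfl; simp at hG; omega)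
  have h4 := N.card_mul_index
  rw [hm, hG, mul_assoc] at h4
  have h5 := Nat.eq_of_mul_eq_mul_left hc h4
  have ha : 0 < a := Nat.pos_of_ne_zero (by rintro rfl; simp at hG; omega)
  rw [hm, h m (Nat.le_of_mul_le_mul_left (hm ▸ h2) hc) N.index
    (Nat.le_of_dvd ha (h5 ▸ Nat.dvd_mul_left _ _)) h5 h3, mul_one]

namespace JT

open PJ

variable [Finite G] {φ : C0 →* G} {ψ : A0 →* G} {α : G →* Equiv.Perm ℕ} (F : JT φ ψ α)
include F

theorem wm : WM α (evJ φ ψ) img 100 12 3415262793781239372451021056 bs := by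
  refine ⟨F.act, F.lb.2, F.main.2.1, F.good, fun g p hp => ?_⟩
  have h1 : p ∈ orb α ⊤ 0 := by rw [F.prim.orb_top]; exact ⟨Nat.zero_le _, hp⟩
  have h2 := orb_step h1 (mem_top g)
  rw [F.prim.orb_top] at h2
  exact h2.2

theorem card_H : Nat.card (fixS α [0]) = 6048 :=
  card_of_index (n := 100) (F.prim.stab ▸ F.prim.index) (by norm_num) F.main.1

theorem card_H1 {q : ℕ} (h1 : 1 ≤ q) (h2 : q < 64) :
    Nat.card (fixS α [0] ⊓ fixS α [q] : Subgroup G) = 96 := by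
  have h := card_eq_of_orb α (fixS α [0]) q
  have h3 := F.prim.sub (1, 64, [7]) (by decide)
  rw [F.prim.stab] at h3
  rw [orb_eq_of_mem (a := 1) (h3 ▸ ⟨h1, h2⟩), h3, F.card_H, Set.ncard_Ico_nat] at h
  simp only at h
  omega

theorem card_H2 {q : ℕ} (h1 : 64 ≤ q) (h2 : q < 100) :
    Nat.card (fixS α [0] ⊓ fixS α [q] : Subgroup G) = 168 := by
  have h := card_eq_of_orb α (fixS α [0]) q
  have h3 := F.prim.sub (64, 100, [4]) (by decide)
  rw [F.prim.stab] at h3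
  rw [orb_eq_of_mem (a := 64) (h3 ▸ ⟨h1, h2⟩), h3, F.card_H, Set.ncard_Ico_nat] at h
  simp only at h
  omega

theorem seven (D : Sylow 7 G) : centralizer ((D : Subgroup G) : Set G) = D ∧
    Nat.card (normalizer ((D : Subgroup G) : Set G)) = 42 ∧
    ¬ IsMulCommutative (normalizer ((D : Subgroup G) : Set G)) := by
  have : Fact (Nat.Prime 7) := ⟨by norm_num⟩
  have M := F.wm
  have cP : Nat.card (gen (evJ φ ψ) X7) = 7 ^ 1 := M.cl_card c7
  obtain ⟨h1, -, h2⟩ := sylow_facts _ cP (by rw [F.main.1]; norm_num)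
  obtain ⟨⟨e⟩, h3, h4⟩ := h2 D
  have fx : ∀ q ∈ [0, 96], gen (evJ φ ψ) X7 ≤ fixS α [q] := fun q hq => gen_le fun w hw =>
    F.act.mem_fixS (by simp at hq ⊢; omega) (by revert w q; decide +kernel)
  have fl : fixL img 100 [5, 8, 10, 8] = [0, 96] := by decide +kernel
  have nf : ∀ q ∈ [0, 96], ∀ g ∈ normalizer (gen (evJ φ ψ) X7 : Set G), (α g)⁻¹ q ∈ [0, 96] :=
    fun q hq g hg => fl ▸ M.norm_fix (by simp at hq; omega) (fx q hq) hg (by decide +kernel)
      (evL_mem_gen _ (List.mem_singleton_self _))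
  have b1 := card_le_of_orb α _ 0 [0, 96] (nf 0 (by simp))
  have b2 := two_mul_card_le (A := normalizer (gen (evJ φ ψ) X7 : Set G) ⊓ fixS α [0])
    (B := fixS α [0] ⊓ fixS α [96]) (x := evL (evJ φ ψ) [1, 3]) (fun g hg => ⟨hg.2, mem_fixS'.mpr <| by
      rw [List.forall_mem_singleton]
      have e1 := nf 96 (by simp) g hg.1
      have e2 := mem_fixS'.mp hg.2 0 (List.mem_singleton_self _)
      simp only [List.mem_cons, List.not_mem_nil, or_false] at e1
      refine e1.resolve_left fun e3 => ?_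
      exact absurd ((α g)⁻¹.injective (e3.trans e2.symm)) (by norm_num)⟩)
    ⟨F.act.mem_fixS (by simp) (by decide +kernel), F.act.mem_fixS (by simp) (by decide +kernel)⟩
    fun h => M.not_norm c7 (List.mem_singleton_self _) (by decide +kernel) h.1
  rw [F.card_H2 (by norm_num) (by norm_num)] at b2
  have le : gen (evJ φ ψ) Y7 ≤ normalizer (gen (evJ φ ψ) X7 : Set G) :=
    gen_le fun w hw => M.norm c7 (by revert w; decide +kernel)
  have cY : Nat.card (gen (evJ φ ψ) Y7) = 42 := M.cl_card c42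
  have cN : Nat.card (normalizer (gen (evJ φ ψ) X7 : Set G)) = 42 :=
    eq_of_index (a := 14400) (b := 4) F.main.1 (cY ▸ card_dvd_of_le le)
      (by simp only [List.length_cons, List.length_nil] at b1; omega) h1 (by intro m hm i _ e1 e2; interval_cases m <;> omega)
  have eN := eq_of_le_of_card_ge le (by rw [cY, cN])
  have hC : centralizer (gen (evJ φ ψ) X7 : Set G) = gen (evJ φ ψ) X7 := by
    apply le_antisymm
    · intro g hg
      obtain ⟨w, hw, rfl⟩ := (M.cl_iff c42).mp (eN ▸ centralizer_le_normalizer _ hg)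
      have : neW img 12 bs ([5, 8, 10, 8] ++ w) (w ++ [5, 8, 10, 8]) = true ∨
          memW img 12 bs (V7.map (subst X7)) w = true := by clear hg; revert w; decide +kernel
      refine M.mem c7 (this.resolve_left fun h => M.ne h ?_)
      rw [evL_append, evL_append]
      exact hg _ (evL_mem_gen _ (List.mem_singleton_self _))
    · intro g hg k hk
      obtain ⟨w, hw, rfl⟩ := (M.cl_iff c7).mp hg
      obtain ⟨v, hv, rfl⟩ := (M.cl_iff c7).mp hk
      rw [← evL_append, ← evL_append]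
      exact M.eq (by clear hg hk; revert w v; decide +kernel)
  refine ⟨h4 hC, h3.trans cN, fun hc => ?_⟩
  have : normalizer ((D : Subgroup G) : Set G) ≤ D := by
    rw [← h4 hC]
    intro g hg k hk
    rw [h4 hC] at hg
    exact congrArg Subtype.val (hc.is_comm.comm ⟨k, le_normalizer hk⟩ ⟨g, hg⟩)
  have := card_le_of_le this
  rw [h3, cN, Nat.card_congr e.toEquiv, cP] at this
  omega

theorem three (P : Sylow 3 G) : IsExtraspecial 3 (P : Subgroup G) ∧ Nat.card P = 27 ∧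
    Nat.card (normalizer ((P : Subgroup G) : Set G)) = 216 ∧
    ∃ a b : G, orderOf a = 3 ∧ orderOf b = 3 ∧ ¬ IsConj a b ∧
      ∀ c : G, orderOf c = 3 → IsConj c a ∨ IsConj c b := by
  have : Fact (Nat.Prime 3) := ⟨by norm_num⟩
  have : Fact (Nat.Prime 2) := ⟨by norm_num⟩
  have M := F.wm
  have cP : Nat.card (gen (evJ φ ψ) X3) = 3 ^ 3 := M.cl_card c3
  obtain ⟨h1, h5, h2⟩ := sylow_facts _ cP (by rw [F.main.1]; norm_num)
  obtain ⟨⟨e⟩, h3, -⟩ := h2 P
  have cP' : Nat.card P = 3 ^ 3 := (Nat.card_congr e.toEquiv).trans cP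
  have fx : gen (evJ φ ψ) X3 ≤ fixS α [0] := gen_le fun w hw =>
    F.act.mem_fixS (by simp) (by revert w; decide +kernel)
  have n0 : ∀ g ∈ normalizer (gen (evJ φ ψ) X3 : Set G), (α g)⁻¹ 0 = 0 := by
    intro g hg
    have e1 := M.norm_fix (by norm_num) fx hg (w := [9, 1, 11]) (by decide +kernel)
      (evL_mem_gen _ (by decide))
    have e2 := M.norm_fix (by norm_num) fx hg (w := [1, 2, 10, 11, 2, 3]) (by decide +kernel)
      (evL_mem_gen _ (by decide))
    generalize (α g)⁻¹ 0 = q at e1 e2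
    revert q
    decide +kernel
  have b1 := card_le_of_orb α (normalizer (gen (evJ φ ψ) X3 : Set G)) 23
    [23, 28, 30, 31, 49, 56, 58, 59, 63] (fun g hg => by
      have e1 := M.norm_fix' c3 (t := [5]) (by decide +kernel) (by decide +kernel) hg (q := 23)
        (by decide +kernel)
      have e2 : (α g)⁻¹ 23 ≠ 0 := fun e3 =>
        absurd ((α g)⁻¹.injective (e3.trans (n0 g hg).symm)) (by norm_num)
      generalize (α g)⁻¹ 23 = q at e1 e2
      revert q
      decide +kernel)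
  have b2 := two_mul_card_le (A := normalizer (gen (evJ φ ψ) X3 : Set G) ⊓ fixS α [23])
    (B := fixS α [0] ⊓ fixS α [23]) (x := evL (evJ φ ψ) [7, 2, 11, 2, 8]) (fun g hg =>
      ⟨mem_fixS'.mpr (List.forall_mem_singleton.mpr (n0 g hg.1)), hg.2⟩)
    ⟨F.act.mem_fixS (by simp) (by decide +kernel), F.act.mem_fixS (by simp) (by decide +kernel)⟩
    fun h => M.not_norm c3 (x := [9, 1, 11]) (by decide) (by decide +kernel) h.1
  rw [F.card_H1 (by norm_num) (by norm_num)] at b2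
  have o8 : orderOf (evL (evJ φ ψ) [2, 4, 5, 11, 8, 8]) = 2 ^ (2 + 1) :=
    orderOf_eq_prime_pow (by rw [← evL_rp]; exact M.ne (w := []) (by decide +kernel))
      (by rw [← evL_rp]; exact M.eq (w := []) (by decide +kernel))
  have d8 : 2 ^ (2 + 1) ∣ Nat.card (normalizer (gen (evJ φ ψ) X3 : Set G)) :=
    o8 ▸ orderOf_dvd_natCard _ (M.norm c3 (by decide +kernel))
  have d27 : 3 ^ 3 ∣ Nat.card (normalizer (gen (evJ φ ψ) X3 : Set G)) :=
    cP ▸ card_dvd_of_le le_normalizer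
  have cN : Nat.card (normalizer (gen (evJ φ ψ) X3 : Set G)) = 216 :=
    eq_of_index (a := 2800) (b := 2) F.main.1
      (Nat.Coprime.mul_dvd_of_dvd_of_dvd (by norm_num) d8 d27)
      (by simp only [List.length_cons, List.length_nil] at b1; omega) h1 (by intro m hm i _ e1 e2; interval_cases m <;> omega)
  refine ⟨H8.isExtraspecial_of_card_cube cP' fun h => ?_, cP', h3.trans cN, evL (evJ φ ψ) [5],
    evL (evJ φ ψ) [9], M.orderOf_eq_prime (by decide +kernel),
    M.orderOf_eq_prime (by decide +kernel), fun h => ?_, fun c hc => ?_⟩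
  · have := congrArg e (h (e.symm ⟨_, evL_mem_gen _ (List.mem_cons_self)⟩)
      (e.symm ⟨evL (evJ φ ψ) [1, 2, 10, 11, 2, 3], evL_mem_gen _ (by decide)⟩))
    simp only [map_mul, MulEquiv.apply_symm_apply] at this
    have := congrArg Subtype.val this
    simp only [coe_mul, ← evL_append] at this
    exact M.ne (by decide +kernel) this
  · have := M.ncard_conj h
    rw [M.ncard_fixSet (by decide +kernel), M.ncard_fixSet (by decide +kernel)] at this
    revert this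
    decide +kernel
  · obtain ⟨g, hg⟩ := h5 c (by rw [← hc, pow_orderOf_eq_one])
    obtain ⟨w, hw, e⟩ := (M.cl_iff c3).mp hg
    have : w = [] ∨ ∃ k ∈ C3, eqW img 12 bs (cjW 3415262793781239372451021056 k w) [5] = true ∨
        eqW img 12 bs (cjW 3415262793781239372451021056 k w) [9] = true := by
      clear e; revert w; decide +kernel
    have c1 : IsConj c (evL (evJ φ ψ) w) := isConj_iff.mpr ⟨g, e.symm⟩
    rcases this with rfl | ⟨k, -, h | h⟩
    · rw [evL_nil, isConj_one_left] at c1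
      rw [c1] at hc; simp at hc
    · exact Or.inl (c1.trans (isConj_iff.mpr ⟨_, (evL_cjW F.good k w).symm.trans (M.eq h)⟩))
    · exact Or.inr (c1.trans (isConj_iff.mpr ⟨_, (evL_cjW F.good k w).symm.trans (M.eq h)⟩))

omit [Finite G] in
theorem rho_eq : evL (evJ φ ψ) [1, 3, 10, 11, 9, 1] = ψ A0.rho := by
  show φ C0.a0 * (φ C0.z * ((ψ A0.t)⁻¹ * (ψ A0.u * (ψ A0.t * (φ C0.a0 * 1))))) = _
  rw [A0.rho, ← F.rel.xz, ← F.pz]; simp [mul_assoc]

omit [Finite G] F in
theorem r_eq : evL (evJ φ ψ) [7] = φ (C0.inr A0.r) := evL_singleton _ _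

theorem five (P : Sylow 5 G) : centralizer ((P : Subgroup G) : Set G) = P ∧ Nat.card P = 25 ∧
    Nat.card (normalizer ((P : Subgroup G) : Set G)) = 300 ∧
    ∃ X Y : Subgroup G, Nat.card X = 5 ∧ Nat.card Y = 5 ∧
      (∀ g : G, X.map (MulAut.conj g).toMonoidHom ≠ Y) ∧ ∀ W : Subgroup G, Nat.card W = 5 →
        ∃ g : G, W.map (MulAut.conj g).toMonoidHom = X ∨ W.map (MulAut.conj g).toMonoidHom = Y := by
  have : Fact (Nat.Prime 5) := ⟨by norm_num⟩
  have : Fact (Nat.Prime 3) := ⟨by norm_num⟩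
  have M := F.wm
  have cP : Nat.card (gen (evJ φ ψ) X5) = 5 ^ 2 := M.cl_card c5
  obtain ⟨h1, h5, h2⟩ := sylow_facts _ cP (by rw [F.main.1]; norm_num)
  obtain ⟨⟨e⟩, h3, h4⟩ := h2 P
  have mρ : ψ A0.rho ∈ gen (evJ φ ψ) X5 := F.rho_eq ▸ evL_mem_gen _ (by decide)
  have mr : φ (C0.inr A0.r) ∈ gen (evJ φ ψ) X5 := by
    rw [← r_eq (ψ := ψ)]; exact evL_mem_gen _ (by decide)
  have ab : ∀ g ∈ gen (evJ φ ψ) X5, ∀ k ∈ gen (evJ φ ψ) X5, k * g = g * k := by
    intro g hg k hk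
    obtain ⟨w, hw, rfl⟩ := (M.cl_iff c5).mp hg
    obtain ⟨v, hv, rfl⟩ := (M.cl_iff c5).mp hk
    rw [← evL_append, ← evL_append]
    exact M.eq (by clear hg hk; revert w v; decide +kernel)
  have comm : ∀ ζ ∈ zpowers (ψ A0.rho), ∀ s, ζ * φ (C0.inr s) = φ (C0.inr s) * ζ := by
    rintro _ ⟨k, rfl⟩ s
    exact (Commute.zpow_left (F.commr s) k).eq
  have inj : Function.Injective (φ.comp C0.inr) :=
    F.inj.comp fun a b e => congrArg C0.s e
  have hC : centralizer (gen (evJ φ ψ) X5 : Set G) = gen (evJ φ ψ) X5 := by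
    refine le_antisymm (fun g hg => ?_) fun g hg k hk => ab g hg k hk
    obtain ⟨ζ, hζ, s, rfl⟩ := F.cenr g (hg _ mρ).symm
    have e1 := hg _ mr
    rw [← mul_assoc, ← comm ζ hζ, mul_assoc, mul_assoc, mul_right_inj] at e1
    have e2 : A0.r * s = s * A0.r := inj (by simpa using e1)
    have : ∀ s : A0, A0.r * s = s * A0.r → ∃ k : TN 9 5, s = A0.r ^ k.val := by decide +kernel
    obtain ⟨k, rfl⟩ := this s e2
    refine mul_mem (zpowers_le.mpr mρ hζ) ?_
    rw [map_pow, map_pow]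
    exact pow_mem mr _
  have o5 : orderOf (ψ A0.rho) = 5 := F.rho_eq ▸ M.orderOf_eq_prime (by decide +kernel)
  have b1 := card_le_of_conj (normalizer (gen (evJ φ ψ) X5 : Set G)) (ψ A0.rho)
    ((V5.map (subst X5)).tail.map (evL (evJ φ ψ))) (fun g hg => by
      obtain ⟨w, hw, e⟩ := (M.cl_iff c5).mp ((mem_normalizer_iff''.mp hg _).mp mρ)
      rcases List.mem_cons.mp hw with rfl | hw
      · have : ψ A0.rho = 1 := by
          have e' : (1 : G) = g⁻¹ * ψ A0.rho * g := e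
          calc _ = g * (g⁻¹ * ψ A0.rho * g) * g⁻¹ := by group
            _ = 1 := by rw [← e']; group
        rw [this] at o5; simp at o5
      · exact List.mem_map.mpr ⟨w, hw, e⟩)
  have b2 := card_le_of_cover
    (K := normalizer (gen (evJ φ ψ) X5 : Set G) ⊓ centralizer {ψ A0.rho})
    (fun p : zpowers (ψ A0.rho) × {s : A0 // A0.r * (s * A0.r * s⁻¹) = s * A0.r * s⁻¹ * A0.r} =>
      p.1.1 * φ (C0.inr p.2.1)) (fun g hg => by
      obtain ⟨ζ, hζ, s, rfl⟩ := F.cenr g (mem_centralizer_singleton_iff.mp hg.2)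
      refine ⟨(⟨ζ, hζ⟩, ⟨s, inj ?_⟩), rfl⟩
      have e1 := (mem_normalizer_iff.mp hg.1 _).mp mr
      have e2 : ζ * φ (C0.inr s) * φ (C0.inr A0.r) * (ζ * φ (C0.inr s))⁻¹ =
          φ (C0.inr (s * A0.r * s⁻¹)) := by
        calc _ = ζ * φ (C0.inr (s * A0.r * s⁻¹)) * ζ⁻¹ := by simp [mul_assoc]
          _ = _ := by rw [comm ζ hζ, mul_inv_cancel_right]
      rw [e2] at e1
      rw [map_mul, map_mul _ _ A0.r]
      exact ab _ e1 _ mr)
  have b3 : Nat.card {s : A0 // A0.r * (s * A0.r * s⁻¹) = s * A0.r * s⁻¹ * A0.r} = 10 := by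
    rw [TN.card_subtype]; decide +kernel
  rw [Nat.card_prod, b3, Nat.card_zpowers, o5] at b2
  have d3 : 3 ∣ Nat.card (normalizer (gen (evJ φ ψ) X5 : Set G)) :=
    M.orderOf_eq_prime (w := [1, 2, 7, 11, 8, 1, 2]) (p := 3) (by decide +kernel) ▸
      orderOf_dvd_natCard _ (M.norm c5 (by decide +kernel))
  have d4 : 4 ∣ Nat.card (normalizer (gen (evJ φ ψ) X5 : Set G)) :=
    (show 4 = _ from (M.cl_card c4).symm) ▸ card_dvd_of_le
      (gen_le fun w hw => M.norm c5 (by revert w; decide +kernel))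
  have d25 : 5 ^ 2 ∣ Nat.card (normalizer (gen (evJ φ ψ) X5 : Set G)) :=
    cP ▸ card_dvd_of_le le_normalizer
  have cN : Nat.card (normalizer (gen (evJ φ ψ) X5 : Set G)) = 300 :=
    eq_of_index (a := 2016) (b := 4) F.main.1
      (Nat.Coprime.mul_dvd_of_dvd_of_dvd (by norm_num)
        (Nat.Coprime.mul_dvd_of_dvd_of_dvd (by norm_num) d3 d4) d25)
      (by
        have : ((V5.map (subst X5)).tail.map (evL (evJ φ ψ))).length = 24 := rfl
        rw [this] at b1; omega) h1 (by intro m hm i _ e1 e2; interval_cases m <;> omega)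
  have cX : Nat.card (gen (evJ φ ψ) [[1, 3, 10, 11, 9, 1]]) = 5 := M.cl_card c5a
  have cY : Nat.card (gen (evJ φ ψ) [[7]]) = 5 := M.cl_card c5b
  refine ⟨h4 hC, (Nat.card_congr e.toEquiv).trans cP, h3.trans cN, _, _, cX, cY, fun g hg => ?_,
    fun W hW => ?_⟩
  · have e1 : gen (evJ φ ψ) [[7]] ≤ centralizer {φ C0.z} := gen_le fun w hw => by
      rw [List.mem_singleton.mp hw, r_eq]
      exact mem_centralizer_singleton_iff.mpr (F.z_comm _)
    have e2 : g * ψ A0.rho * g⁻¹ * φ C0.z = φ C0.z * (g * ψ A0.rho * g⁻¹) :=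
      mem_centralizer_singleton_iff.mp (e1 (hg ▸ ⟨_, F.rho_eq ▸ evL_mem_gen _
        (List.mem_singleton_self _), rfl⟩))
    obtain ⟨ζ, hζ, s, e3⟩ := F.cenr (g⁻¹ * φ C0.z * g) (by
      calc _ = g⁻¹ * (φ C0.z * (g * ψ A0.rho * g⁻¹)) * g := by group
        _ = _ := by rw [← e2]; group)
    have c1 : IsConj (φ C0.z) (g⁻¹ * φ C0.z * g) := isConj_iff.mpr ⟨g⁻¹, by simp⟩
    obtain ⟨e4, -⟩ := split_pow A0.center_triv inj (comm ζ hζ) (b := s) (n := 2) (by
      rw [pow_two]; exact e3 ▸ sq_of_isConj F.zz c1)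
    have e5 : ζ ^ 5 = 1 := by
      have := orderOf_dvd_of_mem_zpowers hζ
      rwa [o5, orderOf_dvd_iff_pow_eq_one] at this
    rw [e3, H8.eq_one_of_pow_coprime (by norm_num) e4 e5, one_mul] at c1
    obtain ⟨-, e6, e7⟩ := F.of_z_type c1
    have : s = 1 := e7
    exact e6 (by rw [this, map_one])
  · have : Nontrivial W := Finite.one_lt_card_iff_nontrivial.mp (by omega)
    obtain ⟨c, hc⟩ := exists_ne (1 : W)
    have eW : zpowers c.1 = W := by
      have := zpowers_eq_top_of_prime_card hW hc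
      have e := congrArg (map W.subtype) this
      rwa [MonoidHom.map_zpowers, ← MonoidHom.range_eq_map, range_subtype] at e
    obtain ⟨g, hg⟩ := h5 c.1 (by
      have := pow_card_eq_one' (x := c)
      rw [hW] at this
      exact congrArg Subtype.val this)
    obtain ⟨w, hw, e⟩ := (M.cl_iff c5).mp hg
    have : ∃ k ∈ C5, memW img 12 bs (W5.map (subst [[1, 3, 10, 11, 9, 1]]))
        (cjW 3415262793781239372451021056 k w) = true ∨
        memW img 12 bs (W5.map (subst [[7]])) (cjW 3415262793781239372451021056 k w) = true := by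
      clear e; revert w; decide +kernel
    obtain ⟨k, -, h⟩ := this
    have key : ∀ Z : Subgroup G, Nat.card Z = 5 →
        evL (evJ φ ψ) (cjW 3415262793781239372451021056 k w) ∈ Z →
        W.map (MulAut.conj (evL (evJ φ ψ) k * g)).toMonoidHom = Z := by
      intro Z hZ h
      refine eq_of_le_of_card_ge ?_ (by rw [card_map_of_injective (MulEquiv.injective _), hZ, hW])
      rw [← eW, MonoidHom.map_zpowers, zpowers_le]
      rw [evL_cjW F.good, e] at h
      convert h using 1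
      simp [mul_assoc]
    exact ⟨_, h.imp (fun h => key _ cX (M.mem c5a h)) fun h => key _ cY (M.mem c5b h)⟩

end JT

end Cfsg.H5
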