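import Cfsg.Agent.H5.J2Bd

/-!
Relations in the amalgam for the third Janko group.
-/

set_option autoImplicit false
set_option maxRecDepth 100000
set_option linter.unusedSimpArgs false
set_option linter.unusedVariables false

namespace Cfsg.H5

open Cfsg.H6

namespace P3C

structure Rel {G : Type*} [Group G] (a b z w t u : G) : Prop where
  hN : PN.Rel a b z w t
  uu : u * u = 1
  ut : (u * t) ^ 2 = 1
  uw : (u * w) ^ 3 = 1
  ua : u * a * u = b
  uz : u * z = z * u

def R : List (List ℕ) := [[1, 1], [2, 2], [3, 3], [4, 4], [5, 5, 5], [5, 4, 5, 4, 5, 4], [3, 1, 3, 1], [3, 2, 3, 2], [3, 4, 3, 4], [3, 5, 3, 6], [1, 2, 1, 2, 3], [5, 1, 6, 1], [5, 2, 6, 2], [4, 1, 4, 1], [2, 4, 2, 4, 2, 4, 2, 4, 3], [1, 4, 2, 4, 2, 6, 4, 2, 4, 5, 5, 4, 2, 4, 6], [7, 7], [7, 5, 7, 5], [7, 4, 7, 4, 7, 4], [7, 1, 7, 2], [7, 3, 7, 3]]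

def ev {G : Type*} [Group G] (a b z w t u : G) (l : ℕ) : G := [1, a, b, z, w, t, t⁻¹, u].getD l 1

theorem good {G : Type*} [Group G] {a b z w t u : G} (H : Rel a b z w t u) : Good (ev a b z w t u) 505817147449147648 := by
  have i_a : a⁻¹ = a := inv_eq_of_mul_eq_one_right H.hN.aa
  have i_b : b⁻¹ = b := inv_eq_of_mul_eq_one_right H.hN.bb
  have i_z : z⁻¹ = z := inv_eq_of_mul_eq_one_right H.hN.zz
  have i_w : w⁻¹ = w := inv_eq_of_mul_eq_one_right H.hN.ww
  have i_u : u⁻¹ = u := inv_eq_of_mul_eq_one_right H.uu
  refine good_list (n := 8) rfl (by norm_num) rfl fun l hl => ?_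
  interval_cases l
  · exact inv_one.symm
  · exact i_a.symm
  · exact i_b.symm
  · exact i_z.symm
  · exact i_w.symm
  · rfl
  · exact (inv_inv _).symm
  · exact i_u.symm

theorem rels {G : Type*} [Group G] {a b z w t u : G} (H : Rel a b z w t u) : Rels (ev a b z w t u) R := by
  have i_a : a⁻¹ = a := inv_eq_of_mul_eq_one_right H.hN.aa
  have i_b : b⁻¹ = b := inv_eq_of_mul_eq_one_right H.hN.bb
  have i_z : z⁻¹ = z := inv_eq_of_mul_eq_one_right H.hN.zz
  have i_w : w⁻¹ = w := inv_eq_of_mul_eq_one_right H.hN.ww
  have i_u : u⁻¹ = u := inv_eq_of_mul_eq_one_right H.uu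
  unfold R
  refine Rels.cons ?_ ?_
  · show a * (a * 1) = 1
    simpa only [mul_inv_rev, inv_inv, mul_assoc, mul_one, one_mul, inv_one, pow_succ, pow_zero, i_a, i_b, i_z, i_w, i_u] using mul_inv_eq_one.mpr H.hN.aa
  refine Rels.cons ?_ ?_
  · show b * (b * 1) = 1
    simpa only [mul_inv_rev, inv_inv, mul_assoc, mul_one, one_mul, inv_one, pow_succ, pow_zero, i_a, i_b, i_z, i_w, i_u] using mul_inv_eq_one.mpr H.hN.bb
  refine Rels.cons ?_ ?_
  · show z * (z * 1) = 1
    simpa only [mul_inv_rev, inv_inv, mul_assoc, mul_one, one_mul, inv_one, pow_succ, pow_zero, i_a, i_b, i_z, i_w, i_u] using mul_inv_eq_one.mpr H.hN.zz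
  refine Rels.cons ?_ ?_
  · show w * (w * 1) = 1
    simpa only [mul_inv_rev, inv_inv, mul_assoc, mul_one, one_mul, inv_one, pow_succ, pow_zero, i_a, i_b, i_z, i_w, i_u] using mul_inv_eq_one.mpr H.hN.ww
  refine Rels.cons ?_ ?_
  · show t * (t * (t * 1)) = 1
    simpa only [mul_inv_rev, inv_inv, mul_assoc, mul_one, one_mul, inv_one, pow_succ, pow_zero, i_a, i_b, i_z, i_w, i_u] using mul_inv_eq_one.mpr H.hN.t3
  refine Rels.cons ?_ ?_
  · show t * (w * (t * (w * (t * (w * 1))))) = 1
    simpa only [mul_inv_rev, inv_inv, mul_assoc, mul_one, one_mul, inv_one, pow_succ, pow_zero, i_a, i_b, i_z, i_w, i_u] using mul_inv_eq_one.mpr H.hN.tw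
  refine Rels.cons ?_ ?_
  · show z * (a * (z * (a * 1))) = 1
    simpa only [mul_inv_rev, inv_inv, mul_assoc, mul_one, one_mul, inv_one, pow_succ, pow_zero, i_a, i_b, i_z, i_w, i_u] using mul_inv_eq_one.mpr H.hN.za
  refine Rels.cons ?_ ?_
  · show z * (b * (z * (b * 1))) = 1
    simpa only [mul_inv_rev, inv_inv, mul_assoc, mul_one, one_mul, inv_one, pow_succ, pow_zero, i_a, i_b, i_z, i_w, i_u] using mul_inv_eq_one.mpr H.hN.zb
  refine Rels.cons ?_ ?_
  · show z * (w * (z * (w * 1))) = 1
    simpa only [mul_inv_rev, inv_inv, mul_assoc, mul_one, one_mul, inv_one, pow_succ, pow_zero, i_a, i_b, i_z, i_w, i_u] using mul_inv_eq_one.mpr H.hN.zw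
  refine Rels.cons ?_ ?_
  · show z * (t * (z * (t⁻¹ * 1))) = 1
    simpa only [mul_inv_rev, inv_inv, mul_assoc, mul_one, one_mul, inv_one, pow_succ, pow_zero, i_a, i_b, i_z, i_w, i_u] using mul_inv_eq_one.mpr H.hN.zt
  refine Rels.cons ?_ ?_
  · show a * (b * (a * (b * (z * 1)))) = 1
    simpa only [mul_inv_rev, inv_inv, mul_assoc, mul_one, one_mul, inv_one, pow_succ, pow_zero, i_a, i_b, i_z, i_w, i_u] using mul_inv_eq_one.mpr H.hN.ab
  refine Rels.cons ?_ ?_
  · show t * (a * (t⁻¹ * (a * 1))) = 1
    simpa only [mul_inv_rev, inv_inv, mul_assoc, mul_one, one_mul, inv_one, pow_succ, pow_zero, i_a, i_b, i_z, i_w, i_u] using mul_inv_eq_one.mpr H.hN.ta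
  refine Rels.cons ?_ ?_
  · show t * (b * (t⁻¹ * (b * 1))) = 1
    simpa only [mul_inv_rev, inv_inv, mul_assoc, mul_one, one_mul, inv_one, pow_succ, pow_zero, i_a, i_b, i_z, i_w, i_u] using mul_inv_eq_one.mpr H.hN.tb
  refine Rels.cons ?_ ?_
  · show w * (a * (w * (a * 1))) = 1
    simpa only [mul_inv_rev, inv_inv, mul_assoc, mul_one, one_mul, inv_one, pow_succ, pow_zero, i_a, i_b, i_z, i_w, i_u] using mul_inv_eq_one.mpr H.hN.wa
  refine Rels.cons ?_ ?_
  · show b * (w * (b * (w * (b * (w * (b * (w * (z * 1)))))))) = 1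
    simpa only [mul_inv_rev, inv_inv, mul_assoc, mul_one, one_mul, inv_one, pow_succ, pow_zero, i_a, i_b, i_z, i_w, i_u] using mul_inv_eq_one.mpr H.hN.bw
  refine Rels.cons ?_ ?_
  · show a * (w * (b * (w * (b * (t⁻¹ * (w * (b * (w * (t * (t * (w * (b * (w * (t⁻¹ * 1)))))))))))))) = 1
    simpa only [mul_inv_rev, inv_inv, mul_assoc, mul_one, one_mul, inv_one, pow_succ, pow_zero, i_a, i_b, i_z, i_w, i_u] using mul_inv_eq_one.mpr H.hN.pr
  refine Rels.cons ?_ ?_
  · show u * (u * 1) = 1
    simpa only [mul_inv_rev, inv_inv, mul_assoc, mul_one, one_mul, inv_one, pow_succ, pow_zero, i_a, i_b, i_z, i_w, i_u] using mul_inv_eq_one.mpr H.uu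
  refine Rels.cons ?_ ?_
  · show u * (t * (u * (t * 1))) = 1
    simpa only [mul_inv_rev, inv_inv, mul_assoc, mul_one, one_mul, inv_one, pow_succ, pow_zero, i_a, i_b, i_z, i_w, i_u] using mul_inv_eq_one.mpr H.ut
  refine Rels.cons ?_ ?_
  · show u * (w * (u * (w * (u * (w * 1))))) = 1
    simpa only [mul_inv_rev, inv_inv, mul_assoc, mul_one, one_mul, inv_one, pow_succ, pow_zero, i_a, i_b, i_z, i_w, i_u] using mul_inv_eq_one.mpr H.uw
  refine Rels.cons ?_ ?_
  · show u * (a * (u * (b * 1))) = 1
    simpa only [mul_inv_rev, inv_inv, mul_assoc, mul_one, one_mul, inv_one, pow_succ, pow_zero, i_a, i_b, i_z, i_w, i_u] using mul_inv_eq_one.mpr H.ua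
  refine Rels.cons ?_ ?_
  · show u * (z * (u * (z * 1))) = 1
    simpa only [mul_inv_rev, inv_inv, mul_assoc, mul_one, one_mul, inv_one, pow_succ, pow_zero, i_a, i_b, i_z, i_w, i_u] using mul_inv_eq_one.mpr H.uz
  intro r hr
  exact absurd hr List.not_mem_nil

/-- The relations hold for the letters of any assignment satisfying the relators. -/
theorem rel_of {G : Type*} [Group G] {e : ℕ → G} (hg : Good e 505817147449147648) (hR : Rels e R) :
    Rel (e 1) (e 2) (e 3) (e 4) (e 5) (e 7) := by
  have j1 : (e 1)⁻¹ = e 1 := (hg.inv 1).symm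
  have j2 : (e 2)⁻¹ = e 2 := (hg.inv 2).symm
  have j3 : (e 3)⁻¹ = e 3 := (hg.inv 3).symm
  have j4 : (e 4)⁻¹ = e 4 := (hg.inv 4).symm
  have j5 : (e 5)⁻¹ = e 6 := (hg.inv 5).symm
  have j6 : (e 6)⁻¹ = e 5 := (hg.inv 6).symm
  have j7 : (e 7)⁻¹ = e 7 := (hg.inv 7).symm
  have r0 : e 1 * (e 1 * 1) = 1 := hR [1, 1] (List.mem_of_elem_eq_true (by decide))
  have r1 : e 2 * (e 2 * 1) = 1 := hR [2, 2] (List.mem_of_elem_eq_true (by decide))
  have r2 : e 3 * (e 3 * 1) = 1 := hR [3, 3] (List.mem_of_elem_eq_true (by decide))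
  have r3 : e 4 * (e 4 * 1) = 1 := hR [4, 4] (List.mem_of_elem_eq_true (by decide))
  have r4 : e 5 * (e 5 * (e 5 * 1)) = 1 := hR [5, 5, 5] (List.mem_of_elem_eq_true (by decide))
  have r5 : e 5 * (e 4 * (e 5 * (e 4 * (e 5 * (e 4 * 1))))) = 1 := hR [5, 4, 5, 4, 5, 4] (List.mem_of_elem_eq_true (by decide))
  have r6 : e 3 * (e 1 * (e 3 * (e 1 * 1))) = 1 := hR [3, 1, 3, 1] (List.mem_of_elem_eq_true (by decide))
  have r7 : e 3 * (e 2 * (e 3 * (e 2 * 1))) = 1 := hR [3, 2, 3, 2] (List.mem_of_elem_eq_true (by decide))
  have r8 : e 3 * (e 4 * (e 3 * (e 4 * 1))) = 1 := hR [3, 4, 3, 4] (List.mem_of_elem_eq_true (by decide))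
  have r9 : e 3 * (e 5 * (e 3 * (e 6 * 1))) = 1 := hR [3, 5, 3, 6] (List.mem_of_elem_eq_true (by decide))
  have r10 : e 1 * (e 2 * (e 1 * (e 2 * (e 3 * 1)))) = 1 := hR [1, 2, 1, 2, 3] (List.mem_of_elem_eq_true (by decide))
  have r11 : e 5 * (e 1 * (e 6 * (e 1 * 1))) = 1 := hR [5, 1, 6, 1] (List.mem_of_elem_eq_true (by decide))
  have r12 : e 5 * (e 2 * (e 6 * (e 2 * 1))) = 1 := hR [5, 2, 6, 2] (List.mem_of_elem_eq_true (by decide))
  have r13 : e 4 * (e 1 * (e 4 * (e 1 * 1))) = 1 := hR [4, 1, 4, 1] (List.mem_of_elem_eq_true (by decide))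
  have r14 : e 2 * (e 4 * (e 2 * (e 4 * (e 2 * (e 4 * (e 2 * (e 4 * (e 3 * 1)))))))) = 1 := hR [2, 4, 2, 4, 2, 4, 2, 4, 3] (List.mem_of_elem_eq_true (by decide))
  have r15 : e 1 * (e 4 * (e 2 * (e 4 * (e 2 * (e 6 * (e 4 * (e 2 * (e 4 * (e 5 * (e 5 * (e 4 * (e 2 * (e 4 * (e 6 * 1)))))))))))))) = 1 := hR [1, 4, 2, 4, 2, 6, 4, 2, 4, 5, 5, 4, 2, 4, 6] (List.mem_of_elem_eq_true (by decide))
  have r16 : e 7 * (e 7 * 1) = 1 := hR [7, 7] (List.mem_of_elem_eq_true (by decide))
  have r17 : e 7 * (e 5 * (e 7 * (e 5 * 1))) = 1 := hR [7, 5, 7, 5] (List.mem_of_elem_eq_true (by decide))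
  have r18 : e 7 * (e 4 * (e 7 * (e 4 * (e 7 * (e 4 * 1))))) = 1 := hR [7, 4, 7, 4, 7, 4] (List.mem_of_elem_eq_true (by decide))
  have r19 : e 7 * (e 1 * (e 7 * (e 2 * 1))) = 1 := hR [7, 1, 7, 2] (List.mem_of_elem_eq_true (by decide))
  have r20 : e 7 * (e 3 * (e 7 * (e 3 * 1))) = 1 := hR [7, 3, 7, 3] (List.mem_of_elem_eq_true (by decide))
  exact ⟨⟨mul_inv_eq_one.mp (by simpa only [mul_inv_rev, mul_assoc, mul_one, one_mul, inv_one, pow_succ, pow_zero, j1, j2, j3, j4, j5, j6, j7] using r0),
    mul_inv_eq_one.mp (by simpa only [mul_inv_rev, mul_assoc, mul_one, one_mul, inv_one, pow_succ, pow_zero, j1, j2, j3, j4, j5, j6, j7] using r1),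
    mul_inv_eq_one.mp (by simpa only [mul_inv_rev, mul_assoc, mul_one, one_mul, inv_one, pow_succ, pow_zero, j1, j2, j3, j4, j5, j6, j7] using r2),
    mul_inv_eq_one.mp (by simpa only [mul_inv_rev, mul_assoc, mul_one, one_mul, inv_one, pow_succ, pow_zero, j1, j2, j3, j4, j5, j6, j7] using r3),
    mul_inv_eq_one.mp (by simpa only [mul_inv_rev, mul_assoc, mul_one, one_mul, inv_one, pow_succ, pow_zero, j1, j2, j3, j4, j5, j6, j7] using r4),
    mul_inv_eq_one.mp (by simpa only [mul_inv_rev, mul_assoc, mul_one, one_mul, inv_one, pow_succ, pow_zero, j1, j2, j3, j4, j5, j6, j7] using r5),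
    mul_inv_eq_one.mp (by simpa only [mul_inv_rev, mul_assoc, mul_one, one_mul, inv_one, pow_succ, pow_zero, j1, j2, j3, j4, j5, j6, j7] using r6),
    mul_inv_eq_one.mp (by simpa only [mul_inv_rev, mul_assoc, mul_one, one_mul, inv_one, pow_succ, pow_zero, j1, j2, j3, j4, j5, j6, j7] using r7),
    mul_inv_eq_one.mp (by simpa only [mul_inv_rev, mul_assoc, mul_one, one_mul, inv_one, pow_succ, pow_zero, j1, j2, j3, j4, j5, j6, j7] using r8),
    mul_inv_eq_one.mp (by simpa only [mul_inv_rev, mul_assoc, mul_one, one_mul, inv_one, pow_succ, pow_zero, j1, j2, j3, j4, j5, j6, j7] using r9),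
    mul_inv_eq_one.mp (by simpa only [mul_inv_rev, mul_assoc, mul_one, one_mul, inv_one, pow_succ, pow_zero, j1, j2, j3, j4, j5, j6, j7] using r10),
    mul_inv_eq_one.mp (by simpa only [mul_inv_rev, mul_assoc, mul_one, one_mul, inv_one, pow_succ, pow_zero, j1, j2, j3, j4, j5, j6, j7] using r11),
    mul_inv_eq_one.mp (by simpa only [mul_inv_rev, mul_assoc, mul_one, one_mul, inv_one, pow_succ, pow_zero, j1, j2, j3, j4, j5, j6, j7] using r12),
    mul_inv_eq_one.mp (by simpa only [mul_inv_rev, mul_assoc, mul_one, one_mul, inv_one, pow_succ, pow_zero, j1, j2, j3, j4, j5, j6, j7] using r13),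
    mul_inv_eq_one.mp (by simpa only [mul_inv_rev, mul_assoc, mul_one, one_mul, inv_one, pow_succ, pow_zero, j1, j2, j3, j4, j5, j6, j7] using r14),
    mul_inv_eq_one.mp (by simpa only [mul_inv_rev, mul_assoc, mul_one, one_mul, inv_one, pow_succ, pow_zero, j1, j2, j3, j4, j5, j6, j7] using r15)⟩,
    mul_inv_eq_one.mp (by simpa only [mul_inv_rev, mul_assoc, mul_one, one_mul, inv_one, pow_succ, pow_zero, j1, j2, j3, j4, j5, j6, j7] using r16),
    mul_inv_eq_one.mp (by simpa only [mul_inv_rev, mul_assoc, mul_one, one_mul, inv_one, pow_succ, pow_zero, j1, j2, j3, j4, j5, j6, j7] using r17),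
    mul_inv_eq_one.mp (by simpa only [mul_inv_rev, mul_assoc, mul_one, one_mul, inv_one, pow_succ, pow_zero, j1, j2, j3, j4, j5, j6, j7] using r18),
    mul_inv_eq_one.mp (by simpa only [mul_inv_rev, mul_assoc, mul_one, one_mul, inv_one, pow_succ, pow_zero, j1, j2, j3, j4, j5, j6, j7] using r19),
    mul_inv_eq_one.mp (by simpa only [mul_inv_rev, mul_assoc, mul_one, one_mul, inv_one, pow_succ, pow_zero, j1, j2, j3, j4, j5, j6, j7] using r20)⟩

theorem Rel.map {G G' : Type*} [Group G] [Group G'] {a b z w t u : G} (H : Rel a b z w t u) (f : G →* G') :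
    Rel (f a) (f b) (f z) (f w) (f t) (f u) :=
  ⟨H.hN.map f,
    by simpa only [map_mul, map_inv, map_pow, map_one] using congrArg f H.uu,
    by simpa only [map_mul, map_inv, map_pow, map_one] using congrArg f H.ut,
    by simpa only [map_mul, map_inv, map_pow, map_one] using congrArg f H.uw,
    by simpa only [map_mul, map_inv, map_pow, map_one] using congrArg f H.ua,
    by simpa only [map_mul, map_inv, map_pow, map_one] using congrArg f H.uz⟩

theorem gen_top : gen (pgEv 505817147449147648 R) [[1], [2], [3], [4], [5], [7]] = ⊤ := pg_gen (n := 8) (by norm_num) (by decide)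
end P3C

namespace P3X

structure Rel {G : Type*} [Group G] (a b z w t x : G) : Prop where
  hX : PX0.Rel a b z w t x
  bx : (b * x) ^ 2 = t

def R : List (List ℕ) := [[1, 1], [2, 2], [3, 3], [4, 4], [5, 5, 5], [5, 4, 5, 4, 5, 4], [3, 1, 3, 1], [3, 2, 3, 2], [3, 4, 3, 4], [3, 5, 3, 6], [1, 2, 1, 2, 3], [5, 1, 6, 1], [5, 2, 6, 2], [4, 1, 4, 1], [2, 4, 2, 4, 2, 4, 2, 4, 3], [1, 4, 2, 4, 2, 6, 4, 2, 4, 5, 5, 4, 2, 4, 6], [7, 7, 7], [7, 5, 8, 6], [7, 4, 8, 4], [7, 3, 8, 1], [7, 1, 8, 3, 1], [2, 7, 2, 7, 6]]

def ev {G : Type*} [Group G] (a b z w t x : G) (l : ℕ) : G := [1, a, b, z, w, t, t⁻¹, x, x⁻¹].getD l 1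

theorem good {G : Type*} [Group G] {a b z w t x : G} (H : Rel a b z w t x) : Good (ev a b z w t x) 129705083257453936896 := by
  have i_a : a⁻¹ = a := inv_eq_of_mul_eq_one_right H.hX.hN.aa
  have i_b : b⁻¹ = b := inv_eq_of_mul_eq_one_right H.hX.hN.bb
  have i_z : z⁻¹ = z := inv_eq_of_mul_eq_one_right H.hX.hN.zz
  have i_w : w⁻¹ = w := inv_eq_of_mul_eq_one_right H.hX.hN.ww
  refine good_list (n := 9) rfl (by norm_num) rfl fun l hl => ?_
  interval_cases l
  · exact inv_one.symm
  · exact i_a.symm
  · exact i_b.symm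
  · exact i_z.symm
  · exact i_w.symm
  · rfl
  · exact (inv_inv _).symm
  · rfl
  · exact (inv_inv _).symm

theorem rels {G : Type*} [Group G] {a b z w t x : G} (H : Rel a b z w t x) : Rels (ev a b z w t x) R := by
  have i_a : a⁻¹ = a := inv_eq_of_mul_eq_one_right H.hX.hN.aa
  have i_b : b⁻¹ = b := inv_eq_of_mul_eq_one_right H.hX.hN.bb
  have i_z : z⁻¹ = z := inv_eq_of_mul_eq_one_right H.hX.hN.zz
  have i_w : w⁻¹ = w := inv_eq_of_mul_eq_one_right H.hX.hN.ww
  unfold R
  refine Rels.cons ?_ ?_
  · show a * (a * 1) = 1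
    simpa only [mul_inv_rev, inv_inv, mul_assoc, mul_one, one_mul, inv_one, pow_succ, pow_zero, i_a, i_b, i_z, i_w] using mul_inv_eq_one.mpr H.hX.hN.aa
  refine Rels.cons ?_ ?_
  · show b * (b * 1) = 1
    simpa only [mul_inv_rev, inv_inv, mul_assoc, mul_one, one_mul, inv_one, pow_succ, pow_zero, i_a, i_b, i_z, i_w] using mul_inv_eq_one.mpr H.hX.hN.bb
  refine Rels.cons ?_ ?_
  · show z * (z * 1) = 1
    simpa only [mul_inv_rev, inv_inv, mul_assoc, mul_one, one_mul, inv_one, pow_succ, pow_zero, i_a, i_b, i_z, i_w] using mul_inv_eq_one.mpr H.hX.hN.zz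
  refine Rels.cons ?_ ?_
  · show w * (w * 1) = 1
    simpa only [mul_inv_rev, inv_inv, mul_assoc, mul_one, one_mul, inv_one, pow_succ, pow_zero, i_a, i_b, i_z, i_w] using mul_inv_eq_one.mpr H.hX.hN.ww
  refine Rels.cons ?_ ?_
  · show t * (t * (t * 1)) = 1
    simpa only [mul_inv_rev, inv_inv, mul_assoc, mul_one, one_mul, inv_one, pow_succ, pow_zero, i_a, i_b, i_z, i_w] using mul_inv_eq_one.mpr H.hX.hN.t3
  refine Rels.cons ?_ ?_
  · show t * (w * (t * (w * (t * (w * 1))))) = 1
    simpa only [mul_inv_rev, inv_inv, mul_assoc, mul_one, one_mul, inv_one, pow_succ, pow_zero, i_a, i_b, i_z, i_w] using mul_inv_eq_one.mpr H.hX.hN.tw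
  refine Rels.cons ?_ ?_
  · show z * (a * (z * (a * 1))) = 1
    simpa only [mul_inv_rev, inv_inv, mul_assoc, mul_one, one_mul, inv_one, pow_succ, pow_zero, i_a, i_b, i_z, i_w] using mul_inv_eq_one.mpr H.hX.hN.za
  refine Rels.cons ?_ ?_
  · show z * (b * (z * (b * 1))) = 1
    simpa only [mul_inv_rev, inv_inv, mul_assoc, mul_one, one_mul, inv_one, pow_succ, pow_zero, i_a, i_b, i_z, i_w] using mul_inv_eq_one.mpr H.hX.hN.zb
  refine Rels.cons ?_ ?_
  · show z * (w * (z * (w * 1))) = 1
    simpa only [mul_inv_rev, inv_inv, mul_assoc, mul_one, one_mul, inv_one, pow_succ, pow_zero, i_a, i_b, i_z, i_w] using mul_inv_eq_one.mpr H.hX.hN.zw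
  refine Rels.cons ?_ ?_
  · show z * (t * (z * (t⁻¹ * 1))) = 1
    simpa only [mul_inv_rev, inv_inv, mul_assoc, mul_one, one_mul, inv_one, pow_succ, pow_zero, i_a, i_b, i_z, i_w] using mul_inv_eq_one.mpr H.hX.hN.zt
  refine Rels.cons ?_ ?_
  · show a * (b * (a * (b * (z * 1)))) = 1
    simpa only [mul_inv_rev, inv_inv, mul_assoc, mul_one, one_mul, inv_one, pow_succ, pow_zero, i_a, i_b, i_z, i_w] using mul_inv_eq_one.mpr H.hX.hN.ab
  refine Rels.cons ?_ ?_
  · show t * (a * (t⁻¹ * (a * 1))) = 1
    simpa only [mul_inv_rev, inv_inv, mul_assoc, mul_one, one_mul, inv_one, pow_succ, pow_zero, i_a, i_b, i_z, i_w] using mul_inv_eq_one.mpr H.hX.hN.ta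
  refine Rels.cons ?_ ?_
  · show t * (b * (t⁻¹ * (b * 1))) = 1
    simpa only [mul_inv_rev, inv_inv, mul_assoc, mul_one, one_mul, inv_one, pow_succ, pow_zero, i_a, i_b, i_z, i_w] using mul_inv_eq_one.mpr H.hX.hN.tb
  refine Rels.cons ?_ ?_
  · show w * (a * (w * (a * 1))) = 1
    simpa only [mul_inv_rev, inv_inv, mul_assoc, mul_one, one_mul, inv_one, pow_succ, pow_zero, i_a, i_b, i_z, i_w] using mul_inv_eq_one.mpr H.hX.hN.wa
  refine Rels.cons ?_ ?_
  · show b * (w * (b * (w * (b * (w * (b * (w * (z * 1)))))))) = 1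
    simpa only [mul_inv_rev, inv_inv, mul_assoc, mul_one, one_mul, inv_one, pow_succ, pow_zero, i_a, i_b, i_z, i_w] using mul_inv_eq_one.mpr H.hX.hN.bw
  refine Rels.cons ?_ ?_
  · show a * (w * (b * (w * (b * (t⁻¹ * (w * (b * (w * (t * (t * (w * (b * (w * (t⁻¹ * 1)))))))))))))) = 1
    simpa only [mul_inv_rev, inv_inv, mul_assoc, mul_one, one_mul, inv_one, pow_succ, pow_zero, i_a, i_b, i_z, i_w] using mul_inv_eq_one.mpr H.hX.hN.pr
  refine Rels.cons ?_ ?_
  · show x * (x * (x * 1)) = 1
    simpa only [mul_inv_rev, inv_inv, mul_assoc, mul_one, one_mul, inv_one, pow_succ, pow_zero, i_a, i_b, i_z, i_w] using mul_inv_eq_one.mpr H.hX.x3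
  refine Rels.cons ?_ ?_
  · show x * (t * (x⁻¹ * (t⁻¹ * 1))) = 1
    simpa only [mul_inv_rev, inv_inv, mul_assoc, mul_one, one_mul, inv_one, pow_succ, pow_zero, i_a, i_b, i_z, i_w] using mul_inv_eq_one.mpr H.hX.xt
  refine Rels.cons ?_ ?_
  · show x * (w * (x⁻¹ * (w * 1))) = 1
    simpa only [mul_inv_rev, inv_inv, mul_assoc, mul_one, one_mul, inv_one, pow_succ, pow_zero, i_a, i_b, i_z, i_w] using mul_inv_eq_one.mpr H.hX.xw
  refine Rels.cons ?_ ?_
  · show x * (z * (x⁻¹ * (a * 1))) = 1
    simpa only [mul_inv_rev, inv_inv, mul_assoc, mul_one, one_mul, inv_one, pow_succ, pow_zero, i_a, i_b, i_z, i_w] using mul_inv_eq_one.mpr H.hX.xz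
  refine Rels.cons ?_ ?_
  · show x * (a * (x⁻¹ * (z * (a * 1)))) = 1
    simpa only [mul_inv_rev, inv_inv, mul_assoc, mul_one, one_mul, inv_one, pow_succ, pow_zero, i_a, i_b, i_z, i_w] using mul_inv_eq_one.mpr H.hX.xa
  refine Rels.cons ?_ ?_
  · show b * (x * (b * (x * (t⁻¹ * 1)))) = 1
    simpa only [mul_inv_rev, inv_inv, mul_assoc, mul_one, one_mul, inv_one, pow_succ, pow_zero, i_a, i_b, i_z, i_w] using mul_inv_eq_one.mpr H.bx
  intro r hr
  exact absurd hr List.not_mem_nil

/-- The relations hold for the letters of any assignment satisfying the relators. -/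
theorem rel_of {G : Type*} [Group G] {e : ℕ → G} (hg : Good e 129705083257453936896) (hR : Rels e R) :
    Rel (e 1) (e 2) (e 3) (e 4) (e 5) (e 7) := by
  have j1 : (e 1)⁻¹ = e 1 := (hg.inv 1).symm
  have j2 : (e 2)⁻¹ = e 2 := (hg.inv 2).symm
  have j3 : (e 3)⁻¹ = e 3 := (hg.inv 3).symm
  have j4 : (e 4)⁻¹ = e 4 := (hg.inv 4).symm
  have j5 : (e 5)⁻¹ = e 6 := (hg.inv 5).symm
  have j6 : (e 6)⁻¹ = e 5 := (hg.inv 6).symm
  have j7 : (e 7)⁻¹ = e 8 := (hg.inv 7).symm
  have j8 : (e 8)⁻¹ = e 7 := (hg.inv 8).symm
  have r0 : e 1 * (e 1 * 1) = 1 := hR [1, 1] (List.mem_of_elem_eq_true (by decide))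
  have r1 : e 2 * (e 2 * 1) = 1 := hR [2, 2] (List.mem_of_elem_eq_true (by decide))
  have r2 : e 3 * (e 3 * 1) = 1 := hR [3, 3] (List.mem_of_elem_eq_true (by decide))
  have r3 : e 4 * (e 4 * 1) = 1 := hR [4, 4] (List.mem_of_elem_eq_true (by decide))
  have r4 : e 5 * (e 5 * (e 5 * 1)) = 1 := hR [5, 5, 5] (List.mem_of_elem_eq_true (by decide))
  have r5 : e 5 * (e 4 * (e 5 * (e 4 * (e 5 * (e 4 * 1))))) = 1 := hR [5, 4, 5, 4, 5, 4] (List.mem_of_elem_eq_true (by decide))
  have r6 : e 3 * (e 1 * (e 3 * (e 1 * 1))) = 1 := hR [3, 1, 3, 1] (List.mem_of_elem_eq_true (by decide))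
  have r7 : e 3 * (e 2 * (e 3 * (e 2 * 1))) = 1 := hR [3, 2, 3, 2] (List.mem_of_elem_eq_true (by decide))
  have r8 : e 3 * (e 4 * (e 3 * (e 4 * 1))) = 1 := hR [3, 4, 3, 4] (List.mem_of_elem_eq_true (by decide))
  have r9 : e 3 * (e 5 * (e 3 * (e 6 * 1))) = 1 := hR [3, 5, 3, 6] (List.mem_of_elem_eq_true (by decide))
  have r10 : e 1 * (e 2 * (e 1 * (e 2 * (e 3 * 1)))) = 1 := hR [1, 2, 1, 2, 3] (List.mem_of_elem_eq_true (by decide))
  have r11 : e 5 * (e 1 * (e 6 * (e 1 * 1))) = 1 := hR [5, 1, 6, 1] (List.mem_of_elem_eq_true (by decide))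
  have r12 : e 5 * (e 2 * (e 6 * (e 2 * 1))) = 1 := hR [5, 2, 6, 2] (List.mem_of_elem_eq_true (by decide))
  have r13 : e 4 * (e 1 * (e 4 * (e 1 * 1))) = 1 := hR [4, 1, 4, 1] (List.mem_of_elem_eq_true (by decide))
  have r14 : e 2 * (e 4 * (e 2 * (e 4 * (e 2 * (e 4 * (e 2 * (e 4 * (e 3 * 1)))))))) = 1 := hR [2, 4, 2, 4, 2, 4, 2, 4, 3] (List.mem_of_elem_eq_true (by decide))
  have r15 : e 1 * (e 4 * (e 2 * (e 4 * (e 2 * (e 6 * (e 4 * (e 2 * (e 4 * (e 5 * (e 5 * (e 4 * (e 2 * (e 4 * (e 6 * 1)))))))))))))) = 1 := hR [1, 4, 2, 4, 2, 6, 4, 2, 4, 5, 5, 4, 2, 4, 6] (List.mem_of_elem_eq_true (by decide))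
  have r16 : e 7 * (e 7 * (e 7 * 1)) = 1 := hR [7, 7, 7] (List.mem_of_elem_eq_true (by decide))
  have r17 : e 7 * (e 5 * (e 8 * (e 6 * 1))) = 1 := hR [7, 5, 8, 6] (List.mem_of_elem_eq_true (by decide))
  have r18 : e 7 * (e 4 * (e 8 * (e 4 * 1))) = 1 := hR [7, 4, 8, 4] (List.mem_of_elem_eq_true (by decide))
  have r19 : e 7 * (e 3 * (e 8 * (e 1 * 1))) = 1 := hR [7, 3, 8, 1] (List.mem_of_elem_eq_true (by decide))
  have r20 : e 7 * (e 1 * (e 8 * (e 3 * (e 1 * 1)))) = 1 := hR [7, 1, 8, 3, 1] (List.mem_of_elem_eq_true (by decide))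
  have r21 : e 2 * (e 7 * (e 2 * (e 7 * (e 6 * 1)))) = 1 := hR [2, 7, 2, 7, 6] (List.mem_of_elem_eq_true (by decide))
  exact ⟨⟨⟨mul_inv_eq_one.mp (by simpa only [mul_inv_rev, mul_assoc, mul_one, one_mul, inv_one, pow_succ, pow_zero, j1, j2, j3, j4, j5, j6, j7, j8] using r0),
    mul_inv_eq_one.mp (by simpa only [mul_inv_rev, mul_assoc, mul_one, one_mul, inv_one, pow_succ, pow_zero, j1, j2, j3, j4, j5, j6, j7, j8] using r1),
    mul_inv_eq_one.mp (by simpa only [mul_inv_rev, mul_assoc, mul_one, one_mul, inv_one, pow_succ, pow_zero, j1, j2, j3, j4, j5, j6, j7, j8] using r2),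
    mul_inv_eq_one.mp (by simpa only [mul_inv_rev, mul_assoc, mul_one, one_mul, inv_one, pow_succ, pow_zero, j1, j2, j3, j4, j5, j6, j7, j8] using r3),
    mul_inv_eq_one.mp (by simpa only [mul_inv_rev, mul_assoc, mul_one, one_mul, inv_one, pow_succ, pow_zero, j1, j2, j3, j4, j5, j6, j7, j8] using r4),
    mul_inv_eq_one.mp (by simpa only [mul_inv_rev, mul_assoc, mul_one, one_mul, inv_one, pow_succ, pow_zero, j1, j2, j3, j4, j5, j6, j7, j8] using r5),
    mul_inv_eq_one.mp (by simpa only [mul_inv_rev, mul_assoc, mul_one, one_mul, inv_one, pow_succ, pow_zero, j1, j2, j3, j4, j5, j6, j7, j8] using r6),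
    mul_inv_eq_one.mp (by simpa only [mul_inv_rev, mul_assoc, mul_one, one_mul, inv_one, pow_succ, pow_zero, j1, j2, j3, j4, j5, j6, j7, j8] using r7),
    mul_inv_eq_one.mp (by simpa only [mul_inv_rev, mul_assoc, mul_one, one_mul, inv_one, pow_succ, pow_zero, j1, j2, j3, j4, j5, j6, j7, j8] using r8),
    mul_inv_eq_one.mp (by simpa only [mul_inv_rev, mul_assoc, mul_one, one_mul, inv_one, pow_succ, pow_zero, j1, j2, j3, j4, j5, j6, j7, j8] using r9),
    mul_inv_eq_one.mp (by simpa only [mul_inv_rev, mul_assoc, mul_one, one_mul, inv_one, pow_succ, pow_zero, j1, j2, j3, j4, j5, j6, j7, j8] using r10),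
    mul_inv_eq_one.mp (by simpa only [mul_inv_rev, mul_assoc, mul_one, one_mul, inv_one, pow_succ, pow_zero, j1, j2, j3, j4, j5, j6, j7, j8] using r11),
    mul_inv_eq_one.mp (by simpa only [mul_inv_rev, mul_assoc, mul_one, one_mul, inv_one, pow_succ, pow_zero, j1, j2, j3, j4, j5, j6, j7, j8] using r12),
    mul_inv_eq_one.mp (by simpa only [mul_inv_rev, mul_assoc, mul_one, one_mul, inv_one, pow_succ, pow_zero, j1, j2, j3, j4, j5, j6, j7, j8] using r13),
    mul_inv_eq_one.mp (by simpa only [mul_inv_rev, mul_assoc, mul_one, one_mul, inv_one, pow_succ, pow_zero, j1, j2, j3, j4, j5, j6, j7, j8] using r14),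
    mul_inv_eq_one.mp (by simpa only [mul_inv_rev, mul_assoc, mul_one, one_mul, inv_one, pow_succ, pow_zero, j1, j2, j3, j4, j5, j6, j7, j8] using r15)⟩,
    mul_inv_eq_one.mp (by simpa only [mul_inv_rev, mul_assoc, mul_one, one_mul, inv_one, pow_succ, pow_zero, j1, j2, j3, j4, j5, j6, j7, j8] using r16),
    mul_inv_eq_one.mp (by simpa only [mul_inv_rev, mul_assoc, mul_one, one_mul, inv_one, pow_succ, pow_zero, j1, j2, j3, j4, j5, j6, j7, j8] using r17),
    mul_inv_eq_one.mp (by simpa only [mul_inv_rev, mul_assoc, mul_one, one_mul, inv_one, pow_succ, pow_zero, j1, j2, j3, j4, j5, j6, j7, j8] using r18),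
    mul_inv_eq_one.mp (by simpa only [mul_inv_rev, mul_assoc, mul_one, one_mul, inv_one, pow_succ, pow_zero, j1, j2, j3, j4, j5, j6, j7, j8] using r19),
    mul_inv_eq_one.mp (by simpa only [mul_inv_rev, mul_assoc, mul_one, one_mul, inv_one, pow_succ, pow_zero, j1, j2, j3, j4, j5, j6, j7, j8] using r20)⟩,
    mul_inv_eq_one.mp (by simpa only [mul_inv_rev, mul_assoc, mul_one, one_mul, inv_one, pow_succ, pow_zero, j1, j2, j3, j4, j5, j6, j7, j8] using r21)⟩

theorem gen_top : gen (pgEv 129705083257453936896 R) [[1], [2], [3], [4], [5], [7]] = ⊤ := pg_gen (n := 9) (by norm_num) (by decide)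
namespace c

noncomputable def get (y : ℕ) : ℕ := (sel (nat_lit 1) y (nat_lit 0x0) (nat_lit 0x1200000000000011000000000000100000000000000f0000000000000e0000000000000d0000000000000c0000000000000b0000000000000a0000000000000900000000000005000003000015060000150000030000001600000300000003000016000000170000020000000200001700000018000001000000010000180500000f0000180600001800000f060000100000130500001300001006000014000017050000170000140800000300001e0700001e0000030000001f0000030000000300001f0000002000000200000002000020000000210000010000000100002100000000000022000000220000000800001b0000210700002100001b0700002000001c0800001c0000200100000000000c0100000c0000000000000d0000000000000000000d0100000600000b0100000b0000060100000a0000050100000500000a030000000000070300000700000000000000000008000000080000000000002a0000070000000700002a00000029000006000000060000290300000500000203000002000005040000040000260400002600000400000028000005000000050000280000000400002700000027000004030000280000020300000200002803000001000029030000290000010300000000002a0300002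a0000000000002b0000000000000000002b0300002a00002b0300002b00002a0200002900002a0200002a0000290400002800002904000029000028020000270000280200002800002704000026000027040000270000260200002500002602000026000025040000240000250400002500002402000023000024020000240000230400000000002304000023000000020000210000220200002200002104000020000021040000210000200200001f0000200200002000001f0700001e00001f0800001f00001e0600001d00001e0500001e00001d0200001c00001d0200001d00001c0400001b00001c0400001c00001b0200001a00001b0200001b00001a0500001900001a0600001a0000190800000000001907000019000000040000170000180400001800001702000016000017020000170000160600001500001605000016000015020000140000150200001500001404000013000014040000140000130200001200001302000013000012060000110000120500001200001102000010000011020000110000100400000f0000100400001000000f0200000e00000f0200000f00000e0600000000000e0500000e0000000100000c00000d0100000d00000c0200000b00000c0200000c00000b0400000a00000b0400000b00000a0200000900000a0200000a000009010000030000090100000900000303000007000008030000080000070200000600000702000007000006040000050000060400000600000502000004000005020000050000040300000300000403000004000003020000020000030200000300000204000001000002040000020000010200000000000102000001000000))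
noncomputable def gs (y : ℕ) : ℕ := (sel (nat_lit 3) y (sel (nat_lit 1) y (nat_lit 0x0) (sel (nat_lit 2) y (nat_lit 0x0) (nat_lit 0x0))) (sel (nat_lit 5) y (sel (nat_lit 4) y (nat_lit 0x0) (nat_lit 0x80000008000000800000080000008000000800000080000008000000800000080000008000000800000080000008000000800000080000008000000800000080000008000000800000080000008000000800000080000008000000800000080000008000000800000080000008000000)) (sel (nat_lit 6) y (nat_lit 0x80000080000202000027c000024080000060000200000027b0000242800001000002420000278000023400002320000230800000f000024000002770000236800000e0000239000023b000023d000023f800000d00002190000273800000c000026d000020c000027100002170000219800000b0000214000026f000020b800000a00002650000205000021100002138000002000020f000026a8000009000020e000026800002588000006000020c000026600002538000008000020a000026000002518000002000025c00002618000007000024d000025e80000060000208000025f000024f8000005000024f000025d0000205000020780000040000202000025b000025080000030000253000025800002018000002000025500002578000001000024500002470000249000024b000024d000024f00002510000253000025580000008000000800000080000008000000800000080000008000000800000080000008000000)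 (nat_lit 0x800001b800001b800001b800001b800001b800001b800001b800001b800001b800001b800001b800001b800001b800001b800001b800001b800001b800001b800001a000026d000020c000020a00002080000263000024a00002480000246000024480000190000201000020300002050000283000023a000023800002360000234000023200002308000018000020100002030000205000029100002280000226000022400002220000220000021e000021c000021a8000017000027500002160000214000021200002100000204000020200002008000016000026d000020c000020a000020800002060000204000020200002008000015000022b000028f80000060000204000028c000022c80000080000202000028a000022e80000140000200000021b000021d00002898000013000022e000028400002260000286000021e80000120000224000022200002208000012000022c000022a00002288000011000023d000028180000060000204000027e000023e))))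
noncomputable def gd (y : ℕ) : ℕ := (nat_lit 0x25400002520000250000024e000024c000024a00002480000246000024400002420000240000023e000023c000023a00002380000236000023400002320000230000022e000022c000022a00002280000226000022400002220000220000021e000021c000021a00002180000216000021400002120000210000020e000020c000020a000020800002060000204000020200002000000000)
noncomputable def gwh_0 (y : ℕ) : ℕ := (sel (nat_lit 8) y (sel (nat_lit 4) y (sel (nat_lit 2) y (sel (nat_lit 1) y (nat_lit 0x3020402040204020400001008001000) (nat_lit 0x303000000002001)) (sel (nat_lit 3) y (nat_lit 0x2030203000003001002) (nat_lit 0x4030403000003001003))) (sel (nat_lit 6) y (sel (nat_lit 5) y (nat_lit 0x302030200001002002002) (nat_lit 0x2000200001000003004)) (sel (nat_lit 7) y (nat_lit 0x404000000002005) (nat_lit 0x4000400001000003006)))) (sel (nat_lit 12) y (sel (nat_lit 10) y (sel (nat_lit 9) y (nat_lit 0x3000300001000003007) (nat_lit 0x201020301000001004008)) (sel (nat_lit 11) y (nat_lit 0x4010401000000004009) (nat_lit 0x10201020300001000005008))) (sel (nat_lit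 14) y (sel (nat_lit 13) y (nat_lit 0x10100000000200a) (nat_lit 0x20706020700000200300b)) (sel (nat_lit 15) y (nat_lit 0x407040800000300100c) (nat_lit 0x7060207020000100300200b)))))
noncomputable def gwh_1 (y : ℕ) : ℕ := (sel (nat_lit 21) y (sel (nat_lit 18) y (sel (nat_lit 17) y (nat_lit 0x70800000000200d) (nat_lit 0x205020600000300100e)) (sel (nat_lit 19) y (nat_lit 0x4050405040500000500100f) (sel (nat_lit 20) y (nat_lit 0x50206020000100000400e) (nat_lit 0x605000000002010)))) (sel (nat_lit 23) y (sel (nat_lit 22) y (nat_lit 0x2040203020402030a000000009011) (nat_lit 0x2040201020402010c000000009012)) (sel (nat_lit 24) y (nat_lit 0x502040205020402050204020e00000000d013) (sel (nat_lit 25) y (nat_lit 0x70602040205080204021000000000b014) (nat_lit 0x402040204020402031200000000a015)))))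
noncomputable def gwh (y : ℕ) : ℕ := (sel (nat_lit 16) y (gwh_0 y) (gwh_1 y))
def sg : List (List ℕ) := [[], [1], [2], [3], [4], [5], [6], [7], [8], [2, 4, 2, 3, 2, 4, 2, 3], [3, 2, 4, 2, 3, 2, 4, 2], [2, 4, 2, 1, 2, 4, 2, 1], [1, 2, 4, 2, 1, 2, 4, 2], [5, 2, 4, 2, 5, 2, 4, 2, 5, 2, 4, 2], [2, 4, 2, 6, 2, 4, 2, 6, 2, 4, 2, 6], [7, 6, 2, 4, 2, 5, 8, 2, 4, 2], [2, 4, 2, 7, 6, 2, 4, 2, 5, 8], [4, 2, 4, 2, 4, 2, 4, 2, 3], [3, 2, 4, 2, 4, 2, 4, 2, 4]]
def BL : List ℕ := [0x20402040204020403, 0x303, 0x3020302, 0x3040304, 0x20002, 0x404, 0x40004, 0x30003, 0x102010203, 0x4010401, 0x101, 0x207020706, 0x7040804, 0x708, 0x5020602, 0x50405040504, 0x605, 0x2040203020402030a, 0x2040201020402010c, 0x502040205020402050204020e, 0x706020402050802040210, 0x4020402040204020312]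
def Sub : List (List ℕ) := []
theorem hA : prepA 129705083257453936896 P3X.R sg 380685815092728712611291700973221858485862656 BL Sub get gd = true := by decide +kernel
theorem hw : allR (okW BL gwh) 0 26 = true := by decide +kernel
theorem b0 : allR (blk get gs (gwB gwh 26) gd 380685815092728712611291700973221858485862656) 4 3 = true := by decide +kernel
theorem hb : ∀ b, 4 ≤ b → b < 7 → blk get gs (gwB gwh 26) gd 380685815092728712611291700973221858485862656 b = true :=
  (allR_range b0 (by norm_num : 4 + 3 = 7))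
def TL : List (ℕ × List ℕ) := [(402, [2, 4, 2, 3, 2, 4, 2, 3]), (404, [2, 4, 2, 1, 2, 4, 2, 1]), (406, [5, 2, 4, 2, 5, 2, 4, 2, 5, 2, 4, 2]), (408, [7, 6, 2, 4, 2, 5, 8, 2, 4, 2]), (410, [4, 2, 4, 2, 4, 2, 4, 2, 3])]
theorem hM : prepM sg get 7 TL = true := by decide +kernel
theorem mem {G : Type*} [Group G] {ev : ℕ → G} (hev : Good ev 129705083257453936896) (hR : Rels ev P3X.R) :
    ∀ w ∈ TL.map Prod.snd, evL ev w ∈ gen ev Sub :=
  cert_mem hev hR hA hM hw hb

end c

theorem cz {G : Type*} [Group G] {a b z w t x : G} (H : Rel a b z w t x) : (b * w * b) * z = z * (b * w * b) := by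
  have i_a : a⁻¹ = a := inv_eq_of_mul_eq_one_right H.hX.hN.aa
  have i_b : b⁻¹ = b := inv_eq_of_mul_eq_one_right H.hX.hN.bb
  have i_z : z⁻¹ = z := inv_eq_of_mul_eq_one_right H.hX.hN.zz
  have i_w : w⁻¹ = w := inv_eq_of_mul_eq_one_right H.hX.hN.ww
  have h : b * (w * (b * (z * (b * (w * (b * (z * 1))))))) = 1 := rels_of_mem_nil (c.mem (good H) (rels H)) [2, 4, 2, 3, 2, 4, 2, 3] (List.mem_of_elem_eq_true (by decide))
  exact mul_inv_eq_one.mp (by simpa only [mul_inv_rev, inv_inv, mul_assoc, mul_one, one_mul, inv_one, pow_succ, pow_zero, i_a, i_b, i_z, i_w] using h)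

theorem ca {G : Type*} [Group G] {a b z w t x : G} (H : Rel a b z w t x) : (b * w * b) * a = a * (b * w * b) := by
  have i_a : a⁻¹ = a := inv_eq_of_mul_eq_one_right H.hX.hN.aa
  have i_b : b⁻¹ = b := inv_eq_of_mul_eq_one_right H.hX.hN.bb
  have i_z : z⁻¹ = z := inv_eq_of_mul_eq_one_right H.hX.hN.zz
  have i_w : w⁻¹ = w := inv_eq_of_mul_eq_one_right H.hX.hN.ww
  have h : b * (w * (b * (a * (b * (w * (b * (a * 1))))))) = 1 := rels_of_mem_nil (c.mem (good H) (rels H)) [2, 4, 2, 1, 2, 4, 2, 1] (List.mem_of_elem_eq_true (by decide))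
  exact mul_inv_eq_one.mp (by simpa only [mul_inv_rev, inv_inv, mul_assoc, mul_one, one_mul, inv_one, pow_succ, pow_zero, i_a, i_b, i_z, i_w] using h)

theorem tc {G : Type*} [Group G] {a b z w t x : G} (H : Rel a b z w t x) : (t * (b * w * b)) ^ 3 = 1 := by
  have i_a : a⁻¹ = a := inv_eq_of_mul_eq_one_right H.hX.hN.aa
  have i_b : b⁻¹ = b := inv_eq_of_mul_eq_one_right H.hX.hN.bb
  have i_z : z⁻¹ = z := inv_eq_of_mul_eq_one_right H.hX.hN.zz
  have i_w : w⁻¹ = w := inv_eq_of_mul_eq_one_right H.hX.hN.ww
  have h : t * (b * (w * (b * (t * (b * (w * (b * (t * (b * (w * (b * 1))))))))))) = 1 := rels_of_mem_nil (c.mem (good H) (rels H)) [5, 2, 4, 2, 5, 2, 4, 2, 5, 2, 4, 2] (List.mem_of_elem_eq_true (by decide))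
  exact mul_inv_eq_one.mp (by simpa only [mul_inv_rev, inv_inv, mul_assoc, mul_one, one_mul, inv_one, pow_succ, pow_zero, i_a, i_b, i_z, i_w] using h)

theorem xc {G : Type*} [Group G] {a b z w t x : G} (H : Rel a b z w t x) : x * t⁻¹ * (b * w * b) = (b * w * b) * (x * t⁻¹) := by
  have i_a : a⁻¹ = a := inv_eq_of_mul_eq_one_right H.hX.hN.aa
  have i_b : b⁻¹ = b := inv_eq_of_mul_eq_one_right H.hX.hN.bb
  have i_z : z⁻¹ = z := inv_eq_of_mul_eq_one_right H.hX.hN.zz
  have i_w : w⁻¹ = w := inv_eq_of_mul_eq_one_right H.hX.hN.ww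
  have h : x * (t⁻¹ * (b * (w * (b * (t * (x⁻¹ * (b * (w * (b * 1))))))))) = 1 := rels_of_mem_nil (c.mem (good H) (rels H)) [7, 6, 2, 4, 2, 5, 8, 2, 4, 2] (List.mem_of_elem_eq_true (by decide))
  exact mul_inv_eq_one.mp (by simpa only [mul_inv_rev, inv_inv, mul_assoc, mul_one, one_mul, inv_one, pow_succ, pow_zero, i_a, i_b, i_z, i_w] using h)

theorem wc {G : Type*} [Group G] {a b z w t x : G} (H : Rel a b z w t x) : (w * (b * w * b)) ^ 2 = z := by
  have i_a : a⁻¹ = a := inv_eq_of_mul_eq_one_right H.hX.hN.aa
  have i_b : b⁻¹ = b := inv_eq_of_mul_eq_one_right H.hX.hN.bb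
  have i_z : z⁻¹ = z := inv_eq_of_mul_eq_one_right H.hX.hN.zz
  have i_w : w⁻¹ = w := inv_eq_of_mul_eq_one_right H.hX.hN.ww
  have h : w * (b * (w * (b * (w * (b * (w * (b * (z * 1)))))))) = 1 := rels_of_mem_nil (c.mem (good H) (rels H)) [4, 2, 4, 2, 4, 2, 4, 2, 3] (List.mem_of_elem_eq_true (by decide))
  exact mul_inv_eq_one.mp (by simpa only [mul_inv_rev, inv_inv, mul_assoc, mul_one, one_mul, inv_one, pow_succ, pow_zero, i_a, i_b, i_z, i_w] using h)

end P3X

namespace P3A

structure Rel {G : Type*} [Group G] (b t x h : G) : Prop where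
  bb : b * b = 1
  hh : h * h = 1
  t3 : t ^ 3 = 1
  x3 : x ^ 3 = 1
  xt : x * t = t * x
  tb : t * b = b * t
  bx : (b * x) ^ 2 = t
  ht : h * t * h = x⁻¹

def R : List (List ℕ) := [[1, 1], [6, 6], [2, 2, 2], [4, 4, 4], [4, 2, 5, 3], [2, 1, 3, 1], [1, 4, 1, 4, 3], [6, 2, 6, 4]]

def ev {G : Type*} [Group G] (b t x h : G) (l : ℕ) : G := [1, b, t, t⁻¹, x, x⁻¹, h].getD l 1

theorem good {G : Type*} [Group G] {b t x h : G} (H : Rel b t x h) : Good (ev b t x h) 1693269415362816 := by
  have i_b : b⁻¹ = b := inv_eq_of_mul_eq_one_right H.bb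
  have i_h : h⁻¹ = h := inv_eq_of_mul_eq_one_right H.hh
  refine good_list (n := 7) rfl (by norm_num) rfl fun l hl => ?_
  interval_cases l
  · exact inv_one.symm
  · exact i_b.symm
  · rfl
  · exact (inv_inv _).symm
  · rfl
  · exact (inv_inv _).symm
  · exact i_h.symm

theorem rels {G : Type*} [Group G] {b t x h : G} (H : Rel b t x h) : Rels (ev b t x h) R := by
  have i_b : b⁻¹ = b := inv_eq_of_mul_eq_one_right H.bb
  have i_h : h⁻¹ = h := inv_eq_of_mul_eq_one_right H.hh
  unfold R
  refine Rels.cons ?_ ?_
  · show b * (b * 1) = 1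
    simpa only [mul_inv_rev, inv_inv, mul_assoc, mul_one, one_mul, inv_one, pow_succ, pow_zero, i_b, i_h] using mul_inv_eq_one.mpr H.bb
  refine Rels.cons ?_ ?_
  · show h * (h * 1) = 1
    simpa only [mul_inv_rev, inv_inv, mul_assoc, mul_one, one_mul, inv_one, pow_succ, pow_zero, i_b, i_h] using mul_inv_eq_one.mpr H.hh
  refine Rels.cons ?_ ?_
  · show t * (t * (t * 1)) = 1
    simpa only [mul_inv_rev, inv_inv, mul_assoc, mul_one, one_mul, inv_one, pow_succ, pow_zero, i_b, i_h] using mul_inv_eq_one.mpr H.t3
  refine Rels.cons ?_ ?_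
  · show x * (x * (x * 1)) = 1
    simpa only [mul_inv_rev, inv_inv, mul_assoc, mul_one, one_mul, inv_one, pow_succ, pow_zero, i_b, i_h] using mul_inv_eq_one.mpr H.x3
  refine Rels.cons ?_ ?_
  · show x * (t * (x⁻¹ * (t⁻¹ * 1))) = 1
    simpa only [mul_inv_rev, inv_inv, mul_assoc, mul_one, one_mul, inv_one, pow_succ, pow_zero, i_b, i_h] using mul_inv_eq_one.mpr H.xt
  refine Rels.cons ?_ ?_
  · show t * (b * (t⁻¹ * (b * 1))) = 1
    simpa only [mul_inv_rev, inv_inv, mul_assoc, mul_one, one_mul, inv_one, pow_succ, pow_zero, i_b, i_h] using mul_inv_eq_one.mpr H.tb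
  refine Rels.cons ?_ ?_
  · show b * (x * (b * (x * (t⁻¹ * 1)))) = 1
    simpa only [mul_inv_rev, inv_inv, mul_assoc, mul_one, one_mul, inv_one, pow_succ, pow_zero, i_b, i_h] using mul_inv_eq_one.mpr H.bx
  refine Rels.cons ?_ ?_
  · show h * (t * (h * (x * 1))) = 1
    simpa only [mul_inv_rev, inv_inv, mul_assoc, mul_one, one_mul, inv_one, pow_succ, pow_zero, i_b, i_h] using mul_inv_eq_one.mpr H.ht
  intro r hr
  exact absurd hr List.not_mem_nil

/-- The relations hold for the letters of any assignment satisfying the relators. -/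
theorem rel_of {G : Type*} [Group G] {e : ℕ → G} (hg : Good e 1693269415362816) (hR : Rels e R) :
    Rel (e 1) (e 2) (e 4) (e 6) := by
  have j1 : (e 1)⁻¹ = e 1 := (hg.inv 1).symm
  have j2 : (e 2)⁻¹ = e 3 := (hg.inv 2).symm
  have j3 : (e 3)⁻¹ = e 2 := (hg.inv 3).symm
  have j4 : (e 4)⁻¹ = e 5 := (hg.inv 4).symm
  have j5 : (e 5)⁻¹ = e 4 := (hg.inv 5).symm
  have j6 : (e 6)⁻¹ = e 6 := (hg.inv 6).symm
  have r0 : e 1 * (e 1 * 1) = 1 := hR [1, 1] (List.mem_of_elem_eq_true (by decide))
  have r1 : e 6 * (e 6 * 1) = 1 := hR [6, 6] (List.mem_of_elem_eq_true (by decide))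
  have r2 : e 2 * (e 2 * (e 2 * 1)) = 1 := hR [2, 2, 2] (List.mem_of_elem_eq_true (by decide))
  have r3 : e 4 * (e 4 * (e 4 * 1)) = 1 := hR [4, 4, 4] (List.mem_of_elem_eq_true (by decide))
  have r4 : e 4 * (e 2 * (e 5 * (e 3 * 1))) = 1 := hR [4, 2, 5, 3] (List.mem_of_elem_eq_true (by decide))
  have r5 : e 2 * (e 1 * (e 3 * (e 1 * 1))) = 1 := hR [2, 1, 3, 1] (List.mem_of_elem_eq_true (by decide))
  have r6 : e 1 * (e 4 * (e 1 * (e 4 * (e 3 * 1)))) = 1 := hR [1, 4, 1, 4, 3] (List.mem_of_elem_eq_true (by decide))
  have r7 : e 6 * (e 2 * (e 6 * (e 4 * 1))) = 1 := hR [6, 2, 6, 4] (List.mem_of_elem_eq_true (by decide))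
  exact ⟨mul_inv_eq_one.mp (by simpa only [mul_inv_rev, mul_assoc, mul_one, one_mul, inv_one, pow_succ, pow_zero, j1, j2, j3, j4, j5, j6] using r0),
    mul_inv_eq_one.mp (by simpa only [mul_inv_rev, mul_assoc, mul_one, one_mul, inv_one, pow_succ, pow_zero, j1, j2, j3, j4, j5, j6] using r1),
    mul_inv_eq_one.mp (by simpa only [mul_inv_rev, mul_assoc, mul_one, one_mul, inv_one, pow_succ, pow_zero, j1, j2, j3, j4, j5, j6] using r2),
    mul_inv_eq_one.mp (by simpa only [mul_inv_rev, mul_assoc, mul_one, one_mul, inv_one, pow_succ, pow_zero, j1, j2, j3, j4, j5, j6] using r3),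
    mul_inv_eq_one.mp (by simpa only [mul_inv_rev, mul_assoc, mul_one, one_mul, inv_one, pow_succ, pow_zero, j1, j2, j3, j4, j5, j6] using r4),
    mul_inv_eq_one.mp (by simpa only [mul_inv_rev, mul_assoc, mul_one, one_mul, inv_one, pow_succ, pow_zero, j1, j2, j3, j4, j5, j6] using r5),
    mul_inv_eq_one.mp (by simpa only [mul_inv_rev, mul_assoc, mul_one, one_mul, inv_one, pow_succ, pow_zero, j1, j2, j3, j4, j5, j6] using r6),
    mul_inv_eq_one.mp (by simpa only [mul_inv_rev, mul_assoc, mul_one, one_mul, inv_one, pow_succ, pow_zero, j1, j2, j3, j4, j5, j6] using r7)⟩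

theorem gen_top : gen (pgEv 1693269415362816 R) [[1], [2], [4], [6]] = ⊤ := pg_gen (n := 7) (by norm_num) (by decide)
namespace c

noncomputable def get (y : ℕ) : ℕ := (sel (nat_lit 1) y (nat_lit 0x0) (nat_lit 0xc0000000000000b00000000000005000000000029040000290000000000000000002a0000002a000000000000310000290000002900003100000028000033000000330000280400003b0000270500002700003b0200002600003d0300003d0000260400002600003c0500003c0000260400003f0000250500002500003f020000240000410300004100002404000024000040050000400000240400004300002305000023000043060000430000210600002100004302000043000042030000420000430200001f0000430300004300001f01000040000042010000420000400300001f0000420200004200001f0600003f0000410600004100003f0500001e0000410400004100001e0300001e0000400200004000001e0200003f00003e0300003e00003f0200001d00003f0300003f00001d0100003c00003e0100003e00003c0300001d00003e0200003e00001d0600003b00003d0600003d00003b0500001c00003d0400003d00001c0300001c00003c0200003c00001c0200001b00003b0300003b00001b0100001900003b0100003b0000190400003a0000190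500001900003a0300003300003a0200003a0000330400001800003a0500003a0000180a00000000000009000000000000080000000000000700000000000002000000000019030000190000000000000000001a0000001a0000000000002e0000190000001900002e02000018000034030000340000180000001800002d0000002d0000180400003500001705000017000035040000160000030500000300001600000016000037000000370000160300001500000402000004000015020000050000140300001400000505000006000013040000130000060600000000000b0600000b0000000000000000000c0000000c00000005000007000012040000120000070000000d00000b0000000b00000d00000011000007000000070000110000000e00000a0000000a00000e00000010000008000000080000100000000900000f0000000f0000090400003900000905000009000039060000380000390600003900003803000004000039020000390000040300003800000e0200000e000038040000030000380500003800000305000003000037040000370000030400003600000e0500000e0000360300000300003602000036000003060000340000350600003500003403000002000035020000350000020300003400002d0200002d000034040000340000330500003300003404000001000034050000340000010200003300003103000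03100003305000001000033040000330000010e0000000000000d0000000000000200000000002e0300002e0000000200002e0000010300000100002e0000000000002f0000002f0000000000003000002e0000002e0000300500003200002c0400002c0000320300001b0000320200003200001b010000010000320100003200000105000000000031040000310000000200003000000103000001000030020000000000300300003000000004000008000005050000050000080400000d0000020500000200000d0300002e00002f0200002f00002e0500002d00002e0400002e00002d0100002c00002d0100002d00002c0300002b00002c0200002c00002b0500001b00002b0400002b00001b0400002900002a0500002a0000290200002800002903000029000028010000270000280100002800002706000026000027060000270000260100002500002601000026000025060000240000250600002500002401000023000024010000240000230600002200002306000023000022030000210000220200002200002105000020000021040000210000200600001f0000200600002000001f0100001e00001f0100001f00001e0600001d00001e0600001e00001d0100001c00001d0100001d00001c0600001b00001c0600001c00001b0100000000001b0100001b0000000300001900001a0200001a00001905000018000019040000190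00018060000170000180600001800001701000016000017010000170000160600001500001606000016000015010000140000150100001500001406000013000014060000140000130300001200001302000013000012050000110000120400001200001106000010000011060000110000100100000f0000100100001000000f0600000e00000f0600000f00000e0100000d00000e0100000e00000d0600000000000d0600000d0000000600000b00000c0600000c00000b0100000a00000b0100000b00000a0600000900000a0600000a000009010000080000090100000900000806000007000008060000080000070200000600000703000007000006060000050000060600000600000501000004000005010000050000040600000300000406000004000003010000020000030100000300000206000001000002060000020000010300000000000102000001000000))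
noncomputable def gs (y : ℕ) : ℕ := (sel (nat_lit 4) y (sel (nat_lit 2) y (sel (nat_lit 1) y (nat_lit 0x0) (nat_lit 0x0)) (sel (nat_lit 3) y (nat_lit 0x0) (nat_lit 0x0))) (sel (nat_lit 6) y (sel (nat_lit 5) y (nat_lit 0x80000008000000800000080000008000000800000080000008000000800000080000008000000800000080000008000000800000080000008000000800000080000008000000800000080000008000000800000080000008000000800000080000008000000800000080000008000000) (nat_lit 0x800000a0000278000027d80000008000009000026600002010000279800000080000080000275000025a00002580000256000025400002348000007000025d000027080000070000264000026f8000006000025c000026e00002628000005000025a0000258000026c00002680000264800000400002560000254000026b80000030000268000020000002358000000800000080000020000200000026380000008000001000020b000020d000020f8000001000020200002000000219800000080000008000000800000080000008000000800000080000008000000800000080000008000000800000080000008000000)) (sel (nat_lit 7) y (nat_lit 0x800001900002bb0000230000022e000022c000022a000022800002260000224000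02a0000020f00002110000213000021500002a4800001800002a5000021400002120000210000020e000020c000020a000020800002060000204000020200002008000007000023300002b88000006000023200002b600002748000017000023000002b3000025b8000007000028100002b280000160000280000028500002b1000022f800000d000022c00002af000020400002838000015000028b00002ac8000014000028a000020700002aa000022b8000003000020900002a900002298000013000022600002a6000020a8000004000022400002a0000020c8000012000021700002a280000100000216000029e000021880000110000222000029d800000f0000214000029a000021a8000010000020f00002980000221800001000002120000297000021c800000f00002110000297000021f800000e000021c000028e00002930000295800000d0000210000026100002080000291800000c00002900000206000028d8000000800000b00002880000286000028d80000008000000800000d000021a000025f000020500002878000000800000c00002820000202000027d8000000800000b000025b0000273000027d) (nat_lit 0x800002100002fd0000250000024e000024c000024a00002480000246000024400002420000240000023e000023c000023a0000238000023600002348000011000025300002fa800002000002520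0002f80000266800001f000025000002f7000027b800001e00002c300002c500002c700002f5000024f8000001000024c00002f300002ce800000900002cc00002cb00002f0800001d00002d300002d600002ef000024b8000001000024800002ed00002dc800000900002da00002d900002ea800001d00002e100002e400002e9000024780000010000244000024200002e6800001b0000240000023e00002e3800000200002de00002e38000000800001c00002de000023c00002d98000000800001b00002da000023a00002d580000008000000800000200002d000002d58000000800001c00002d0000023800002cb8000000800001b00002cc000023600002c980000008000000800001a00002c600002ba00002358000000800000a000023000002c1800000b00002c000002b5000027f8000000))))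
noncomputable def gd (y : ℕ) : ℕ := (nat_lit 0x2e200002de00002da00002d800002d400002d000002cc00002ca00002c600002c00000290000028c000028a00002860000282000027c0000278000026800002660000262000025c000025a00002580000256000025400002520000250000024e000024c000024a00002480000246000024400002420000240000023e000023c000023a00002380000236000023400002320000230000022e000022c000022a00002280000226000022400002220000220000021e000021c000021a00002180000216000021400002120000210000020e000020c000020a000020800002060000204000020200002000000000)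
noncomputable def gwh_0 (y : ℕ) : ℕ := (sel (nat_lit 8) y (sel (nat_lit 4) y (sel (nat_lit 2) y (sel (nat_lit 1) y (nat_lit 0x6020604000000004000) (nat_lit 0x20202000000003001)) (sel (nat_lit 3) y (nat_lit 0x1020103000003001002) (nat_lit 0x3040205000003001003))) (sel (nat_lit 6) y (sel (nat_lit 5) y (nat_lit 0x30104010400001004001004) (nat_lit 0x3000200001000003005)) (sel (nat_lit 7) y (nat_lit 0x302000000002006) (nat_lit 0x104020104020e000000007007)))) (sel (nat_lit 12) y (sel (nat_lit 10) y (sel (nat_lit 9) y (nat_lit 0x5030402000002002003) (nat_lit 0x40404000000003008)) (sel (nat_lit 11) y (nat_lit 0x4020503000000004003) (nat_lit 0x4060206000003001000))) (sel (nat_lit 14) y (sel (nat_lit 13) y (nat_lit 0x301040104000004001004) (nat_lit 0x406020600001003001000)) (sel (nat_lit 15) y (nat_lit 0x1000100001000003009) (nat_lit 0x600060000100000300a)))))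
noncomputable def gwh_1 (y : ℕ) : ℕ := (sel (nat_lit 24) y (sel (nat_lit 20) y (sel (nat_lit 18) y (sel (nat_lit 17) y (nat_lit 0x40500000000200b) (nat_lit 0x60600000000200c)) (sel (nat_lit 19) y (nat_lit 0x6040602000002002000) (nat_lit 0x602060400001000004000))) (sel (nat_lit 22) y (sel (nat_lit 21) y (nat_lit 0x50400000000200d) (nat_lit 0x604060200001002002000)) (sel (nat_lit 23) y (nat_lit 0x500040000100000300e) (nat_lit 0x206010601060306010601060800000000d00f)))) (sel (nat_lit 28) y (sel (nat_lit 26) y (sel (nat_lit 25) y (nat_lit 0x6010601060402060106010604020a00000000f010) (nat_lit 0x1030102000001003002)) (sel (nat_lit 27) y (nat_lit 0x2060406000001003000) (nat_lit 0x3010201000002002002))) (sel (nat_lit 30) y (sel (nat_lit 29) y (nat_lit 0x104030104000002003004) (nat_lit 0x10401040300001000005004)) (sel (nat_lit 31) y (nat_lit 0x2000300001000003011) (nat_lit 0x4000500001000003012)))))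
noncomputable def gwh_2 (y : ℕ) : ℕ := (nat_lit 0x10601060106040206010601060103050c000000011013)
noncomputable def gwh (y : ℕ) : ℕ := (sel (nat_lit 16) y (gwh_0 y) (sel (nat_lit 32) y (gwh_1 y) (gwh_2 y)))
def sg : List (List ℕ) := [[], [1], [2], [3], [4], [5], [6], [2, 6, 1, 6, 1, 6, 3, 6, 1, 6, 1, 6], [6, 1, 6, 1, 6, 2, 6, 1, 6, 1, 6, 3], [6, 1, 6, 1, 6, 4, 2, 6, 1, 6, 1, 6, 4, 2], [3, 5, 6, 1, 6, 1, 6, 3, 5, 6, 1, 6, 1, 6], [1, 6, 1, 6, 1, 6, 4, 2, 6, 1, 6, 1, 6, 1, 3, 5], [4, 2, 1, 6, 1, 6, 1, 6, 3, 5, 6, 1, 6, 1, 6, 1], [1, 4, 2, 1, 4, 2], [3, 5, 1, 3, 5, 1]]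
def BL : List ℕ := [0x6020604, 0x20202, 0x2010301, 0x4020503, 0x104010403, 0x30002, 0x302, 0x104020104020e, 0x40404, 0x10001, 0x60006, 0x405, 0x606, 0x504, 0x50004, 0x2060106010603060106010608, 0x6010601060402060106010604020a, 0x20003, 0x40005, 0x10601060106040206010601060103050c]
def Sub : List (List ℕ) := []
theorem hA : prepA 1693269415362816 P3A.R sg 67784688129939343067408964188832000 BL Sub get gd = true := by decide +kernel
theorem hw : allR (okW BL gwh) 0 33 = true := by decide +kernel
theorem b0 : allR (blk get gs (gwB gwh 33) gd 67784688129939343067408964188832000) 4 4 = true := by decide +kernel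
theorem hb : ∀ b, 4 ≤ b → b < 8 → blk get gs (gwB gwh 33) gd 67784688129939343067408964188832000 b = true :=
  (allR_range b0 (by norm_num : 4 + 4 = 8))
def TL : List (ℕ × List ℕ) := [(444, [2, 6, 1, 6, 1, 6, 3, 6, 1, 6, 1, 6]), (446, [6, 1, 6, 1, 6, 4, 2, 6, 1, 6, 1, 6, 4, 2]), (510, [1, 6, 1, 6, 1, 6, 4, 2, 6, 1, 6, 1, 6, 1, 3, 5]), (374, [1, 4, 2, 1, 4, 2])]
theorem hM : prepM sg get 8 TL = true := by decide +kernel
theorem mem {G : Type*} [Group G] {ev : ℕ → G} (hev : Good ev 1693269415362816) (hR : Rels ev P3A.R) :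
    ∀ w ∈ TL.map Prod.snd, evL ev w ∈ gen ev Sub :=
  cert_mem hev hR hA hM hw hb

end c

theorem tk {G : Type*} [Group G] {b t x h : G} (H : Rel b t x h) : t * (h * b * h * b * h) = (h * b * h * b * h) * t := by
  have i_b : b⁻¹ = b := inv_eq_of_mul_eq_one_right H.bb
  have i_h : h⁻¹ = h := inv_eq_of_mul_eq_one_right H.hh
  have h : t * (h * (b * (h * (b * (h * (t⁻¹ * (h * (b * (h * (b * (h * 1))))))))))) = 1 := rels_of_mem_nil (c.mem (good H) (rels H)) [2, 6, 1, 6, 1, 6, 3, 6, 1, 6, 1, 6] (List.mem_of_elem_eq_true (by decide))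
  exact mul_inv_eq_one.mp (by simpa only [mul_inv_rev, inv_inv, mul_assoc, mul_one, one_mul, inv_one, pow_succ, pow_zero, i_b, i_h] using h)

theorem kx {G : Type*} [Group G] {b t x h : G} (H : Rel b t x h) : ((h * b * h * b * h) * x * t) ^ 2 = 1 := by
  have i_b : b⁻¹ = b := inv_eq_of_mul_eq_one_right H.bb
  have i_h : h⁻¹ = h := inv_eq_of_mul_eq_one_right H.hh
  have h : h * (b * (h * (b * (h * (x * (t * (h * (b * (h * (b * (h * (x * (t * 1))))))))))))) = 1 := rels_of_mem_nil (c.mem (good H) (rels H)) [6, 1, 6, 1, 6, 4, 2, 6, 1, 6, 1, 6, 4, 2] (List.mem_of_elem_eq_true (by decide))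
  exact mul_inv_eq_one.mp (by simpa only [mul_inv_rev, inv_inv, mul_assoc, mul_one, one_mul, inv_one, pow_succ, pow_zero, i_b, i_h] using h)

theorem bkx {G : Type*} [Group G] {b t x h : G} (H : Rel b t x h) : b * (h * b * h * b * h) * (x * t) = x * t * (b * (h * b * h * b * h)) := by
  have i_b : b⁻¹ = b := inv_eq_of_mul_eq_one_right H.bb
  have i_h : h⁻¹ = h := inv_eq_of_mul_eq_one_right H.hh
  have h : b * (h * (b * (h * (b * (h * (x * (t * (h * (b * (h * (b * (h * (b * (t⁻¹ * (x⁻¹ * 1))))))))))))))) = 1 := rels_of_mem_nil (c.mem (good H) (rels H)) [1, 6, 1, 6, 1, 6, 4, 2, 6, 1, 6, 1, 6, 1, 3, 5] (List.mem_of_elem_eq_true (by decide))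
  exact mul_inv_eq_one.mp (by simpa only [mul_inv_rev, inv_inv, mul_assoc, mul_one, one_mul, inv_one, pow_succ, pow_zero, i_b, i_h] using h)

theorem bx2 {G : Type*} [Group G] {b t x h : G} (H : Rel b t x h) : b * (x * t) * b = (x * t)⁻¹ := by
  have i_b : b⁻¹ = b := inv_eq_of_mul_eq_one_right H.bb
  have i_h : h⁻¹ = h := inv_eq_of_mul_eq_one_right H.hh
  have h : b * (x * (t * (b * (x * (t * 1))))) = 1 := rels_of_mem_nil (c.mem (good H) (rels H)) [1, 4, 2, 1, 4, 2] (List.mem_of_elem_eq_true (by decide))
  exact mul_inv_eq_one.mp (by simpa only [mul_inv_rev, inv_inv, mul_assoc, mul_one, one_mul, inv_one, pow_succ, pow_zero, i_b, i_h] using h)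

end P3A

namespace P3E

structure Rel {G : Type*} [Group G] (a z w t x h c : G) : Prop where
  aa : a * a = 1
  zz : z * z = 1
  ww : w * w = 1
  hh : h * h = 1
  cc : c * c = 1
  za : z * a = a * z
  zw : z * w = w * z
  wa : w * a = a * w
  t3 : t ^ 3 = 1
  tw : (t * w) ^ 3 = 1
  zt : z * t = t * z
  ta : t * a = a * t
  x3 : x ^ 3 = 1
  xt : x * t = t * x
  xw : x * w = w * x
  xz : x * z * x⁻¹ = a
  xa : x * a * x⁻¹ = a * z
  hz : h * z * h = w
  ht : h * t * h = x⁻¹
  hc : (h * c) ^ 3 = 1
  cz : c * z = z * c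
  ca : c * a = a * c
  tc : (t * c) ^ 3 = 1
  xc : x * t⁻¹ * c = c * (x * t⁻¹)
  wc : (w * c) ^ 2 = z

def R : List (List ℕ) := [[1, 1], [2, 2], [3, 3], [8, 8], [9, 9], [2, 1, 2, 1], [2, 3, 2, 3], [3, 1, 3, 1], [4, 4, 4], [4, 3, 4, 3, 4, 3], [2, 4, 2, 5], [4, 1, 5, 1], [6, 6, 6], [6, 4, 7, 5], [6, 3, 7, 3], [6, 2, 7, 1], [6, 1, 7, 2, 1], [8, 2, 8, 3], [8, 4, 8, 6], [8, 9, 8, 9, 8, 9], [9, 2, 9, 2], [9, 1, 9, 1], [4, 9, 4, 9, 4, 9], [6, 5, 9, 4, 7, 9], [3, 9, 3, 9, 2]]

def ev {G : Type*} [Group G] (a z w t x h c : G) (l : ℕ) : G := [1, a, z, w, t, t⁻¹, x, x⁻¹, h, c].getD l 1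

theorem good {G : Type*} [Group G] {a z w t x h c : G} (H : Rel a z w t x h c) : Good (ev a z w t x h c) 42649306618725119688960 := by
  have i_a : a⁻¹ = a := inv_eq_of_mul_eq_one_right H.aa
  have i_z : z⁻¹ = z := inv_eq_of_mul_eq_one_right H.zz
  have i_w : w⁻¹ = w := inv_eq_of_mul_eq_one_right H.ww
  have i_h : h⁻¹ = h := inv_eq_of_mul_eq_one_right H.hh
  have i_c : c⁻¹ = c := inv_eq_of_mul_eq_one_right H.cc
  refine good_list (n := 10) rfl (by norm_num) rfl fun l hl => ?_
  interval_cases l
  · exact inv_one.symm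
  · exact i_a.symm
  · exact i_z.symm
  · exact i_w.symm
  · rfl
  · exact (inv_inv _).symm
  · rfl
  · exact (inv_inv _).symm
  · exact i_h.symm
  · exact i_c.symm

theorem rels {G : Type*} [Group G] {a z w t x h c : G} (H : Rel a z w t x h c) : Rels (ev a z w t x h c) R := by
  have i_a : a⁻¹ = a := inv_eq_of_mul_eq_one_right H.aa
  have i_z : z⁻¹ = z := inv_eq_of_mul_eq_one_right H.zz
  have i_w : w⁻¹ = w := inv_eq_of_mul_eq_one_right H.ww
  have i_h : h⁻¹ = h := inv_eq_of_mul_eq_one_right H.hh
  have i_c : c⁻¹ = c := inv_eq_of_mul_eq_one_right H.cc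
  unfold R
  refine Rels.cons ?_ ?_
  · show a * (a * 1) = 1
    simpa only [mul_inv_rev, inv_inv, mul_assoc, mul_one, one_mul, inv_one, pow_succ, pow_zero, i_a, i_z, i_w, i_h, i_c] using mul_inv_eq_one.mpr H.aa
  refine Rels.cons ?_ ?_
  · show z * (z * 1) = 1
    simpa only [mul_inv_rev, inv_inv, mul_assoc, mul_one, one_mul, inv_one, pow_succ, pow_zero, i_a, i_z, i_w, i_h, i_c] using mul_inv_eq_one.mpr H.zz
  refine Rels.cons ?_ ?_
  · show w * (w * 1) = 1
    simpa only [mul_inv_rev, inv_inv, mul_assoc, mul_one, one_mul, inv_one, pow_succ, pow_zero, i_a, i_z, i_w, i_h, i_c] using mul_inv_eq_one.mpr H.ww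
  refine Rels.cons ?_ ?_
  · show h * (h * 1) = 1
    simpa only [mul_inv_rev, inv_inv, mul_assoc, mul_one, one_mul, inv_one, pow_succ, pow_zero, i_a, i_z, i_w, i_h, i_c] using mul_inv_eq_one.mpr H.hh
  refine Rels.cons ?_ ?_
  · show c * (c * 1) = 1
    simpa only [mul_inv_rev, inv_inv, mul_assoc, mul_one, one_mul, inv_one, pow_succ, pow_zero, i_a, i_z, i_w, i_h, i_c] using mul_inv_eq_one.mpr H.cc
  refine Rels.cons ?_ ?_
  · show z * (a * (z * (a * 1))) = 1
    simpa only [mul_inv_rev, inv_inv, mul_assoc, mul_one, one_mul, inv_one, pow_succ, pow_zero, i_a, i_z, i_w, i_h, i_c] using mul_inv_eq_one.mpr H.za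
  refine Rels.cons ?_ ?_
  · show z * (w * (z * (w * 1))) = 1
    simpa only [mul_inv_rev, inv_inv, mul_assoc, mul_one, one_mul, inv_one, pow_succ, pow_zero, i_a, i_z, i_w, i_h, i_c] using mul_inv_eq_one.mpr H.zw
  refine Rels.cons ?_ ?_
  · show w * (a * (w * (a * 1))) = 1
    simpa only [mul_inv_rev, inv_inv, mul_assoc, mul_one, one_mul, inv_one, pow_succ, pow_zero, i_a, i_z, i_w, i_h, i_c] using mul_inv_eq_one.mpr H.wa
  refine Rels.cons ?_ ?_
  · show t * (t * (t * 1)) = 1
    simpa only [mul_inv_rev, inv_inv, mul_assoc, mul_one, one_mul, inv_one, pow_succ, pow_zero, i_a, i_z, i_w, i_h, i_c] using mul_inv_eq_one.mpr H.t3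
  refine Rels.cons ?_ ?_
  · show t * (w * (t * (w * (t * (w * 1))))) = 1
    simpa only [mul_inv_rev, inv_inv, mul_assoc, mul_one, one_mul, inv_one, pow_succ, pow_zero, i_a, i_z, i_w, i_h, i_c] using mul_inv_eq_one.mpr H.tw
  refine Rels.cons ?_ ?_
  · show z * (t * (z * (t⁻¹ * 1))) = 1
    simpa only [mul_inv_rev, inv_inv, mul_assoc, mul_one, one_mul, inv_one, pow_succ, pow_zero, i_a, i_z, i_w, i_h, i_c] using mul_inv_eq_one.mpr H.zt
  refine Rels.cons ?_ ?_
  · show t * (a * (t⁻¹ * (a * 1))) = 1
    simpa only [mul_inv_rev, inv_inv, mul_assoc, mul_one, one_mul, inv_one, pow_succ, pow_zero, i_a, i_z, i_w, i_h, i_c] using mul_inv_eq_one.mpr H.ta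
  refine Rels.cons ?_ ?_
  · show x * (x * (x * 1)) = 1
    simpa only [mul_inv_rev, inv_inv, mul_assoc, mul_one, one_mul, inv_one, pow_succ, pow_zero, i_a, i_z, i_w, i_h, i_c] using mul_inv_eq_one.mpr H.x3
  refine Rels.cons ?_ ?_
  · show x * (t * (x⁻¹ * (t⁻¹ * 1))) = 1
    simpa only [mul_inv_rev, inv_inv, mul_assoc, mul_one, one_mul, inv_one, pow_succ, pow_zero, i_a, i_z, i_w, i_h, i_c] using mul_inv_eq_one.mpr H.xt
  refine Rels.cons ?_ ?_
  · show x * (w * (x⁻¹ * (w * 1))) = 1
    simpa only [mul_inv_rev, inv_inv, mul_assoc, mul_one, one_mul, inv_one, pow_succ, pow_zero, i_a, i_z, i_w, i_h, i_c] using mul_inv_eq_one.mpr H.xw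
  refine Rels.cons ?_ ?_
  · show x * (z * (x⁻¹ * (a * 1))) = 1
    simpa only [mul_inv_rev, inv_inv, mul_assoc, mul_one, one_mul, inv_one, pow_succ, pow_zero, i_a, i_z, i_w, i_h, i_c] using mul_inv_eq_one.mpr H.xz
  refine Rels.cons ?_ ?_
  · show x * (a * (x⁻¹ * (z * (a * 1)))) = 1
    simpa only [mul_inv_rev, inv_inv, mul_assoc, mul_one, one_mul, inv_one, pow_succ, pow_zero, i_a, i_z, i_w, i_h, i_c] using mul_inv_eq_one.mpr H.xa
  refine Rels.cons ?_ ?_
  · show h * (z * (h * (w * 1))) = 1
    simpa only [mul_inv_rev, inv_inv, mul_assoc, mul_one, one_mul, inv_one, pow_succ, pow_zero, i_a, i_z, i_w, i_h, i_c] using mul_inv_eq_one.mpr H.hz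
  refine Rels.cons ?_ ?_
  · show h * (t * (h * (x * 1))) = 1
    simpa only [mul_inv_rev, inv_inv, mul_assoc, mul_one, one_mul, inv_one, pow_succ, pow_zero, i_a, i_z, i_w, i_h, i_c] using mul_inv_eq_one.mpr H.ht
  refine Rels.cons ?_ ?_
  · show h * (c * (h * (c * (h * (c * 1))))) = 1
    simpa only [mul_inv_rev, inv_inv, mul_assoc, mul_one, one_mul, inv_one, pow_succ, pow_zero, i_a, i_z, i_w, i_h, i_c] using mul_inv_eq_one.mpr H.hc
  refine Rels.cons ?_ ?_
  · show c * (z * (c * (z * 1))) = 1
    simpa only [mul_inv_rev, inv_inv, mul_assoc, mul_one, one_mul, inv_one, pow_succ, pow_zero, i_a, i_z, i_w, i_h, i_c] using mul_inv_eq_one.mpr H.cz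
  refine Rels.cons ?_ ?_
  · show c * (a * (c * (a * 1))) = 1
    simpa only [mul_inv_rev, inv_inv, mul_assoc, mul_one, one_mul, inv_one, pow_succ, pow_zero, i_a, i_z, i_w, i_h, i_c] using mul_inv_eq_one.mpr H.ca
  refine Rels.cons ?_ ?_
  · show t * (c * (t * (c * (t * (c * 1))))) = 1
    simpa only [mul_inv_rev, inv_inv, mul_assoc, mul_one, one_mul, inv_one, pow_succ, pow_zero, i_a, i_z, i_w, i_h, i_c] using mul_inv_eq_one.mpr H.tc
  refine Rels.cons ?_ ?_
  · show x * (t⁻¹ * (c * (t * (x⁻¹ * (c * 1))))) = 1
    simpa only [mul_inv_rev, inv_inv, mul_assoc, mul_one, one_mul, inv_one, pow_succ, pow_zero, i_a, i_z, i_w, i_h, i_c] using mul_inv_eq_one.mpr H.xc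
  refine Rels.cons ?_ ?_
  · show w * (c * (w * (c * (z * 1)))) = 1
    simpa only [mul_inv_rev, inv_inv, mul_assoc, mul_one, one_mul, inv_one, pow_succ, pow_zero, i_a, i_z, i_w, i_h, i_c] using mul_inv_eq_one.mpr H.wc
  intro r hr
  exact absurd hr List.not_mem_nil

/-- The relations hold for the letters of any assignment satisfying the relators. -/
theorem rel_of {G : Type*} [Group G] {e : ℕ → G} (hg : Good e 42649306618725119688960) (hR : Rels e R) :
    Rel (e 1) (e 2) (e 3) (e 4) (e 6) (e 8) (e 9) := by
  have j1 : (e 1)⁻¹ = e 1 := (hg.inv 1).symm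
  have j2 : (e 2)⁻¹ = e 2 := (hg.inv 2).symm
  have j3 : (e 3)⁻¹ = e 3 := (hg.inv 3).symm
  have j4 : (e 4)⁻¹ = e 5 := (hg.inv 4).symm
  have j5 : (e 5)⁻¹ = e 4 := (hg.inv 5).symm
  have j6 : (e 6)⁻¹ = e 7 := (hg.inv 6).symm
  have j7 : (e 7)⁻¹ = e 6 := (hg.inv 7).symm
  have j8 : (e 8)⁻¹ = e 8 := (hg.inv 8).symm
  have j9 : (e 9)⁻¹ = e 9 := (hg.inv 9).symm
  have r0 : e 1 * (e 1 * 1) = 1 := hR [1, 1] (List.mem_of_elem_eq_true (by decide))
  have r1 : e 2 * (e 2 * 1) = 1 := hR [2, 2] (List.mem_of_elem_eq_true (by decide))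
  have r2 : e 3 * (e 3 * 1) = 1 := hR [3, 3] (List.mem_of_elem_eq_true (by decide))
  have r3 : e 8 * (e 8 * 1) = 1 := hR [8, 8] (List.mem_of_elem_eq_true (by decide))
  have r4 : e 9 * (e 9 * 1) = 1 := hR [9, 9] (List.mem_of_elem_eq_true (by decide))
  have r5 : e 2 * (e 1 * (e 2 * (e 1 * 1))) = 1 := hR [2, 1, 2, 1] (List.mem_of_elem_eq_true (by decide))
  have r6 : e 2 * (e 3 * (e 2 * (e 3 * 1))) = 1 := hR [2, 3, 2, 3] (List.mem_of_elem_eq_true (by decide))
  have r7 : e 3 * (e 1 * (e 3 * (e 1 * 1))) = 1 := hR [3, 1, 3, 1] (List.mem_of_elem_eq_true (by decide))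
  have r8 : e 4 * (e 4 * (e 4 * 1)) = 1 := hR [4, 4, 4] (List.mem_of_elem_eq_true (by decide))
  have r9 : e 4 * (e 3 * (e 4 * (e 3 * (e 4 * (e 3 * 1))))) = 1 := hR [4, 3, 4, 3, 4, 3] (List.mem_of_elem_eq_true (by decide))
  have r10 : e 2 * (e 4 * (e 2 * (e 5 * 1))) = 1 := hR [2, 4, 2, 5] (List.mem_of_elem_eq_true (by decide))
  have r11 : e 4 * (e 1 * (e 5 * (e 1 * 1))) = 1 := hR [4, 1, 5, 1] (List.mem_of_elem_eq_true (by decide))
  have r12 : e 6 * (e 6 * (e 6 * 1)) = 1 := hR [6, 6, 6] (List.mem_of_elem_eq_true (by decide))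
  have r13 : e 6 * (e 4 * (e 7 * (e 5 * 1))) = 1 := hR [6, 4, 7, 5] (List.mem_of_elem_eq_true (by decide))
  have r14 : e 6 * (e 3 * (e 7 * (e 3 * 1))) = 1 := hR [6, 3, 7, 3] (List.mem_of_elem_eq_true (by decide))
  have r15 : e 6 * (e 2 * (e 7 * (e 1 * 1))) = 1 := hR [6, 2, 7, 1] (List.mem_of_elem_eq_true (by decide))
  have r16 : e 6 * (e 1 * (e 7 * (e 2 * (e 1 * 1)))) = 1 := hR [6, 1, 7, 2, 1] (List.mem_of_elem_eq_true (by decide))
  have r17 : e 8 * (e 2 * (e 8 * (e 3 * 1))) = 1 := hR [8, 2, 8, 3] (List.mem_of_elem_eq_true (by decide))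
  have r18 : e 8 * (e 4 * (e 8 * (e 6 * 1))) = 1 := hR [8, 4, 8, 6] (List.mem_of_elem_eq_true (by decide))
  have r19 : e 8 * (e 9 * (e 8 * (e 9 * (e 8 * (e 9 * 1))))) = 1 := hR [8, 9, 8, 9, 8, 9] (List.mem_of_elem_eq_true (by decide))
  have r20 : e 9 * (e 2 * (e 9 * (e 2 * 1))) = 1 := hR [9, 2, 9, 2] (List.mem_of_elem_eq_true (by decide))
  have r21 : e 9 * (e 1 * (e 9 * (e 1 * 1))) = 1 := hR [9, 1, 9, 1] (List.mem_of_elem_eq_true (by decide))
  have r22 : e 4 * (e 9 * (e 4 * (e 9 * (e 4 * (e 9 * 1))))) = 1 := hR [4, 9, 4, 9, 4, 9] (List.mem_of_elem_eq_true (by decide))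
  have r23 : e 6 * (e 5 * (e 9 * (e 4 * (e 7 * (e 9 * 1))))) = 1 := hR [6, 5, 9, 4, 7, 9] (List.mem_of_elem_eq_true (by decide))
  have r24 : e 3 * (e 9 * (e 3 * (e 9 * (e 2 * 1)))) = 1 := hR [3, 9, 3, 9, 2] (List.mem_of_elem_eq_true (by decide))
  exact ⟨mul_inv_eq_one.mp (by simpa only [mul_inv_rev, mul_assoc, mul_one, one_mul, inv_one, pow_succ, pow_zero, j1, j2, j3, j4, j5, j6, j7, j8, j9] using r0),
    mul_inv_eq_one.mp (by simpa only [mul_inv_rev, mul_assoc, mul_one, one_mul, inv_one, pow_succ, pow_zero, j1, j2, j3, j4, j5, j6, j7, j8, j9] using r1),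
    mul_inv_eq_one.mp (by simpa only [mul_inv_rev, mul_assoc, mul_one, one_mul, inv_one, pow_succ, pow_zero, j1, j2, j3, j4, j5, j6, j7, j8, j9] using r2),
    mul_inv_eq_one.mp (by simpa only [mul_inv_rev, mul_assoc, mul_one, one_mul, inv_one, pow_succ, pow_zero, j1, j2, j3, j4, j5, j6, j7, j8, j9] using r3),
    mul_inv_eq_one.mp (by simpa only [mul_inv_rev, mul_assoc, mul_one, one_mul, inv_one, pow_succ, pow_zero, j1, j2, j3, j4, j5, j6, j7, j8, j9] using r4),
    mul_inv_eq_one.mp (by simpa only [mul_inv_rev, mul_assoc, mul_one, one_mul, inv_one, pow_succ, pow_zero, j1, j2, j3, j4, j5, j6, j7, j8, j9] using r5),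
    mul_inv_eq_one.mp (by simpa only [mul_inv_rev, mul_assoc, mul_one, one_mul, inv_one, pow_succ, pow_zero, j1, j2, j3, j4, j5, j6, j7, j8, j9] using r6),
    mul_inv_eq_one.mp (by simpa only [mul_inv_rev, mul_assoc, mul_one, one_mul, inv_one, pow_succ, pow_zero, j1, j2, j3, j4, j5, j6, j7, j8, j9] using r7),
    mul_inv_eq_one.mp (by simpa only [mul_inv_rev, mul_assoc, mul_one, one_mul, inv_one, pow_succ, pow_zero, j1, j2, j3, j4, j5, j6, j7, j8, j9] using r8),
    mul_inv_eq_one.mp (by simpa only [mul_inv_rev, mul_assoc, mul_one, one_mul, inv_one, pow_succ, pow_zero, j1, j2, j3, j4, j5, j6, j7, j8, j9] using r9),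
    mul_inv_eq_one.mp (by simpa only [mul_inv_rev, mul_assoc, mul_one, one_mul, inv_one, pow_succ, pow_zero, j1, j2, j3, j4, j5, j6, j7, j8, j9] using r10),
    mul_inv_eq_one.mp (by simpa only [mul_inv_rev, mul_assoc, mul_one, one_mul, inv_one, pow_succ, pow_zero, j1, j2, j3, j4, j5, j6, j7, j8, j9] using r11),
    mul_inv_eq_one.mp (by simpa only [mul_inv_rev, mul_assoc, mul_one, one_mul, inv_one, pow_succ, pow_zero, j1, j2, j3, j4, j5, j6, j7, j8, j9] using r12),
    mul_inv_eq_one.mp (by simpa only [mul_inv_rev, mul_assoc, mul_one, one_mul, inv_one, pow_succ, pow_zero, j1, j2, j3, j4, j5, j6, j7, j8, j9] using r13),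
    mul_inv_eq_one.mp (by simpa only [mul_inv_rev, mul_assoc, mul_one, one_mul, inv_one, pow_succ, pow_zero, j1, j2, j3, j4, j5, j6, j7, j8, j9] using r14),
    mul_inv_eq_one.mp (by simpa only [mul_inv_rev, mul_assoc, mul_one, one_mul, inv_one, pow_succ, pow_zero, j1, j2, j3, j4, j5, j6, j7, j8, j9] using r15),
    mul_inv_eq_one.mp (by simpa only [mul_inv_rev, mul_assoc, mul_one, one_mul, inv_one, pow_succ, pow_zero, j1, j2, j3, j4, j5, j6, j7, j8, j9] using r16),
    mul_inv_eq_one.mp (by simpa only [mul_inv_rev, mul_assoc, mul_one, one_mul, inv_one, pow_succ, pow_zero, j1, j2, j3, j4, j5, j6, j7, j8, j9] using r17),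
    mul_inv_eq_one.mp (by simpa only [mul_inv_rev, mul_assoc, mul_one, one_mul, inv_one, pow_succ, pow_zero, j1, j2, j3, j4, j5, j6, j7, j8, j9] using r18),
    mul_inv_eq_one.mp (by simpa only [mul_inv_rev, mul_assoc, mul_one, one_mul, inv_one, pow_succ, pow_zero, j1, j2, j3, j4, j5, j6, j7, j8, j9] using r19),
    mul_inv_eq_one.mp (by simpa only [mul_inv_rev, mul_assoc, mul_one, one_mul, inv_one, pow_succ, pow_zero, j1, j2, j3, j4, j5, j6, j7, j8, j9] using r20),
    mul_inv_eq_one.mp (by simpa only [mul_inv_rev, mul_assoc, mul_one, one_mul, inv_one, pow_succ, pow_zero, j1, j2, j3, j4, j5, j6, j7, j8, j9] using r21),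
    mul_inv_eq_one.mp (by simpa only [mul_inv_rev, mul_assoc, mul_one, one_mul, inv_one, pow_succ, pow_zero, j1, j2, j3, j4, j5, j6, j7, j8, j9] using r22),
    mul_inv_eq_one.mp (by simpa only [mul_inv_rev, mul_assoc, mul_one, one_mul, inv_one, pow_succ, pow_zero, j1, j2, j3, j4, j5, j6, j7, j8, j9] using r23),
    mul_inv_eq_one.mp (by simpa only [mul_inv_rev, mul_assoc, mul_one, one_mul, inv_one, pow_succ, pow_zero, j1, j2, j3, j4, j5, j6, j7, j8, j9] using r24)⟩

theorem gen_top : gen (pgEv 42649306618725119688960 R) [[1], [2], [3], [4], [6], [8], [9]] = ⊤ := pg_gen (n := 10) (by norm_num) (by decide)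
namespace ub_0

noncomputable def get (y : ℕ) : ℕ := (sel (nat_lit 1) y (nat_lit 0x0) (nat_lit 0x300002e00002f0300002f00002e0100002b00002f0100002f00002b0200002700002f0200002f0000270400002c00002f0500002f00002c0500002300002f0400002f0000230400002e00002d0500002d00002e0100002a00002e0100002e00002a0200002600002e0200002e0000260400002200002e0500002e0000220400002d0000220500002200002d0100002900002d0100002d0000290200002500002d0200002d0000250300002100002d0300002d0000210400002300002c0500002c0000230100002800002c0100002c0000280200002400002c0200002c0000240300002000002c0300002c0000200300002a00002b0300002b00002a0200001f00002b0200002b00001f0400002800002b0500002b0000280500001b00002b0400002b00001b0400002a0000290500002900002a0200001e00002a0200002a00001e0400001a00002a0500002a00001a0400002900001a0500001a0000290200001d0000290200002900001d03000019000029030000290000190400001b0000280500002800001b0200001c0000280200002800001c030000180000280300002800001803000026000027030000270000260100001f0000270100002700001f04000024000027050000270000240500001700002704000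02700001704000026000025050000250000260100001e0000260100002600001e040000160000260500002600001604000025000016050000160000250100001d0000250100002500001d030000150000250300002500001504000017000024050000240000170100001c0000240100002400001c03000014000024030000240000140100001b0000230100002300001b020000170000230200002300001703000013000023030000230000130100001a0000220100002200001a0200001600002202000022000016030000120000220300002200001204000021000020050000200000210100001900002101000021000019020000150000210200002100001504000011000021050000210000110100001800002001000020000018020000140000200200002000001405000011000020040000200000110300001e00001f0300001f00001e0400001c00001f0500001f00001c0500001000001f0400001f0000100400001e00001d0500001d00001e0400000f00001e0500001e00000f0400001d00000f0500000f00001d0300000e00001d0300001d00000e0400001000001c0500001c0000100300000d00001c0300001c00000d0200001000001b0200001b0000100300000c00001b0300001b00000c0200000f00001a0200001a00000f0300000b00001a0300001a00000b04000019000018050000180000190200000e000019020000190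0000e0400000a0000190500001900000a0200000d0000180200001800000d0500000a0000180400001800000a010000100000170100001700001003000009000017030000170000090100000f0000160100001600000f030000080000160300001600000804000015000014050000140000150100000e0000150100001500000e04000007000015050000150000070100000d0000140100001400000d050000070000140400001400000704000013000012050000120000130100000c0000130100001300000c020000090000130200001300000904000006000013050000130000060100000b0000120100001200000b020000080000120200001200000805000006000012040000120000060100000a0000110100001100000a0200000700001102000011000007030000060000110300001100000603000005000010030000100000050300000400000f0300000f0000040400000e00000d0500000d00000e0400000300000e0500000e0000030500000300000d0400000d0000030400000c00000b0500000b00000c0200000500000c0200000c0000050400000200000c0500000c0000020200000400000b0200000b0000040500000200000b0400000b0000020200000300000a0200000a0000030300000200000a0300000a000002040000090000080500000800000901000005000009010000090000050400000100000905000009000001010000040000080100000800000405000001000008040000080000010100000300000701000007000003030000010000070300000700000101000002000006010000060000020200000100000602000006000001040000050000040500000400000504000000000005050000050000000500000000000404000004000000030000000000030300000300000002000000000002020000020000000100000000000101000001000000))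
noncomputable def gs (y : ℕ) : ℕ := (sel (nat_lit 4) y (sel (nat_lit 2) y (sel (nat_lit 1) y (nat_lit 0x0) (nat_lit 0x0)) (sel (nat_lit 3) y (nat_lit 0x0) (nat_lit 0x0))) (sel (nat_lit 6) y (sel (nat_lit 5) y (nat_lit 0x8000007000023c000020c0000215800000080000030000236000020e000021f80000060000236000020c00002118000000800000080000008000001000022c000022f8000000800000080000010000222000022780000080000226000020200002098000000800000700002220000202000020780000008000006000021e0000202000020580000008000001000021400002198000005000021800002000000209800000080000040000214000020000002078000000800000300002100000200000020580000008000002000020c00002000000203800000080000010000206000020980000008000000800000080000008000000) (nat_lit 0x800000a000027a0000234000020b000023300002778000001000027a0000271800000080000010000275000027780000008000009000023200002060000205000022f000027380000008000009000026e000022c00002040000209000023580000008000006000026a000022800002358000000800000600002660000224000023380000008000001000025c0000261800000800002600000220000022f80000008000007000025c0000220000022d800000080000030000258000021a00002358000000800000300002540000216000023380000008000001000024a000024f8000005000024e0000212000022f80000008000004000024a0000212000022d80000008000001000023c000024380000050000242000020e000022780000080000242000020c000021980000008000004000023c000020e0000223))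 (sel (nat_lit 7) y (nat_lit 0x800000900002660000222000021f000026100002bb800000600002ba000026200002738000000800000900002b4000025c000021e0000227000026b800000600002b4000025e000026f8000000800000a00002ac0000258000021d000025500002a7800000400002ac000025a000027b800000100002ac000029f8000000800000100002a500002a7800000500002a60000256000027780000008000009000025400002140000211000024f00002a1800000300002a00000250000027380000008000009000029a000024a0000210000021900002598000003000029a000024c000026f8000000800000300002940000246000026b800000600002940000244000025980000008000003000028e000024000002678000006000028e000023e0000255800000080000010000280000028780000050000286000023a0000261800000800002860000238000024f800000080000040000280000023a000025d800000700002800000238000024b8000000) (nat_lit 0x800000b800000b800000b800000b800000b800000b800000b800000b800000a00002e600002940000249000028f00002df800000400002e6000029800002c7800000700002e6000029600002ad800000100002e600002d58000000800000100002dd00002df800000500002de000029200002c1800000800002de000029000002a780000008000009000028e000023c0000237000028700002d7800000300002d6000028a00002bb800000600002d6000028800002a18000000800000900002ce0000280000023600002430000295800000300002ce000028400002b5800000600002ce0000282000029b8000000800000a00002c6000026a000022b000026700002c1800000700002c6000026c000027b800000100002c600002b98000000800000100002bf00002c1800000800002c0000026800002778000000))))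
noncomputable def gd (y : ℕ) : ℕ := (nat_lit 0x2e600002de00002d600002ce00002c600002c000002ba00002b400002ac00002a600002a0000029a0000294000028e00002860000280000027a00002760000272000026e000026a00002660000260000025c00002580000254000024e000024a0000242000023c000023600002340000232000022e000022c00002260000222000021e000021800002140000210000020c000020800002060000204000020200002000000000)
noncomputable def gwh (y : ℕ) : ℕ := (sel (nat_lit 5) y (sel (nat_lit 2) y (sel (nat_lit 1) y (nat_lit 0x40404000000003000) (nat_lit 0x2010201000002002001)) (sel (nat_lit 3) y (nat_lit 0x3010301000002002002) (sel (nat_lit 4) y (nat_lit 0x5010401000002002003) (nat_lit 0x4010501000000004003)))) (sel (nat_lit 7) y (sel (nat_lit 6) y (nat_lit 0x3020302000003001004) (nat_lit 0x5020402000003001005)) (sel (nat_lit 8) y (nat_lit 0x4020502000001003005) (sel (nat_lit 9) y (nat_lit 0x30403040304000003003006) (nat_lit 0x40304030403000002004006)))))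
def sg : List (List ℕ) := [[], [1], [2], [3], [4], [5]]
def BL : List ℕ := [0x40404, 0x2010201, 0x3010301, 0x4010501, 0x2030203, 0x2040205, 0x40304030403]
def Sub : List (List ℕ) := []
theorem hA : prepA 42649306618725119688960 P3E.R sg 4419571810560 BL Sub get gd = true := by decide +kernel
theorem hw : allR (okW BL gwh) 0 10 = true := by decide +kernel
theorem b0 : allR (blk get gs (gwB gwh 10) gd 4419571810560) 4 4 = true := by decide +kernel
theorem hb : ∀ b, 4 ≤ b → b < 8 → blk get gs (gwB gwh 10) gd 4419571810560 b = true :=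
  (allR_range b0 (by norm_num : 4 + 4 = 8))
noncomputable def gc (y : ℕ) : ℕ := (sel (nat_lit 2) y (sel (nat_lit 1) y (nat_lit 0x2ed00002e300002db00002d300002ec00002e200002da00002d200002b100002a900002a3000029d00002990000293000028b000028500002b000002a800002a2000029c00002980000292000028a0000284000025b00002570000251000024d00002470000241000023b000025a00002560000250000024c00002460000240000023a000021b00002170000213000020f000021a00002160000212000020e00002010000200) (nat_lit 0x2eb00002e100002d900002d100002cb00002c300002bd00002b700002ea00002e000002d800002d0000029700002910000289000028300002ca00002c200002bc00002b6000026d00002690000263000025f00002960000290000028800002820000245000023f0000239000026c00002680000262000025e0000229000022500002210000244000023e0000238000020d0000228000022400002200000203000020c0000202)) (sel (nat_lit 3) y (nat_lit 0x2ef00002ee00002d700002cf00002cd00002cc00002bb00002b500002b300002b200002a1000029b0000295000028f00002d600002ce000027f000027e0000273000026f000026b000026700002ba00002b40000259000025500002a0000029a0000294000028e0000237000023500002330000272000026e000026a0000266000021f0000258000025400002110000236000023400002320000205000021e00002100000204)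 (sel (nat_lit 4) y (nat_lit 0x2e900002df00002e500002d500002c900002c100002c500002b900002af00002a700002ab000029f00002e600002dd0000287000028d000027d00002770000279000027100002c600002bf0000261000026500002ac00002a5000024f0000253000024300002490000280000027a0000275000022f00002310000227000022b000025c0000219000021d000024a000023c0000209000020b000022c000022200002140000206) (nat_lit 0x2e700002e400002dc00002e800002c700002c400002be00002c800002ad00002aa00002a400002ae00002d400002de000028c0000281000027b00002780000274000027c00002b800002c00000264000025d000029e00002a60000252000024b0000248000023d0000286000027000002760000230000022d000022a00002230000260000021c0000215000024e0000242000020a0000207000022e000022600002180000208))))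
def X : List (List ℕ) := [[1], [2], [3], [4]]
theorem hC : prepC sg 4419571810560 X 5 48 1 = true := by decide +kernel
theorem c0 : allR (clo get gc 48 768 1) 0 5 = true := by decide +kernel
theorem cover {G : Type*} [Group G] {ev : ℕ → G} (hev : Good ev 42649306618725119688960) (hR : Rels ev P3E.R) :
    Cover (gen ev Sub) (gen ev X) 48 :=
  cert_cover hev hR hA hC hw hb (by norm_num) (allR_range c0 (by norm_num : 0 + 5 = 5 * 1))

end ub_0

namespace ub_1

noncomputable def get (y : ℕ) : ℕ := (sel (nat_lit 1) y (nat_lit 0x500000000000004000000000000030000000000000300000000000002000000000000020000000000000100000000000001000000000000) (nat_lit 0x1000002000002010000020000020200000200000202000002000002030000020000020300000200000204000002000002050000020000020100000100000101000001000001020000010000010200000100000103000001000001030000010000010400000100000105000001000001060000000000020700000200000007000001000002060000020000010700000000000106000001000000))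
noncomputable def gs (y : ℕ) : ℕ := (sel (nat_lit 2) y (sel (nat_lit 1) y (nat_lit 0x0) (nat_lit 0x0)) (sel (nat_lit 3) y (nat_lit 0x0) (sel (nat_lit 4) y (nat_lit 0x0) (nat_lit 0x80000068000006800000680000068000006800000680000068000006800000680000068000006800000680000068000006800000680000068000006800000680000068000006800000680000050000202000020c000020a000020380000040000202000020c0000203800000300002020000208000020380000020000202000020600002038000005000020000001000000102000020180000040000200000010000002018000003000020000001040000201800000200002000000107000020180000010000202000020080000008000000))))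
noncomputable def gd (y : ℕ) : ℕ := (nat_lit 0x20200002000000000)
noncomputable def gwh (y : ℕ) : ℕ := (sel (nat_lit 2) y (sel (nat_lit 1) y (nat_lit 0x60606000000003000) (nat_lit 0x7050604000002002001)) (sel (nat_lit 3) y (nat_lit 0x7030603000002002002) (sel (nat_lit 4) y (nat_lit 0x7010602000002002003) (nat_lit 0x702010601000002003004))))
def sg : List (List ℕ) := [[], [1], [2], [3], [4], [5], [6], [7]]
def BL : List ℕ := [0x60606, 0x6040705, 0x6030703, 0x6020701, 0x601070201]
def Sub : List (List ℕ) := [[1], [2], [3], [4]]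
theorem hA : prepA 42649306618725119688960 P3E.R sg 434320308636352768 BL Sub get gd = true := by decide +kernel
theorem hw : allR (okW BL gwh) 0 5 = true := by decide +kernel
theorem b0 : allR (blk get gs (gwB gwh 5) gd 434320308636352768) 4 1 = true := by decide +kernel
theorem hb : ∀ b, 4 ≤ b → b < 5 → blk get gs (gwB gwh 5) gd 434320308636352768 b = true :=
  (allR_range b0 (by norm_num : 4 + 1 = 5))
noncomputable def gc (y : ℕ) : ℕ := (sel (nat_lit 3) y (sel (nat_lit 1) y (nat_lit 0x215000020d0000101) (sel (nat_lit 2) y (nat_lit 0x213000020b0000103) (nat_lit 0x21100002090000105))) (sel (nat_lit 5) y (sel (nat_lit 4) y (nat_lit 0x20f00002070000106) (nat_lit 0x20e00002060000107)) (sel (nat_lit 6) y (nat_lit 0x20500002020000200) (nat_lit 0x20300002010000204))))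
def X : List (List ℕ) := [[1], [2], [3], [4], [6]]
theorem hC : prepC sg 434320308636352768 X 7 3 1 = true := by decide +kernel
theorem c0 : allR (clo get gc 3 576 1) 0 7 = true := by decide +kernel
theorem cover {G : Type*} [Group G] {ev : ℕ → G} (hev : Good ev 42649306618725119688960) (hR : Rels ev P3E.R) :
    Cover (gen ev Sub) (gen ev X) 3 :=
  cert_cover hev hR hA hC hw hb (by norm_num) (allR_range c0 (by norm_num : 0 + 7 = 7 * 1))

end ub_1

namespace ub_2

noncomputable def get (y : ℕ) : ℕ := (sel (nat_lit 1) y (nat_lit 0x7000000000000060000000000000500000000000004000000000000030000000000000300000000000002000000000000020000000000000100000000000001000000000000) (nat_lit 0x8000003000002080000020000030300000300000303000003000003060000030000020700000200000304000003000002050000020000030600000100000307000003000001010000030000030100000300000302000003000003020000030000030400000100000305000003000001030000020000020300000200000207000001000002060000020000010100000200000201000002000002020000020000020200000200000205000001000002040000020000010300000100000103000001000001010000010000010100000100000102000001000001020000010000010800000000000108000001000000))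
noncomputable def gs (y : ℕ) : ℕ := (sel (nat_lit 2) y (sel (nat_lit 1) y (nat_lit 0x0) (nat_lit 0x0)) (sel (nat_lit 3) y (nat_lit 0x0) (sel (nat_lit 4) y (nat_lit 0x0) (nat_lit 0x800000e800000e800000e800000e800000e800000e800000e800000e800000e800000e800000e800000e800000e800000e800000e800000d00002080000200000010600002010000213800000c000021b0000211000020800002070000213800000a000021a00002180000213800000b00002080000213800000a0000212000020f00002088000009000021200002040000213800000800002120000202000021380000008000007000020e0000207000020f80000060000208000020000001070000108000020180000050000208000020400002098000004000020800002020000209800000080000030000200000010400001020000201800000200002000000100000020180000010000200000010200002018000000))))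
noncomputable def gd (y : ℕ) : ℕ := (nat_lit 0x212000020800002000000000)
noncomputable def gwh (y : ℕ) : ℕ := (sel (nat_lit 6) y (sel (nat_lit 3) y (sel (nat_lit 1) y (nat_lit 0x8020802000002002000) (sel (nat_lit 2) y (nat_lit 0x8010801000002002001) (nat_lit 0x802030803000003002002))) (sel (nat_lit 4) y (nat_lit 0x5020402000003001003) (sel (nat_lit 5) y (nat_lit 0x5010401000002002004) (nat_lit 0x80605080407000005001005)))) (sel (nat_lit 9) y (sel (nat_lit 7) y (nat_lit 0x7030603000002002006) (sel (nat_lit 8) y (nat_lit 0x4020502000001003003) (nat_lit 0x4010501000000004004))) (sel (nat_lit 11) y (sel (nat_lit 10) y (nat_lit 0x4070506000001003007) (nat_lit 0x40404000000003008)) (sel (nat_lit 12) y (nat_lit 0x40304030403000000006009) (nat_lit 0x4080408040800000000600a)))))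
def sg : List (List ℕ) := [[], [1], [2], [3], [4], [5], [6], [7], [9]]
def BL : List ℕ := [0x8020802, 0x8010801, 0x308030802, 0x2040205, 0x4010501, 0x60508040708, 0x6030703, 0x6040705, 0x40404, 0x40304030403, 0x40804080408]
def Sub : List (List ℕ) := [[1], [2], [3], [4], [6]]
theorem hA : prepA 42649306618725119688960 P3E.R sg 148008272898312765696 BL Sub get gd = true := by decide +kernel
theorem hw : allR (okW BL gwh) 0 13 = true := by decide +kernel
theorem b0 : allR (blk get gs (gwB gwh 13) gd 148008272898312765696) 4 1 = true := by decide +kernel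
theorem hb : ∀ b, 4 ≤ b → b < 5 → blk get gs (gwB gwh 13) gd 148008272898312765696 b = true :=
  (allR_range b0 (by norm_num : 4 + 1 = 5))
noncomputable def gc (y : ℕ) : ℕ := (sel (nat_lit 4) y (sel (nat_lit 2) y (sel (nat_lit 1) y (nat_lit 0x217000020d00002050000101) (nat_lit 0x215000020b00002030000103)) (sel (nat_lit 3) y (nat_lit 0x21f000021100002070000105) (nat_lit 0x213000021b00002080000106))) (sel (nat_lit 6) y (sel (nat_lit 5) y (nat_lit 0x21a000020900002120000107) (nat_lit 0x219000021d000020e0000108)) (sel (nat_lit 7) y (nat_lit 0x21c000020f00002180000109) (nat_lit 0x220000022100002010000200))))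
def X : List (List ℕ) := [[1], [2], [3], [4], [6], [9]]
theorem hC : prepC sg 148008272898312765696 X 8 4 1 = true := by decide +kernel
theorem c0 : allR (clo get gc 4 576 1) 0 8 = true := by decide +kernel
theorem cover {G : Type*} [Group G] {ev : ℕ → G} (hev : Good ev 42649306618725119688960) (hR : Rels ev P3E.R) :
    Cover (gen ev Sub) (gen ev X) 4 :=
  cert_cover hev hR hA hC hw hb (by norm_num) (allR_range c0 (by norm_num : 0 + 8 = 8 * 1))

end ub_2

namespace ub_3

noncomputable def get (y : ℕ) : ℕ := (sel (nat_lit 1) y (nat_lit 0x90000000000000900000000000007000000000000060000000000000500000000000004000000000000030000000000000300000000000002000000000000020000000000000100000000000001000000000000) (nat_lit 0x900000400000309000003000004030000040000040300000400000408000004000003080000030000040600000400000307000003000004040000040000030500000300000406000002000004070000040000020100000400000401000004000004020000040000040200000400000404000002000004050000040000020300000300000303000003000003070000020000030600000300000201000003000003010000030000030200000300000302000003000003050000020000030400000300000208000002000002080000020000020300000200000203000002000002010000020000020100000200000202000002000002020000020000020900000100000209000002000001010000010000010100000100000106000001000001070000010000010400000100000105000001000001030000010000010300000100000102000001000001020000010000010800000000000108000001000000))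
noncomputable def gs (y : ℕ) : ℕ := (sel (nat_lit 2) y (sel (nat_lit 1) y (nat_lit 0x0) (nat_lit 0x0)) (sel (nat_lit 3) y (nat_lit 0x0) (sel (nat_lit 4) y (nat_lit 0x0) (nat_lit 0x800001580000158000015800001580000158000015800001580000140000216000020c0000207000020d000022180000130000229000021f0000216000021300002218000012000021c00002150000221800001000002280000226000022180000110000216000022180000100000220000021d0000216800000f000022000002100000221800000e0000220000020e00002218000000800000d000021c0000213000021d800000c0000216000020c00002060000209000020d800000b000021600002100000217800000a0000216000020e000021780000008000009000020c0000200000010a0000201000020d8000008000020c00002040000202000020d8000007000020c000020a000020d8000006000020c0000202000020d8000000800000500002080000203000020980000040000200000010600002018000003000020000001080000201800000200002000000102000020180000010000200000010400002018000000))))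
noncomputable def gd (y : ℕ) : ℕ := (nat_lit 0x2200000216000020c00002000000000)
noncomputable def gwh_0 (y : ℕ) : ℕ := (sel (nat_lit 8) y (sel (nat_lit 4) y (sel (nat_lit 2) y (sel (nat_lit 1) y (nat_lit 0x8030802000002002000) (nat_lit 0x8020803000000004000)) (sel (nat_lit 3) y (nat_lit 0x8060804000002002001) (nat_lit 0x8040806000000004001))) (sel (nat_lit 6) y (sel (nat_lit 5) y (nat_lit 0x6020701000000004002) (nat_lit 0x9020902000002002003)) (sel (nat_lit 7) y (nat_lit 0x9010901000002002004) (nat_lit 0x902030903000003002005)))) (sel (nat_lit 12) y (sel (nat_lit 10) y (sel (nat_lit 9) y (nat_lit 0x90809080908000003003006) (nat_lit 0x5020402000003001007)) (sel (nat_lit 11) y (nat_lit 0x5010401000002002008) (nat_lit 0x90605090407000005001009))) (sel (nat_lit 14) y (sel (nat_lit 13) y (nat_lit 0x703060300000200200a) (nat_lit 0x4020502000001003007)) (sel (nat_lit 15) y (nat_lit 0x4010501000000004008) (nat_lit 0x407050600000100300b)))))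
noncomputable def gwh_1 (y : ℕ) : ℕ := (sel (nat_lit 18) y (sel (nat_lit 17) y (nat_lit 0x4040400000000300c) (nat_lit 0x4080608000001003001)) (sel (nat_lit 19) y (nat_lit 0x4030403040300000000600d) (nat_lit 0x4090409040900000000600e)))
noncomputable def gwh (y : ℕ) : ℕ := (sel (nat_lit 16) y (gwh_0 y) (gwh_1 y))
def sg : List (List ℕ) := [[], [1], [2], [3], [4], [5], [6], [7], [8], [9]]
def BL : List ℕ := [0x8020803, 0x8040806, 0x6020701, 0x9020902, 0x9010901, 0x309030902, 0x80908090809, 0x2040205, 0x4010501, 0x60509040709, 0x6030703, 0x6040705, 0x40404, 0x40304030403, 0x40904090409]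
def Sub : List (List ℕ) := [[1], [2], [3], [4], [6], [9]]
theorem hA : prepA 42649306618725119688960 P3E.R sg 42649306618725119688960 BL Sub get gd = true := by decide +kernel
theorem hw : allR (okW BL gwh) 0 20 = true := by decide +kernel
theorem b0 : allR (blk get gs (gwB gwh 20) gd 42649306618725119688960) 4 1 = true := by decide +kernel
theorem hb : ∀ b, 4 ≤ b → b < 5 → blk get gs (gwB gwh 20) gd 42649306618725119688960 b = true :=
  (allR_range b0 (by norm_num : 4 + 1 = 5))
noncomputable def gc (y : ℕ) : ℕ := (sel (nat_lit 4) y (sel (nat_lit 2) y (sel (nat_lit 1) y (nat_lit 0x225000021b0000211000020b0000101) (nat_lit 0x2230000219000020f00002030000103)) (sel (nat_lit 3) y (nat_lit 0x22f000021f000021300002050000105) (nat_lit 0x2210000229000021600002070000106))) (sel (nat_lit 6) y (sel (nat_lit 5) y (nat_lit 0x2280000217000022000002060000107) (nat_lit 0x227000022b000021c00002090000108)) (sel (nat_lit 7) y (nat_lit 0x22a000021d000022600002080000109) (sel (nat_lit 8) y (nat_lit 0x22c000022d000021500002010000200) (nat_lit 0x2300000231000020d000020c000010b)))))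
def X : List (List ℕ) := [[1], [2], [3], [4], [6], [8], [9]]
theorem hC : prepC sg 42649306618725119688960 X 9 5 1 = true := by decide +kernel
theorem c0 : allR (clo get gc 5 576 1) 0 9 = true := by decide +kernel
theorem cover {G : Type*} [Group G] {ev : ℕ → G} (hev : Good ev 42649306618725119688960) (hR : Rels ev P3E.R) :
    Cover (gen ev Sub) (gen ev X) 5 :=
  cert_cover hev hR hA hC hw hb (by norm_num) (allR_range c0 (by norm_num : 0 + 9 = 9 * 1))

end ub_3

theorem ub {G : Type*} [Group G] {ev : ℕ → G} (hev : Good ev 42649306618725119688960) (hR : Rels ev R) :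
    UB (gen ev [[1], [2], [3], [4], [6], [8], [9]]) 2880 :=
  ((((UB.bot.cover (ub_0.cover hev hR)).cover (ub_1.cover hev hR)).cover (ub_2.cover hev hR)).cover (ub_3.cover hev hR))

end P3E

namespace P3S

structure Rel {G : Type*} [Group G] (a b z t x k : G) : Prop where
  aa : a * a = 1
  bb : b * b = 1
  zz : z * z = 1
  kk : k * k = 1
  za : z * a = a * z
  zb : z * b = b * z
  ab : (a * b) ^ 2 = z
  t3 : t ^ 3 = 1
  ta : t * a = a * t
  tb : t * b = b * t
  zt : z * t = t * z
  xt : x * t = t * x
  tk : t * k = k * t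
  x3 : x ^ 3 = 1
  xz : x * z * x⁻¹ = a
  xa : x * a * x⁻¹ = a * z
  bx : (b * x) ^ 2 = t
  kx : (k * x * t) ^ 2 = 1
  kz : (k * z) ^ 3 = 1
  bk : (b * k) ^ 3 = 1

def R : List (List ℕ) := [[1, 1], [2, 2], [3, 3], [8, 8], [3, 1, 3, 1], [3, 2, 3, 2], [1, 2, 1, 2, 3], [4, 4, 4], [4, 1, 5, 1], [4, 2, 5, 2], [3, 4, 3, 5], [6, 4, 7, 5], [4, 8, 5, 8], [6, 6, 6], [6, 3, 7, 1], [6, 1, 7, 3, 1], [2, 6, 2, 6, 5], [8, 6, 4, 8, 6, 4], [8, 3, 8, 3, 8, 3], [2, 8, 2, 8, 2, 8]]

def ev {G : Type*} [Group G] (a b z t x k : G) (l : ℕ) : G := [1, a, b, z, t, t⁻¹, x, x⁻¹, k].getD l 1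

theorem good {G : Type*} [Group G] {a b z t x k : G} (H : Rel a b z t x k) : Good (ev a b z t x k) 148008272898312765696 := by
  have i_a : a⁻¹ = a := inv_eq_of_mul_eq_one_right H.aa
  have i_b : b⁻¹ = b := inv_eq_of_mul_eq_one_right H.bb
  have i_z : z⁻¹ = z := inv_eq_of_mul_eq_one_right H.zz
  have i_k : k⁻¹ = k := inv_eq_of_mul_eq_one_right H.kk
  refine good_list (n := 9) rfl (by norm_num) rfl fun l hl => ?_
  interval_cases l
  · exact inv_one.symm
  · exact i_a.symm
  · exact i_b.symm
  · exact i_z.symm
  · rfl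
  · exact (inv_inv _).symm
  · rfl
  · exact (inv_inv _).symm
  · exact i_k.symm

theorem rels {G : Type*} [Group G] {a b z t x k : G} (H : Rel a b z t x k) : Rels (ev a b z t x k) R := by
  have i_a : a⁻¹ = a := inv_eq_of_mul_eq_one_right H.aa
  have i_b : b⁻¹ = b := inv_eq_of_mul_eq_one_right H.bb
  have i_z : z⁻¹ = z := inv_eq_of_mul_eq_one_right H.zz
  have i_k : k⁻¹ = k := inv_eq_of_mul_eq_one_right H.kk
  unfold R
  refine Rels.cons ?_ ?_
  · show a * (a * 1) = 1
    simpa only [mul_inv_rev, inv_inv, mul_assoc, mul_one, one_mul, inv_one, pow_succ, pow_zero, i_a, i_b, i_z, i_k] using mul_inv_eq_one.mpr H.aa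
  refine Rels.cons ?_ ?_
  · show b * (b * 1) = 1
    simpa only [mul_inv_rev, inv_inv, mul_assoc, mul_one, one_mul, inv_one, pow_succ, pow_zero, i_a, i_b, i_z, i_k] using mul_inv_eq_one.mpr H.bb
  refine Rels.cons ?_ ?_
  · show z * (z * 1) = 1
    simpa only [mul_inv_rev, inv_inv, mul_assoc, mul_one, one_mul, inv_one, pow_succ, pow_zero, i_a, i_b, i_z, i_k] using mul_inv_eq_one.mpr H.zz
  refine Rels.cons ?_ ?_
  · show k * (k * 1) = 1
    simpa only [mul_inv_rev, inv_inv, mul_assoc, mul_one, one_mul, inv_one, pow_succ, pow_zero, i_a, i_b, i_z, i_k] using mul_inv_eq_one.mpr H.kk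
  refine Rels.cons ?_ ?_
  · show z * (a * (z * (a * 1))) = 1
    simpa only [mul_inv_rev, inv_inv, mul_assoc, mul_one, one_mul, inv_one, pow_succ, pow_zero, i_a, i_b, i_z, i_k] using mul_inv_eq_one.mpr H.za
  refine Rels.cons ?_ ?_
  · show z * (b * (z * (b * 1))) = 1
    simpa only [mul_inv_rev, inv_inv, mul_assoc, mul_one, one_mul, inv_one, pow_succ, pow_zero, i_a, i_b, i_z, i_k] using mul_inv_eq_one.mpr H.zb
  refine Rels.cons ?_ ?_
  · show a * (b * (a * (b * (z * 1)))) = 1
    simpa only [mul_inv_rev, inv_inv, mul_assoc, mul_one, one_mul, inv_one, pow_succ, pow_zero, i_a, i_b, i_z, i_k] using mul_inv_eq_one.mpr H.ab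
  refine Rels.cons ?_ ?_
  · show t * (t * (t * 1)) = 1
    simpa only [mul_inv_rev, inv_inv, mul_assoc, mul_one, one_mul, inv_one, pow_succ, pow_zero, i_a, i_b, i_z, i_k] using mul_inv_eq_one.mpr H.t3
  refine Rels.cons ?_ ?_
  · show t * (a * (t⁻¹ * (a * 1))) = 1
    simpa only [mul_inv_rev, inv_inv, mul_assoc, mul_one, one_mul, inv_one, pow_succ, pow_zero, i_a, i_b, i_z, i_k] using mul_inv_eq_one.mpr H.ta
  refine Rels.cons ?_ ?_
  · show t * (b * (t⁻¹ * (b * 1))) = 1
    simpa only [mul_inv_rev, inv_inv, mul_assoc, mul_one, one_mul, inv_one, pow_succ, pow_zero, i_a, i_b, i_z, i_k] using mul_inv_eq_one.mpr H.tb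
  refine Rels.cons ?_ ?_
  · show z * (t * (z * (t⁻¹ * 1))) = 1
    simpa only [mul_inv_rev, inv_inv, mul_assoc, mul_one, one_mul, inv_one, pow_succ, pow_zero, i_a, i_b, i_z, i_k] using mul_inv_eq_one.mpr H.zt
  refine Rels.cons ?_ ?_
  · show x * (t * (x⁻¹ * (t⁻¹ * 1))) = 1
    simpa only [mul_inv_rev, inv_inv, mul_assoc, mul_one, one_mul, inv_one, pow_succ, pow_zero, i_a, i_b, i_z, i_k] using mul_inv_eq_one.mpr H.xt
  refine Rels.cons ?_ ?_
  · show t * (k * (t⁻¹ * (k * 1))) = 1
    simpa only [mul_inv_rev, inv_inv, mul_assoc, mul_one, one_mul, inv_one, pow_succ, pow_zero, i_a, i_b, i_z, i_k] using mul_inv_eq_one.mpr H.tk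
  refine Rels.cons ?_ ?_
  · show x * (x * (x * 1)) = 1
    simpa only [mul_inv_rev, inv_inv, mul_assoc, mul_one, one_mul, inv_one, pow_succ, pow_zero, i_a, i_b, i_z, i_k] using mul_inv_eq_one.mpr H.x3
  refine Rels.cons ?_ ?_
  · show x * (z * (x⁻¹ * (a * 1))) = 1
    simpa only [mul_inv_rev, inv_inv, mul_assoc, mul_one, one_mul, inv_one, pow_succ, pow_zero, i_a, i_b, i_z, i_k] using mul_inv_eq_one.mpr H.xz
  refine Rels.cons ?_ ?_
  · show x * (a * (x⁻¹ * (z * (a * 1)))) = 1
    simpa only [mul_inv_rev, inv_inv, mul_assoc, mul_one, one_mul, inv_one, pow_succ, pow_zero, i_a, i_b, i_z, i_k] using mul_inv_eq_one.mpr H.xa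
  refine Rels.cons ?_ ?_
  · show b * (x * (b * (x * (t⁻¹ * 1)))) = 1
    simpa only [mul_inv_rev, inv_inv, mul_assoc, mul_one, one_mul, inv_one, pow_succ, pow_zero, i_a, i_b, i_z, i_k] using mul_inv_eq_one.mpr H.bx
  refine Rels.cons ?_ ?_
  · show k * (x * (t * (k * (x * (t * 1))))) = 1
    simpa only [mul_inv_rev, inv_inv, mul_assoc, mul_one, one_mul, inv_one, pow_succ, pow_zero, i_a, i_b, i_z, i_k] using mul_inv_eq_one.mpr H.kx
  refine Rels.cons ?_ ?_
  · show k * (z * (k * (z * (k * (z * 1))))) = 1
    simpa only [mul_inv_rev, inv_inv, mul_assoc, mul_one, one_mul, inv_one, pow_succ, pow_zero, i_a, i_b, i_z, i_k] using mul_inv_eq_one.mpr H.kz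
  refine Rels.cons ?_ ?_
  · show b * (k * (b * (k * (b * (k * 1))))) = 1
    simpa only [mul_inv_rev, inv_inv, mul_assoc, mul_one, one_mul, inv_one, pow_succ, pow_zero, i_a, i_b, i_z, i_k] using mul_inv_eq_one.mpr H.bk
  intro r hr
  exact absurd hr List.not_mem_nil

/-- The relations hold for the letters of any assignment satisfying the relators. -/
theorem rel_of {G : Type*} [Group G] {e : ℕ → G} (hg : Good e 148008272898312765696) (hR : Rels e R) :
    Rel (e 1) (e 2) (e 3) (e 4) (e 6) (e 8) := by
  have j1 : (e 1)⁻¹ = e 1 := (hg.inv 1).symm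
  have j2 : (e 2)⁻¹ = e 2 := (hg.inv 2).symm
  have j3 : (e 3)⁻¹ = e 3 := (hg.inv 3).symm
  have j4 : (e 4)⁻¹ = e 5 := (hg.inv 4).symm
  have j5 : (e 5)⁻¹ = e 4 := (hg.inv 5).symm
  have j6 : (e 6)⁻¹ = e 7 := (hg.inv 6).symm
  have j7 : (e 7)⁻¹ = e 6 := (hg.inv 7).symm
  have j8 : (e 8)⁻¹ = e 8 := (hg.inv 8).symm
  have r0 : e 1 * (e 1 * 1) = 1 := hR [1, 1] (List.mem_of_elem_eq_true (by decide))
  have r1 : e 2 * (e 2 * 1) = 1 := hR [2, 2] (List.mem_of_elem_eq_true (by decide))
  have r2 : e 3 * (e 3 * 1) = 1 := hR [3, 3] (List.mem_of_elem_eq_true (by decide))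
  have r3 : e 8 * (e 8 * 1) = 1 := hR [8, 8] (List.mem_of_elem_eq_true (by decide))
  have r4 : e 3 * (e 1 * (e 3 * (e 1 * 1))) = 1 := hR [3, 1, 3, 1] (List.mem_of_elem_eq_true (by decide))
  have r5 : e 3 * (e 2 * (e 3 * (e 2 * 1))) = 1 := hR [3, 2, 3, 2] (List.mem_of_elem_eq_true (by decide))
  have r6 : e 1 * (e 2 * (e 1 * (e 2 * (e 3 * 1)))) = 1 := hR [1, 2, 1, 2, 3] (List.mem_of_elem_eq_true (by decide))
  have r7 : e 4 * (e 4 * (e 4 * 1)) = 1 := hR [4, 4, 4] (List.mem_of_elem_eq_true (by decide))
  have r8 : e 4 * (e 1 * (e 5 * (e 1 * 1))) = 1 := hR [4, 1, 5, 1] (List.mem_of_elem_eq_true (by decide))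
  have r9 : e 4 * (e 2 * (e 5 * (e 2 * 1))) = 1 := hR [4, 2, 5, 2] (List.mem_of_elem_eq_true (by decide))
  have r10 : e 3 * (e 4 * (e 3 * (e 5 * 1))) = 1 := hR [3, 4, 3, 5] (List.mem_of_elem_eq_true (by decide))
  have r11 : e 6 * (e 4 * (e 7 * (e 5 * 1))) = 1 := hR [6, 4, 7, 5] (List.mem_of_elem_eq_true (by decide))
  have r12 : e 4 * (e 8 * (e 5 * (e 8 * 1))) = 1 := hR [4, 8, 5, 8] (List.mem_of_elem_eq_true (by decide))
  have r13 : e 6 * (e 6 * (e 6 * 1)) = 1 := hR [6, 6, 6] (List.mem_of_elem_eq_true (by decide))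
  have r14 : e 6 * (e 3 * (e 7 * (e 1 * 1))) = 1 := hR [6, 3, 7, 1] (List.mem_of_elem_eq_true (by decide))
  have r15 : e 6 * (e 1 * (e 7 * (e 3 * (e 1 * 1)))) = 1 := hR [6, 1, 7, 3, 1] (List.mem_of_elem_eq_true (by decide))
  have r16 : e 2 * (e 6 * (e 2 * (e 6 * (e 5 * 1)))) = 1 := hR [2, 6, 2, 6, 5] (List.mem_of_elem_eq_true (by decide))
  have r17 : e 8 * (e 6 * (e 4 * (e 8 * (e 6 * (e 4 * 1))))) = 1 := hR [8, 6, 4, 8, 6, 4] (List.mem_of_elem_eq_true (by decide))
  have r18 : e 8 * (e 3 * (e 8 * (e 3 * (e 8 * (e 3 * 1))))) = 1 := hR [8, 3, 8, 3, 8, 3] (List.mem_of_elem_eq_true (by decide))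
  have r19 : e 2 * (e 8 * (e 2 * (e 8 * (e 2 * (e 8 * 1))))) = 1 := hR [2, 8, 2, 8, 2, 8] (List.mem_of_elem_eq_true (by decide))
  exact ⟨mul_inv_eq_one.mp (by simpa only [mul_inv_rev, mul_assoc, mul_one, one_mul, inv_one, pow_succ, pow_zero, j1, j2, j3, j4, j5, j6, j7, j8] using r0),
    mul_inv_eq_one.mp (by simpa only [mul_inv_rev, mul_assoc, mul_one, one_mul, inv_one, pow_succ, pow_zero, j1, j2, j3, j4, j5, j6, j7, j8] using r1),
    mul_inv_eq_one.mp (by simpa only [mul_inv_rev, mul_assoc, mul_one, one_mul, inv_one, pow_succ, pow_zero, j1, j2, j3, j4, j5, j6, j7, j8] using r2),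
    mul_inv_eq_one.mp (by simpa only [mul_inv_rev, mul_assoc, mul_one, one_mul, inv_one, pow_succ, pow_zero, j1, j2, j3, j4, j5, j6, j7, j8] using r3),
    mul_inv_eq_one.mp (by simpa only [mul_inv_rev, mul_assoc, mul_one, one_mul, inv_one, pow_succ, pow_zero, j1, j2, j3, j4, j5, j6, j7, j8] using r4),
    mul_inv_eq_one.mp (by simpa only [mul_inv_rev, mul_assoc, mul_one, one_mul, inv_one, pow_succ, pow_zero, j1, j2, j3, j4, j5, j6, j7, j8] using r5),
    mul_inv_eq_one.mp (by simpa only [mul_inv_rev, mul_assoc, mul_one, one_mul, inv_one, pow_succ, pow_zero, j1, j2, j3, j4, j5, j6, j7, j8] using r6),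
    mul_inv_eq_one.mp (by simpa only [mul_inv_rev, mul_assoc, mul_one, one_mul, inv_one, pow_succ, pow_zero, j1, j2, j3, j4, j5, j6, j7, j8] using r7),
    mul_inv_eq_one.mp (by simpa only [mul_inv_rev, mul_assoc, mul_one, one_mul, inv_one, pow_succ, pow_zero, j1, j2, j3, j4, j5, j6, j7, j8] using r8),
    mul_inv_eq_one.mp (by simpa only [mul_inv_rev, mul_assoc, mul_one, one_mul, inv_one, pow_succ, pow_zero, j1, j2, j3, j4, j5, j6, j7, j8] using r9),
    mul_inv_eq_one.mp (by simpa only [mul_inv_rev, mul_assoc, mul_one, one_mul, inv_one, pow_succ, pow_zero, j1, j2, j3, j4, j5, j6, j7, j8] using r10),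
    mul_inv_eq_one.mp (by simpa only [mul_inv_rev, mul_assoc, mul_one, one_mul, inv_one, pow_succ, pow_zero, j1, j2, j3, j4, j5, j6, j7, j8] using r11),
    mul_inv_eq_one.mp (by simpa only [mul_inv_rev, mul_assoc, mul_one, one_mul, inv_one, pow_succ, pow_zero, j1, j2, j3, j4, j5, j6, j7, j8] using r12),
    mul_inv_eq_one.mp (by simpa only [mul_inv_rev, mul_assoc, mul_one, one_mul, inv_one, pow_succ, pow_zero, j1, j2, j3, j4, j5, j6, j7, j8] using r13),
    mul_inv_eq_one.mp (by simpa only [mul_inv_rev, mul_assoc, mul_one, one_mul, inv_one, pow_succ, pow_zero, j1, j2, j3, j4, j5, j6, j7, j8] using r14),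
    mul_inv_eq_one.mp (by simpa only [mul_inv_rev, mul_assoc, mul_one, one_mul, inv_one, pow_succ, pow_zero, j1, j2, j3, j4, j5, j6, j7, j8] using r15),
    mul_inv_eq_one.mp (by simpa only [mul_inv_rev, mul_assoc, mul_one, one_mul, inv_one, pow_succ, pow_zero, j1, j2, j3, j4, j5, j6, j7, j8] using r16),
    mul_inv_eq_one.mp (by simpa only [mul_inv_rev, mul_assoc, mul_one, one_mul, inv_one, pow_succ, pow_zero, j1, j2, j3, j4, j5, j6, j7, j8] using r17),
    mul_inv_eq_one.mp (by simpa only [mul_inv_rev, mul_assoc, mul_one, one_mul, inv_one, pow_succ, pow_zero, j1, j2, j3, j4, j5, j6, j7, j8] using r18),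
    mul_inv_eq_one.mp (by simpa only [mul_inv_rev, mul_assoc, mul_one, one_mul, inv_one, pow_succ, pow_zero, j1, j2, j3, j4, j5, j6, j7, j8] using r19)⟩

theorem gen_top : gen (pgEv 148008272898312765696 R) [[1], [2], [3], [4], [6], [8]] = ⊤ := pg_gen (n := 9) (by norm_num) (by decide)
namespace c

noncomputable def get (y : ℕ) : ℕ := (sel (nat_lit 1) y (nat_lit 0x0) (nat_lit 0xc0000000000000b0000000000000300000b0000120300001200000b0000000b0000130000001300000b0000001200002200000022000012080000210000230800002300002103000011000023030000230000110200000f0000230200002300000f0300000b0000220300002200000b0300000a0000210300002100000a0200000800002102000021000008100000000000000f0000000000000e0000000000000d0000000000000a000000000000090000000000000200000000000b0200000b0000000000000000000c0000000c000000080000090000020800000200000903000004000007030000070000040200000e0000070200000700000e030000150000180300001800001500000015000019000000190000150500000000001f0400001f00000000000000000020000000200000000400001e0000010500000100001e0500000200001d0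400001d0000020400001c0000030500000300001c0500000400001b0400001b0000040400001f0000200500002000001f0800001e00001f0800001f00001e0200001d00001e0200001e00001d0300001c00001d0300001d00001c0800001b00001c0800001c00001b0100001a00001b0100001b00001a0500000500001a0400001a0000050300001800001903000019000018020000170000180200001800001703000016000017030000170000160200001500001602000016000015080000140000150800001500001401000000000014010000140000000300001200001303000013000012080000110000120800001200001102000010000011020000110000100300000f0000100300001000000f0800000e00000f0800000f00000e0100000d00000e0100000e00000d0200000500000d0200000d0000050200000b00000c0200000c00000b0800000a00000b0800000b00000a0200000900000a0200000a000009030000080000090300000900000808000007000008080000080000070100000600000701000007000006030000050000060300000600000501000004000005010000050000040800000300000408000004000003030000020000030300000300000202000001000002020000020000010800000000000108000001000000))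
noncomputable def gs (y : ℕ) : ℕ := (sel (nat_lit 3) y (sel (nat_lit 1) y (nat_lit 0x0) (sel (nat_lit 2) y (nat_lit 0x0) (nat_lit 0x0))) (sel (nat_lit 4) y (nat_lit 0x0) (sel (nat_lit 5) y (nat_lit 0x80000008000000800000080000008000000800000080000008000000800000080000008000000800000080000008000000800000080000008000000800000080000008000000800000080000008000000800000080000008000000800000080000008000000800000080000008000000) (nat_lit 0x80000168000016800001680000168000016800001680000150000259000027100002220000220000021e000021c000021a00002180000208000020600002040000202000020080000080000225000026e80000140000224000026d00002648000013000026400002140000263000026b0000268000022380000120000266000021c0000251000020f000026180000110000266000021f000022180000008000000800001100002600000211000021380000008000010000024b000023c000023a000023800002360000234000023200002080000206000020400002020000200800000f00002270000229000024f000022e000022c000022a00002280000226800000e0000259000021400002120000210000020e000020c000020a00002080000206000020400002020000200800000d00002170000256800000c000021600002140000212000025500002020000200800000b000020500002070000253000020f0000211800000a0000250000021a000021800002088000009000020c000020a0000219000021b80000080000231000024c80000070000230000022e000022c000022a8000006000023f00002488000005000023e000023c00002470000200800000400002030000245000023b800000300002380000243000020480000020000207000024100002378000001000023400002320000208))))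
noncomputable def gd (y : ℕ) : ℕ := (nat_lit 0x26600002640000260000023e000023c000023a00002380000236000023400002320000230000022e000022c000022a00002280000226000022400002220000220000021e000021c000021a00002180000216000021400002120000210000020e000020c000020a000020800002060000204000020200002000000000)
noncomputable def gwh_0 (y : ℕ) : ℕ := (sel (nat_lit 8) y (sel (nat_lit 4) y (sel (nat_lit 2) y (sel (nat_lit 1) y (nat_lit 0x1040105000003001000) (nat_lit 0x8050804000001003001)) (sel (nat_lit 3) y (nat_lit 0x3040305000000004002) (nat_lit 0x2050204000001003003))) (sel (nat_lit 6) y (sel (nat_lit 5) y (nat_lit 0x804080500001003001001) (nat_lit 0x405000000002004)) (sel (nat_lit 7) y (nat_lit 0x203020300001001003005) (nat_lit 0x303000000002006)))) (sel (nat_lit 12) y (sel (nat_lit 10) y (sel (nat_lit 9) y (nat_lit 0x102030102000002003007) (nat_lit 0x102010203000000005007)) (sel (nat_lit 11) y (nat_lit 0x30803080308000005001008) (nat_lit 0x8020802080200001005001009))) (sel (nat_lit 14) y (sel (nat_lit 13) y (nat_lit 0x20200000000200a) (nat_lit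 0x802030801030108030208020a00000000d00b)) (sel (nat_lit 15) y (nat_lit 0x1080203020308010e00000000900c) (nat_lit 0x802030801040108030208051000000000d00d)))))
noncomputable def gwh_1 (y : ℕ) : ℕ := (sel (nat_lit 18) y (sel (nat_lit 17) y (nat_lit 0x2030203000003001005) (nat_lit 0x20802080208000002004009)) (sel (nat_lit 19) y (nat_lit 0x8030803080300001004002008) (sel (nat_lit 20) y (nat_lit 0x300030000100000300e) (nat_lit 0x80203080102010803020803020c00000000e00f))))
noncomputable def gwh (y : ℕ) : ℕ := (sel (nat_lit 16) y (gwh_0 y) (gwh_1 y))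
def sg : List (List ℕ) := [[], [1], [2], [3], [4], [5], [6], [7], [8], [8, 2, 3, 8, 1, 3, 1, 8, 3, 2, 8, 2], [2, 8, 2, 3, 8, 1, 3, 1, 8, 3, 2, 8], [8, 2, 3, 8, 1, 2, 1, 8, 3, 2, 8, 3, 2], [2, 3, 8, 2, 3, 8, 1, 2, 1, 8, 3, 2, 8], [1, 8, 2, 3, 8, 1, 1, 8, 2, 3, 8, 1], [1, 8, 3, 2, 8, 1, 1, 8, 3, 2, 8, 1], [8, 2, 3, 8, 1, 4, 1, 8, 3, 2, 8, 5], [4, 8, 2, 3, 8, 1, 5, 1, 8, 3, 2, 8]]
def BL : List ℕ := [0x4010501, 0x4080508, 0x3040305, 0x4020502, 0x405, 0x3020302, 0x303, 0x102010203, 0x80308030803, 0x20802080208, 0x202, 0x802030801030108030208020a, 0x1080203020308010e, 0x8020308010401080302080510, 0x30003, 0x80203080102010803020803020c]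
def Sub : List (List ℕ) := []
theorem hA : prepA 148008272898312765696 P3S.R sg 5125570936434765545278450343765824635136 BL Sub get gd = true := by decide +kernel
theorem hw : allR (okW BL gwh) 0 21 = true := by decide +kernel
theorem b0 : allR (blk get gs (gwB gwh 21) gd 5125570936434765545278450343765824635136) 4 2 = true := by decide +kernel
theorem hb : ∀ b, 4 ≤ b → b < 6 → blk get gs (gwB gwh 21) gd 5125570936434765545278450343765824635136 b = true :=
  (allR_range b0 (by norm_num : 4 + 2 = 6))
def TL : List (ℕ × List ℕ) := [(346, [8, 2, 3, 8, 1, 3, 1, 8, 3, 2, 8, 2]), (370, [8, 2, 3, 8, 1, 2, 1, 8, 3, 2, 8, 3, 2]), (348, [1, 8, 2, 3, 8, 1, 1, 8, 2, 3, 8, 1]), (350, [8, 2, 3, 8, 1, 4, 1, 8, 3, 2, 8, 5])]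
theorem hM : prepM sg get 6 TL = true := by decide +kernel
theorem mem {G : Type*} [Group G] {ev : ℕ → G} (hev : Good ev 148008272898312765696) (hR : Rels ev P3S.R) :
    ∀ w ∈ TL.map Prod.snd, evL ev w ∈ gen ev Sub :=
  cert_mem hev hR hA hM hw hb

end c

theorem yz {G : Type*} [Group G] {a b z t x k : G} (H : Rel a b z t x k) : (k * b * z * k * a) * z * (k * b * z * k * a)⁻¹ = b := by
  have i_a : a⁻¹ = a := inv_eq_of_mul_eq_one_right H.aa
  have i_b : b⁻¹ = b := inv_eq_of_mul_eq_one_right H.bb
  have i_z : z⁻¹ = z := inv_eq_of_mul_eq_one_right H.zz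
  have i_k : k⁻¹ = k := inv_eq_of_mul_eq_one_right H.kk
  have h : k * (b * (z * (k * (a * (z * (a * (k * (z * (b * (k * (b * 1))))))))))) = 1 := rels_of_mem_nil (c.mem (good H) (rels H)) [8, 2, 3, 8, 1, 3, 1, 8, 3, 2, 8, 2] (List.mem_of_elem_eq_true (by decide))
  exact mul_inv_eq_one.mp (by simpa only [mul_inv_rev, inv_inv, mul_assoc, mul_one, one_mul, inv_one, pow_succ, pow_zero, i_a, i_b, i_z, i_k] using h)

theorem yb {G : Type*} [Group G] {a b z t x k : G} (H : Rel a b z t x k) : (k * b * z * k * a) * b * (k * b * z * k * a)⁻¹ = b * z := by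
  have i_a : a⁻¹ = a := inv_eq_of_mul_eq_one_right H.aa
  have i_b : b⁻¹ = b := inv_eq_of_mul_eq_one_right H.bb
  have i_z : z⁻¹ = z := inv_eq_of_mul_eq_one_right H.zz
  have i_k : k⁻¹ = k := inv_eq_of_mul_eq_one_right H.kk
  have h : k * (b * (z * (k * (a * (b * (a * (k * (z * (b * (k * (z * (b * 1)))))))))))) = 1 := rels_of_mem_nil (c.mem (good H) (rels H)) [8, 2, 3, 8, 1, 2, 1, 8, 3, 2, 8, 3, 2] (List.mem_of_elem_eq_true (by decide))
  exact mul_inv_eq_one.mp (by simpa only [mul_inv_rev, inv_inv, mul_assoc, mul_one, one_mul, inv_one, pow_succ, pow_zero, i_a, i_b, i_z, i_k] using h)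

theorem ya {G : Type*} [Group G] {a b z t x k : G} (H : Rel a b z t x k) : a * (k * b * z * k * a) * a = (k * b * z * k * a)⁻¹ := by
  have i_a : a⁻¹ = a := inv_eq_of_mul_eq_one_right H.aa
  have i_b : b⁻¹ = b := inv_eq_of_mul_eq_one_right H.bb
  have i_z : z⁻¹ = z := inv_eq_of_mul_eq_one_right H.zz
  have i_k : k⁻¹ = k := inv_eq_of_mul_eq_one_right H.kk
  have h : a * (k * (b * (z * (k * (a * (a * (k * (b * (z * (k * (a * 1))))))))))) = 1 := rels_of_mem_nil (c.mem (good H) (rels H)) [1, 8, 2, 3, 8, 1, 1, 8, 2, 3, 8, 1] (List.mem_of_elem_eq_true (by decide))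
  exact mul_inv_eq_one.mp (by simpa only [mul_inv_rev, inv_inv, mul_assoc, mul_one, one_mul, inv_one, pow_succ, pow_zero, i_a, i_b, i_z, i_k] using h)

theorem yt {G : Type*} [Group G] {a b z t x k : G} (H : Rel a b z t x k) : (k * b * z * k * a) * t = t * (k * b * z * k * a) := by
  have i_a : a⁻¹ = a := inv_eq_of_mul_eq_one_right H.aa
  have i_b : b⁻¹ = b := inv_eq_of_mul_eq_one_right H.bb
  have i_z : z⁻¹ = z := inv_eq_of_mul_eq_one_right H.zz
  have i_k : k⁻¹ = k := inv_eq_of_mul_eq_one_right H.kk
  have h : k * (b * (z * (k * (a * (t * (a * (k * (z * (b * (k * (t⁻¹ * 1))))))))))) = 1 := rels_of_mem_nil (c.mem (good H) (rels H)) [8, 2, 3, 8, 1, 4, 1, 8, 3, 2, 8, 5] (List.mem_of_elem_eq_true (by decide))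
  exact mul_inv_eq_one.mp (by simpa only [mul_inv_rev, inv_inv, mul_assoc, mul_one, one_mul, inv_one, pow_succ, pow_zero, i_a, i_b, i_z, i_k] using h)

end P3S

namespace P3

structure Rel {G : Type*} [Group G] (a b z w t u x h k : G) : Prop where
  hC : P3C.Rel a b z w t u
  x3 : x ^ 3 = 1
  xt : x * t = t * x
  xw : x * w = w * x
  xz : x * z * x⁻¹ = a
  xa : x * a * x⁻¹ = a * z
  bx : (b * x) ^ 2 = t
  hh : h * h = 1
  hz : h * z * h = w
  ht : h * t * h = x⁻¹
  hc : (h * (b * w * b)) ^ 3 = 1
  kk : k * k = 1
  kd : k = h * b * h * b * h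
  tk : t * k = k * t
  kx : (k * x * t) ^ 2 = 1
  kz : (k * z) ^ 3 = 1
  bk : (b * k) ^ 3 = 1
  uy : u * x * t * u = k * b * z * k * a

def R : List (List ℕ) := [[1, 1], [2, 2], [3, 3], [4, 4], [5, 5, 5], [5, 4, 5, 4, 5, 4], [3, 1, 3, 1], [3, 2, 3, 2], [3, 4, 3, 4], [3, 5, 3, 6], [1, 2, 1, 2, 3], [5, 1, 6, 1], [5, 2, 6, 2], [4, 1, 4, 1], [2, 4, 2, 4, 2, 4, 2, 4, 3], [1, 4, 2, 4, 2, 6, 4, 2, 4, 5, 5, 4, 2, 4, 6], [7, 7], [7, 5, 7, 5], [7, 4, 7, 4, 7, 4], [7, 1, 7, 2], [7, 3, 7, 3], [8, 8, 8], [8, 5, 9, 6], [8, 4, 9, 4], [8, 3, 9, 1], [8, 1, 9, 3, 1], [2, 8, 2, 8, 6], [10, 10], [10, 3, 10, 4], [10, 5, 10, 8], [10, 2, 4, 2, 10, 2, 4, 2, 10, 2, 4, 2], [11, 11], [11, 10, 2, 10, 2, 10], [5, 11, 6, 11], [11, 8, 5, 11, 8, 5], [11, 3, 11, 3, 11, 3], [2, 11, 2, 11, 2, 11], [7, 8, 5, 7, 1, 11, 3, 2, 11]]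

def ev {G : Type*} [Group G] (a b z w t u x h k : G) (l : ℕ) : G := [1, a, b, z, w, t, t⁻¹, u, x, x⁻¹, h, k].getD l 1

theorem good {G : Type*} [Group G] {a b z w t u x h k : G} (H : Rel a b z w t u x h k) : Good (ev a b z w t u x h k) 3416462311689318815716475136 := by
  have i_a : a⁻¹ = a := inv_eq_of_mul_eq_one_right H.hC.hN.aa
  have i_b : b⁻¹ = b := inv_eq_of_mul_eq_one_right H.hC.hN.bb
  have i_z : z⁻¹ = z := inv_eq_of_mul_eq_one_right H.hC.hN.zz
  have i_w : w⁻¹ = w := inv_eq_of_mul_eq_one_right H.hC.hN.ww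
  have i_u : u⁻¹ = u := inv_eq_of_mul_eq_one_right H.hC.uu
  have i_h : h⁻¹ = h := inv_eq_of_mul_eq_one_right H.hh
  have i_k : k⁻¹ = k := inv_eq_of_mul_eq_one_right H.kk
  refine good_list (n := 12) rfl (by norm_num) rfl fun l hl => ?_
  interval_cases l
  · exact inv_one.symm
  · exact i_a.symm
  · exact i_b.symm
  · exact i_z.symm
  · exact i_w.symm
  · rfl
  · exact (inv_inv _).symm
  · exact i_u.symm
  · rfl
  · exact (inv_inv _).symm
  · exact i_h.symm
  · exact i_k.symm

theorem rels {G : Type*} [Group G] {a b z w t u x h k : G} (H : Rel a b z w t u x h k) : Rels (ev a b z w t u x h k) R := by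
  have i_a : a⁻¹ = a := inv_eq_of_mul_eq_one_right H.hC.hN.aa
  have i_b : b⁻¹ = b := inv_eq_of_mul_eq_one_right H.hC.hN.bb
  have i_z : z⁻¹ = z := inv_eq_of_mul_eq_one_right H.hC.hN.zz
  have i_w : w⁻¹ = w := inv_eq_of_mul_eq_one_right H.hC.hN.ww
  have i_u : u⁻¹ = u := inv_eq_of_mul_eq_one_right H.hC.uu
  have i_h : h⁻¹ = h := inv_eq_of_mul_eq_one_right H.hh
  have i_k : k⁻¹ = k := inv_eq_of_mul_eq_one_right H.kk
  unfold R
  refine Rels.cons ?_ ?_
  · show a * (a * 1) = 1
    simpa only [mul_inv_rev, inv_inv, mul_assoc, mul_one, one_mul, inv_one, pow_succ, pow_zero, i_a, i_b, i_z, i_w, i_u, i_h, i_k] using mul_inv_eq_one.mpr H.hC.hN.aa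
  refine Rels.cons ?_ ?_
  · show b * (b * 1) = 1
    simpa only [mul_inv_rev, inv_inv, mul_assoc, mul_one, one_mul, inv_one, pow_succ, pow_zero, i_a, i_b, i_z, i_w, i_u, i_h, i_k] using mul_inv_eq_one.mpr H.hC.hN.bb
  refine Rels.cons ?_ ?_
  · show z * (z * 1) = 1
    simpa only [mul_inv_rev, inv_inv, mul_assoc, mul_one, one_mul, inv_one, pow_succ, pow_zero, i_a, i_b, i_z, i_w, i_u, i_h, i_k] using mul_inv_eq_one.mpr H.hC.hN.zz
  refine Rels.cons ?_ ?_
  · show w * (w * 1) = 1
    simpa only [mul_inv_rev, inv_inv, mul_assoc, mul_one, one_mul, inv_one, pow_succ, pow_zero, i_a, i_b, i_z, i_w, i_u, i_h, i_k] using mul_inv_eq_one.mpr H.hC.hN.ww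
  refine Rels.cons ?_ ?_
  · show t * (t * (t * 1)) = 1
    simpa only [mul_inv_rev, inv_inv, mul_assoc, mul_one, one_mul, inv_one, pow_succ, pow_zero, i_a, i_b, i_z, i_w, i_u, i_h, i_k] using mul_inv_eq_one.mpr H.hC.hN.t3
  refine Rels.cons ?_ ?_
  · show t * (w * (t * (w * (t * (w * 1))))) = 1
    simpa only [mul_inv_rev, inv_inv, mul_assoc, mul_one, one_mul, inv_one, pow_succ, pow_zero, i_a, i_b, i_z, i_w, i_u, i_h, i_k] using mul_inv_eq_one.mpr H.hC.hN.tw
  refine Rels.cons ?_ ?_
  · show z * (a * (z * (a * 1))) = 1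
    simpa only [mul_inv_rev, inv_inv, mul_assoc, mul_one, one_mul, inv_one, pow_succ, pow_zero, i_a, i_b, i_z, i_w, i_u, i_h, i_k] using mul_inv_eq_one.mpr H.hC.hN.za
  refine Rels.cons ?_ ?_
  · show z * (b * (z * (b * 1))) = 1
    simpa only [mul_inv_rev, inv_inv, mul_assoc, mul_one, one_mul, inv_one, pow_succ, pow_zero, i_a, i_b, i_z, i_w, i_u, i_h, i_k] using mul_inv_eq_one.mpr H.hC.hN.zb
  refine Rels.cons ?_ ?_
  · show z * (w * (z * (w * 1))) = 1
    simpa only [mul_inv_rev, inv_inv, mul_assoc, mul_one, one_mul, inv_one, pow_succ, pow_zero, i_a, i_b, i_z, i_w, i_u, i_h, i_k] using mul_inv_eq_one.mpr H.hC.hN.zw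
  refine Rels.cons ?_ ?_
  · show z * (t * (z * (t⁻¹ * 1))) = 1
    simpa only [mul_inv_rev, inv_inv, mul_assoc, mul_one, one_mul, inv_one, pow_succ, pow_zero, i_a, i_b, i_z, i_w, i_u, i_h, i_k] using mul_inv_eq_one.mpr H.hC.hN.zt
  refine Rels.cons ?_ ?_
  · show a * (b * (a * (b * (z * 1)))) = 1
    simpa only [mul_inv_rev, inv_inv, mul_assoc, mul_one, one_mul, inv_one, pow_succ, pow_zero, i_a, i_b, i_z, i_w, i_u, i_h, i_k] using mul_inv_eq_one.mpr H.hC.hN.ab
  refine Rels.cons ?_ ?_
  · show t * (a * (t⁻¹ * (a * 1))) = 1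
    simpa only [mul_inv_rev, inv_inv, mul_assoc, mul_one, one_mul, inv_one, pow_succ, pow_zero, i_a, i_b, i_z, i_w, i_u, i_h, i_k] using mul_inv_eq_one.mpr H.hC.hN.ta
  refine Rels.cons ?_ ?_
  · show t * (b * (t⁻¹ * (b * 1))) = 1
    simpa only [mul_inv_rev, inv_inv, mul_assoc, mul_one, one_mul, inv_one, pow_succ, pow_zero, i_a, i_b, i_z, i_w, i_u, i_h, i_k] using mul_inv_eq_one.mpr H.hC.hN.tb
  refine Rels.cons ?_ ?_
  · show w * (a * (w * (a * 1))) = 1
    simpa only [mul_inv_rev, inv_inv, mul_assoc, mul_one, one_mul, inv_one, pow_succ, pow_zero, i_a, i_b, i_z, i_w, i_u, i_h, i_k] using mul_inv_eq_one.mpr H.hC.hN.wa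
  refine Rels.cons ?_ ?_
  · show b * (w * (b * (w * (b * (w * (b * (w * (z * 1)))))))) = 1
    simpa only [mul_inv_rev, inv_inv, mul_assoc, mul_one, one_mul, inv_one, pow_succ, pow_zero, i_a, i_b, i_z, i_w, i_u, i_h, i_k] using mul_inv_eq_one.mpr H.hC.hN.bw
  refine Rels.cons ?_ ?_
  · show a * (w * (b * (w * (b * (t⁻¹ * (w * (b * (w * (t * (t * (w * (b * (w * (t⁻¹ * 1)))))))))))))) = 1
    simpa only [mul_inv_rev, inv_inv, mul_assoc, mul_one, one_mul, inv_one, pow_succ, pow_zero, i_a, i_b, i_z, i_w, i_u, i_h, i_k] using mul_inv_eq_one.mpr H.hC.hN.pr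
  refine Rels.cons ?_ ?_
  · show u * (u * 1) = 1
    simpa only [mul_inv_rev, inv_inv, mul_assoc, mul_one, one_mul, inv_one, pow_succ, pow_zero, i_a, i_b, i_z, i_w, i_u, i_h, i_k] using mul_inv_eq_one.mpr H.hC.uu
  refine Rels.cons ?_ ?_
  · show u * (t * (u * (t * 1))) = 1
    simpa only [mul_inv_rev, inv_inv, mul_assoc, mul_one, one_mul, inv_one, pow_succ, pow_zero, i_a, i_b, i_z, i_w, i_u, i_h, i_k] using mul_inv_eq_one.mpr H.hC.ut
  refine Rels.cons ?_ ?_
  · show u * (w * (u * (w * (u * (w * 1))))) = 1
    simpa only [mul_inv_rev, inv_inv, mul_assoc, mul_one, one_mul, inv_one, pow_succ, pow_zero, i_a, i_b, i_z, i_w, i_u, i_h, i_k] using mul_inv_eq_one.mpr H.hC.uw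
  refine Rels.cons ?_ ?_
  · show u * (a * (u * (b * 1))) = 1
    simpa only [mul_inv_rev, inv_inv, mul_assoc, mul_one, one_mul, inv_one, pow_succ, pow_zero, i_a, i_b, i_z, i_w, i_u, i_h, i_k] using mul_inv_eq_one.mpr H.hC.ua
  refine Rels.cons ?_ ?_
  · show u * (z * (u * (z * 1))) = 1
    simpa only [mul_inv_rev, inv_inv, mul_assoc, mul_one, one_mul, inv_one, pow_succ, pow_zero, i_a, i_b, i_z, i_w, i_u, i_h, i_k] using mul_inv_eq_one.mpr H.hC.uz
  refine Rels.cons ?_ ?_
  · show x * (x * (x * 1)) = 1
    simpa only [mul_inv_rev, inv_inv, mul_assoc, mul_one, one_mul, inv_one, pow_succ, pow_zero, i_a, i_b, i_z, i_w, i_u, i_h, i_k] using mul_inv_eq_one.mpr H.x3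
  refine Rels.cons ?_ ?_
  · show x * (t * (x⁻¹ * (t⁻¹ * 1))) = 1
    simpa only [mul_inv_rev, inv_inv, mul_assoc, mul_one, one_mul, inv_one, pow_succ, pow_zero, i_a, i_b, i_z, i_w, i_u, i_h, i_k] using mul_inv_eq_one.mpr H.xt
  refine Rels.cons ?_ ?_
  · show x * (w * (x⁻¹ * (w * 1))) = 1
    simpa only [mul_inv_rev, inv_inv, mul_assoc, mul_one, one_mul, inv_one, pow_succ, pow_zero, i_a, i_b, i_z, i_w, i_u, i_h, i_k] using mul_inv_eq_one.mpr H.xw
  refine Rels.cons ?_ ?_
  · show x * (z * (x⁻¹ * (a * 1))) = 1
    simpa only [mul_inv_rev, inv_inv, mul_assoc, mul_one, one_mul, inv_one, pow_succ, pow_zero, i_a, i_b, i_z, i_w, i_u, i_h, i_k] using mul_inv_eq_one.mpr H.xz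
  refine Rels.cons ?_ ?_
  · show x * (a * (x⁻¹ * (z * (a * 1)))) = 1
    simpa only [mul_inv_rev, inv_inv, mul_assoc, mul_one, one_mul, inv_one, pow_succ, pow_zero, i_a, i_b, i_z, i_w, i_u, i_h, i_k] using mul_inv_eq_one.mpr H.xa
  refine Rels.cons ?_ ?_
  · show b * (x * (b * (x * (t⁻¹ * 1)))) = 1
    simpa only [mul_inv_rev, inv_inv, mul_assoc, mul_one, one_mul, inv_one, pow_succ, pow_zero, i_a, i_b, i_z, i_w, i_u, i_h, i_k] using mul_inv_eq_one.mpr H.bx
  refine Rels.cons ?_ ?_
  · show h * (h * 1) = 1
    simpa only [mul_inv_rev, inv_inv, mul_assoc, mul_one, one_mul, inv_one, pow_succ, pow_zero, i_a, i_b, i_z, i_w, i_u, i_h, i_k] using mul_inv_eq_one.mpr H.hh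
  refine Rels.cons ?_ ?_
  · show h * (z * (h * (w * 1))) = 1
    simpa only [mul_inv_rev, inv_inv, mul_assoc, mul_one, one_mul, inv_one, pow_succ, pow_zero, i_a, i_b, i_z, i_w, i_u, i_h, i_k] using mul_inv_eq_one.mpr H.hz
  refine Rels.cons ?_ ?_
  · show h * (t * (h * (x * 1))) = 1
    simpa only [mul_inv_rev, inv_inv, mul_assoc, mul_one, one_mul, inv_one, pow_succ, pow_zero, i_a, i_b, i_z, i_w, i_u, i_h, i_k] using mul_inv_eq_one.mpr H.ht
  refine Rels.cons ?_ ?_
  · show h * (b * (w * (b * (h * (b * (w * (b * (h * (b * (w * (b * 1))))))))))) = 1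
    simpa only [mul_inv_rev, inv_inv, mul_assoc, mul_one, one_mul, inv_one, pow_succ, pow_zero, i_a, i_b, i_z, i_w, i_u, i_h, i_k] using mul_inv_eq_one.mpr H.hc
  refine Rels.cons ?_ ?_
  · show k * (k * 1) = 1
    simpa only [mul_inv_rev, inv_inv, mul_assoc, mul_one, one_mul, inv_one, pow_succ, pow_zero, i_a, i_b, i_z, i_w, i_u, i_h, i_k] using mul_inv_eq_one.mpr H.kk
  refine Rels.cons ?_ ?_
  · show k * (h * (b * (h * (b * (h * 1))))) = 1
    simpa only [mul_inv_rev, inv_inv, mul_assoc, mul_one, one_mul, inv_one, pow_succ, pow_zero, i_a, i_b, i_z, i_w, i_u, i_h, i_k] using mul_inv_eq_one.mpr H.kd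
  refine Rels.cons ?_ ?_
  · show t * (k * (t⁻¹ * (k * 1))) = 1
    simpa only [mul_inv_rev, inv_inv, mul_assoc, mul_one, one_mul, inv_one, pow_succ, pow_zero, i_a, i_b, i_z, i_w, i_u, i_h, i_k] using mul_inv_eq_one.mpr H.tk
  refine Rels.cons ?_ ?_
  · show k * (x * (t * (k * (x * (t * 1))))) = 1
    simpa only [mul_inv_rev, inv_inv, mul_assoc, mul_one, one_mul, inv_one, pow_succ, pow_zero, i_a, i_b, i_z, i_w, i_u, i_h, i_k] using mul_inv_eq_one.mpr H.kx
  refine Rels.cons ?_ ?_
  · show k * (z * (k * (z * (k * (z * 1))))) = 1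
    simpa only [mul_inv_rev, inv_inv, mul_assoc, mul_one, one_mul, inv_one, pow_succ, pow_zero, i_a, i_b, i_z, i_w, i_u, i_h, i_k] using mul_inv_eq_one.mpr H.kz
  refine Rels.cons ?_ ?_
  · show b * (k * (b * (k * (b * (k * 1))))) = 1
    simpa only [mul_inv_rev, inv_inv, mul_assoc, mul_one, one_mul, inv_one, pow_succ, pow_zero, i_a, i_b, i_z, i_w, i_u, i_h, i_k] using mul_inv_eq_one.mpr H.bk
  refine Rels.cons ?_ ?_
  · show u * (x * (t * (u * (a * (k * (z * (b * (k * 1)))))))) = 1
    simpa only [mul_inv_rev, inv_inv, mul_assoc, mul_one, one_mul, inv_one, pow_succ, pow_zero, i_a, i_b, i_z, i_w, i_u, i_h, i_k] using mul_inv_eq_one.mpr H.uy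
  intro r hr
  exact absurd hr List.not_mem_nil

/-- The relations hold for the letters of any assignment satisfying the relators. -/
theorem rel_of {G : Type*} [Group G] {e : ℕ → G} (hg : Good e 3416462311689318815716475136) (hR : Rels e R) :
    Rel (e 1) (e 2) (e 3) (e 4) (e 5) (e 7) (e 8) (e 10) (e 11) := by
  have j1 : (e 1)⁻¹ = e 1 := (hg.inv 1).symm
  have j2 : (e 2)⁻¹ = e 2 := (hg.inv 2).symm
  have j3 : (e 3)⁻¹ = e 3 := (hg.inv 3).symm
  have j4 : (e 4)⁻¹ = e 4 := (hg.inv 4).symm
  have j5 : (e 5)⁻¹ = e 6 := (hg.inv 5).symm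
  have j6 : (e 6)⁻¹ = e 5 := (hg.inv 6).symm
  have j7 : (e 7)⁻¹ = e 7 := (hg.inv 7).symm
  have j8 : (e 8)⁻¹ = e 9 := (hg.inv 8).symm
  have j9 : (e 9)⁻¹ = e 8 := (hg.inv 9).symm
  have j10 : (e 10)⁻¹ = e 10 := (hg.inv 10).symm
  have j11 : (e 11)⁻¹ = e 11 := (hg.inv 11).symm
  have r0 : e 1 * (e 1 * 1) = 1 := hR [1, 1] (List.mem_of_elem_eq_true (by decide))
  have r1 : e 2 * (e 2 * 1) = 1 := hR [2, 2] (List.mem_of_elem_eq_true (by decide))
  have r2 : e 3 * (e 3 * 1) = 1 := hR [3, 3] (List.mem_of_elem_eq_true (by decide))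
  have r3 : e 4 * (e 4 * 1) = 1 := hR [4, 4] (List.mem_of_elem_eq_true (by decide))
  have r4 : e 5 * (e 5 * (e 5 * 1)) = 1 := hR [5, 5, 5] (List.mem_of_elem_eq_true (by decide))
  have r5 : e 5 * (e 4 * (e 5 * (e 4 * (e 5 * (e 4 * 1))))) = 1 := hR [5, 4, 5, 4, 5, 4] (List.mem_of_elem_eq_true (by decide))
  have r6 : e 3 * (e 1 * (e 3 * (e 1 * 1))) = 1 := hR [3, 1, 3, 1] (List.mem_of_elem_eq_true (by decide))
  have r7 : e 3 * (e 2 * (e 3 * (e 2 * 1))) = 1 := hR [3, 2, 3, 2] (List.mem_of_elem_eq_true (by decide))
  have r8 : e 3 * (e 4 * (e 3 * (e 4 * 1))) = 1 := hR [3, 4, 3, 4] (List.mem_of_elem_eq_true (by decide))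
  have r9 : e 3 * (e 5 * (e 3 * (e 6 * 1))) = 1 := hR [3, 5, 3, 6] (List.mem_of_elem_eq_true (by decide))
  have r10 : e 1 * (e 2 * (e 1 * (e 2 * (e 3 * 1)))) = 1 := hR [1, 2, 1, 2, 3] (List.mem_of_elem_eq_true (by decide))
  have r11 : e 5 * (e 1 * (e 6 * (e 1 * 1))) = 1 := hR [5, 1, 6, 1] (List.mem_of_elem_eq_true (by decide))
  have r12 : e 5 * (e 2 * (e 6 * (e 2 * 1))) = 1 := hR [5, 2, 6, 2] (List.mem_of_elem_eq_true (by decide))
  have r13 : e 4 * (e 1 * (e 4 * (e 1 * 1))) = 1 := hR [4, 1, 4, 1] (List.mem_of_elem_eq_true (by decide))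
  have r14 : e 2 * (e 4 * (e 2 * (e 4 * (e 2 * (e 4 * (e 2 * (e 4 * (e 3 * 1)))))))) = 1 := hR [2, 4, 2, 4, 2, 4, 2, 4, 3] (List.mem_of_elem_eq_true (by decide))
  have r15 : e 1 * (e 4 * (e 2 * (e 4 * (e 2 * (e 6 * (e 4 * (e 2 * (e 4 * (e 5 * (e 5 * (e 4 * (e 2 * (e 4 * (e 6 * 1)))))))))))))) = 1 := hR [1, 4, 2, 4, 2, 6, 4, 2, 4, 5, 5, 4, 2, 4, 6] (List.mem_of_elem_eq_true (by decide))
  have r16 : e 7 * (e 7 * 1) = 1 := hR [7, 7] (List.mem_of_elem_eq_true (by decide))
  have r17 : e 7 * (e 5 * (e 7 * (e 5 * 1))) = 1 := hR [7, 5, 7, 5] (List.mem_of_elem_eq_true (by decide))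
  have r18 : e 7 * (e 4 * (e 7 * (e 4 * (e 7 * (e 4 * 1))))) = 1 := hR [7, 4, 7, 4, 7, 4] (List.mem_of_elem_eq_true (by decide))
  have r19 : e 7 * (e 1 * (e 7 * (e 2 * 1))) = 1 := hR [7, 1, 7, 2] (List.mem_of_elem_eq_true (by decide))
  have r20 : e 7 * (e 3 * (e 7 * (e 3 * 1))) = 1 := hR [7, 3, 7, 3] (List.mem_of_elem_eq_true (by decide))
  have r21 : e 8 * (e 8 * (e 8 * 1)) = 1 := hR [8, 8, 8] (List.mem_of_elem_eq_true (by decide))
  have r22 : e 8 * (e 5 * (e 9 * (e 6 * 1))) = 1 := hR [8, 5, 9, 6] (List.mem_of_elem_eq_true (by decide))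
  have r23 : e 8 * (e 4 * (e 9 * (e 4 * 1))) = 1 := hR [8, 4, 9, 4] (List.mem_of_elem_eq_true (by decide))
  have r24 : e 8 * (e 3 * (e 9 * (e 1 * 1))) = 1 := hR [8, 3, 9, 1] (List.mem_of_elem_eq_true (by decide))
  have r25 : e 8 * (e 1 * (e 9 * (e 3 * (e 1 * 1)))) = 1 := hR [8, 1, 9, 3, 1] (List.mem_of_elem_eq_true (by decide))
  have r26 : e 2 * (e 8 * (e 2 * (e 8 * (e 6 * 1)))) = 1 := hR [2, 8, 2, 8, 6] (List.mem_of_elem_eq_true (by decide))
  have r27 : e 10 * (e 10 * 1) = 1 := hR [10, 10] (List.mem_of_elem_eq_true (by decide))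
  have r28 : e 10 * (e 3 * (e 10 * (e 4 * 1))) = 1 := hR [10, 3, 10, 4] (List.mem_of_elem_eq_true (by decide))
  have r29 : e 10 * (e 5 * (e 10 * (e 8 * 1))) = 1 := hR [10, 5, 10, 8] (List.mem_of_elem_eq_true (by decide))
  have r30 : e 10 * (e 2 * (e 4 * (e 2 * (e 10 * (e 2 * (e 4 * (e 2 * (e 10 * (e 2 * (e 4 * (e 2 * 1))))))))))) = 1 := hR [10, 2, 4, 2, 10, 2, 4, 2, 10, 2, 4, 2] (List.mem_of_elem_eq_true (by decide))
  have r31 : e 11 * (e 11 * 1) = 1 := hR [11, 11] (List.mem_of_elem_eq_true (by decide))
  have r32 : e 11 * (e 10 * (e 2 * (e 10 * (e 2 * (e 10 * 1))))) = 1 := hR [11, 10, 2, 10, 2, 10] (List.mem_of_elem_eq_true (by decide))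
  have r33 : e 5 * (e 11 * (e 6 * (e 11 * 1))) = 1 := hR [5, 11, 6, 11] (List.mem_of_elem_eq_true (by decide))
  have r34 : e 11 * (e 8 * (e 5 * (e 11 * (e 8 * (e 5 * 1))))) = 1 := hR [11, 8, 5, 11, 8, 5] (List.mem_of_elem_eq_true (by decide))
  have r35 : e 11 * (e 3 * (e 11 * (e 3 * (e 11 * (e 3 * 1))))) = 1 := hR [11, 3, 11, 3, 11, 3] (List.mem_of_elem_eq_true (by decide))
  have r36 : e 2 * (e 11 * (e 2 * (e 11 * (e 2 * (e 11 * 1))))) = 1 := hR [2, 11, 2, 11, 2, 11] (List.mem_of_elem_eq_true (by decide))
  have r37 : e 7 * (e 8 * (e 5 * (e 7 * (e 1 * (e 11 * (e 3 * (e 2 * (e 11 * 1)))))))) = 1 := hR [7, 8, 5, 7, 1, 11, 3, 2, 11] (List.mem_of_elem_eq_true (by decide))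
  exact ⟨⟨⟨mul_inv_eq_one.mp (by simpa only [mul_inv_rev, mul_assoc, mul_one, one_mul, inv_one, pow_succ, pow_zero, j1, j2, j3, j4, j5, j6, j7, j8, j9, j10, j11] using r0),
    mul_inv_eq_one.mp (by simpa only [mul_inv_rev, mul_assoc, mul_one, one_mul, inv_one, pow_succ, pow_zero, j1, j2, j3, j4, j5, j6, j7, j8, j9, j10, j11] using r1),
    mul_inv_eq_one.mp (by simpa only [mul_inv_rev, mul_assoc, mul_one, one_mul, inv_one, pow_succ, pow_zero, j1, j2, j3, j4, j5, j6, j7, j8, j9, j10, j11] using r2),
    mul_inv_eq_one.mp (by simpa only [mul_inv_rev, mul_assoc, mul_one, one_mul, inv_one, pow_succ, pow_zero, j1, j2, j3, j4, j5, j6, j7, j8, j9, j10, j11] using r3),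
    mul_inv_eq_one.mp (by simpa only [mul_inv_rev, mul_assoc, mul_one, one_mul, inv_one, pow_succ, pow_zero, j1, j2, j3, j4, j5, j6, j7, j8, j9, j10, j11] using r4),
    mul_inv_eq_one.mp (by simpa only [mul_inv_rev, mul_assoc, mul_one, one_mul, inv_one, pow_succ, pow_zero, j1, j2, j3, j4, j5, j6, j7, j8, j9, j10, j11] using r5),
    mul_inv_eq_one.mp (by simpa only [mul_inv_rev, mul_assoc, mul_one, one_mul, inv_one, pow_succ, pow_zero, j1, j2, j3, j4, j5, j6, j7, j8, j9, j10, j11] using r6),
    mul_inv_eq_one.mp (by simpa only [mul_inv_rev, mul_assoc, mul_one, one_mul, inv_one, pow_succ, pow_zero, j1, j2, j3, j4, j5, j6, j7, j8, j9, j10, j11] using r7),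
    mul_inv_eq_one.mp (by simpa only [mul_inv_rev, mul_assoc, mul_one, one_mul, inv_one, pow_succ, pow_zero, j1, j2, j3, j4, j5, j6, j7, j8, j9, j10, j11] using r8),
    mul_inv_eq_one.mp (by simpa only [mul_inv_rev, mul_assoc, mul_one, one_mul, inv_one, pow_succ, pow_zero, j1, j2, j3, j4, j5, j6, j7, j8, j9, j10, j11] using r9),
    mul_inv_eq_one.mp (by simpa only [mul_inv_rev, mul_assoc, mul_one, one_mul, inv_one, pow_succ, pow_zero, j1, j2, j3, j4, j5, j6, j7, j8, j9, j10, j11] using r10),
    mul_inv_eq_one.mp (by simpa only [mul_inv_rev, mul_assoc, mul_one, one_mul, inv_one, pow_succ, pow_zero, j1, j2, j3, j4, j5, j6, j7, j8, j9, j10, j11] using r11),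
    mul_inv_eq_one.mp (by simpa only [mul_inv_rev, mul_assoc, mul_one, one_mul, inv_one, pow_succ, pow_zero, j1, j2, j3, j4, j5, j6, j7, j8, j9, j10, j11] using r12),
    mul_inv_eq_one.mp (by simpa only [mul_inv_rev, mul_assoc, mul_one, one_mul, inv_one, pow_succ, pow_zero, j1, j2, j3, j4, j5, j6, j7, j8, j9, j10, j11] using r13),
    mul_inv_eq_one.mp (by simpa only [mul_inv_rev, mul_assoc, mul_one, one_mul, inv_one, pow_succ, pow_zero, j1, j2, j3, j4, j5, j6, j7, j8, j9, j10, j11] using r14),
    mul_inv_eq_one.mp (by simpa only [mul_inv_rev, mul_assoc, mul_one, one_mul, inv_one, pow_succ, pow_zero, j1, j2, j3, j4, j5, j6, j7, j8, j9, j10, j11] using r15)⟩,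
    mul_inv_eq_one.mp (by simpa only [mul_inv_rev, mul_assoc, mul_one, one_mul, inv_one, pow_succ, pow_zero, j1, j2, j3, j4, j5, j6, j7, j8, j9, j10, j11] using r16),
    mul_inv_eq_one.mp (by simpa only [mul_inv_rev, mul_assoc, mul_one, one_mul, inv_one, pow_succ, pow_zero, j1, j2, j3, j4, j5, j6, j7, j8, j9, j10, j11] using r17),
    mul_inv_eq_one.mp (by simpa only [mul_inv_rev, mul_assoc, mul_one, one_mul, inv_one, pow_succ, pow_zero, j1, j2, j3, j4, j5, j6, j7, j8, j9, j10, j11] using r18),
    mul_inv_eq_one.mp (by simpa only [mul_inv_rev, mul_assoc, mul_one, one_mul, inv_one, pow_succ, pow_zero, j1, j2, j3, j4, j5, j6, j7, j8, j9, j10, j11] using r19),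
    mul_inv_eq_one.mp (by simpa only [mul_inv_rev, mul_assoc, mul_one, one_mul, inv_one, pow_succ, pow_zero, j1, j2, j3, j4, j5, j6, j7, j8, j9, j10, j11] using r20)⟩,
    mul_inv_eq_one.mp (by simpa only [mul_inv_rev, mul_assoc, mul_one, one_mul, inv_one, pow_succ, pow_zero, j1, j2, j3, j4, j5, j6, j7, j8, j9, j10, j11] using r21),
    mul_inv_eq_one.mp (by simpa only [mul_inv_rev, mul_assoc, mul_one, one_mul, inv_one, pow_succ, pow_zero, j1, j2, j3, j4, j5, j6, j7, j8, j9, j10, j11] using r22),
    mul_inv_eq_one.mp (by simpa only [mul_inv_rev, mul_assoc, mul_one, one_mul, inv_one, pow_succ, pow_zero, j1, j2, j3, j4, j5, j6, j7, j8, j9, j10, j11] using r23),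
    mul_inv_eq_one.mp (by simpa only [mul_inv_rev, mul_assoc, mul_one, one_mul, inv_one, pow_succ, pow_zero, j1, j2, j3, j4, j5, j6, j7, j8, j9, j10, j11] using r24),
    mul_inv_eq_one.mp (by simpa only [mul_inv_rev, mul_assoc, mul_one, one_mul, inv_one, pow_succ, pow_zero, j1, j2, j3, j4, j5, j6, j7, j8, j9, j10, j11] using r25),
    mul_inv_eq_one.mp (by simpa only [mul_inv_rev, mul_assoc, mul_one, one_mul, inv_one, pow_succ, pow_zero, j1, j2, j3, j4, j5, j6, j7, j8, j9, j10, j11] using r26),
    mul_inv_eq_one.mp (by simpa only [mul_inv_rev, mul_assoc, mul_one, one_mul, inv_one, pow_succ, pow_zero, j1, j2, j3, j4, j5, j6, j7, j8, j9, j10, j11] using r27),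
    mul_inv_eq_one.mp (by simpa only [mul_inv_rev, mul_assoc, mul_one, one_mul, inv_one, pow_succ, pow_zero, j1, j2, j3, j4, j5, j6, j7, j8, j9, j10, j11] using r28),
    mul_inv_eq_one.mp (by simpa only [mul_inv_rev, mul_assoc, mul_one, one_mul, inv_one, pow_succ, pow_zero, j1, j2, j3, j4, j5, j6, j7, j8, j9, j10, j11] using r29),
    mul_inv_eq_one.mp (by simpa only [mul_inv_rev, mul_assoc, mul_one, one_mul, inv_one, pow_succ, pow_zero, j1, j2, j3, j4, j5, j6, j7, j8, j9, j10, j11] using r30),
    mul_inv_eq_one.mp (by simpa only [mul_inv_rev, mul_assoc, mul_one, one_mul, inv_one, pow_succ, pow_zero, j1, j2, j3, j4, j5, j6, j7, j8, j9, j10, j11] using r31),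
    mul_inv_eq_one.mp (by simpa only [mul_inv_rev, mul_assoc, mul_one, one_mul, inv_one, pow_succ, pow_zero, j1, j2, j3, j4, j5, j6, j7, j8, j9, j10, j11] using r32),
    mul_inv_eq_one.mp (by simpa only [mul_inv_rev, mul_assoc, mul_one, one_mul, inv_one, pow_succ, pow_zero, j1, j2, j3, j4, j5, j6, j7, j8, j9, j10, j11] using r33),
    mul_inv_eq_one.mp (by simpa only [mul_inv_rev, mul_assoc, mul_one, one_mul, inv_one, pow_succ, pow_zero, j1, j2, j3, j4, j5, j6, j7, j8, j9, j10, j11] using r34),
    mul_inv_eq_one.mp (by simpa only [mul_inv_rev, mul_assoc, mul_one, one_mul, inv_one, pow_succ, pow_zero, j1, j2, j3, j4, j5, j6, j7, j8, j9, j10, j11] using r35),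
    mul_inv_eq_one.mp (by simpa only [mul_inv_rev, mul_assoc, mul_one, one_mul, inv_one, pow_succ, pow_zero, j1, j2, j3, j4, j5, j6, j7, j8, j9, j10, j11] using r36),
    mul_inv_eq_one.mp (by simpa only [mul_inv_rev, mul_assoc, mul_one, one_mul, inv_one, pow_succ, pow_zero, j1, j2, j3, j4, j5, j6, j7, j8, j9, j10, j11] using r37)⟩

theorem Rel.map {G G' : Type*} [Group G] [Group G'] {a b z w t u x h k : G} (H : Rel a b z w t u x h k) (f : G →* G') :
    Rel (f a) (f b) (f z) (f w) (f t) (f u) (f x) (f h) (f k) :=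
  ⟨H.hC.map f,
    by simpa only [map_mul, map_inv, map_pow, map_one] using congrArg f H.x3,
    by simpa only [map_mul, map_inv, map_pow, map_one] using congrArg f H.xt,
    by simpa only [map_mul, map_inv, map_pow, map_one] using congrArg f H.xw,
    by simpa only [map_mul, map_inv, map_pow, map_one] using congrArg f H.xz,
    by simpa only [map_mul, map_inv, map_pow, map_one] using congrArg f H.xa,
    by simpa only [map_mul, map_inv, map_pow, map_one] using congrArg f H.bx,
    by simpa only [map_mul, map_inv, map_pow, map_one] using congrArg f H.hh,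
    by simpa only [map_mul, map_inv, map_pow, map_one] using congrArg f H.hz,
    by simpa only [map_mul, map_inv, map_pow, map_one] using congrArg f H.ht,
    by simpa only [map_mul, map_inv, map_pow, map_one] using congrArg f H.hc,
    by simpa only [map_mul, map_inv, map_pow, map_one] using congrArg f H.kk,
    by simpa only [map_mul, map_inv, map_pow, map_one] using congrArg f H.kd,
    by simpa only [map_mul, map_inv, map_pow, map_one] using congrArg f H.tk,
    by simpa only [map_mul, map_inv, map_pow, map_one] using congrArg f H.kx,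
    by simpa only [map_mul, map_inv, map_pow, map_one] using congrArg f H.kz,
    by simpa only [map_mul, map_inv, map_pow, map_one] using congrArg f H.bk,
    by simpa only [map_mul, map_inv, map_pow, map_one] using congrArg f H.uy⟩

theorem gen_top : gen (pgEv 3416462311689318815716475136 R) [[1], [2], [3], [4], [5], [7], [8], [10], [11]] = ⊤ := pg_gen (n := 12) (by norm_num) (by decide)
end P3

namespace P3b

structure Rel {G : Type*} [Group G] (a b z w t u x h k : G) : Prop where
  hC : P3C.Rel a b z w t u
  x3 : x ^ 3 = 1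
  xt : x * t = t * x
  xw : x * w = w * x
  xz : x * z * x⁻¹ = a
  xa : x * a * x⁻¹ = a * z
  bx : (b * x) ^ 2 = t
  hh : h * h = 1
  hz : h * z * h = w
  ht : h * t * h = x⁻¹
  hc : (h * (b * w * b)) ^ 3 = 1
  kk : k * k = 1
  kd : k = h * b * h * b * h
  tk : t * k = k * t
  kx : (k * x * t) ^ 2 = 1
  kz : (k * z) ^ 3 = 1
  bk : (b * k) ^ 3 = 1
  uy : u * x * t * u = k * b * z * k * a * b

def R : List (List ℕ) := [[1, 1], [2, 2], [3, 3], [4, 4], [5, 5, 5], [5, 4, 5, 4, 5, 4], [3, 1, 3, 1], [3, 2, 3, 2], [3, 4, 3, 4], [3, 5, 3, 6], [1, 2, 1, 2, 3], [5, 1, 6, 1], [5, 2, 6, 2], [4, 1, 4, 1], [2, 4, 2, 4, 2, 4, 2, 4, 3], [1, 4, 2, 4, 2, 6, 4, 2, 4, 5, 5, 4, 2, 4, 6], [7, 7], [7, 5, 7, 5], [7, 4, 7, 4, 7, 4], [7, 1, 7, 2], [7, 3, 7, 3], [8, 8, 8], [8, 5, 9, 6], [8, 4, 9, 4], [8, 3, 9, 1], [8, 1, 9, 3, 1], [2, 8, 2, 8, 6], [10, 10], [10, 3, 10, 4], [10, 5, 10, 8], [10, 2, 4, 2, 10, 2, 4, 2, 10, 2, 4, 2], [11, 11], [11, 10, 2, 10, 2, 10], [5, 11, 6, 11], [11, 8, 5, 11, 8, 5], [11, 3, 11, 3, 11, 3], [2, 11, 2, 11, 2, 11], [7, 8,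 5, 7, 2, 1, 11, 3, 2, 11]]

def ev {G : Type*} [Group G] (a b z w t u x h k : G) (l : ℕ) : G := [1, a, b, z, w, t, t⁻¹, u, x, x⁻¹, h, k].getD l 1

theorem good {G : Type*} [Group G] {a b z w t u x h k : G} (H : Rel a b z w t u x h k) : Good (ev a b z w t u x h k) 3416462311689318815716475136 := by
  have i_a : a⁻¹ = a := inv_eq_of_mul_eq_one_right H.hC.hN.aa
  have i_b : b⁻¹ = b := inv_eq_of_mul_eq_one_right H.hC.hN.bb
  have i_z : z⁻¹ = z := inv_eq_of_mul_eq_one_right H.hC.hN.zz
  have i_w : w⁻¹ = w := inv_eq_of_mul_eq_one_right H.hC.hN.ww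
  have i_u : u⁻¹ = u := inv_eq_of_mul_eq_one_right H.hC.uu
  have i_h : h⁻¹ = h := inv_eq_of_mul_eq_one_right H.hh
  have i_k : k⁻¹ = k := inv_eq_of_mul_eq_one_right H.kk
  refine good_list (n := 12) rfl (by norm_num) rfl fun l hl => ?_
  interval_cases l
  · exact inv_one.symm
  · exact i_a.symm
  · exact i_b.symm
  · exact i_z.symm
  · exact i_w.symm
  · rfl
  · exact (inv_inv _).symm
  · exact i_u.symm
  · rfl
  · exact (inv_inv _).symm
  · exact i_h.symm
  · exact i_k.symm

theorem rels {G : Type*} [Group G] {a b z w t u x h k : G} (H : Rel a b z w t u x h k) : Rels (ev a b z w t u x h k) R := by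
  have i_a : a⁻¹ = a := inv_eq_of_mul_eq_one_right H.hC.hN.aa
  have i_b : b⁻¹ = b := inv_eq_of_mul_eq_one_right H.hC.hN.bb
  have i_z : z⁻¹ = z := inv_eq_of_mul_eq_one_right H.hC.hN.zz
  have i_w : w⁻¹ = w := inv_eq_of_mul_eq_one_right H.hC.hN.ww
  have i_u : u⁻¹ = u := inv_eq_of_mul_eq_one_right H.hC.uu
  have i_h : h⁻¹ = h := inv_eq_of_mul_eq_one_right H.hh
  have i_k : k⁻¹ = k := inv_eq_of_mul_eq_one_right H.kk
  unfold R
  refine Rels.cons ?_ ?_
  · show a * (a * 1) = 1
    simpa only [mul_inv_rev, inv_inv, mul_assoc, mul_one, one_mul, inv_one, pow_succ, pow_zero, i_a, i_b, i_z, i_w, i_u, i_h, i_k] using mul_inv_eq_one.mpr H.hC.hN.aa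
  refine Rels.cons ?_ ?_
  · show b * (b * 1) = 1
    simpa only [mul_inv_rev, inv_inv, mul_assoc, mul_one, one_mul, inv_one, pow_succ, pow_zero, i_a, i_b, i_z, i_w, i_u, i_h, i_k] using mul_inv_eq_one.mpr H.hC.hN.bb
  refine Rels.cons ?_ ?_
  · show z * (z * 1) = 1
    simpa only [mul_inv_rev, inv_inv, mul_assoc, mul_one, one_mul, inv_one, pow_succ, pow_zero, i_a, i_b, i_z, i_w, i_u, i_h, i_k] using mul_inv_eq_one.mpr H.hC.hN.zz
  refine Rels.cons ?_ ?_
  · show w * (w * 1) = 1
    simpa only [mul_inv_rev, inv_inv, mul_assoc, mul_one, one_mul, inv_one, pow_succ, pow_zero, i_a, i_b, i_z, i_w, i_u, i_h, i_k] using mul_inv_eq_one.mpr H.hC.hN.ww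
  refine Rels.cons ?_ ?_
  · show t * (t * (t * 1)) = 1
    simpa only [mul_inv_rev, inv_inv, mul_assoc, mul_one, one_mul, inv_one, pow_succ, pow_zero, i_a, i_b, i_z, i_w, i_u, i_h, i_k] using mul_inv_eq_one.mpr H.hC.hN.t3
  refine Rels.cons ?_ ?_
  · show t * (w * (t * (w * (t * (w * 1))))) = 1
    simpa only [mul_inv_rev, inv_inv, mul_assoc, mul_one, one_mul, inv_one, pow_succ, pow_zero, i_a, i_b, i_z, i_w, i_u, i_h, i_k] using mul_inv_eq_one.mpr H.hC.hN.tw
  refine Rels.cons ?_ ?_
  · show z * (a * (z * (a * 1))) = 1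
    simpa only [mul_inv_rev, inv_inv, mul_assoc, mul_one, one_mul, inv_one, pow_succ, pow_zero, i_a, i_b, i_z, i_w, i_u, i_h, i_k] using mul_inv_eq_one.mpr H.hC.hN.za
  refine Rels.cons ?_ ?_
  · show z * (b * (z * (b * 1))) = 1
    simpa only [mul_inv_rev, inv_inv, mul_assoc, mul_one, one_mul, inv_one, pow_succ, pow_zero, i_a, i_b, i_z, i_w, i_u, i_h, i_k] using mul_inv_eq_one.mpr H.hC.hN.zb
  refine Rels.cons ?_ ?_
  · show z * (w * (z * (w * 1))) = 1
    simpa only [mul_inv_rev, inv_inv, mul_assoc, mul_one, one_mul, inv_one, pow_succ, pow_zero, i_a, i_b, i_z, i_w, i_u, i_h, i_k] using mul_inv_eq_one.mpr H.hC.hN.zw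
  refine Rels.cons ?_ ?_
  · show z * (t * (z * (t⁻¹ * 1))) = 1
    simpa only [mul_inv_rev, inv_inv, mul_assoc, mul_one, one_mul, inv_one, pow_succ, pow_zero, i_a, i_b, i_z, i_w, i_u, i_h, i_k] using mul_inv_eq_one.mpr H.hC.hN.zt
  refine Rels.cons ?_ ?_
  · show a * (b * (a * (b * (z * 1)))) = 1
    simpa only [mul_inv_rev, inv_inv, mul_assoc, mul_one, one_mul, inv_one, pow_succ, pow_zero, i_a, i_b, i_z, i_w, i_u, i_h, i_k] using mul_inv_eq_one.mpr H.hC.hN.ab
  refine Rels.cons ?_ ?_
  · show t * (a * (t⁻¹ * (a * 1))) = 1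
    simpa only [mul_inv_rev, inv_inv, mul_assoc, mul_one, one_mul, inv_one, pow_succ, pow_zero, i_a, i_b, i_z, i_w, i_u, i_h, i_k] using mul_inv_eq_one.mpr H.hC.hN.ta
  refine Rels.cons ?_ ?_
  · show t * (b * (t⁻¹ * (b * 1))) = 1
    simpa only [mul_inv_rev, inv_inv, mul_assoc, mul_one, one_mul, inv_one, pow_succ, pow_zero, i_a, i_b, i_z, i_w, i_u, i_h, i_k] using mul_inv_eq_one.mpr H.hC.hN.tb
  refine Rels.cons ?_ ?_
  · show w * (a * (w * (a * 1))) = 1
    simpa only [mul_inv_rev, inv_inv, mul_assoc, mul_one, one_mul, inv_one, pow_succ, pow_zero, i_a, i_b, i_z, i_w, i_u, i_h, i_k] using mul_inv_eq_one.mpr H.hC.hN.wa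
  refine Rels.cons ?_ ?_
  · show b * (w * (b * (w * (b * (w * (b * (w * (z * 1)))))))) = 1
    simpa only [mul_inv_rev, inv_inv, mul_assoc, mul_one, one_mul, inv_one, pow_succ, pow_zero, i_a, i_b, i_z, i_w, i_u, i_h, i_k] using mul_inv_eq_one.mpr H.hC.hN.bw
  refine Rels.cons ?_ ?_
  · show a * (w * (b * (w * (b * (t⁻¹ * (w * (b * (w * (t * (t * (w * (b * (w * (t⁻¹ * 1)))))))))))))) = 1
    simpa only [mul_inv_rev, inv_inv, mul_assoc, mul_one, one_mul, inv_one, pow_succ, pow_zero, i_a, i_b, i_z, i_w, i_u, i_h, i_k] using mul_inv_eq_one.mpr H.hC.hN.pr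
  refine Rels.cons ?_ ?_
  · show u * (u * 1) = 1
    simpa only [mul_inv_rev, inv_inv, mul_assoc, mul_one, one_mul, inv_one, pow_succ, pow_zero, i_a, i_b, i_z, i_w, i_u, i_h, i_k] using mul_inv_eq_one.mpr H.hC.uu
  refine Rels.cons ?_ ?_
  · show u * (t * (u * (t * 1))) = 1
    simpa only [mul_inv_rev, inv_inv, mul_assoc, mul_one, one_mul, inv_one, pow_succ, pow_zero, i_a, i_b, i_z, i_w, i_u, i_h, i_k] using mul_inv_eq_one.mpr H.hC.ut
  refine Rels.cons ?_ ?_
  · show u * (w * (u * (w * (u * (w * 1))))) = 1
    simpa only [mul_inv_rev, inv_inv, mul_assoc, mul_one, one_mul, inv_one, pow_succ, pow_zero, i_a, i_b, i_z, i_w, i_u, i_h, i_k] using mul_inv_eq_one.mpr H.hC.uw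
  refine Rels.cons ?_ ?_
  · show u * (a * (u * (b * 1))) = 1
    simpa only [mul_inv_rev, inv_inv, mul_assoc, mul_one, one_mul, inv_one, pow_succ, pow_zero, i_a, i_b, i_z, i_w, i_u, i_h, i_k] using mul_inv_eq_one.mpr H.hC.ua
  refine Rels.cons ?_ ?_
  · show u * (z * (u * (z * 1))) = 1
    simpa only [mul_inv_rev, inv_inv, mul_assoc, mul_one, one_mul, inv_one, pow_succ, pow_zero, i_a, i_b, i_z, i_w, i_u, i_h, i_k] using mul_inv_eq_one.mpr H.hC.uz
  refine Rels.cons ?_ ?_
  · show x * (x * (x * 1)) = 1
    simpa only [mul_inv_rev, inv_inv, mul_assoc, mul_one, one_mul, inv_one, pow_succ, pow_zero, i_a, i_b, i_z, i_w, i_u, i_h, i_k] using mul_inv_eq_one.mpr H.x3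
  refine Rels.cons ?_ ?_
  · show x * (t * (x⁻¹ * (t⁻¹ * 1))) = 1
    simpa only [mul_inv_rev, inv_inv, mul_assoc, mul_one, one_mul, inv_one, pow_succ, pow_zero, i_a, i_b, i_z, i_w, i_u, i_h, i_k] using mul_inv_eq_one.mpr H.xt
  refine Rels.cons ?_ ?_
  · show x * (w * (x⁻¹ * (w * 1))) = 1
    simpa only [mul_inv_rev, inv_inv, mul_assoc, mul_one, one_mul, inv_one, pow_succ, pow_zero, i_a, i_b, i_z, i_w, i_u, i_h, i_k] using mul_inv_eq_one.mpr H.xw
  refine Rels.cons ?_ ?_
  · show x * (z * (x⁻¹ * (a * 1))) = 1
    simpa only [mul_inv_rev, inv_inv, mul_assoc, mul_one, one_mul, inv_one, pow_succ, pow_zero, i_a, i_b, i_z, i_w, i_u, i_h, i_k] using mul_inv_eq_one.mpr H.xz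
  refine Rels.cons ?_ ?_
  · show x * (a * (x⁻¹ * (z * (a * 1)))) = 1
    simpa only [mul_inv_rev, inv_inv, mul_assoc, mul_one, one_mul, inv_one, pow_succ, pow_zero, i_a, i_b, i_z, i_w, i_u, i_h, i_k] using mul_inv_eq_one.mpr H.xa
  refine Rels.cons ?_ ?_
  · show b * (x * (b * (x * (t⁻¹ * 1)))) = 1
    simpa only [mul_inv_rev, inv_inv, mul_assoc, mul_one, one_mul, inv_one, pow_succ, pow_zero, i_a, i_b, i_z, i_w, i_u, i_h, i_k] using mul_inv_eq_one.mpr H.bx
  refine Rels.cons ?_ ?_
  · show h * (h * 1) = 1
    simpa only [mul_inv_rev, inv_inv, mul_assoc, mul_one, one_mul, inv_one, pow_succ, pow_zero, i_a, i_b, i_z, i_w, i_u, i_h, i_k] using mul_inv_eq_one.mpr H.hh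
  refine Rels.cons ?_ ?_
  · show h * (z * (h * (w * 1))) = 1
    simpa only [mul_inv_rev, inv_inv, mul_assoc, mul_one, one_mul, inv_one, pow_succ, pow_zero, i_a, i_b, i_z, i_w, i_u, i_h, i_k] using mul_inv_eq_one.mpr H.hz
  refine Rels.cons ?_ ?_
  · show h * (t * (h * (x * 1))) = 1
    simpa only [mul_inv_rev, inv_inv, mul_assoc, mul_one, one_mul, inv_one, pow_succ, pow_zero, i_a, i_b, i_z, i_w, i_u, i_h, i_k] using mul_inv_eq_one.mpr H.ht
  refine Rels.cons ?_ ?_
  · show h * (b * (w * (b * (h * (b * (w * (b * (h * (b * (w * (b * 1))))))))))) = 1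
    simpa only [mul_inv_rev, inv_inv, mul_assoc, mul_one, one_mul, inv_one, pow_succ, pow_zero, i_a, i_b, i_z, i_w, i_u, i_h, i_k] using mul_inv_eq_one.mpr H.hc
  refine Rels.cons ?_ ?_
  · show k * (k * 1) = 1
    simpa only [mul_inv_rev, inv_inv, mul_assoc, mul_one, one_mul, inv_one, pow_succ, pow_zero, i_a, i_b, i_z, i_w, i_u, i_h, i_k] using mul_inv_eq_one.mpr H.kk
  refine Rels.cons ?_ ?_
  · show k * (h * (b * (h * (b * (h * 1))))) = 1
    simpa only [mul_inv_rev, inv_inv, mul_assoc, mul_one, one_mul, inv_one, pow_succ, pow_zero, i_a, i_b, i_z, i_w, i_u, i_h, i_k] using mul_inv_eq_one.mpr H.kd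
  refine Rels.cons ?_ ?_
  · show t * (k * (t⁻¹ * (k * 1))) = 1
    simpa only [mul_inv_rev, inv_inv, mul_assoc, mul_one, one_mul, inv_one, pow_succ, pow_zero, i_a, i_b, i_z, i_w, i_u, i_h, i_k] using mul_inv_eq_one.mpr H.tk
  refine Rels.cons ?_ ?_
  · show k * (x * (t * (k * (x * (t * 1))))) = 1
    simpa only [mul_inv_rev, inv_inv, mul_assoc, mul_one, one_mul, inv_one, pow_succ, pow_zero, i_a, i_b, i_z, i_w, i_u, i_h, i_k] using mul_inv_eq_one.mpr H.kx
  refine Rels.cons ?_ ?_
  · show k * (z * (k * (z * (k * (z * 1))))) = 1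
    simpa only [mul_inv_rev, inv_inv, mul_assoc, mul_one, one_mul, inv_one, pow_succ, pow_zero, i_a, i_b, i_z, i_w, i_u, i_h, i_k] using mul_inv_eq_one.mpr H.kz
  refine Rels.cons ?_ ?_
  · show b * (k * (b * (k * (b * (k * 1))))) = 1
    simpa only [mul_inv_rev, inv_inv, mul_assoc, mul_one, one_mul, inv_one, pow_succ, pow_zero, i_a, i_b, i_z, i_w, i_u, i_h, i_k] using mul_inv_eq_one.mpr H.bk
  refine Rels.cons ?_ ?_
  · show u * (x * (t * (u * (b * (a * (k * (z * (b * (k * 1))))))))) = 1
    simpa only [mul_inv_rev, inv_inv, mul_assoc, mul_one, one_mul, inv_one, pow_succ, pow_zero, i_a, i_b, i_z, i_w, i_u, i_h, i_k] using mul_inv_eq_one.mpr H.uy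
  intro r hr
  exact absurd hr List.not_mem_nil

/-- The relations hold for the letters of any assignment satisfying the relators. -/
theorem rel_of {G : Type*} [Group G] {e : ℕ → G} (hg : Good e 3416462311689318815716475136) (hR : Rels e R) :
    Rel (e 1) (e 2) (e 3) (e 4) (e 5) (e 7) (e 8) (e 10) (e 11) := by
  have j1 : (e 1)⁻¹ = e 1 := (hg.inv 1).symm
  have j2 : (e 2)⁻¹ = e 2 := (hg.inv 2).symm
  have j3 : (e 3)⁻¹ = e 3 := (hg.inv 3).symm
  have j4 : (e 4)⁻¹ = e 4 := (hg.inv 4).symm
  have j5 : (e 5)⁻¹ = e 6 := (hg.inv 5).symm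
  have j6 : (e 6)⁻¹ = e 5 := (hg.inv 6).symm
  have j7 : (e 7)⁻¹ = e 7 := (hg.inv 7).symm
  have j8 : (e 8)⁻¹ = e 9 := (hg.inv 8).symm
  have j9 : (e 9)⁻¹ = e 8 := (hg.inv 9).symm
  have j10 : (e 10)⁻¹ = e 10 := (hg.inv 10).symm
  have j11 : (e 11)⁻¹ = e 11 := (hg.inv 11).symm
  have r0 : e 1 * (e 1 * 1) = 1 := hR [1, 1] (List.mem_of_elem_eq_true (by decide))
  have r1 : e 2 * (e 2 * 1) = 1 := hR [2, 2] (List.mem_of_elem_eq_true (by decide))
  have r2 : e 3 * (e 3 * 1) = 1 := hR [3, 3] (List.mem_of_elem_eq_true (by decide))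
  have r3 : e 4 * (e 4 * 1) = 1 := hR [4, 4] (List.mem_of_elem_eq_true (by decide))
  have r4 : e 5 * (e 5 * (e 5 * 1)) = 1 := hR [5, 5, 5] (List.mem_of_elem_eq_true (by decide))
  have r5 : e 5 * (e 4 * (e 5 * (e 4 * (e 5 * (e 4 * 1))))) = 1 := hR [5, 4, 5, 4, 5, 4] (List.mem_of_elem_eq_true (by decide))
  have r6 : e 3 * (e 1 * (e 3 * (e 1 * 1))) = 1 := hR [3, 1, 3, 1] (List.mem_of_elem_eq_true (by decide))
  have r7 : e 3 * (e 2 * (e 3 * (e 2 * 1))) = 1 := hR [3, 2, 3, 2] (List.mem_of_elem_eq_true (by decide))
  have r8 : e 3 * (e 4 * (e 3 * (e 4 * 1))) = 1 := hR [3, 4, 3, 4] (List.mem_of_elem_eq_true (by decide))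
  have r9 : e 3 * (e 5 * (e 3 * (e 6 * 1))) = 1 := hR [3, 5, 3, 6] (List.mem_of_elem_eq_true (by decide))
  have r10 : e 1 * (e 2 * (e 1 * (e 2 * (e 3 * 1)))) = 1 := hR [1, 2, 1, 2, 3] (List.mem_of_elem_eq_true (by decide))
  have r11 : e 5 * (e 1 * (e 6 * (e 1 * 1))) = 1 := hR [5, 1, 6, 1] (List.mem_of_elem_eq_true (by decide))
  have r12 : e 5 * (e 2 * (e 6 * (e 2 * 1))) = 1 := hR [5, 2, 6, 2] (List.mem_of_elem_eq_true (by decide))
  have r13 : e 4 * (e 1 * (e 4 * (e 1 * 1))) = 1 := hR [4, 1, 4, 1] (List.mem_of_elem_eq_true (by decide))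
  have r14 : e 2 * (e 4 * (e 2 * (e 4 * (e 2 * (e 4 * (e 2 * (e 4 * (e 3 * 1)))))))) = 1 := hR [2, 4, 2, 4, 2, 4, 2, 4, 3] (List.mem_of_elem_eq_true (by decide))
  have r15 : e 1 * (e 4 * (e 2 * (e 4 * (e 2 * (e 6 * (e 4 * (e 2 * (e 4 * (e 5 * (e 5 * (e 4 * (e 2 * (e 4 * (e 6 * 1)))))))))))))) = 1 := hR [1, 4, 2, 4, 2, 6, 4, 2, 4, 5, 5, 4, 2, 4, 6] (List.mem_of_elem_eq_true (by decide))
  have r16 : e 7 * (e 7 * 1) = 1 := hR [7, 7] (List.mem_of_elem_eq_true (by decide))
  have r17 : e 7 * (e 5 * (e 7 * (e 5 * 1))) = 1 := hR [7, 5, 7, 5] (List.mem_of_elem_eq_true (by decide))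
  have r18 : e 7 * (e 4 * (e 7 * (e 4 * (e 7 * (e 4 * 1))))) = 1 := hR [7, 4, 7, 4, 7, 4] (List.mem_of_elem_eq_true (by decide))
  have r19 : e 7 * (e 1 * (e 7 * (e 2 * 1))) = 1 := hR [7, 1, 7, 2] (List.mem_of_elem_eq_true (by decide))
  have r20 : e 7 * (e 3 * (e 7 * (e 3 * 1))) = 1 := hR [7, 3, 7, 3] (List.mem_of_elem_eq_true (by decide))
  have r21 : e 8 * (e 8 * (e 8 * 1)) = 1 := hR [8, 8, 8] (List.mem_of_elem_eq_true (by decide))
  have r22 : e 8 * (e 5 * (e 9 * (e 6 * 1))) = 1 := hR [8, 5, 9, 6] (List.mem_of_elem_eq_true (by decide))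
  have r23 : e 8 * (e 4 * (e 9 * (e 4 * 1))) = 1 := hR [8, 4, 9, 4] (List.mem_of_elem_eq_true (by decide))
  have r24 : e 8 * (e 3 * (e 9 * (e 1 * 1))) = 1 := hR [8, 3, 9, 1] (List.mem_of_elem_eq_true (by decide))
  have r25 : e 8 * (e 1 * (e 9 * (e 3 * (e 1 * 1)))) = 1 := hR [8, 1, 9, 3, 1] (List.mem_of_elem_eq_true (by decide))
  have r26 : e 2 * (e 8 * (e 2 * (e 8 * (e 6 * 1)))) = 1 := hR [2, 8, 2, 8, 6] (List.mem_of_elem_eq_true (by decide))
  have r27 : e 10 * (e 10 * 1) = 1 := hR [10, 10] (List.mem_of_elem_eq_true (by decide))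
  have r28 : e 10 * (e 3 * (e 10 * (e 4 * 1))) = 1 := hR [10, 3, 10, 4] (List.mem_of_elem_eq_true (by decide))
  have r29 : e 10 * (e 5 * (e 10 * (e 8 * 1))) = 1 := hR [10, 5, 10, 8] (List.mem_of_elem_eq_true (by decide))
  have r30 : e 10 * (e 2 * (e 4 * (e 2 * (e 10 * (e 2 * (e 4 * (e 2 * (e 10 * (e 2 * (e 4 * (e 2 * 1))))))))))) = 1 := hR [10, 2, 4, 2, 10, 2, 4, 2, 10, 2, 4, 2] (List.mem_of_elem_eq_true (by decide))
  have r31 : e 11 * (e 11 * 1) = 1 := hR [11, 11] (List.mem_of_elem_eq_true (by decide))
  have r32 : e 11 * (e 10 * (e 2 * (e 10 * (e 2 * (e 10 * 1))))) = 1 := hR [11, 10, 2, 10, 2, 10] (List.mem_of_elem_eq_true (by decide))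
  have r33 : e 5 * (e 11 * (e 6 * (e 11 * 1))) = 1 := hR [5, 11, 6, 11] (List.mem_of_elem_eq_true (by decide))
  have r34 : e 11 * (e 8 * (e 5 * (e 11 * (e 8 * (e 5 * 1))))) = 1 := hR [11, 8, 5, 11, 8, 5] (List.mem_of_elem_eq_true (by decide))
  have r35 : e 11 * (e 3 * (e 11 * (e 3 * (e 11 * (e 3 * 1))))) = 1 := hR [11, 3, 11, 3, 11, 3] (List.mem_of_elem_eq_true (by decide))
  have r36 : e 2 * (e 11 * (e 2 * (e 11 * (e 2 * (e 11 * 1))))) = 1 := hR [2, 11, 2, 11, 2, 11] (List.mem_of_elem_eq_true (by decide))
  have r37 : e 7 * (e 8 * (e 5 * (e 7 * (e 2 * (e 1 * (e 11 * (e 3 * (e 2 * (e 11 * 1))))))))) = 1 := hR [7, 8, 5, 7, 2, 1, 11, 3, 2, 11] (List.mem_of_elem_eq_true (by decide))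
  exact ⟨⟨⟨mul_inv_eq_one.mp (by simpa only [mul_inv_rev, mul_assoc, mul_one, one_mul, inv_one, pow_succ, pow_zero, j1, j2, j3, j4, j5, j6, j7, j8, j9, j10, j11] using r0),
    mul_inv_eq_one.mp (by simpa only [mul_inv_rev, mul_assoc, mul_one, one_mul, inv_one, pow_succ, pow_zero, j1, j2, j3, j4, j5, j6, j7, j8, j9, j10, j11] using r1),
    mul_inv_eq_one.mp (by simpa only [mul_inv_rev, mul_assoc, mul_one, one_mul, inv_one, pow_succ, pow_zero, j1, j2, j3, j4, j5, j6, j7, j8, j9, j10, j11] using r2),
    mul_inv_eq_one.mp (by simpa only [mul_inv_rev, mul_assoc, mul_one, one_mul, inv_one, pow_succ, pow_zero, j1, j2, j3, j4, j5, j6, j7, j8, j9, j10, j11] using r3),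
    mul_inv_eq_one.mp (by simpa only [mul_inv_rev, mul_assoc, mul_one, one_mul, inv_one, pow_succ, pow_zero, j1, j2, j3, j4, j5, j6, j7, j8, j9, j10, j11] using r4),
    mul_inv_eq_one.mp (by simpa only [mul_inv_rev, mul_assoc, mul_one, one_mul, inv_one, pow_succ, pow_zero, j1, j2, j3, j4, j5, j6, j7, j8, j9, j10, j11] using r5),
    mul_inv_eq_one.mp (by simpa only [mul_inv_rev, mul_assoc, mul_one, one_mul, inv_one, pow_succ, pow_zero, j1, j2, j3, j4, j5, j6, j7, j8, j9, j10, j11] using r6),
    mul_inv_eq_one.mp (by simpa only [mul_inv_rev, mul_assoc, mul_one, one_mul, inv_one, pow_succ, pow_zero, j1, j2, j3, j4, j5, j6, j7, j8, j9, j10, j11] using r7),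
    mul_inv_eq_one.mp (by simpa only [mul_inv_rev, mul_assoc, mul_one, one_mul, inv_one, pow_succ, pow_zero, j1, j2, j3, j4, j5, j6, j7, j8, j9, j10, j11] using r8),
    mul_inv_eq_one.mp (by simpa only [mul_inv_rev, mul_assoc, mul_one, one_mul, inv_one, pow_succ, pow_zero, j1, j2, j3, j4, j5, j6, j7, j8, j9, j10, j11] using r9),
    mul_inv_eq_one.mp (by simpa only [mul_inv_rev, mul_assoc, mul_one, one_mul, inv_one, pow_succ, pow_zero, j1, j2, j3, j4, j5, j6, j7, j8, j9, j10, j11] using r10),
    mul_inv_eq_one.mp (by simpa only [mul_inv_rev, mul_assoc, mul_one, one_mul, inv_one, pow_succ, pow_zero, j1, j2, j3, j4, j5, j6, j7, j8, j9, j10, j11] using r11),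
    mul_inv_eq_one.mp (by simpa only [mul_inv_rev, mul_assoc, mul_one, one_mul, inv_one, pow_succ, pow_zero, j1, j2, j3, j4, j5, j6, j7, j8, j9, j10, j11] using r12),
    mul_inv_eq_one.mp (by simpa only [mul_inv_rev, mul_assoc, mul_one, one_mul, inv_one, pow_succ, pow_zero, j1, j2, j3, j4, j5, j6, j7, j8, j9, j10, j11] using r13),
    mul_inv_eq_one.mp (by simpa only [mul_inv_rev, mul_assoc, mul_one, one_mul, inv_one, pow_succ, pow_zero, j1, j2, j3, j4, j5, j6, j7, j8, j9, j10, j11] using r14),
    mul_inv_eq_one.mp (by simpa only [mul_inv_rev, mul_assoc, mul_one, one_mul, inv_one, pow_succ, pow_zero, j1, j2, j3, j4, j5, j6, j7, j8, j9, j10, j11] using r15)⟩,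
    mul_inv_eq_one.mp (by simpa only [mul_inv_rev, mul_assoc, mul_one, one_mul, inv_one, pow_succ, pow_zero, j1, j2, j3, j4, j5, j6, j7, j8, j9, j10, j11] using r16),
    mul_inv_eq_one.mp (by simpa only [mul_inv_rev, mul_assoc, mul_one, one_mul, inv_one, pow_succ, pow_zero, j1, j2, j3, j4, j5, j6, j7, j8, j9, j10, j11] using r17),
    mul_inv_eq_one.mp (by simpa only [mul_inv_rev, mul_assoc, mul_one, one_mul, inv_one, pow_succ, pow_zero, j1, j2, j3, j4, j5, j6, j7, j8, j9, j10, j11] using r18),
    mul_inv_eq_one.mp (by simpa only [mul_inv_rev, mul_assoc, mul_one, one_mul, inv_one, pow_succ, pow_zero, j1, j2, j3, j4, j5, j6, j7, j8, j9, j10, j11] using r19),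
    mul_inv_eq_one.mp (by simpa only [mul_inv_rev, mul_assoc, mul_one, one_mul, inv_one, pow_succ, pow_zero, j1, j2, j3, j4, j5, j6, j7, j8, j9, j10, j11] using r20)⟩,
    mul_inv_eq_one.mp (by simpa only [mul_inv_rev, mul_assoc, mul_one, one_mul, inv_one, pow_succ, pow_zero, j1, j2, j3, j4, j5, j6, j7, j8, j9, j10, j11] using r21),
    mul_inv_eq_one.mp (by simpa only [mul_inv_rev, mul_assoc, mul_one, one_mul, inv_one, pow_succ, pow_zero, j1, j2, j3, j4, j5, j6, j7, j8, j9, j10, j11] using r22),
    mul_inv_eq_one.mp (by simpa only [mul_inv_rev, mul_assoc, mul_one, one_mul, inv_one, pow_succ, pow_zero, j1, j2, j3, j4, j5, j6, j7, j8, j9, j10, j11] using r23),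
    mul_inv_eq_one.mp (by simpa only [mul_inv_rev, mul_assoc, mul_one, one_mul, inv_one, pow_succ, pow_zero, j1, j2, j3, j4, j5, j6, j7, j8, j9, j10, j11] using r24),
    mul_inv_eq_one.mp (by simpa only [mul_inv_rev, mul_assoc, mul_one, one_mul, inv_one, pow_succ, pow_zero, j1, j2, j3, j4, j5, j6, j7, j8, j9, j10, j11] using r25),
    mul_inv_eq_one.mp (by simpa only [mul_inv_rev, mul_assoc, mul_one, one_mul, inv_one, pow_succ, pow_zero, j1, j2, j3, j4, j5, j6, j7, j8, j9, j10, j11] using r26),
    mul_inv_eq_one.mp (by simpa only [mul_inv_rev, mul_assoc, mul_one, one_mul, inv_one, pow_succ, pow_zero, j1, j2, j3, j4, j5, j6, j7, j8, j9, j10, j11] using r27),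
    mul_inv_eq_one.mp (by simpa only [mul_inv_rev, mul_assoc, mul_one, one_mul, inv_one, pow_succ, pow_zero, j1, j2, j3, j4, j5, j6, j7, j8, j9, j10, j11] using r28),
    mul_inv_eq_one.mp (by simpa only [mul_inv_rev, mul_assoc, mul_one, one_mul, inv_one, pow_succ, pow_zero, j1, j2, j3, j4, j5, j6, j7, j8, j9, j10, j11] using r29),
    mul_inv_eq_one.mp (by simpa only [mul_inv_rev, mul_assoc, mul_one, one_mul, inv_one, pow_succ, pow_zero, j1, j2, j3, j4, j5, j6, j7, j8, j9, j10, j11] using r30),
    mul_inv_eq_one.mp (by simpa only [mul_inv_rev, mul_assoc, mul_one, one_mul, inv_one, pow_succ, pow_zero, j1, j2, j3, j4, j5, j6, j7, j8, j9, j10, j11] using r31),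
    mul_inv_eq_one.mp (by simpa only [mul_inv_rev, mul_assoc, mul_one, one_mul, inv_one, pow_succ, pow_zero, j1, j2, j3, j4, j5, j6, j7, j8, j9, j10, j11] using r32),
    mul_inv_eq_one.mp (by simpa only [mul_inv_rev, mul_assoc, mul_one, one_mul, inv_one, pow_succ, pow_zero, j1, j2, j3, j4, j5, j6, j7, j8, j9, j10, j11] using r33),
    mul_inv_eq_one.mp (by simpa only [mul_inv_rev, mul_assoc, mul_one, one_mul, inv_one, pow_succ, pow_zero, j1, j2, j3, j4, j5, j6, j7, j8, j9, j10, j11] using r34),
    mul_inv_eq_one.mp (by simpa only [mul_inv_rev, mul_assoc, mul_one, one_mul, inv_one, pow_succ, pow_zero, j1, j2, j3, j4, j5, j6, j7, j8, j9, j10, j11] using r35),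
    mul_inv_eq_one.mp (by simpa only [mul_inv_rev, mul_assoc, mul_one, one_mul, inv_one, pow_succ, pow_zero, j1, j2, j3, j4, j5, j6, j7, j8, j9, j10, j11] using r36),
    mul_inv_eq_one.mp (by simpa only [mul_inv_rev, mul_assoc, mul_one, one_mul, inv_one, pow_succ, pow_zero, j1, j2, j3, j4, j5, j6, j7, j8, j9, j10, j11] using r37)⟩

theorem gen_top : gen (pgEv 3416462311689318815716475136 R) [[1], [2], [3], [4], [5], [7], [8], [10], [11]] = ⊤ := pg_gen (n := 12) (by norm_num) (by decide)
namespace c

noncomputable def get (y : ℕ) : ℕ := (sel (nat_lit 2) y (sel (nat_lit 1) y (nat_lit 0x70000000000000700000000000006000000000000050000000000000400000000000004000000000000030000000000000300000000000002000000000000020000000000000100000000000001000000000000) (nat_lit 0x500002b00002b0600002b00002b0900000d00002b0800002b00000d0300000f00002a0300002a00000f0700000d00002a0700002a00000d0300000e0000290300002900000e0400000d0000290400002900000d05000028000028060000280000280700000c0000280700002800000c0400000c0000270400002700000c0200002300002602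00002600002303000022000026030000260000220100000c0000260100002600000c0b00000b0000250b00002500000b08000025000020090000200000250300001600002503000025000016010000180000250100002500001806000025000025050000250000250800000b0000250900002500000b0200000f0000240200002400000f0700000b0000240700002400000b0b00001f0000230b00002300001f08000023000018090000180000230900002300001f0800001f00002305000023000023060000230000230100000d0000230100002300000d0300000b0000230300002300000b0100001e0000220100002200001e0200000b0000220200002200000b0a00000c0000210a00002100000c0b0000090000210b0000210000090b0000200000200b0000200000200900000b0000200800002000000b050000200000200600002000002003000008000020030000200000080800001800001f0900001f0000180100000800001f0100001f0000080200001e00000d0200000d00001e0300000c00001e0300001e00000c0600001e00001e0500001e00001e0b00000700001e0b00001e0000070a00000700001d0a00001d0000070200001c00001b0200001b00001c0800001c00001b0900001b00001c0300001300001c0300001c0000130100001c00001c0100001c00001c0600001c00001c0500001c00001c0800000700001c090000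1c0000070100001200001b0100001b0000120300001200001b0300001b0000120500001b00001b0600001b00001b0900000700001b0800001b0000070200001a0000110200001100001a0700001a00001a0700001a00001a0100001100001a0100001a0000110300001a00001a0300001a00001a0400000700001a0400001a000007050000190000190600001900001907000006000019070000190000060b0000180000180b000018000018050000180000180600001800001803000006000018030000180000060800001700000c0900000c000017060000170000170500001700001702000006000017020000170000060800000d0000160900001600000d0600001600001605000016000016010000060000160100001600000606000015000015050000150000150b0000050000150b0000150000050a0000050000140a00001400000502000013000012020000120000130800001300001209000012000013010000130000130100001300001306000013000013050000130000130800000500001309000013000005050000120000120600001200001209000005000012080000120000050700001100001107000011000011030000110000110300001100001104000005000011040000110000050200000a0000100200001000000a0a0000040000100a0000100000040500000f00000f0600000f00000f0700000400000f0700000f00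00040400000400000e0400000e0000040b00000d00000d0b00000d00000d0500000d00000d0600000d00000d0300000400000d0300000d0000040600000c00000c0500000c00000c0200000400000c0200000c0000040600000b00000b0500000b00000b0100000400000b0100000b0000040a00000900000a0a00000a0000090b00000300000a0b00000a000003030000090000090300000900000902000003000009020000090000030800000800000409000004000008080000060000080900000800000606000008000008050000080000080b0000020000080b00000800000203000007000007030000070000070200000700000702000007000007010000050000070100000700000505000007000007060000070000070700000200000707000007000002080000040000060900000600000406000006000006050000060000060b0000010000060b000006000001030000050000050300000500000502000005000005020000050000050500000500000506000005000005070000010000050700000500000106000004000004050000040000040b0000000000040b00000400000003000003000003030000030000030a0000000000030a000003000000020000020000010200000100000208000002000001090000010000020300000200000203000002000002010000020000020100000200000204000002000002040000020000020600000200000205000002000002080000000000020900000200000001000001000001010000010000010300000100000103000001000001040000010000010400000100000105000001000001060000010000010900000000000108000001000000))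 (sel (nat_lit 3) y (nat_lit 0xa0000270000550a000055000027030000210000550300005500002102000051000054020000540000510a00001e0000540a00005400001e0800005300003c0900003c0000530b0000530000240b00002400005305000053000053060000530000530700001e0000530700005300001e03000027000052030000520000270400001e0000520400005200001e0a0000500000510a0000510000500b00001d0000510b00005100001d0200001d0000500200005000001d0800002e00003d0900003d00002e0b00004100002a0b00002a0000410b00001300000f0b00000f00001307000012000015070000150000120800003c0000240900002400003c0700003c00001b0700001b00003c010000370000150100001500003700000013000031000000310000130800000f0000150900001500000f0800001500002f0900002f0000150000001200003e0000003e0000120000004d00003c0000003c00004d0000003700003b0000003b0000370000003800000f0000000f00003800000015000030000000300000150000003600002f0000002f0000360b00001c0000190b00001900001c0900001e0000190800001900001e0b00004500001b0b00001b0000450200004500002b0200002b00004503000041000019030000190000410000001c0000470000004700001c0000001e0000460000004600001e00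00004e0000450000004500004e0000004100004400000044000041000000190000400000004000001900000042000043000000430000420b0000260000280b0000280000260b00004f0000420b00004200004f0800002800004f0900004f0000280700001c00004f0700004f00001c0800004e0000400900004000004e0200002b00004e0200004e00002b0600004e00004e0500004e00004e0b00001b00004e0b00004e00001b0800002a0000370900003700002a07000030000012070000120000300200003000004d0200004d000030010000300000370100003700003000000030000035000000350000300800004d0000240900002400004d0300003500004d0300004d0000350200003500004d0200004d0000350500004d00004d0600004d00004d0700001b00004d0700004d00001b0300001d00004c0300004c00001d0a00001a00004c0a00004c00001a0300003400004b0300004b0000340100004b00004b0100004b00004b0400001c00004b0400004b00001c0800001a00004b0900004b00001a0100003300004a0100004a0000330400001b00004a0400004a00001b0900001a00004a0800004a00001a04000049000048040000480000490500001a0000490600004900001a02000032000048020000480000320600001a0000480500004800001a0b0000190000470b0000470000190800001900004609000046000019090000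19000045080000450000190300001900004403000044000019070000180000440700004400001801000019000043010000430000190700001700004307000043000017090000260000420800004200002605000042000042060000420000420200001800004202000042000018010000400000420100004200004003000017000042030000420000170300004100004003000040000041020000250000410200004100002501000017000041010000410000170b00001c0000400b00004000001c0800004000001e0900001e000040060000400000400500004000004002000016000040020000400000160200003a00003f0200003f00003a0a00001500003f0a00003f0000150700001500003e0700003e0000150400001500003d0400003d0000150b00003c00003c0b00003c00003c0200001500003c0200003c0000150100001500003b0100003b0000150a00003900003a0a00003a0000390b00001400003a0b00003a00001402000014000039020000390000140800003800001509000015000038080000360000380900003800003606000038000038050000380000380b0000130000380b00003800001301000035000037010000370000350700001300003707000037000013080000150000360900003600001506000036000036050000360000360b0000120000360b00003600001207000012000035070000350000120100003400003401000034000034040000130000340400003400001308000011000034090000340000110400001200003304000033000012090000110000330800003300001106000011000032050000320000110b00000f0000310b00003100000f0800003000002f0900002f0000300800000f0000300900003000000f0100002f0000240100002400002f0700002200002f0700002f0000220500002f00002f0600002f00002f0900000f00002f0800002f00000f0400000f00002e0400002e00000f0700000e00002d0700002d00000e0200000e00002c0200002c00000e0b00001600002b0b00002b0000160300001f00002b0300002b00001f)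 (sel (nat_lit 4) y (nat_lit 0x2400002f0000002f0000240000005300000f0000000f0000530000001b0000120000001200001b0000004f0000370000003700004f0000003c0000150000001500003c0000004a0000330000003300004a00000071000064000000640000710000006700003d0000003d0000670000006e0000620000006200006e0000008700007e0000007e0000870000006a0000800000008000006a0200008c0000830200008300008c0200008d0000850200008500008d0800008d00008c0900008c00008d0800007a00008d0900008d00007a0500008700008c0600008c0000870400007c00008c0400008c00007c0900007a00008c0800008c00007a0200008400008b0200008b0000840500007a00008b0600008b00007a0700007900008b0700008b00007907000084000089070000890000840500008a0000840600008400008a0700007800008a0700008a00007801000079000089010000890000790600007800008905000089000078020000780000880200008800007801000077000088010000880000770400007600008804000088000076020000800000870200008700008007000071000087070000870000710400006f0000870400008700006f030000860000720300007200008604000070000086040000860000700200006c0000860200008600006c08000085000084090000840000850800006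a0000850900008500006a0900006a0000840800008400006a0500006a0000830600008300006a07000069000083070000830000690500008100006f0600006f0000810700006d0000810700008100006d0400008200007d0400007d0000820100006a0000820100008200006a070000680000820700008200006804000068000081040000810000680400006e0000800400008000006e07000067000080070000800000670a00006c00007f0a00007f00006c0200006500007f0200007f0000650200007e00006a0200006a00007e0700006400007e0700007e0000640400006300007e0400007e0000630100006200007d0100007d0000620700006100007d0700007d0000610600006800007c0500007c0000680900005f00007c0800007c00005f0400005f00007a0400007a00005f0700007b00005f0700005f00007b0100005e00007b0100007b00005e0400005d00007b0400007b00005d0700005c00007a0700007a00005c0600005c0000790500007900005c0100005c0000780100007800005c0400005b0000780400007800005b0b0000770000720b0000720000770a0000740000770a000077000074040000590000770400007700005901000059000076010000760000590200005600007602000076000056020000750000730200007300007503000054000075030000750000540a0000520000750a00007500005203000059000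0740300007400005902000052000074020000740000520a0000720000730a000073000072030000510000730300007300005104000050000072040000720000500400004f0000710400007100004f03000050000070030000700000500200004c0000700200007000004c0300006300006f0300006f0000630200006f00006f0200006f00006f0700004b00006f0700006f00004b0200006200006e0200006e0000620700004a00006e0700006e00004a0600006d00004b0500004b00006d0400006100006d0400006d0000610800004900006d0900006d0000490b00003d00006c0b00006c00003d0200006b0000660200006600006b0300003f00006b0300006b00003f0a00003d00006b0a00006b00003d0400006200006a0400006a0000620700003d00006a0700006a00003d0600003d0000690500006900003d0200003d0000680200006800003d0400003c0000670400006700003c0a0000650000660a0000660000650300003a0000660300006600003a04000039000065040000650000390100003d0000640100006400003d04000037000064040000640000370700003400006307000063000034070000330000620700006200003308000048000061090000610000480200003300006102000061000033050000600000330600003300006009000032000060080000600000320200002e00005f0200005f00002e0700002e00005e0700005e00002e0400002d00005e0400005e00002d0100002d00005d0100005d00002d0700002c00005d0700005d00002c0400002c00005c0400005c00002c0200005700005b0200005b0000570100002c00005b0100005b00002c0300002c00005a0300005a00002c0200002900005a0200005a0000290a0000590000590a00005900005902000027000059020000590000270300005600005803000058000056040000260000580400005800002601000029000057010000570000290400002300005704000057000023010000520000560100005600005204000022000056040000560000220b0000550000550b000055000055)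 (nat_lit 0xd0000000000000c000000000000090000000000000800000000000000000002000000000000000000020000000700000000000000000007000000050000000000000000000500000037000005000000050000370000002a0000010000000100002a00000028000001000000010000280000000f0000010000000100000f00000022000005000000050000220000000f0000120000001200000f00000022000037000000370000220000002f0000130000001300002f000000240000130000001300002400000007000005000000050000070000002800002a0000002a0000280000001500000500000005000015))))
noncomputable def gs_0 (y : ℕ) : ℕ := (sel (nat_lit 8) y (sel (nat_lit 4) y (sel (nat_lit 2) y (sel (nat_lit 1) y (nat_lit 0x0) (nat_lit 0x0)) (sel (nat_lit 3) y (nat_lit 0x0) (nat_lit 0x0))) (sel (nat_lit 6) y (sel (nat_lit 5) y (nat_lit 0x8000010000021c0000108000020b0000239000023a80000100000238000020c00002150000229000022a800000c0000238000020c00002398000000800000f000022e0000212000022f800000e000022e0000210000022f8000011000022e00002170000221800000d000022e000020c000022f80000008000010000022800002030000200000021d000021e800000c0000228000020300002298000000800000f000022000002060000221800000e000022000002080000221800000d0000220000020300002218000000800000c000021c0000108000021d8000000800000b0000218000010600002198000000800000a000020200002000000103000020b80000090000200000020b8000008000020a0000100000020b00002108000007000020a0000104000020b8000006000020a0000106000020b8000005000020a0000108000020b8000000800000400002000000100000010400002018000003000020000001000000201800000200002000000106000020180000010000200000010900002018000000)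 (nat_lit 0x800001b000027a000022c00002518000014000027a000022a000027b8000000800000c00002760000223000027780000008000000800000a000026800002660000225000026b80000090000266000026b8000007000026a0000226000026b8000005000026a0000223000026b800000080000010000266000022200002678000000800001a00002600000220000020400002210000261800001900002600000226000026180000008000018000025c000021c0000219000024100002478000000800000d0000258000021e00002598000000800000080000170000250000021c0000104000021d000025180000160000250000021f000025180000008000015000024c000021e000024d800000080000140000248000021e00002498000000800001300002440000218000010200002190000241800000080000120000240000021a00002418000000)) (sel (nat_lit 7) y (nat_lit 0x800001600002bc000023b00002bd8000000800001b00002b8000023c00002878000000800001f0000250000021c00001010000103000010b0000108000020b000022f00002b1800001e00002b000002320000224000022000002030000200000010a000021d000024d800000c00002b0000023100002b180000008000000800000a000029c000029a000023500002a38000009000029a00002a3800000800002a20000232000026b000026e800000700002a2000023600002a3800000500002a2000023100002a380000008000004000029a0000232000022600002678000003000029a000023200002678000001000029a0000230000029b8000000800000e000026500002950000297800001a0000290000022e000020e000022f0000291800001d00002900000232000026180000190000290000023600002918000000800000d000028c000022a000028d800000080000170000286000022800002060000229000028780000160000286000022b00002878000000800001c000024c000022d0000281000028380000150000280000022a00002818000000)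 (nat_lit 0x800000100002fc000025200002fd8000000800000f00002f8000025000002598000000800001900002f4000025000002578000000800000d00002f0000024e00002f180000008000000800002600002e800002b500002b700002cf800002500002e800002b500002cb8000000800002400002de00002e500002c200002bf00002c0800000900002c000002dd800000800002dc0000248000022d000027b800000700002dc00002cd00002d5800000500002dc000024a00002dd8000000800000e00002d8000024800002598000000800002400002d100002d5000028a000028900002bb800000900002bb00002d2800002300002b8000023f000024900002cd800001600002cc000024b00002cd800002200002cc000024800002518000000800002100002c80000248000025100002b68000000800001300002c40000247000025f000025c000024d8000000800001700002bc00002380000212000023900002bd800002000002bc000023f0000249)))) (sel (nat_lit 12) y (sel (nat_lit 10) y (sel (nat_lit 9) y (nat_lit 0x80000008000013000033a000027400002240000275000033980000008000000800001000002760000223000026b0000331000033280000100000330000026c000027100003270000328800000c0000330000026c000033180000008000011000032c000027300003258000000800001000003260000269000026600002770000278800000c000032600002690000327800000080000008000007000031e0000262000031f8000006000031e0000260000026b80000008000002000031a000026000002678000000800000080000008000009000030a00003138000000800001100002d800002c9000030f8000027000030d000030a0000258000021c00001020000104000021d000024900002c98000001000030a000025a000030b8000000800000080000008000000800002400002ff00002fc00002540000253000027f800000300002fc00002cf00002d3)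 (nat_lit 0x8000004000037a00002940000262000031b8000002000037a0000290000029b8000000800002d000037200002900000231000029100003778000000800002c0000372000029900003198000000800000080000008000000800000f00003680000286000028d8000000800001100003640000280000028d80000008000020000035a000028500002e98000016000035a0000283000035b800002b000035a000028000002878000022000035a000035500003598000000800002a000034c000027a00002810000355800002900003540000280000027b00002e380000008000024000034e000035100002b0000023100002a3800001c00002b7000027f000034d000034f8000015000034c000027c000034d800000080000180000348000027600002750000339000033d8000000800000080000008000028000034000002760000224000027700003418000000)) (sel (nat_lit 11) y (nat_lit 0x800003100003a500003b7800003b000036b00003b4800003a000037000003b300003528000039000036e00003b300003518000038000036c00003b300003a68000037000036a00003b300003588000036000035d00003b10000366800003500003640000282000028500002f100003ae00002ec00002cc00002e700002e0000035f800002400002f300003ab00003ad000036100003628000034000035e00002860000228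00002090000216000022f000023100002a300003a9800002e00003a80000353000034c00002e300002e60000248000024d00002f100002f380000008000010000035200002a400002ab00003a100003a2800003300003a000002ac0000353000034c0000303800000c00003a0000029d00003a18000000800001b0000398000031200002fb8000032000032500003968000031000039000003968000030000032e0000396800002f0000393000039500003100000314800002e00002d800002e700003570000359000035200002a700002ad000038d000038f800000f000038c000029e0000325800000e000038c00002a00000325800000d000038c000029d000038d8000000800000b0000388000029000002af8000000800000800003800000294000031f0000322800000700003800000292000038180000060000380000029000002a38000000) (nat_lit 0x800004300003fc00002c600002ef8000000800001800003f800002b000002af00003e700003eb8000000800002e00003db00003c000003bf000030000002d700002ce00002b600003f100003f3800003400002da00002fb00003e200003540000280000028d000028f00003c200003f1800000d00003f000002b200003f18000000800001900003ec00002b400002ef8000000800001300003e800002ae000023400002af00003e7800000080000008000042000034400003d40000309800001700002fa00003e000002a900003c500003bc800003c000031700003d68000032000034700003d08000041000039400003cf8000032000038d00003cf8000030000033f00003cc800003a000031600003ca00003308000041000033600003cb8000041000031400003c88000040000034600003c9000039d800003f000034000003c9000039b8000036000033e00003c900003998000039000030b00003c600003358000038000031500003c6000032a800003e000031100002da0000258000021e000022d000028d00003c400002ad000029e0000327800003c000037100003ba800003d000036f00003b8800003c00003a100003b7)))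 (sel (nat_lit 14) y (sel (nat_lit 13) y (nat_lit 0x8000000800000080000430000438000033c000043780000008000000800001d000043200003d900003458000000800000080000008000045000042a00004280000426000037580000008000001000031a0000319000042780000008000000800001a0000420000030600002560000259000030980000008000011000041c00003040000307800000080000008000026000041600004150000412000040980000008000012000041200002f6000030580000008000044000040e00003ff000040000003fe000040f80000008000019000040a00002ea00004038000000800001d000040600002ce00002f58000000800001d000040200002ca00003ed8000000800001700003fc00002c4000024200002c500003fd) (nat_lit 0x8000000800004800004690000472000046e000046b000047b800004700004780000410000046d800000080000210000474000040400003ee000040f8000000800002b000046600003fb0000471800000b000046e00003ec00003f980000008000012000046a00003ee000040f80000008000043000046600003ea00004658000000800000080000008000012000045e000038a00003e78000000800000f000045800003860000431800000e0000458000038400004598000000800000e0000454000037e000042f8000000800000500003800000377000044f8000006000044e0000379000042d80000008000000800002b0000438000034b0000449800000b000044600003440000349800000080000460000442000034400003de000031d000042f80000008000000))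 (sel (nat_lit 15) y (nat_lit 0x80000190000464000046100004bd800004d00004ba000049f000049c0000436000033800002740000224000026100002980000389000045f8000000800000900004b400004b780000008000000800000d00004b0000044000004438000000800000d0000458000045200004ad800001a00004a400004a700004ab00004920000451800004c0000494000044500004a9800001100004a6000043e000044380000008000000800004600004a0000043c00003db000037d00004558000000800004b000049c000043b000044a0000446000044d8000000800000e000044200004350000499800001a000049600004300000320000032d0000433800000080000110000492000042a000042f8000000800004a000048e000042400003e5000043f800000080000460000484000041a000041d0000487000048b8000049000042400004230000489800001d0000486000041e0000421800000080000008000000800001d000047e0000416000041b) (nat_lit 0x800003900003d200004f600003dd800003800003d500004f600003f68000055000031d00004f4000037c8000055000043300004f200004628000055000034500004f0000043c8000040000042f00004ee00004548000040000049900004ec00004c28000040000044300004eb00004a08000055000044500004eb00004a2800003f000049b0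0004eb00004c5800005400004c500004e100004e900004b2800000a00004b200004b700004e600004e5800005300004b900004db00004d800004e3800000900004dc00004e38000000800005200004de000049000004a500004af00004c1800000200004dc000048c000048f8000000800000e00004d600004cf00004d4800000d00004d6000048200004858000000800005100004cc00004d100004d3800005000004b40000442000044d00004bb00004bf000047c00004c900004ca00004d18000000800004f00004cc000048000004838000000800004e00004c60000474000040d000040a00002ec00004070000419000047f800001d00004c6000047600004798000000800004e00004c0000045a000045c0000497000049b0000444000045700004a3800001a00004c00000458000038200003a900004638000000)))))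
noncomputable def gs_1 (y : ℕ) : ℕ := (nat_lit 0x8000058800005880000588000058800005880000588000058800005880000588000058800005880000588000058800005880000588000057000051e800003d000020b000051d8000040000010b000051a000022e800005800005180000504800003900002010000514000039f00005178000058000050e000050b80000580000512000050380000370000207000051000002fb000050280000400000221000050000003de000050c800005600005040000232000050000003d8000050a800003900002700000508000030a8000040000032c0000508000030e8000058000050600004ff800003a00003e100004fc00003f58000039000026700004fa000029a8000038000039f00004f800003aa800003a000027700004f6000034200004f7)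
noncomputable def gs (y : ℕ) : ℕ := (sel (nat_lit 16) y (gs_0 y) (gs_1 y))
noncomputable def gd (y : ℕ) : ℕ := (nat_lit 0x4e200004dc00004d600004d000004cc00004c600004c000004ba00004b600004b400004b000004a600004a400004a0000049c00004960000492000048e000048600004840000482000047e00004780000474000046e000046a000046600004640000462000045e00004580000454000044e000044c000044600004420000440000043e000043c0000438000043600004320000430000042e000042a000042600004240000420000041c000041a00004160000412000040e000040a0000406000040200003fc00003f800003f000003ec00003e800003e600003a800003a0000038c00003880000380000037a000037600003720000370000036e000036c00003680000364000035a0000354000034c0000348000034600003440000340000033e000033a00003380000330000032c00003260000324000031e000031a000031800003160000312000030a00003080000306000030400002fc00002f800002f400002f000002ee00002e800002dc00002d800002cc00002c800002c400002bc00002b800002b000002ae00002a2000029a0000290000028c00002860000280000027a00002760000274000026a00002660000260000025c000025800002560000250000024c0000248000024400002400000238000022e00002280000220000021c0000218000020a00002000000000)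
noncomputable def gwh_0 (y : ℕ) : ℕ := (sel (nat_lit 8) y (sel (nat_lit 4) y (sel (nat_lit 2) y (sel (nat_lit 1) y (nat_lit 0x9060805000002002000) (nat_lit 0x9040804000002002001)) (sel (nat_lit 3) y (nat_lit 0x9010803000002002002) (nat_lit 0x903010801000002003003))) (sel (nat_lit 6) y (sel (nat_lit 5) y (nat_lit 0x8050906000000004000) (nat_lit 0x8040904000000004001)) (sel (nat_lit 7) y (nat_lit 0x8030901000000004002) (nat_lit 0x108010903000004001003)))) (sel (nat_lit 12) y (sel (nat_lit 10) y (sel (nat_lit 9) y (nat_lit 0x80808000000003004) (nat_lit 0x802080602000001004005)) (sel (nat_lit 11) y (nat_lit 0xa040a03000002002006) (nat_lit 0xb050b06000003001007))) (sel (nat_lit 14) y (sel (nat_lit 13) y (nat_lit 0x7050705000002002008) (nat_lit 0x7010702000000004009)) (sel (nat_lit 15) y (nat_lit 0x703070300000200200a) (nat_lit 0x50b08050b0800000200400b)))))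
noncomputable def gwh_1 (y : ℕ) : ℕ := (sel (nat_lit 24) y (sel (nat_lit 20) y (sel (nat_lit 18) y (sel (nat_lit 17) y (nat_lit 0x7020701000002002009) (nat_lit 0x203020300000300100c)) (sel (nat_lit 19) y (nat_lit 0x20a020a0b0a00000200400d) (nat_lit 0x105010600000300100e))) (sel (nat_lit 22) y (sel (nat_lit 21) y (nat_lit 0x205020600000300100f) (nat_lit 0x3060305000002002010)) (sel (nat_lit 23) y (nat_lit 0x30b030b030b000003003011) (nat_lit 0xa020a0b0a0200000300300d)))) (sel (nat_lit 28) y (sel (nat_lit 26) y (sel (nat_lit 25) y (nat_lit 0x4030403000003001012) (nat_lit 0x40704070407000003003013)) (sel (nat_lit 27) y (nat_lit 0x3090108000001003002) (nat_lit 0x602080208000004001005))) (sel (nat_lit 30) y (sel (nat_lit 29) y (nat_lit 0x4010401000002002014) (nat_lit 0x20b0708050702010b03000008002015)) (sel (nat_lit 31) y (nat_lit 0xb0708050702010b0302000009001015) (nat_lit 0x1080309000003001002)))))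
noncomputable def gwh_2 (y : ℕ) : ℕ := (sel (nat_lit 40) y (sel (nat_lit 36) y (sel (nat_lit 34) y (sel (nat_lit 33) y (nat_lit 0x203010201000003002016) (nat_lit 0x3010301000002002017)) (sel (nat_lit 35) y (nat_lit 0x301080109000003002003) (nat_lit 0x8050b08050b00000400200b))) (sel (nat_lit 38) y (sel (nat_lit 37) y (nat_lit 0x1030103000003001017) (nat_lit 0x102030102000002003016)) (sel (nat_lit 39) y (nat_lit 0x2010b03020b07080507000004006015) (nat_lit 0x20b020b020b000002004018)))) (sel (nat_lit 44) y (sel (nat_lit 42) y (sel (nat_lit 41) y (nat_lit 0x301020102000004001016) (nat_lit 0x102010203000000005016)) (sel (nat_lit 43) y (nat_lit 0x302030200000200200c) (nat_lit 0x602050200000200200f))) (sel (nat_lit 46) y (sel (nat_lit 45) y (nat_lit 0x50405040504000000006019) (nat_lit 0x50702010b03020b0708000002008015)) (sel (nat_lit 47) y (nat_lit 0x901080300001002002002) (nat_lit 0x10100000000201a)))))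
noncomputable def gwh_3 (y : ℕ) : ℕ := (sel (nat_lit 56) y (sel (nat_lit 52) y (sel (nat_lit 50) y (sel (nat_lit 49) y (nat_lit 0x20200000000201b) (nat_lit 0x70700000000201c)) (sel (nat_lit 51) y (nat_lit 0xb020b020b02000003003018) (nat_lit 0x708050702010b03020b00000000a015))) (sel (nat_lit 54) y (sel (nat_lit 53) y (nat_lit 0x2010b03020b0708050700001004006015) (nat_lit 0x100010000100000301d)) (sel (nat_lit 55) y (nat_lit 0x300030000100000301e) (nat_lit 0x900080000100000301f)))) (sel (nat_lit 60) y (sel (nat_lit 58) y (sel (nat_lit 57) y (nat_lit 0x8000900001000003020) (nat_lit 0xb000b00001000003021)) (sel (nat_lit 59) y (nat_lit 0x303000000002022) (nat_lit 0xb0b000000002023))) (sel (nat_lit 62) y (sel (nat_lit 61) y (nat_lit 0x809000000002024) (nat_lit 0xb03020b07080507020100001006004015)) (sel (nat_lit 63) y (nat_lit 0x2000200001000003025) (nat_lit 0x7000700001000003026)))))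
noncomputable def gwh_4 (y : ℕ) : ℕ := (sel (nat_lit 72) y (sel (nat_lit 68) y (sel (nat_lit 66) y (sel (nat_lit 65) y (nat_lit 0x908000000002027) (nat_lit 0x4090408000001003001)) (sel (nat_lit 67) y (nat_lit 0x40a030a000003001006) (nat_lit 0x20a0b0a020a00000400200d))) (sel (nat_lit 70) y (sel (nat_lit 69) y (nat_lit 0x208060208000002003005) (nat_lit 0x70407040704000002004013)) (sel (nat_lit 71) y (nat_lit 0x30a040a000001003006) (nat_lit 0xa020a020a0b00000100500d)))) (sel (nat_lit 76) y (sel (nat_lit 74) y (sel (nat_lit 73) y (nat_lit 0x1070207000001003009) (nat_lit 0x208020806000000005005)) (sel (nat_lit 75) y (nat_lit 0xb0a020a020a00000000600d) (nat_lit 0x1040104000001003014))) (sel (nat_lit 78) y (sel (nat_lit 77) y (nat_lit 0x20a0204020a0204020a0204000003009028) (nat_lit 0x40204020403020402000003006029)) (sel (nat_lit 79) y (nat_lit 0x601050100000200200e) (nat_lit 0x702010b03020b070805000003007015)))))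
noncomputable def gwh_5 (y : ℕ) : ℕ := (sel (nat_lit 83) y (sel (nat_lit 81) y (nat_lit 0x5070507000001003008) (sel (nat_lit 82) y (nat_lit 0x40504050405000003003019) (nat_lit 0x806020802000003002005))) (sel (nat_lit 85) y (sel (nat_lit 84) y (nat_lit 0x60205020000100200200f) (nat_lit 0x400040000100000302a)) (sel (nat_lit 86) y (nat_lit 0x10001000000200000301d) (nat_lit 0x80d00000000202b))))
noncomputable def gwh (y : ℕ) : ℕ := (sel (nat_lit 48) y (sel (nat_lit 16) y (gwh_0 y) (sel (nat_lit 32) y (gwh_1 y) (gwh_2 y))) (sel (nat_lit 64) y (gwh_3 y) (sel (nat_lit 80) y (gwh_4 y) (gwh_5 y))))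
def sg : List (List ℕ) := [[], [1], [2], [3], [4], [5], [6], [7], [8], [9], [10], [11], [8], [9]]
def BL : List ℕ := [0x8050906, 0x8040904, 0x8030901, 0x801090301, 0x80808, 0x208020806, 0xa030a04, 0x50b060b, 0x7050705, 0x7010702, 0x7030703, 0xb08050b0805, 0x3020302, 0xb0a020a020a, 0x5010601, 0x5020602, 0x3050306, 0xb030b030b03, 0x3040304, 0x70407040704, 0x4010401, 0x708050702010b03020b, 0x102010203, 0x3010301, 0x20b020b020b, 0x50405040504, 0x101, 0x202, 0x707, 0x10001, 0x30003, 0x90008, 0x80009, 0xb000b, 0x303, 0xb0b, 0x809, 0x20002, 0x70007, 0x908, 0xa0204020a0204020a020402, 0x20402040204020403, 0x40004, 0x80d]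
def Sub : List (List ℕ) := [[1], [2], [3], [4], [5], [7]]
theorem hA : prepA 3416462311689318815716475136 P3b.R sg 244422297818817170794898803261696 BL Sub get gd = true := by decide +kernel
theorem hw : allR (okW BL gwh) 0 87 = true := by decide +kernel
theorem b0 : allR (blk get gs (gwB gwh 87) gd 244422297818817170794898803261696) 4 13 = true := by decide +kernel
theorem hb : ∀ b, 4 ≤ b → b < 17 → blk get gs (gwB gwh 87) gd 244422297818817170794898803261696 b = true :=
  (allR_range b0 (by norm_num : 4 + 13 = 17))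
def TL : List (ℕ × List ℕ) := [(1056, [8])]
theorem hM : prepM sg get 17 TL = true := by decide +kernel
theorem mem {G : Type*} [Group G] {ev : ℕ → G} (hev : Good ev 3416462311689318815716475136) (hR : Rels ev P3b.R) :
    ∀ w ∈ TL.map Prod.snd, evL ev w ∈ gen ev Sub :=
  cert_mem hev hR hA hM hw hb

end c

theorem res {G : Type*} [Group G] {a b z w t u x h k : G} (H : Rel a b z w t u x h k) (K : Subgroup G) (k0 : a ∈ K) (k1 : b ∈ K) (k2 : z ∈ K) (k3 : w ∈ K) (k4 : t ∈ K) (k5 : u ∈ K) : x ∈ K := by
  have i_a : a⁻¹ = a := inv_eq_of_mul_eq_one_right H.hC.hN.aa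
  have i_b : b⁻¹ = b := inv_eq_of_mul_eq_one_right H.hC.hN.bb
  have i_z : z⁻¹ = z := inv_eq_of_mul_eq_one_right H.hC.hN.zz
  have i_w : w⁻¹ = w := inv_eq_of_mul_eq_one_right H.hC.hN.ww
  have i_u : u⁻¹ = u := inv_eq_of_mul_eq_one_right H.hC.uu
  have i_h : h⁻¹ = h := inv_eq_of_mul_eq_one_right H.hh
  have i_k : k⁻¹ = k := inv_eq_of_mul_eq_one_right H.kk
  have h0 : gen (ev a b z w t u x h k) c.Sub ≤ K := gen_le (by
    unfold c.Sub
    refine List.forall_mem_cons.mpr ⟨?_, ?_⟩
    · show a * 1 ∈ K
      simpa only [mul_inv_rev, inv_inv, mul_assoc, mul_one, one_mul, inv_one, pow_succ, pow_zero, i_a, i_b, i_z, i_w, i_u, i_h, i_k] using k0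
    refine List.forall_mem_cons.mpr ⟨?_, ?_⟩
    · show b * 1 ∈ K
      simpa only [mul_inv_rev, inv_inv, mul_assoc, mul_one, one_mul, inv_one, pow_succ, pow_zero, i_a, i_b, i_z, i_w, i_u, i_h, i_k] using k1
    refine List.forall_mem_cons.mpr ⟨?_, ?_⟩
    · show z * 1 ∈ K
      simpa only [mul_inv_rev, inv_inv, mul_assoc, mul_one, one_mul, inv_one, pow_succ, pow_zero, i_a, i_b, i_z, i_w, i_u, i_h, i_k] using k2
    refine List.forall_mem_cons.mpr ⟨?_, ?_⟩
    · show w * 1 ∈ K
      simpa only [mul_inv_rev, inv_inv, mul_assoc, mul_one, one_mul, inv_one, pow_succ, pow_zero, i_a, i_b, i_z, i_w, i_u, i_h, i_k] using k3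
    refine List.forall_mem_cons.mpr ⟨?_, ?_⟩
    · show t * 1 ∈ K
      simpa only [mul_inv_rev, inv_inv, mul_assoc, mul_one, one_mul, inv_one, pow_succ, pow_zero, i_a, i_b, i_z, i_w, i_u, i_h, i_k] using k4
    refine List.forall_mem_cons.mpr ⟨?_, ?_⟩
    · show u * 1 ∈ K
      simpa only [mul_inv_rev, inv_inv, mul_assoc, mul_one, one_mul, inv_one, pow_succ, pow_zero, i_a, i_b, i_z, i_w, i_u, i_h, i_k] using k5
    intro r hr
    exact absurd hr List.not_mem_nil)
  have h : x * 1 ∈ K := h0 (c.mem (good H) (rels H) [8] (List.mem_of_elem_eq_true (by decide)))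
  simpa only [mul_inv_rev, inv_inv, mul_assoc, mul_one, one_mul, inv_one, pow_succ, pow_zero, i_a, i_b, i_z, i_w, i_u, i_h, i_k] using h

end P3b

theorem C0.rel3 : P3C.Rel C0.a0 C0.a2 C0.z C0.w C0.t C0.u :=
  ⟨C0.rel2.hN, by decide +kernel, by decide +kernel, by decide +kernel, by decide +kernel, by decide +kernel⟩

end Cfsg.H5
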