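import Cfsg.Agent.H5.Model

/-!
Certificates for presentations, checked by evaluation.
-/

set_option autoImplicit false
set_option maxRecDepth 100000
set_option linter.unusedSimpArgs false
set_option linter.unusedVariables false

namespace Cfsg.H5

open Cfsg.H6

namespace PA

structure Rel {G : Type*} [Group G] (r t : G) : Prop where
  hr : r ^ 5 = 1
  ht : t ^ 3 = 1
  hrt : (r * t) ^ 2 = 1

def R : List (List ℕ) := [[1, 1, 1, 1, 1], [3, 3, 3], [1, 3, 1, 3]]

def ev {G : Type*} [Group G] (r t : G) (l : ℕ) : G := [1, r, r⁻¹, t, t⁻¹].getD l 1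

theorem good {G : Type*} [Group G] {r t : G} (H : Rel r t) : Good (ev r t) 12952076800 := by
  refine good_list (n := 5) rfl (by norm_num) rfl fun l hl => ?_
  interval_cases l
  · exact inv_one.symm
  · rfl
  · exact (inv_inv _).symm
  · rfl
  · exact (inv_inv _).symm

theorem rels {G : Type*} [Group G] {r t : G} (H : Rel r t) : Rels (ev r t) R := by
  unfold R
  refine Rels.cons ?_ ?_
  · show r * (r * (r * (r * (r * 1)))) = 1
    simpa only [mul_inv_rev, inv_inv, mul_assoc, mul_one, one_mul, inv_one, pow_succ, pow_zero] using mul_inv_eq_one.mpr H.hr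
  refine Rels.cons ?_ ?_
  · show t * (t * (t * 1)) = 1
    simpa only [mul_inv_rev, inv_inv, mul_assoc, mul_one, one_mul, inv_one, pow_succ, pow_zero] using mul_inv_eq_one.mpr H.ht
  refine Rels.cons ?_ ?_
  · show r * (t * (r * (t * 1))) = 1
    simpa only [mul_inv_rev, inv_inv, mul_assoc, mul_one, one_mul, inv_one, pow_succ, pow_zero] using mul_inv_eq_one.mpr H.hrt
  intro r hr
  exact absurd hr List.not_mem_nil

/-- The relations hold for the letters of any assignment satisfying the relators. -/
theorem rel_of {G : Type*} [Group G] {e : ℕ → G} (hg : Good e 12952076800) (hR : Rels e R) :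
    Rel (e 1) (e 3) := by
  have j1 : (e 1)⁻¹ = e 2 := (hg.inv 1).symm
  have j2 : (e 2)⁻¹ = e 1 := (hg.inv 2).symm
  have j3 : (e 3)⁻¹ = e 4 := (hg.inv 3).symm
  have j4 : (e 4)⁻¹ = e 3 := (hg.inv 4).symm
  have r0 : e 1 * (e 1 * (e 1 * (e 1 * (e 1 * 1)))) = 1 := hR [1, 1, 1, 1, 1] (List.mem_of_elem_eq_true (by decide))
  have r1 : e 3 * (e 3 * (e 3 * 1)) = 1 := hR [3, 3, 3] (List.mem_of_elem_eq_true (by decide))
  have r2 : e 1 * (e 3 * (e 1 * (e 3 * 1))) = 1 := hR [1, 3, 1, 3] (List.mem_of_elem_eq_true (by decide))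
  exact ⟨mul_inv_eq_one.mp (by simpa only [mul_inv_rev, mul_assoc, mul_one, one_mul, inv_one, pow_succ, pow_zero, j1, j2, j3, j4] using r0),
    mul_inv_eq_one.mp (by simpa only [mul_inv_rev, mul_assoc, mul_one, one_mul, inv_one, pow_succ, pow_zero, j1, j2, j3, j4] using r1),
    mul_inv_eq_one.mp (by simpa only [mul_inv_rev, mul_assoc, mul_one, one_mul, inv_one, pow_succ, pow_zero, j1, j2, j3, j4] using r2)⟩

theorem gen_top : gen (pgEv 12952076800 R) [[1], [3]] = ⊤ := pg_gen (n := 5) (by norm_num) (by decide)
namespace ub_0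

noncomputable def get (y : ℕ) : ℕ := (sel (nat_lit 1) y (nat_lit 0x0) (nat_lit 0x1000004000003020000030000040100000200000402000004000002020000010000030100000300000101000000000002020000020000000200000000000101000001000000))
noncomputable def gs (y : ℕ) : ℕ := (sel (nat_lit 2) y (sel (nat_lit 1) y (nat_lit 0x0) (nat_lit 0x0)) (sel (nat_lit 3) y (nat_lit 0x0) (sel (nat_lit 4) y (nat_lit 0x0) (nat_lit 0x800000280000028000002800000280000028000002800000280000028000002800000280000028000002800000280000028000002800000280000028000002800000280000028000002800000280000028000002800000280000028000002800000100002040000200000020300002078000000800000080000008000000))))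
noncomputable def gd (y : ℕ) : ℕ := (nat_lit 0x2060000204000020200002000000000)
noncomputable def gwh (y : ℕ) : ℕ := (nat_lit 0x101010101000000005000)
def sg : List (List ℕ) := [[], [1], [2]]
def BL : List ℕ := [0x101010101]
def Sub : List (List ℕ) := []
theorem hA : prepA 12952076800 PA.R sg 66048 BL Sub get gd = true := by decide +kernel
theorem hw : allR (okW BL gwh) 0 1 = true := by decide +kernel
theorem b0 : allR (blk get gs (gwB gwh 1) gd 66048) 4 1 = true := by decide +kernel
theorem hb : ∀ b, 4 ≤ b → b < 5 → blk get gs (gwB gwh 1) gd 66048 b = true :=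
  (allR_range b0 (by norm_num : 4 + 1 = 5))
noncomputable def gc (y : ℕ) : ℕ := (sel (nat_lit 1) y (nat_lit 0x2070000209000020300002040000200) (nat_lit 0x2080000205000020600002010000202))
def X : List (List ℕ) := [[1]]
theorem hC : prepC sg 66048 X 2 5 1 = true := by decide +kernel
theorem c0 : allR (clo get gc 5 576 1) 0 2 = true := by decide +kernel
theorem cover {G : Type*} [Group G] {ev : ℕ → G} (hev : Good ev 12952076800) (hR : Rels ev PA.R) :
    Cover (gen ev Sub) (gen ev X) 5 :=
  cert_cover hev hR hA hC hw hb (by norm_num) (allR_range c0 (by norm_num : 0 + 2 = 2 * 1))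

end ub_0

namespace ub_1

noncomputable def get (y : ℕ) : ℕ := (sel (nat_lit 1) y (nat_lit 0x200000000000001000000000000) (nat_lit 0x100000b00000b0200000b00000b0300000a00000b0400000b00000a0400000900000b0300000b0000090100000900000a0200000a0000090300000900000a0400000a0000090200000800000a0100000a00000801000007000009020000090000070100000800000602000006000008030000080000070400000700000803000005000008040000080000050100000600000702000007000006040000050000070300000700000503000004000006040000060000040400000300000603000006000003010000050000040200000400000501000003000005020000050000030300000300000404000004000003020000020000040100000400000201000001000003020000030000010100000200000102000001000002030000020000010400000100000203000000000002040000020000000400000000000103000001000000))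
noncomputable def gs (y : ℕ) : ℕ := (sel (nat_lit 2) y (sel (nat_lit 1) y (nat_lit 0x0) (nat_lit 0x0)) (sel (nat_lit 3) y (nat_lit 0x0) (sel (nat_lit 4) y (nat_lit 0x0) (nat_lit 0x800000580000058000005800000580000058000005800000580000058000005800000200002280000227000022b800000100002280000225800000080000040000222000021f0000219000022180000030000222000021d00002218000000800000080000020000212000020f000021b80000010000216000021b80000008000002000021600002110000215800000080000010000212000020d80000008000004000020a00002070000209000020f80000008000003000020a0000205000020980000008000000800000200002000000100000020380000010000200000020380000008000000))))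
noncomputable def gd (y : ℕ) : ℕ := (nat_lit 0x22800002220000220000021a00002160000212000020e000020a0000208000020200002000000000)
noncomputable def gwh (y : ℕ) : ℕ := (sel (nat_lit 2) y (sel (nat_lit 1) y (nat_lit 0x30303000000003000) (nat_lit 0x3010301000001003001)) (sel (nat_lit 3) y (nat_lit 0x1030103000002002001) (nat_lit 0x101010101000000005002)))
def sg : List (List ℕ) := [[], [1], [2], [3], [4]]
def BL : List ℕ := [0x30303, 0x1030103, 0x101010101]
def Sub : List (List ℕ) := [[1]]
theorem hA : prepA 12952076800 PA.R sg 12952076800 BL Sub get gd = true := by decide +kernel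
theorem hw : allR (okW BL gwh) 0 4 = true := by decide +kernel
theorem b0 : allR (blk get gs (gwB gwh 4) gd 12952076800) 4 1 = true := by decide +kernel
theorem hb : ∀ b, 4 ≤ b → b < 5 → blk get gs (gwB gwh 4) gd 12952076800 b = true :=
  (allR_range b0 (by norm_num : 4 + 1 = 5))
noncomputable def gc (y : ℕ) : ℕ := (sel (nat_lit 2) y (sel (nat_lit 1) y (nat_lit 0x22d0000227000022100002220000219000021f000020f00002110000209000020a00002070000100) (nat_lit 0x22c00002230000226000021e000022000002180000210000020b000020e000020600002080000101)) (sel (nat_lit 3) y (nat_lit 0x22b00002250000228000021b000021d00002150000216000020d0000212000020300002050000200) (nat_lit 0x229000022a0000224000021c00002170000213000021a0000214000020c000020400002010000202)))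
def X : List (List ℕ) := [[1], [3]]
theorem hC : prepC sg 12952076800 X 4 12 1 = true := by decide +kernel
theorem c0 : allR (clo get gc 12 576 1) 0 4 = true := by decide +kernel
theorem cover {G : Type*} [Group G] {ev : ℕ → G} (hev : Good ev 12952076800) (hR : Rels ev PA.R) :
    Cover (gen ev Sub) (gen ev X) 12 :=
  cert_cover hev hR hA hC hw hb (by norm_num) (allR_range c0 (by norm_num : 0 + 4 = 4 * 1))

end ub_1

theorem ub {G : Type*} [Group G] {ev : ℕ → G} (hev : Good ev 12952076800) (hR : Rels ev R) :
    UB (gen ev [[1], [3]]) 60 :=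
  ((UB.bot.cover (ub_0.cover hev hR)).cover (ub_1.cover hev hR))

end PA

namespace PQ

structure Rel {G : Type*} [Group G] (a0 a1 a2 a3 a4 z : G) : Prop where
  s0 : a0 * a0 = 1
  s1 : a1 * a1 = 1
  s2 : a2 * a2 = 1
  s3 : a3 * a3 = 1
  s4 : a4 * a4 = 1
  sz : z * z = 1
  c01 : a1 * a0 = z * (a0 * a1)
  c02 : a2 * a0 = z * (a0 * a2)
  c03 : a3 * a0 = z * (a0 * a3)
  c04 : a4 * a0 = z * (a0 * a4)
  c12 : a2 * a1 = z * (a1 * a2)
  c13 : a3 * a1 = z * (a1 * a3)
  c14 : a4 * a1 = z * (a1 * a4)
  c23 : a3 * a2 = z * (a2 * a3)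
  c24 : a4 * a2 = z * (a2 * a4)
  c34 : a4 * a3 = z * (a3 * a4)
  z0 : z * a0 = a0 * z
  z1 : z * a1 = a1 * z
  z2 : z * a2 = a2 * z
  z3 : z * a3 = a3 * z
  z4 : z * a4 = a4 * z
  pr : a0 * a1 * a2 * a3 * a4 = 1

def R : List (List ℕ) := [[1, 1], [2, 2], [3, 3], [4, 4], [5, 5], [6, 6], [2, 1, 2, 1, 6], [3, 1, 3, 1, 6], [4, 1, 4, 1, 6], [5, 1, 5, 1, 6], [3, 2, 3, 2, 6], [4, 2, 4, 2, 6], [5, 2, 5, 2, 6], [4, 3, 4, 3, 6], [5, 3, 5, 3, 6], [5, 4, 5, 4, 6], [6, 1, 6, 1], [6, 2, 6, 2], [6, 3, 6, 3], [6, 4, 6, 4], [6, 5, 6, 5], [1, 2, 3, 4, 5]]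

def ev {G : Type*} [Group G] (a0 a1 a2 a3 a4 z : G) (l : ℕ) : G := [1, a0, a1, a2, a3, a4, z].getD l 1

theorem good {G : Type*} [Group G] {a0 a1 a2 a3 a4 z : G} (H : Rel a0 a1 a2 a3 a4 z) : Good (ev a0 a1 a2 a3 a4 z) 1694364648734976 := by
  have i_a0 : a0⁻¹ = a0 := inv_eq_of_mul_eq_one_right H.s0
  have i_a1 : a1⁻¹ = a1 := inv_eq_of_mul_eq_one_right H.s1
  have i_a2 : a2⁻¹ = a2 := inv_eq_of_mul_eq_one_right H.s2
  have i_a3 : a3⁻¹ = a3 := inv_eq_of_mul_eq_one_right H.s3
  have i_a4 : a4⁻¹ = a4 := inv_eq_of_mul_eq_one_right H.s4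
  have i_z : z⁻¹ = z := inv_eq_of_mul_eq_one_right H.sz
  refine good_list (n := 7) rfl (by norm_num) rfl fun l hl => ?_
  interval_cases l
  · exact inv_one.symm
  · exact i_a0.symm
  · exact i_a1.symm
  · exact i_a2.symm
  · exact i_a3.symm
  · exact i_a4.symm
  · exact i_z.symm

theorem rels {G : Type*} [Group G] {a0 a1 a2 a3 a4 z : G} (H : Rel a0 a1 a2 a3 a4 z) : Rels (ev a0 a1 a2 a3 a4 z) R := by
  have i_a0 : a0⁻¹ = a0 := inv_eq_of_mul_eq_one_right H.s0
  have i_a1 : a1⁻¹ = a1 := inv_eq_of_mul_eq_one_right H.s1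
  have i_a2 : a2⁻¹ = a2 := inv_eq_of_mul_eq_one_right H.s2
  have i_a3 : a3⁻¹ = a3 := inv_eq_of_mul_eq_one_right H.s3
  have i_a4 : a4⁻¹ = a4 := inv_eq_of_mul_eq_one_right H.s4
  have i_z : z⁻¹ = z := inv_eq_of_mul_eq_one_right H.sz
  unfold R
  refine Rels.cons ?_ ?_
  · show a0 * (a0 * 1) = 1
    simpa only [mul_inv_rev, inv_inv, mul_assoc, mul_one, one_mul, inv_one, pow_succ, pow_zero, i_a0, i_a1, i_a2, i_a3, i_a4, i_z] using mul_inv_eq_one.mpr H.s0
  refine Rels.cons ?_ ?_
  · show a1 * (a1 * 1) = 1
    simpa only [mul_inv_rev, inv_inv, mul_assoc, mul_one, one_mul, inv_one, pow_succ, pow_zero, i_a0, i_a1, i_a2, i_a3, i_a4, i_z] using mul_inv_eq_one.mpr H.s1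
  refine Rels.cons ?_ ?_
  · show a2 * (a2 * 1) = 1
    simpa only [mul_inv_rev, inv_inv, mul_assoc, mul_one, one_mul, inv_one, pow_succ, pow_zero, i_a0, i_a1, i_a2, i_a3, i_a4, i_z] using mul_inv_eq_one.mpr H.s2
  refine Rels.cons ?_ ?_
  · show a3 * (a3 * 1) = 1
    simpa only [mul_inv_rev, inv_inv, mul_assoc, mul_one, one_mul, inv_one, pow_succ, pow_zero, i_a0, i_a1, i_a2, i_a3, i_a4, i_z] using mul_inv_eq_one.mpr H.s3
  refine Rels.cons ?_ ?_
  · show a4 * (a4 * 1) = 1
    simpa only [mul_inv_rev, inv_inv, mul_assoc, mul_one, one_mul, inv_one, pow_succ, pow_zero, i_a0, i_a1, i_a2, i_a3, i_a4, i_z] using mul_inv_eq_one.mpr H.s4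
  refine Rels.cons ?_ ?_
  · show z * (z * 1) = 1
    simpa only [mul_inv_rev, inv_inv, mul_assoc, mul_one, one_mul, inv_one, pow_succ, pow_zero, i_a0, i_a1, i_a2, i_a3, i_a4, i_z] using mul_inv_eq_one.mpr H.sz
  refine Rels.cons ?_ ?_
  · show a1 * (a0 * (a1 * (a0 * (z * 1)))) = 1
    simpa only [mul_inv_rev, inv_inv, mul_assoc, mul_one, one_mul, inv_one, pow_succ, pow_zero, i_a0, i_a1, i_a2, i_a3, i_a4, i_z] using mul_inv_eq_one.mpr H.c01
  refine Rels.cons ?_ ?_
  · show a2 * (a0 * (a2 * (a0 * (z * 1)))) = 1
    simpa only [mul_inv_rev, inv_inv, mul_assoc, mul_one, one_mul, inv_one, pow_succ, pow_zero, i_a0, i_a1, i_a2, i_a3, i_a4, i_z] using mul_inv_eq_one.mpr H.c02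
  refine Rels.cons ?_ ?_
  · show a3 * (a0 * (a3 * (a0 * (z * 1)))) = 1
    simpa only [mul_inv_rev, inv_inv, mul_assoc, mul_one, one_mul, inv_one, pow_succ, pow_zero, i_a0, i_a1, i_a2, i_a3, i_a4, i_z] using mul_inv_eq_one.mpr H.c03
  refine Rels.cons ?_ ?_
  · show a4 * (a0 * (a4 * (a0 * (z * 1)))) = 1
    simpa only [mul_inv_rev, inv_inv, mul_assoc, mul_one, one_mul, inv_one, pow_succ, pow_zero, i_a0, i_a1, i_a2, i_a3, i_a4, i_z] using mul_inv_eq_one.mpr H.c04
  refine Rels.cons ?_ ?_
  · show a2 * (a1 * (a2 * (a1 * (z * 1)))) = 1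
    simpa only [mul_inv_rev, inv_inv, mul_assoc, mul_one, one_mul, inv_one, pow_succ, pow_zero, i_a0, i_a1, i_a2, i_a3, i_a4, i_z] using mul_inv_eq_one.mpr H.c12
  refine Rels.cons ?_ ?_
  · show a3 * (a1 * (a3 * (a1 * (z * 1)))) = 1
    simpa only [mul_inv_rev, inv_inv, mul_assoc, mul_one, one_mul, inv_one, pow_succ, pow_zero, i_a0, i_a1, i_a2, i_a3, i_a4, i_z] using mul_inv_eq_one.mpr H.c13
  refine Rels.cons ?_ ?_
  · show a4 * (a1 * (a4 * (a1 * (z * 1)))) = 1
    simpa only [mul_inv_rev, inv_inv, mul_assoc, mul_one, one_mul, inv_one, pow_succ, pow_zero, i_a0, i_a1, i_a2, i_a3, i_a4, i_z] using mul_inv_eq_one.mpr H.c14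
  refine Rels.cons ?_ ?_
  · show a3 * (a2 * (a3 * (a2 * (z * 1)))) = 1
    simpa only [mul_inv_rev, inv_inv, mul_assoc, mul_one, one_mul, inv_one, pow_succ, pow_zero, i_a0, i_a1, i_a2, i_a3, i_a4, i_z] using mul_inv_eq_one.mpr H.c23
  refine Rels.cons ?_ ?_
  · show a4 * (a2 * (a4 * (a2 * (z * 1)))) = 1
    simpa only [mul_inv_rev, inv_inv, mul_assoc, mul_one, one_mul, inv_one, pow_succ, pow_zero, i_a0, i_a1, i_a2, i_a3, i_a4, i_z] using mul_inv_eq_one.mpr H.c24
  refine Rels.cons ?_ ?_
  · show a4 * (a3 * (a4 * (a3 * (z * 1)))) = 1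
    simpa only [mul_inv_rev, inv_inv, mul_assoc, mul_one, one_mul, inv_one, pow_succ, pow_zero, i_a0, i_a1, i_a2, i_a3, i_a4, i_z] using mul_inv_eq_one.mpr H.c34
  refine Rels.cons ?_ ?_
  · show z * (a0 * (z * (a0 * 1))) = 1
    simpa only [mul_inv_rev, inv_inv, mul_assoc, mul_one, one_mul, inv_one, pow_succ, pow_zero, i_a0, i_a1, i_a2, i_a3, i_a4, i_z] using mul_inv_eq_one.mpr H.z0
  refine Rels.cons ?_ ?_
  · show z * (a1 * (z * (a1 * 1))) = 1
    simpa only [mul_inv_rev, inv_inv, mul_assoc, mul_one, one_mul, inv_one, pow_succ, pow_zero, i_a0, i_a1, i_a2, i_a3, i_a4, i_z] using mul_inv_eq_one.mpr H.z1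
  refine Rels.cons ?_ ?_
  · show z * (a2 * (z * (a2 * 1))) = 1
    simpa only [mul_inv_rev, inv_inv, mul_assoc, mul_one, one_mul, inv_one, pow_succ, pow_zero, i_a0, i_a1, i_a2, i_a3, i_a4, i_z] using mul_inv_eq_one.mpr H.z2
  refine Rels.cons ?_ ?_
  · show z * (a3 * (z * (a3 * 1))) = 1
    simpa only [mul_inv_rev, inv_inv, mul_assoc, mul_one, one_mul, inv_one, pow_succ, pow_zero, i_a0, i_a1, i_a2, i_a3, i_a4, i_z] using mul_inv_eq_one.mpr H.z3
  refine Rels.cons ?_ ?_
  · show z * (a4 * (z * (a4 * 1))) = 1
    simpa only [mul_inv_rev, inv_inv, mul_assoc, mul_one, one_mul, inv_one, pow_succ, pow_zero, i_a0, i_a1, i_a2, i_a3, i_a4, i_z] using mul_inv_eq_one.mpr H.z4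
  refine Rels.cons ?_ ?_
  · show a0 * (a1 * (a2 * (a3 * (a4 * 1)))) = 1
    simpa only [mul_inv_rev, inv_inv, mul_assoc, mul_one, one_mul, inv_one, pow_succ, pow_zero, i_a0, i_a1, i_a2, i_a3, i_a4, i_z] using mul_inv_eq_one.mpr H.pr
  intro r hr
  exact absurd hr List.not_mem_nil

/-- The relations hold for the letters of any assignment satisfying the relators. -/
theorem rel_of {G : Type*} [Group G] {e : ℕ → G} (hg : Good e 1694364648734976) (hR : Rels e R) :
    Rel (e 1) (e 2) (e 3) (e 4) (e 5) (e 6) := by
  have j1 : (e 1)⁻¹ = e 1 := (hg.inv 1).symm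
  have j2 : (e 2)⁻¹ = e 2 := (hg.inv 2).symm
  have j3 : (e 3)⁻¹ = e 3 := (hg.inv 3).symm
  have j4 : (e 4)⁻¹ = e 4 := (hg.inv 4).symm
  have j5 : (e 5)⁻¹ = e 5 := (hg.inv 5).symm
  have j6 : (e 6)⁻¹ = e 6 := (hg.inv 6).symm
  have r0 : e 1 * (e 1 * 1) = 1 := hR [1, 1] (List.mem_of_elem_eq_true (by decide))
  have r1 : e 2 * (e 2 * 1) = 1 := hR [2, 2] (List.mem_of_elem_eq_true (by decide))
  have r2 : e 3 * (e 3 * 1) = 1 := hR [3, 3] (List.mem_of_elem_eq_true (by decide))
  have r3 : e 4 * (e 4 * 1) = 1 := hR [4, 4] (List.mem_of_elem_eq_true (by decide))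
  have r4 : e 5 * (e 5 * 1) = 1 := hR [5, 5] (List.mem_of_elem_eq_true (by decide))
  have r5 : e 6 * (e 6 * 1) = 1 := hR [6, 6] (List.mem_of_elem_eq_true (by decide))
  have r6 : e 2 * (e 1 * (e 2 * (e 1 * (e 6 * 1)))) = 1 := hR [2, 1, 2, 1, 6] (List.mem_of_elem_eq_true (by decide))
  have r7 : e 3 * (e 1 * (e 3 * (e 1 * (e 6 * 1)))) = 1 := hR [3, 1, 3, 1, 6] (List.mem_of_elem_eq_true (by decide))
  have r8 : e 4 * (e 1 * (e 4 * (e 1 * (e 6 * 1)))) = 1 := hR [4, 1, 4, 1, 6] (List.mem_of_elem_eq_true (by decide))
  have r9 : e 5 * (e 1 * (e 5 * (e 1 * (e 6 * 1)))) = 1 := hR [5, 1, 5, 1, 6] (List.mem_of_elem_eq_true (by decide))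
  have r10 : e 3 * (e 2 * (e 3 * (e 2 * (e 6 * 1)))) = 1 := hR [3, 2, 3, 2, 6] (List.mem_of_elem_eq_true (by decide))
  have r11 : e 4 * (e 2 * (e 4 * (e 2 * (e 6 * 1)))) = 1 := hR [4, 2, 4, 2, 6] (List.mem_of_elem_eq_true (by decide))
  have r12 : e 5 * (e 2 * (e 5 * (e 2 * (e 6 * 1)))) = 1 := hR [5, 2, 5, 2, 6] (List.mem_of_elem_eq_true (by decide))
  have r13 : e 4 * (e 3 * (e 4 * (e 3 * (e 6 * 1)))) = 1 := hR [4, 3, 4, 3, 6] (List.mem_of_elem_eq_true (by decide))
  have r14 : e 5 * (e 3 * (e 5 * (e 3 * (e 6 * 1)))) = 1 := hR [5, 3, 5, 3, 6] (List.mem_of_elem_eq_true (by decide))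
  have r15 : e 5 * (e 4 * (e 5 * (e 4 * (e 6 * 1)))) = 1 := hR [5, 4, 5, 4, 6] (List.mem_of_elem_eq_true (by decide))
  have r16 : e 6 * (e 1 * (e 6 * (e 1 * 1))) = 1 := hR [6, 1, 6, 1] (List.mem_of_elem_eq_true (by decide))
  have r17 : e 6 * (e 2 * (e 6 * (e 2 * 1))) = 1 := hR [6, 2, 6, 2] (List.mem_of_elem_eq_true (by decide))
  have r18 : e 6 * (e 3 * (e 6 * (e 3 * 1))) = 1 := hR [6, 3, 6, 3] (List.mem_of_elem_eq_true (by decide))
  have r19 : e 6 * (e 4 * (e 6 * (e 4 * 1))) = 1 := hR [6, 4, 6, 4] (List.mem_of_elem_eq_true (by decide))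
  have r20 : e 6 * (e 5 * (e 6 * (e 5 * 1))) = 1 := hR [6, 5, 6, 5] (List.mem_of_elem_eq_true (by decide))
  have r21 : e 1 * (e 2 * (e 3 * (e 4 * (e 5 * 1)))) = 1 := hR [1, 2, 3, 4, 5] (List.mem_of_elem_eq_true (by decide))
  exact ⟨mul_inv_eq_one.mp (by simpa only [mul_inv_rev, mul_assoc, mul_one, one_mul, inv_one, pow_succ, pow_zero, j1, j2, j3, j4, j5, j6] using r0),
    mul_inv_eq_one.mp (by simpa only [mul_inv_rev, mul_assoc, mul_one, one_mul, inv_one, pow_succ, pow_zero, j1, j2, j3, j4, j5, j6] using r1),
    mul_inv_eq_one.mp (by simpa only [mul_inv_rev, mul_assoc, mul_one, one_mul, inv_one, pow_succ, pow_zero, j1, j2, j3, j4, j5, j6] using r2),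
    mul_inv_eq_one.mp (by simpa only [mul_inv_rev, mul_assoc, mul_one, one_mul, inv_one, pow_succ, pow_zero, j1, j2, j3, j4, j5, j6] using r3),
    mul_inv_eq_one.mp (by simpa only [mul_inv_rev, mul_assoc, mul_one, one_mul, inv_one, pow_succ, pow_zero, j1, j2, j3, j4, j5, j6] using r4),
    mul_inv_eq_one.mp (by simpa only [mul_inv_rev, mul_assoc, mul_one, one_mul, inv_one, pow_succ, pow_zero, j1, j2, j3, j4, j5, j6] using r5),
    mul_inv_eq_one.mp (by simpa only [mul_inv_rev, mul_assoc, mul_one, one_mul, inv_one, pow_succ, pow_zero, j1, j2, j3, j4, j5, j6] using r6),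
    mul_inv_eq_one.mp (by simpa only [mul_inv_rev, mul_assoc, mul_one, one_mul, inv_one, pow_succ, pow_zero, j1, j2, j3, j4, j5, j6] using r7),
    mul_inv_eq_one.mp (by simpa only [mul_inv_rev, mul_assoc, mul_one, one_mul, inv_one, pow_succ, pow_zero, j1, j2, j3, j4, j5, j6] using r8),
    mul_inv_eq_one.mp (by simpa only [mul_inv_rev, mul_assoc, mul_one, one_mul, inv_one, pow_succ, pow_zero, j1, j2, j3, j4, j5, j6] using r9),
    mul_inv_eq_one.mp (by simpa only [mul_inv_rev, mul_assoc, mul_one, one_mul, inv_one, pow_succ, pow_zero, j1, j2, j3, j4, j5, j6] using r10),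
    mul_inv_eq_one.mp (by simpa only [mul_inv_rev, mul_assoc, mul_one, one_mul, inv_one, pow_succ, pow_zero, j1, j2, j3, j4, j5, j6] using r11),
    mul_inv_eq_one.mp (by simpa only [mul_inv_rev, mul_assoc, mul_one, one_mul, inv_one, pow_succ, pow_zero, j1, j2, j3, j4, j5, j6] using r12),
    mul_inv_eq_one.mp (by simpa only [mul_inv_rev, mul_assoc, mul_one, one_mul, inv_one, pow_succ, pow_zero, j1, j2, j3, j4, j5, j6] using r13),
    mul_inv_eq_one.mp (by simpa only [mul_inv_rev, mul_assoc, mul_one, one_mul, inv_one, pow_succ, pow_zero, j1, j2, j3, j4, j5, j6] using r14),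
    mul_inv_eq_one.mp (by simpa only [mul_inv_rev, mul_assoc, mul_one, one_mul, inv_one, pow_succ, pow_zero, j1, j2, j3, j4, j5, j6] using r15),
    mul_inv_eq_one.mp (by simpa only [mul_inv_rev, mul_assoc, mul_one, one_mul, inv_one, pow_succ, pow_zero, j1, j2, j3, j4, j5, j6] using r16),
    mul_inv_eq_one.mp (by simpa only [mul_inv_rev, mul_assoc, mul_one, one_mul, inv_one, pow_succ, pow_zero, j1, j2, j3, j4, j5, j6] using r17),
    mul_inv_eq_one.mp (by simpa only [mul_inv_rev, mul_assoc, mul_one, one_mul, inv_one, pow_succ, pow_zero, j1, j2, j3, j4, j5, j6] using r18),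
    mul_inv_eq_one.mp (by simpa only [mul_inv_rev, mul_assoc, mul_one, one_mul, inv_one, pow_succ, pow_zero, j1, j2, j3, j4, j5, j6] using r19),
    mul_inv_eq_one.mp (by simpa only [mul_inv_rev, mul_assoc, mul_one, one_mul, inv_one, pow_succ, pow_zero, j1, j2, j3, j4, j5, j6] using r20),
    mul_inv_eq_one.mp (by simpa only [mul_inv_rev, mul_assoc, mul_one, one_mul, inv_one, pow_succ, pow_zero, j1, j2, j3, j4, j5, j6] using r21)⟩

theorem gen_top : gen (pgEv 1694364648734976 R) [[1], [2], [3], [4], [5], [6]] = ⊤ := pg_gen (n := 7) (by norm_num) (by decide)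
namespace ub_0

noncomputable def get (y : ℕ) : ℕ := (sel (nat_lit 1) y (nat_lit 0x0) (nat_lit 0x500000600001f0500001f0000060400001900001f0400001f0000190300001400001f0300001f0000140200000f00001f0200001f00000f0100000a00001f0100001f00000a0600000500001f0600001f0000050600001900001e0600001e0000190500001a00001e0500001e00001a0300000700001e0300001e0000070200001100001e0200001e0000110100000d00001e0100001e00000d0400000500001e0400001e0000050400000c00001d0400001d00000c0600001400001d0600001d0000140500001500001d0500001d0000150200000900001d0200001d0000090100001700001d0100001d0000170300000500001d0300001d0000050400001c0000080400000800001c0300001600001c0300001c0000160600000f00001c0600001c00000f0500001000001c0500001c0000100100001300001c0100001c0000130200000500001c0200001c0000050400001b0000120400001200001b0300001b00000e0300000e00001b0200001800001b0200001b0000180600000a00001b0600001b00000a0500000b00001b0500001b00000b0100000500001b0100001b0000050400000600001a0400001a0000060300001300001a0300001a0000130200000e00001a0200001a00000e0100000900001a010000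1a0000090600000400001a0600001a0000040300000c0000190300001900000c02000008000019020000190000080100001200001901000019000012050000040000190500001900000405000007000018050000180000070100001800000f0100000f00001806000013000018060000180000130400001500001804000018000015030000040000180300001800000405000017000011050000110000170300000a0000170300001700000a0600000e0000170600001700000e0400001000001704000017000010020000040000170200001700000402000016000014020000140000160500001600000d0500000d00001606000009000016060000160000090400000b0000160400001600000b010000040000160100001600000403000006000015030000150000060200000d0000150200001500000d010000080000150100001500000806000003000015060000150000030100001400000e0100000e000014040000070000140400001400000705000003000014050000140000030200001300000a0200000a0000130500000c0000130500001300000c040000030000130400001300000305000009000012050000120000090600000d0000120600001200000d030000100000120300001200001002000003000012020000120000030500000e0000080500000800000e0300000900000f0300000f0000090400000f00001104000011000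00f06000008000011060000110000080300000b0000110300001100000b01000003000011010000110000030200000600001002000010000006010000070000100100001000000706000002000010060000100000020500000200000f0500000f0000020400000200000e0400000e0000020400000a00000d0400000d00000a0300000200000d0300000d0000020600000700000c0600000c0000070200000b00000c0200000c00000b0100000200000c0100000c0000020100000600000b0100000b0000060600000100000b0600000b0000010500000100000a0500000a000001040000010000090400000900000103000001000008030000080000010200000100000702000007000001060000000000060600000600000005000000000005050000050000000400000000000404000004000000030000000000030300000300000002000000000002020000020000000100000000000101000001000000))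
noncomputable def gs (y : ℕ) : ℕ := (sel (nat_lit 3) y (sel (nat_lit 1) y (nat_lit 0x0) (sel (nat_lit 2) y (nat_lit 0x0) (nat_lit 0x0))) (sel (nat_lit 5) y (sel (nat_lit 4) y (nat_lit 0x0) (nat_lit 0x800000c000023c000021e00002250000234800000b000023800002040000203000021f800000a00002380000204000020b000022b800000080000090000231000023200002240000223800000800002330000230000020e00002118000004000022e000021b000021800002258000007000022c00002040000201000020f8000006000022c0000204000020b00002178000000800000500002260000202000020b800000100002260000219000021c8000000800000080000008000004000021e00002020000201000021380000008000003000021800002020000201000020d800000200002180000202000020b00002178000000800000100002140000200000020b80000008000000800000080000008000000800000080000008000000800000080000008000000)) (sel (nat_lit 6) y (nat_lit 0x8000005000027a000025f00002628000001000027a000025500002588000000800001f000027200002690000270000021d800001e0000272000025f00002670000230800001d00002720000255000025b000023d8000000800001c000026f00002240000227000022880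0001b0000234000025900002540000269800001a0000268000020600002050000241800001900002680000206000020b00002538000000800000c0000230000020e000021300002658000018000025e0000255000025b00002208000017000025e0000206000020300002238000016000025e0000206000020b000022b800000080000150000248000020c000021100002598000014000023d000023e000025980000130000254000020600002010000211800001200002540000206000020b000021780000008000011000024c0000204000020b8000005000024c0000239000023c8000001000024c000022d00002308000000800001000002370000231000022c0000247800000f000024600002410000242000021c8000000800000e0000221000023d00002380000241800000d00002400000204000020300002198000000) (nat_lit 0x800001400002b40000208000020b800002000002b400002a900002b2800001100002b4000029d00002a4800000500002b400002910000296800000100002b4000028500002888000000800003000002a8000020800002070000273800002f00002a80000208000020b0000283800002e00002a8000029d00002a6000021c800001500002a80000291000029b0000231800002d00002a80000285000028f000023c80000008000004000029c000029100002920000242800002c000029c00002080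0002050000247800002b000029c0000208000020b0000253800002a000029c0000291000029800002588000029000029c0000285000028d0000263800000080000280000231000022e000025700002998000018000029000002850000286000025780000270000290000020800002030000225800002600002900000208000020b000022b800002500002900000285000028a000026c80000008000024000023c0000251000026b000028b80000230000263000025e0000269000028b8000022000028400002080000207000026980000210000284000020800002010000213800001c00002840000208000020b000021780000008000020000027a0000206000020b8000011000027a0000269000026c))))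
noncomputable def gd (y : ℕ) : ℕ := (nat_lit 0x2b400002a8000029c00002900000284000027a00002720000268000025e0000254000024c000024600002400000238000022c000022600002240000222000021e0000218000021400002120000210000020e000020c000020a000020800002060000204000020200002000000000)
noncomputable def gwh_0 (y : ℕ) : ℕ := (sel (nat_lit 8) y (sel (nat_lit 4) y (sel (nat_lit 2) y (sel (nat_lit 1) y (nat_lit 0x6010601000002002000) (nat_lit 0x106020102000003002001)) (sel (nat_lit 3) y (nat_lit 0x201020106000000005001) (nat_lit 0x501020304000004001002))) (sel (nat_lit 6) y (sel (nat_lit 5) y (nat_lit 0x6020602000002002003) (nat_lit 0x106030103000003002004)) (sel (nat_lit 7) y (nat_lit 0x301030106000000005004) (nat_lit 0x403060403000002003005)))) (sel (nat_lit 12) y (sel (nat_lit 10) y (sel (nat_lit 9) y (nat_lit 0x405040605000001004006) (nat_lit 0x206030203000003002007)) (sel (nat_lit 11) y (nat_lit 0x302030206000000005007) (nat_lit 0x305030605000001004008))) (sel (nat_lit 14) y (sel (nat_lit 13) y (nat_lit 0x102030405000000005002) (nat_lit 0x402060402000002003009))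 (sel (nat_lit 15) y (nat_lit 0x605040504000004001006) (nat_lit 0x50106050100000200300a)))))
noncomputable def gwh_1 (y : ℕ) : ℕ := (sel (nat_lit 24) y (sel (nat_lit 20) y (sel (nat_lit 18) y (sel (nat_lit 17) y (nat_lit 0x603060300000200200b) (nat_lit 0x10604010400000300200c)) (sel (nat_lit 19) y (nat_lit 0x40104010600000000500c) (nat_lit 0x605060500000000400d))) (sel (nat_lit 22) y (sel (nat_lit 21) y (nat_lit 0x604020402000004001009) (nat_lit 0x206040204000003002009)) (sel (nat_lit 23) y (nat_lit 0x402040206000000005009) (nat_lit 0x405010203000003002002)))) (sel (nat_lit 28) y (sel (nat_lit 26) y (sel (nat_lit 25) y (nat_lit 0x306040304000003002005) (nat_lit 0x403040306000000005005)) (sel (nat_lit 27) y (nat_lit 0x301060301000002003004) (nat_lit 0x10605010500000300200a))) (sel (nat_lit 30) y (sel (nat_lit 29) y (nat_lit 0x60501050100000400100a) (nat_lit 0x60502050200000400100e)) (sel (nat_lit 31) y (nat_lit 0x605030503000004001008) (nat_lit 0x604060400000200200f)))))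
noncomputable def gwh_2 (y : ℕ) : ℕ := (sel (nat_lit 40) y (sel (nat_lit 36) y (sel (nat_lit 34) y (sel (nat_lit 33) y (nat_lit 0x50105010600000000500a) (nat_lit 0x304050102000002003002)) (sel (nat_lit 35) y (nat_lit 0x203020603000001004007) (nat_lit 0x204020604000001004009))) (sel (nat_lit 38) y (sel (nat_lit 37) y (nat_lit 0x602010201000004001001) (nat_lit 0x20605020500000300200e)) (sel (nat_lit 39) y (nat_lit 0x50205020600000000500e) (nat_lit 0x304030604000001004005)))) (sel (nat_lit 44) y (sel (nat_lit 42) y (sel (nat_lit 41) y (nat_lit 0x603010301000004001004) (nat_lit 0x603020302000004001007)) (sel (nat_lit 43) y (nat_lit 0x306050305000003002008) (nat_lit 0x503050306000000005008))) (sel (nat_lit 46) y (sel (nat_lit 45) y (nat_lit 0x60401040100000400100c) (nat_lit 0x604030403000004001005)) (sel (nat_lit 47) y (nat_lit 0x406050405000003002006) (nat_lit 0x504050406000000005006)))))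
noncomputable def gwh (y : ℕ) : ℕ := (sel (nat_lit 16) y (gwh_0 y) (sel (nat_lit 32) y (gwh_1 y) (gwh_2 y)))
def sg : List (List ℕ) := [[], [1], [2], [3], [4], [5], [6]]
def BL : List ℕ := [0x6010601, 0x201020106, 0x102030405, 0x6020602, 0x301030106, 0x403040306, 0x504050406, 0x302030206, 0x503050306, 0x402040206, 0x501050106, 0x6030603, 0x401040106, 0x6050605, 0x502050206, 0x6040604]
def Sub : List (List ℕ) := []
theorem hA : prepA 1694364648734976 PQ.R sg 1694364648734976 BL Sub get gd = true := by decide +kernel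
theorem hw : allR (okW BL gwh) 0 48 = true := by decide +kernel
theorem b0 : allR (blk get gs (gwB gwh 48) gd 1694364648734976) 4 3 = true := by decide +kernel
theorem hb : ∀ b, 4 ≤ b → b < 7 → blk get gs (gwB gwh 48) gd 1694364648734976 b = true :=
  (allR_range b0 (by norm_num : 4 + 3 = 7))
noncomputable def gc (y : ℕ) : ℕ := (sel (nat_lit 3) y (sel (nat_lit 1) y (nat_lit 0x2b700002ab000029f00002930000285000027d0000275000026e000029e0000255000024f000024a00002920000274000022d0000229000026f000024b00002aa0000219000021700002b6000027c000024e0000228000021600002840000254000022c000021800002010000200) (sel (nat_lit 2) y (nat_lit 0x2b900002ad00002a10000291000028b000027f0000277000028a000025f000025c0000251000025d0000244000023900002ac000022b00002b8000027e0000250000021b000021a000024500002a00000276000020d000022a0000290000025e00002380000203000020c0000202) (nat_lit 0x2bb00002af000029d0000299000028c00002810000279000026900002650000298000025300002ba0000280000023b000022f000023a0000235000028d000021f0000278000022e00002640000234000020f00002ae0000252000029c00002680000205000021e000020e0000204)))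 (sel (nat_lit 4) y (nat_lit 0x2bd00002a900002a7000029a000028e000028300002bc000026b00002610000257000026a00002490000241000028f0000233000026000002320000223000022100002a6000025600002200000211000029b0000248000028200002a800002070000240000022200002100000206) (sel (nat_lit 5) y (nat_lit 0x2bf00002b100002a30000295000028700002b0000027300002710000266000025a00002a200002470000243000023f0000267000029400002250000236000025b000024200002860000213000023e0000237000027000002be000020900002720000246000022400002120000208) (nat_lit 0x2b500002b300002a500002970000289000027b00002b2000026d00002630000259000024d00002a4000026c000023d0000231000022700002960000262000023c000021d0000215000028800002580000230000021c000020b00002b4000027a000024c00002260000214000020a))))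
def X : List (List ℕ) := [[1], [2], [3], [4], [5], [6]]
theorem hC : prepC sg 1694364648734976 X 6 32 1 = true := by decide +kernel
theorem c0 : allR (clo get gc 32 704 1) 0 6 = true := by decide +kernel
theorem cover {G : Type*} [Group G] {ev : ℕ → G} (hev : Good ev 1694364648734976) (hR : Rels ev PQ.R) :
    Cover (gen ev Sub) (gen ev X) 32 :=
  cert_cover hev hR hA hC hw hb (by norm_num) (allR_range c0 (by norm_num : 0 + 6 = 6 * 1))

end ub_0

theorem ub {G : Type*} [Group G] {ev : ℕ → G} (hev : Good ev 1694364648734976) (hR : Rels ev R) :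
    UB (gen ev [[1], [2], [3], [4], [5], [6]]) 32 :=
  (UB.bot.cover (ub_0.cover hev hR))

end PQ

namespace PC

structure Rel {G : Type*} [Group G] (a0 a1 a2 a3 a4 z r t : G) : Prop where
  hQ : PQ.Rel a0 a1 a2 a3 a4 z
  hA : PA.Rel r t
  r0 : r * a0 * r⁻¹ = a1
  r1 : r * a1 * r⁻¹ = a2
  r2 : r * a2 * r⁻¹ = a3
  r3 : r * a3 * r⁻¹ = a4
  r4 : r * a4 * r⁻¹ = a0
  t0 : t * a0 * t⁻¹ = a0
  t1 : t * a1 * t⁻¹ = a4
  t2 : t * a2 * t⁻¹ = a2
  t3 : t * a3 * t⁻¹ = a1
  t4 : t * a4 * t⁻¹ = a3
  zr : z * r = r * z
  zt : z * t = t * z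

def R : List (List ℕ) := [[1, 1], [2, 2], [3, 3], [4, 4], [5, 5], [6, 6], [2, 1, 2, 1, 6], [3, 1, 3, 1, 6], [4, 1, 4, 1, 6], [5, 1, 5, 1, 6], [3, 2, 3, 2, 6], [4, 2, 4, 2, 6], [5, 2, 5, 2, 6], [4, 3, 4, 3, 6], [5, 3, 5, 3, 6], [5, 4, 5, 4, 6], [6, 1, 6, 1], [6, 2, 6, 2], [6, 3, 6, 3], [6, 4, 6, 4], [6, 5, 6, 5], [1, 2, 3, 4, 5], [7, 7, 7, 7, 7], [9, 9, 9], [7, 9, 7, 9], [7, 1, 8, 2], [7, 2, 8, 3], [7, 3, 8, 4], [7, 4, 8, 5], [7, 5, 8, 1], [9, 1, 10, 1], [9, 2, 10, 5], [9, 3, 10, 3], [9, 4, 10, 2], [9, 5, 10, 4], [6, 7, 6, 8], [6, 9, 6, 10]]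

def ev {G : Type*} [Group G] (a0 a1 a2 a3 a4 z r t : G) (l : ℕ) : G := [1, a0, a1, a2, a3, a4, z, r, r⁻¹, t, t⁻¹].getD l 1

theorem good {G : Type*} [Group G] {a0 a1 a2 a3 a4 z r t : G} (H : Rel a0 a1 a2 a3 a4 z r t) : Good (ev a0 a1 a2 a3 a4 z r t) 10927685746723991943512320 := by
  have i_a0 : a0⁻¹ = a0 := inv_eq_of_mul_eq_one_right H.hQ.s0
  have i_a1 : a1⁻¹ = a1 := inv_eq_of_mul_eq_one_right H.hQ.s1
  have i_a2 : a2⁻¹ = a2 := inv_eq_of_mul_eq_one_right H.hQ.s2
  have i_a3 : a3⁻¹ = a3 := inv_eq_of_mul_eq_one_right H.hQ.s3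
  have i_a4 : a4⁻¹ = a4 := inv_eq_of_mul_eq_one_right H.hQ.s4
  have i_z : z⁻¹ = z := inv_eq_of_mul_eq_one_right H.hQ.sz
  refine good_list (n := 11) rfl (by norm_num) rfl fun l hl => ?_
  interval_cases l
  · exact inv_one.symm
  · exact i_a0.symm
  · exact i_a1.symm
  · exact i_a2.symm
  · exact i_a3.symm
  · exact i_a4.symm
  · exact i_z.symm
  · rfl
  · exact (inv_inv _).symm
  · rfl
  · exact (inv_inv _).symm

theorem rels {G : Type*} [Group G] {a0 a1 a2 a3 a4 z r t : G} (H : Rel a0 a1 a2 a3 a4 z r t) : Rels (ev a0 a1 a2 a3 a4 z r t) R := by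
  have i_a0 : a0⁻¹ = a0 := inv_eq_of_mul_eq_one_right H.hQ.s0
  have i_a1 : a1⁻¹ = a1 := inv_eq_of_mul_eq_one_right H.hQ.s1
  have i_a2 : a2⁻¹ = a2 := inv_eq_of_mul_eq_one_right H.hQ.s2
  have i_a3 : a3⁻¹ = a3 := inv_eq_of_mul_eq_one_right H.hQ.s3
  have i_a4 : a4⁻¹ = a4 := inv_eq_of_mul_eq_one_right H.hQ.s4
  have i_z : z⁻¹ = z := inv_eq_of_mul_eq_one_right H.hQ.sz
  unfold R
  refine Rels.cons ?_ ?_
  · show a0 * (a0 * 1) = 1
    simpa only [mul_inv_rev, inv_inv, mul_assoc, mul_one, one_mul, inv_one, pow_succ, pow_zero, i_a0, i_a1, i_a2, i_a3, i_a4, i_z] using mul_inv_eq_one.mpr H.hQ.s0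
  refine Rels.cons ?_ ?_
  · show a1 * (a1 * 1) = 1
    simpa only [mul_inv_rev, inv_inv, mul_assoc, mul_one, one_mul, inv_one, pow_succ, pow_zero, i_a0, i_a1, i_a2, i_a3, i_a4, i_z] using mul_inv_eq_one.mpr H.hQ.s1
  refine Rels.cons ?_ ?_
  · show a2 * (a2 * 1) = 1
    simpa only [mul_inv_rev, inv_inv, mul_assoc, mul_one, one_mul, inv_one, pow_succ, pow_zero, i_a0, i_a1, i_a2, i_a3, i_a4, i_z] using mul_inv_eq_one.mpr H.hQ.s2
  refine Rels.cons ?_ ?_
  · show a3 * (a3 * 1) = 1
    simpa only [mul_inv_rev, inv_inv, mul_assoc, mul_one, one_mul, inv_one, pow_succ, pow_zero, i_a0, i_a1, i_a2, i_a3, i_a4, i_z] using mul_inv_eq_one.mpr H.hQ.s3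
  refine Rels.cons ?_ ?_
  · show a4 * (a4 * 1) = 1
    simpa only [mul_inv_rev, inv_inv, mul_assoc, mul_one, one_mul, inv_one, pow_succ, pow_zero, i_a0, i_a1, i_a2, i_a3, i_a4, i_z] using mul_inv_eq_one.mpr H.hQ.s4
  refine Rels.cons ?_ ?_
  · show z * (z * 1) = 1
    simpa only [mul_inv_rev, inv_inv, mul_assoc, mul_one, one_mul, inv_one, pow_succ, pow_zero, i_a0, i_a1, i_a2, i_a3, i_a4, i_z] using mul_inv_eq_one.mpr H.hQ.sz
  refine Rels.cons ?_ ?_
  · show a1 * (a0 * (a1 * (a0 * (z * 1)))) = 1
    simpa only [mul_inv_rev, inv_inv, mul_assoc, mul_one, one_mul, inv_one, pow_succ, pow_zero, i_a0, i_a1, i_a2, i_a3, i_a4, i_z] using mul_inv_eq_one.mpr H.hQ.c01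
  refine Rels.cons ?_ ?_
  · show a2 * (a0 * (a2 * (a0 * (z * 1)))) = 1
    simpa only [mul_inv_rev, inv_inv, mul_assoc, mul_one, one_mul, inv_one, pow_succ, pow_zero, i_a0, i_a1, i_a2, i_a3, i_a4, i_z] using mul_inv_eq_one.mpr H.hQ.c02
  refine Rels.cons ?_ ?_
  · show a3 * (a0 * (a3 * (a0 * (z * 1)))) = 1
    simpa only [mul_inv_rev, inv_inv, mul_assoc, mul_one, one_mul, inv_one, pow_succ, pow_zero, i_a0, i_a1, i_a2, i_a3, i_a4, i_z] using mul_inv_eq_one.mpr H.hQ.c03
  refine Rels.cons ?_ ?_
  · show a4 * (a0 * (a4 * (a0 * (z * 1)))) = 1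
    simpa only [mul_inv_rev, inv_inv, mul_assoc, mul_one, one_mul, inv_one, pow_succ, pow_zero, i_a0, i_a1, i_a2, i_a3, i_a4, i_z] using mul_inv_eq_one.mpr H.hQ.c04
  refine Rels.cons ?_ ?_
  · show a2 * (a1 * (a2 * (a1 * (z * 1)))) = 1
    simpa only [mul_inv_rev, inv_inv, mul_assoc, mul_one, one_mul, inv_one, pow_succ, pow_zero, i_a0, i_a1, i_a2, i_a3, i_a4, i_z] using mul_inv_eq_one.mpr H.hQ.c12
  refine Rels.cons ?_ ?_
  · show a3 * (a1 * (a3 * (a1 * (z * 1)))) = 1
    simpa only [mul_inv_rev, inv_inv, mul_assoc, mul_one, one_mul, inv_one, pow_succ, pow_zero, i_a0, i_a1, i_a2, i_a3, i_a4, i_z] using mul_inv_eq_one.mpr H.hQ.c13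
  refine Rels.cons ?_ ?_
  · show a4 * (a1 * (a4 * (a1 * (z * 1)))) = 1
    simpa only [mul_inv_rev, inv_inv, mul_assoc, mul_one, one_mul, inv_one, pow_succ, pow_zero, i_a0, i_a1, i_a2, i_a3, i_a4, i_z] using mul_inv_eq_one.mpr H.hQ.c14
  refine Rels.cons ?_ ?_
  · show a3 * (a2 * (a3 * (a2 * (z * 1)))) = 1
    simpa only [mul_inv_rev, inv_inv, mul_assoc, mul_one, one_mul, inv_one, pow_succ, pow_zero, i_a0, i_a1, i_a2, i_a3, i_a4, i_z] using mul_inv_eq_one.mpr H.hQ.c23
  refine Rels.cons ?_ ?_
  · show a4 * (a2 * (a4 * (a2 * (z * 1)))) = 1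
    simpa only [mul_inv_rev, inv_inv, mul_assoc, mul_one, one_mul, inv_one, pow_succ, pow_zero, i_a0, i_a1, i_a2, i_a3, i_a4, i_z] using mul_inv_eq_one.mpr H.hQ.c24
  refine Rels.cons ?_ ?_
  · show a4 * (a3 * (a4 * (a3 * (z * 1)))) = 1
    simpa only [mul_inv_rev, inv_inv, mul_assoc, mul_one, one_mul, inv_one, pow_succ, pow_zero, i_a0, i_a1, i_a2, i_a3, i_a4, i_z] using mul_inv_eq_one.mpr H.hQ.c34
  refine Rels.cons ?_ ?_
  · show z * (a0 * (z * (a0 * 1))) = 1
    simpa only [mul_inv_rev, inv_inv, mul_assoc, mul_one, one_mul, inv_one, pow_succ, pow_zero, i_a0, i_a1, i_a2, i_a3, i_a4, i_z] using mul_inv_eq_one.mpr H.hQ.z0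
  refine Rels.cons ?_ ?_
  · show z * (a1 * (z * (a1 * 1))) = 1
    simpa only [mul_inv_rev, inv_inv, mul_assoc, mul_one, one_mul, inv_one, pow_succ, pow_zero, i_a0, i_a1, i_a2, i_a3, i_a4, i_z] using mul_inv_eq_one.mpr H.hQ.z1
  refine Rels.cons ?_ ?_
  · show z * (a2 * (z * (a2 * 1))) = 1
    simpa only [mul_inv_rev, inv_inv, mul_assoc, mul_one, one_mul, inv_one, pow_succ, pow_zero, i_a0, i_a1, i_a2, i_a3, i_a4, i_z] using mul_inv_eq_one.mpr H.hQ.z2
  refine Rels.cons ?_ ?_
  · show z * (a3 * (z * (a3 * 1))) = 1
    simpa only [mul_inv_rev, inv_inv, mul_assoc, mul_one, one_mul, inv_one, pow_succ, pow_zero, i_a0, i_a1, i_a2, i_a3, i_a4, i_z] using mul_inv_eq_one.mpr H.hQ.z3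
  refine Rels.cons ?_ ?_
  · show z * (a4 * (z * (a4 * 1))) = 1
    simpa only [mul_inv_rev, inv_inv, mul_assoc, mul_one, one_mul, inv_one, pow_succ, pow_zero, i_a0, i_a1, i_a2, i_a3, i_a4, i_z] using mul_inv_eq_one.mpr H.hQ.z4
  refine Rels.cons ?_ ?_
  · show a0 * (a1 * (a2 * (a3 * (a4 * 1)))) = 1
    simpa only [mul_inv_rev, inv_inv, mul_assoc, mul_one, one_mul, inv_one, pow_succ, pow_zero, i_a0, i_a1, i_a2, i_a3, i_a4, i_z] using mul_inv_eq_one.mpr H.hQ.pr
  refine Rels.cons ?_ ?_
  · show r * (r * (r * (r * (r * 1)))) = 1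
    simpa only [mul_inv_rev, inv_inv, mul_assoc, mul_one, one_mul, inv_one, pow_succ, pow_zero, i_a0, i_a1, i_a2, i_a3, i_a4, i_z] using mul_inv_eq_one.mpr H.hA.hr
  refine Rels.cons ?_ ?_
  · show t * (t * (t * 1)) = 1
    simpa only [mul_inv_rev, inv_inv, mul_assoc, mul_one, one_mul, inv_one, pow_succ, pow_zero, i_a0, i_a1, i_a2, i_a3, i_a4, i_z] using mul_inv_eq_one.mpr H.hA.ht
  refine Rels.cons ?_ ?_
  · show r * (t * (r * (t * 1))) = 1
    simpa only [mul_inv_rev, inv_inv, mul_assoc, mul_one, one_mul, inv_one, pow_succ, pow_zero, i_a0, i_a1, i_a2, i_a3, i_a4, i_z] using mul_inv_eq_one.mpr H.hA.hrt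
  refine Rels.cons ?_ ?_
  · show r * (a0 * (r⁻¹ * (a1 * 1))) = 1
    simpa only [mul_inv_rev, inv_inv, mul_assoc, mul_one, one_mul, inv_one, pow_succ, pow_zero, i_a0, i_a1, i_a2, i_a3, i_a4, i_z] using mul_inv_eq_one.mpr H.r0
  refine Rels.cons ?_ ?_
  · show r * (a1 * (r⁻¹ * (a2 * 1))) = 1
    simpa only [mul_inv_rev, inv_inv, mul_assoc, mul_one, one_mul, inv_one, pow_succ, pow_zero, i_a0, i_a1, i_a2, i_a3, i_a4, i_z] using mul_inv_eq_one.mpr H.r1
  refine Rels.cons ?_ ?_
  · show r * (a2 * (r⁻¹ * (a3 * 1))) = 1
    simpa only [mul_inv_rev, inv_inv, mul_assoc, mul_one, one_mul, inv_one, pow_succ, pow_zero, i_a0, i_a1, i_a2, i_a3, i_a4, i_z] using mul_inv_eq_one.mpr H.r2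
  refine Rels.cons ?_ ?_
  · show r * (a3 * (r⁻¹ * (a4 * 1))) = 1
    simpa only [mul_inv_rev, inv_inv, mul_assoc, mul_one, one_mul, inv_one, pow_succ, pow_zero, i_a0, i_a1, i_a2, i_a3, i_a4, i_z] using mul_inv_eq_one.mpr H.r3
  refine Rels.cons ?_ ?_
  · show r * (a4 * (r⁻¹ * (a0 * 1))) = 1
    simpa only [mul_inv_rev, inv_inv, mul_assoc, mul_one, one_mul, inv_one, pow_succ, pow_zero, i_a0, i_a1, i_a2, i_a3, i_a4, i_z] using mul_inv_eq_one.mpr H.r4
  refine Rels.cons ?_ ?_
  · show t * (a0 * (t⁻¹ * (a0 * 1))) = 1
    simpa only [mul_inv_rev, inv_inv, mul_assoc, mul_one, one_mul, inv_one, pow_succ, pow_zero, i_a0, i_a1, i_a2, i_a3, i_a4, i_z] using mul_inv_eq_one.mpr H.t0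
  refine Rels.cons ?_ ?_
  · show t * (a1 * (t⁻¹ * (a4 * 1))) = 1
    simpa only [mul_inv_rev, inv_inv, mul_assoc, mul_one, one_mul, inv_one, pow_succ, pow_zero, i_a0, i_a1, i_a2, i_a3, i_a4, i_z] using mul_inv_eq_one.mpr H.t1
  refine Rels.cons ?_ ?_
  · show t * (a2 * (t⁻¹ * (a2 * 1))) = 1
    simpa only [mul_inv_rev, inv_inv, mul_assoc, mul_one, one_mul, inv_one, pow_succ, pow_zero, i_a0, i_a1, i_a2, i_a3, i_a4, i_z] using mul_inv_eq_one.mpr H.t2
  refine Rels.cons ?_ ?_
  · show t * (a3 * (t⁻¹ * (a1 * 1))) = 1
    simpa only [mul_inv_rev, inv_inv, mul_assoc, mul_one, one_mul, inv_one, pow_succ, pow_zero, i_a0, i_a1, i_a2, i_a3, i_a4, i_z] using mul_inv_eq_one.mpr H.t3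
  refine Rels.cons ?_ ?_
  · show t * (a4 * (t⁻¹ * (a3 * 1))) = 1
    simpa only [mul_inv_rev, inv_inv, mul_assoc, mul_one, one_mul, inv_one, pow_succ, pow_zero, i_a0, i_a1, i_a2, i_a3, i_a4, i_z] using mul_inv_eq_one.mpr H.t4
  refine Rels.cons ?_ ?_
  · show z * (r * (z * (r⁻¹ * 1))) = 1
    simpa only [mul_inv_rev, inv_inv, mul_assoc, mul_one, one_mul, inv_one, pow_succ, pow_zero, i_a0, i_a1, i_a2, i_a3, i_a4, i_z] using mul_inv_eq_one.mpr H.zr
  refine Rels.cons ?_ ?_
  · show z * (t * (z * (t⁻¹ * 1))) = 1
    simpa only [mul_inv_rev, inv_inv, mul_assoc, mul_one, one_mul, inv_one, pow_succ, pow_zero, i_a0, i_a1, i_a2, i_a3, i_a4, i_z] using mul_inv_eq_one.mpr H.zt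
  intro r hr
  exact absurd hr List.not_mem_nil

/-- The relations hold for the letters of any assignment satisfying the relators. -/
theorem rel_of {G : Type*} [Group G] {e : ℕ → G} (hg : Good e 10927685746723991943512320) (hR : Rels e R) :
    Rel (e 1) (e 2) (e 3) (e 4) (e 5) (e 6) (e 7) (e 9) := by
  have j1 : (e 1)⁻¹ = e 1 := (hg.inv 1).symm
  have j2 : (e 2)⁻¹ = e 2 := (hg.inv 2).symm
  have j3 : (e 3)⁻¹ = e 3 := (hg.inv 3).symm
  have j4 : (e 4)⁻¹ = e 4 := (hg.inv 4).symm
  have j5 : (e 5)⁻¹ = e 5 := (hg.inv 5).symm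
  have j6 : (e 6)⁻¹ = e 6 := (hg.inv 6).symm
  have j7 : (e 7)⁻¹ = e 8 := (hg.inv 7).symm
  have j8 : (e 8)⁻¹ = e 7 := (hg.inv 8).symm
  have j9 : (e 9)⁻¹ = e 10 := (hg.inv 9).symm
  have j10 : (e 10)⁻¹ = e 9 := (hg.inv 10).symm
  have r0 : e 1 * (e 1 * 1) = 1 := hR [1, 1] (List.mem_of_elem_eq_true (by decide))
  have r1 : e 2 * (e 2 * 1) = 1 := hR [2, 2] (List.mem_of_elem_eq_true (by decide))
  have r2 : e 3 * (e 3 * 1) = 1 := hR [3, 3] (List.mem_of_elem_eq_true (by decide))
  have r3 : e 4 * (e 4 * 1) = 1 := hR [4, 4] (List.mem_of_elem_eq_true (by decide))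
  have r4 : e 5 * (e 5 * 1) = 1 := hR [5, 5] (List.mem_of_elem_eq_true (by decide))
  have r5 : e 6 * (e 6 * 1) = 1 := hR [6, 6] (List.mem_of_elem_eq_true (by decide))
  have r6 : e 2 * (e 1 * (e 2 * (e 1 * (e 6 * 1)))) = 1 := hR [2, 1, 2, 1, 6] (List.mem_of_elem_eq_true (by decide))
  have r7 : e 3 * (e 1 * (e 3 * (e 1 * (e 6 * 1)))) = 1 := hR [3, 1, 3, 1, 6] (List.mem_of_elem_eq_true (by decide))
  have r8 : e 4 * (e 1 * (e 4 * (e 1 * (e 6 * 1)))) = 1 := hR [4, 1, 4, 1, 6] (List.mem_of_elem_eq_true (by decide))
  have r9 : e 5 * (e 1 * (e 5 * (e 1 * (e 6 * 1)))) = 1 := hR [5, 1, 5, 1, 6] (List.mem_of_elem_eq_true (by decide))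
  have r10 : e 3 * (e 2 * (e 3 * (e 2 * (e 6 * 1)))) = 1 := hR [3, 2, 3, 2, 6] (List.mem_of_elem_eq_true (by decide))
  have r11 : e 4 * (e 2 * (e 4 * (e 2 * (e 6 * 1)))) = 1 := hR [4, 2, 4, 2, 6] (List.mem_of_elem_eq_true (by decide))
  have r12 : e 5 * (e 2 * (e 5 * (e 2 * (e 6 * 1)))) = 1 := hR [5, 2, 5, 2, 6] (List.mem_of_elem_eq_true (by decide))
  have r13 : e 4 * (e 3 * (e 4 * (e 3 * (e 6 * 1)))) = 1 := hR [4, 3, 4, 3, 6] (List.mem_of_elem_eq_true (by decide))
  have r14 : e 5 * (e 3 * (e 5 * (e 3 * (e 6 * 1)))) = 1 := hR [5, 3, 5, 3, 6] (List.mem_of_elem_eq_true (by decide))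
  have r15 : e 5 * (e 4 * (e 5 * (e 4 * (e 6 * 1)))) = 1 := hR [5, 4, 5, 4, 6] (List.mem_of_elem_eq_true (by decide))
  have r16 : e 6 * (e 1 * (e 6 * (e 1 * 1))) = 1 := hR [6, 1, 6, 1] (List.mem_of_elem_eq_true (by decide))
  have r17 : e 6 * (e 2 * (e 6 * (e 2 * 1))) = 1 := hR [6, 2, 6, 2] (List.mem_of_elem_eq_true (by decide))
  have r18 : e 6 * (e 3 * (e 6 * (e 3 * 1))) = 1 := hR [6, 3, 6, 3] (List.mem_of_elem_eq_true (by decide))
  have r19 : e 6 * (e 4 * (e 6 * (e 4 * 1))) = 1 := hR [6, 4, 6, 4] (List.mem_of_elem_eq_true (by decide))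
  have r20 : e 6 * (e 5 * (e 6 * (e 5 * 1))) = 1 := hR [6, 5, 6, 5] (List.mem_of_elem_eq_true (by decide))
  have r21 : e 1 * (e 2 * (e 3 * (e 4 * (e 5 * 1)))) = 1 := hR [1, 2, 3, 4, 5] (List.mem_of_elem_eq_true (by decide))
  have r22 : e 7 * (e 7 * (e 7 * (e 7 * (e 7 * 1)))) = 1 := hR [7, 7, 7, 7, 7] (List.mem_of_elem_eq_true (by decide))
  have r23 : e 9 * (e 9 * (e 9 * 1)) = 1 := hR [9, 9, 9] (List.mem_of_elem_eq_true (by decide))
  have r24 : e 7 * (e 9 * (e 7 * (e 9 * 1))) = 1 := hR [7, 9, 7, 9] (List.mem_of_elem_eq_true (by decide))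
  have r25 : e 7 * (e 1 * (e 8 * (e 2 * 1))) = 1 := hR [7, 1, 8, 2] (List.mem_of_elem_eq_true (by decide))
  have r26 : e 7 * (e 2 * (e 8 * (e 3 * 1))) = 1 := hR [7, 2, 8, 3] (List.mem_of_elem_eq_true (by decide))
  have r27 : e 7 * (e 3 * (e 8 * (e 4 * 1))) = 1 := hR [7, 3, 8, 4] (List.mem_of_elem_eq_true (by decide))
  have r28 : e 7 * (e 4 * (e 8 * (e 5 * 1))) = 1 := hR [7, 4, 8, 5] (List.mem_of_elem_eq_true (by decide))
  have r29 : e 7 * (e 5 * (e 8 * (e 1 * 1))) = 1 := hR [7, 5, 8, 1] (List.mem_of_elem_eq_true (by decide))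
  have r30 : e 9 * (e 1 * (e 10 * (e 1 * 1))) = 1 := hR [9, 1, 10, 1] (List.mem_of_elem_eq_true (by decide))
  have r31 : e 9 * (e 2 * (e 10 * (e 5 * 1))) = 1 := hR [9, 2, 10, 5] (List.mem_of_elem_eq_true (by decide))
  have r32 : e 9 * (e 3 * (e 10 * (e 3 * 1))) = 1 := hR [9, 3, 10, 3] (List.mem_of_elem_eq_true (by decide))
  have r33 : e 9 * (e 4 * (e 10 * (e 2 * 1))) = 1 := hR [9, 4, 10, 2] (List.mem_of_elem_eq_true (by decide))
  have r34 : e 9 * (e 5 * (e 10 * (e 4 * 1))) = 1 := hR [9, 5, 10, 4] (List.mem_of_elem_eq_true (by decide))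
  have r35 : e 6 * (e 7 * (e 6 * (e 8 * 1))) = 1 := hR [6, 7, 6, 8] (List.mem_of_elem_eq_true (by decide))
  have r36 : e 6 * (e 9 * (e 6 * (e 10 * 1))) = 1 := hR [6, 9, 6, 10] (List.mem_of_elem_eq_true (by decide))
  exact ⟨⟨mul_inv_eq_one.mp (by simpa only [mul_inv_rev, mul_assoc, mul_one, one_mul, inv_one, pow_succ, pow_zero, j1, j2, j3, j4, j5, j6, j7, j8, j9, j10] using r0),
    mul_inv_eq_one.mp (by simpa only [mul_inv_rev, mul_assoc, mul_one, one_mul, inv_one, pow_succ, pow_zero, j1, j2, j3, j4, j5, j6, j7, j8, j9, j10] using r1),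
    mul_inv_eq_one.mp (by simpa only [mul_inv_rev, mul_assoc, mul_one, one_mul, inv_one, pow_succ, pow_zero, j1, j2, j3, j4, j5, j6, j7, j8, j9, j10] using r2),
    mul_inv_eq_one.mp (by simpa only [mul_inv_rev, mul_assoc, mul_one, one_mul, inv_one, pow_succ, pow_zero, j1, j2, j3, j4, j5, j6, j7, j8, j9, j10] using r3),
    mul_inv_eq_one.mp (by simpa only [mul_inv_rev, mul_assoc, mul_one, one_mul, inv_one, pow_succ, pow_zero, j1, j2, j3, j4, j5, j6, j7, j8, j9, j10] using r4),
    mul_inv_eq_one.mp (by simpa only [mul_inv_rev, mul_assoc, mul_one, one_mul, inv_one, pow_succ, pow_zero, j1, j2, j3, j4, j5, j6, j7, j8, j9, j10] using r5),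
    mul_inv_eq_one.mp (by simpa only [mul_inv_rev, mul_assoc, mul_one, one_mul, inv_one, pow_succ, pow_zero, j1, j2, j3, j4, j5, j6, j7, j8, j9, j10] using r6),
    mul_inv_eq_one.mp (by simpa only [mul_inv_rev, mul_assoc, mul_one, one_mul, inv_one, pow_succ, pow_zero, j1, j2, j3, j4, j5, j6, j7, j8, j9, j10] using r7),
    mul_inv_eq_one.mp (by simpa only [mul_inv_rev, mul_assoc, mul_one, one_mul, inv_one, pow_succ, pow_zero, j1, j2, j3, j4, j5, j6, j7, j8, j9, j10] using r8),
    mul_inv_eq_one.mp (by simpa only [mul_inv_rev, mul_assoc, mul_one, one_mul, inv_one, pow_succ, pow_zero, j1, j2, j3, j4, j5, j6, j7, j8, j9, j10] using r9),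
    mul_inv_eq_one.mp (by simpa only [mul_inv_rev, mul_assoc, mul_one, one_mul, inv_one, pow_succ, pow_zero, j1, j2, j3, j4, j5, j6, j7, j8, j9, j10] using r10),
    mul_inv_eq_one.mp (by simpa only [mul_inv_rev, mul_assoc, mul_one, one_mul, inv_one, pow_succ, pow_zero, j1, j2, j3, j4, j5, j6, j7, j8, j9, j10] using r11),
    mul_inv_eq_one.mp (by simpa only [mul_inv_rev, mul_assoc, mul_one, one_mul, inv_one, pow_succ, pow_zero, j1, j2, j3, j4, j5, j6, j7, j8, j9, j10] using r12),
    mul_inv_eq_one.mp (by simpa only [mul_inv_rev, mul_assoc, mul_one, one_mul, inv_one, pow_succ, pow_zero, j1, j2, j3, j4, j5, j6, j7, j8, j9, j10] using r13),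
    mul_inv_eq_one.mp (by simpa only [mul_inv_rev, mul_assoc, mul_one, one_mul, inv_one, pow_succ, pow_zero, j1, j2, j3, j4, j5, j6, j7, j8, j9, j10] using r14),
    mul_inv_eq_one.mp (by simpa only [mul_inv_rev, mul_assoc, mul_one, one_mul, inv_one, pow_succ, pow_zero, j1, j2, j3, j4, j5, j6, j7, j8, j9, j10] using r15),
    mul_inv_eq_one.mp (by simpa only [mul_inv_rev, mul_assoc, mul_one, one_mul, inv_one, pow_succ, pow_zero, j1, j2, j3, j4, j5, j6, j7, j8, j9, j10] using r16),
    mul_inv_eq_one.mp (by simpa only [mul_inv_rev, mul_assoc, mul_one, one_mul, inv_one, pow_succ, pow_zero, j1, j2, j3, j4, j5, j6, j7, j8, j9, j10] using r17),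
    mul_inv_eq_one.mp (by simpa only [mul_inv_rev, mul_assoc, mul_one, one_mul, inv_one, pow_succ, pow_zero, j1, j2, j3, j4, j5, j6, j7, j8, j9, j10] using r18),
    mul_inv_eq_one.mp (by simpa only [mul_inv_rev, mul_assoc, mul_one, one_mul, inv_one, pow_succ, pow_zero, j1, j2, j3, j4, j5, j6, j7, j8, j9, j10] using r19),
    mul_inv_eq_one.mp (by simpa only [mul_inv_rev, mul_assoc, mul_one, one_mul, inv_one, pow_succ, pow_zero, j1, j2, j3, j4, j5, j6, j7, j8, j9, j10] using r20),
    mul_inv_eq_one.mp (by simpa only [mul_inv_rev, mul_assoc, mul_one, one_mul, inv_one, pow_succ, pow_zero, j1, j2, j3, j4, j5, j6, j7, j8, j9, j10] using r21)⟩,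
    ⟨mul_inv_eq_one.mp (by simpa only [mul_inv_rev, mul_assoc, mul_one, one_mul, inv_one, pow_succ, pow_zero, j1, j2, j3, j4, j5, j6, j7, j8, j9, j10] using r22),
    mul_inv_eq_one.mp (by simpa only [mul_inv_rev, mul_assoc, mul_one, one_mul, inv_one, pow_succ, pow_zero, j1, j2, j3, j4, j5, j6, j7, j8, j9, j10] using r23),
    mul_inv_eq_one.mp (by simpa only [mul_inv_rev, mul_assoc, mul_one, one_mul, inv_one, pow_succ, pow_zero, j1, j2, j3, j4, j5, j6, j7, j8, j9, j10] using r24)⟩,
    mul_inv_eq_one.mp (by simpa only [mul_inv_rev, mul_assoc, mul_one, one_mul, inv_one, pow_succ, pow_zero, j1, j2, j3, j4, j5, j6, j7, j8, j9, j10] using r25),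
    mul_inv_eq_one.mp (by simpa only [mul_inv_rev, mul_assoc, mul_one, one_mul, inv_one, pow_succ, pow_zero, j1, j2, j3, j4, j5, j6, j7, j8, j9, j10] using r26),
    mul_inv_eq_one.mp (by simpa only [mul_inv_rev, mul_assoc, mul_one, one_mul, inv_one, pow_succ, pow_zero, j1, j2, j3, j4, j5, j6, j7, j8, j9, j10] using r27),
    mul_inv_eq_one.mp (by simpa only [mul_inv_rev, mul_assoc, mul_one, one_mul, inv_one, pow_succ, pow_zero, j1, j2, j3, j4, j5, j6, j7, j8, j9, j10] using r28),
    mul_inv_eq_one.mp (by simpa only [mul_inv_rev, mul_assoc, mul_one, one_mul, inv_one, pow_succ, pow_zero, j1, j2, j3, j4, j5, j6, j7, j8, j9, j10] using r29),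
    mul_inv_eq_one.mp (by simpa only [mul_inv_rev, mul_assoc, mul_one, one_mul, inv_one, pow_succ, pow_zero, j1, j2, j3, j4, j5, j6, j7, j8, j9, j10] using r30),
    mul_inv_eq_one.mp (by simpa only [mul_inv_rev, mul_assoc, mul_one, one_mul, inv_one, pow_succ, pow_zero, j1, j2, j3, j4, j5, j6, j7, j8, j9, j10] using r31),
    mul_inv_eq_one.mp (by simpa only [mul_inv_rev, mul_assoc, mul_one, one_mul, inv_one, pow_succ, pow_zero, j1, j2, j3, j4, j5, j6, j7, j8, j9, j10] using r32),
    mul_inv_eq_one.mp (by simpa only [mul_inv_rev, mul_assoc, mul_one, one_mul, inv_one, pow_succ, pow_zero, j1, j2, j3, j4, j5, j6, j7, j8, j9, j10] using r33),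
    mul_inv_eq_one.mp (by simpa only [mul_inv_rev, mul_assoc, mul_one, one_mul, inv_one, pow_succ, pow_zero, j1, j2, j3, j4, j5, j6, j7, j8, j9, j10] using r34),
    mul_inv_eq_one.mp (by simpa only [mul_inv_rev, mul_assoc, mul_one, one_mul, inv_one, pow_succ, pow_zero, j1, j2, j3, j4, j5, j6, j7, j8, j9, j10] using r35),
    mul_inv_eq_one.mp (by simpa only [mul_inv_rev, mul_assoc, mul_one, one_mul, inv_one, pow_succ, pow_zero, j1, j2, j3, j4, j5, j6, j7, j8, j9, j10] using r36)⟩

theorem gen_top : gen (pgEv 10927685746723991943512320 R) [[1], [2], [3], [4], [5], [6], [7], [9]] = ⊤ := pg_gen (n := 11) (by norm_num) (by decide)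
namespace ub_0

noncomputable def get (y : ℕ) : ℕ := (sel (nat_lit 1) y (nat_lit 0x0) (nat_lit 0x1000004000003020000030000040100000200000402000004000002020000010000030100000300000101000000000002020000020000000200000000000101000001000000))
noncomputable def gs (y : ℕ) : ℕ := (sel (nat_lit 2) y (sel (nat_lit 1) y (nat_lit 0x0) (nat_lit 0x0)) (sel (nat_lit 3) y (nat_lit 0x0) (sel (nat_lit 4) y (nat_lit 0x0) (nat_lit 0x800000280000028000002800000280000028000002800000280000028000002800000280000028000002800000280000028000002800000280000028000002800000280000028000002800000280000028000002800000280000028000002800000100002040000200000020300002078000000800000080000008000000))))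
noncomputable def gd (y : ℕ) : ℕ := (nat_lit 0x2060000204000020200002000000000)
noncomputable def gwh (y : ℕ) : ℕ := (nat_lit 0x101010101000000005000)
def sg : List (List ℕ) := [[], [7], [8]]
def BL : List ℕ := [0x101010101]
def Sub : List (List ℕ) := []
theorem hA : prepA 10927685746723991943512320 PC.R sg 66048 BL Sub get gd = true := by decide +kernel
theorem hw : allR (okW BL gwh) 0 1 = true := by decide +kernel
theorem b0 : allR (blk get gs (gwB gwh 1) gd 66048) 4 1 = true := by decide +kernel
theorem hb : ∀ b, 4 ≤ b → b < 5 → blk get gs (gwB gwh 1) gd 66048 b = true :=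
  (allR_range b0 (by norm_num : 4 + 1 = 5))
noncomputable def gc (y : ℕ) : ℕ := (sel (nat_lit 1) y (nat_lit 0x2070000209000020300002040000200) (nat_lit 0x2080000205000020600002010000202))
def X : List (List ℕ) := [[7]]
theorem hC : prepC sg 66048 X 2 5 1 = true := by decide +kernel
theorem c0 : allR (clo get gc 5 576 1) 0 2 = true := by decide +kernel
theorem cover {G : Type*} [Group G] {ev : ℕ → G} (hev : Good ev 10927685746723991943512320) (hR : Rels ev PC.R) :
    Cover (gen ev Sub) (gen ev X) 5 :=
  cert_cover hev hR hA hC hw hb (by norm_num) (allR_range c0 (by norm_num : 0 + 2 = 2 * 1))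

end ub_0

namespace ub_1

noncomputable def get (y : ℕ) : ℕ := (sel (nat_lit 1) y (nat_lit 0x200000000000001000000000000) (nat_lit 0x100000b00000b0200000b00000b0300000a00000b0400000b00000a0400000900000b0300000b0000090100000900000a0200000a0000090300000900000a0400000a0000090200000800000a0100000a00000801000007000009020000090000070100000800000602000006000008030000080000070400000700000803000005000008040000080000050100000600000702000007000006040000050000070300000700000503000004000006040000060000040400000300000603000006000003010000050000040200000400000501000003000005020000050000030300000300000404000004000003020000020000040100000400000201000001000003020000030000010100000200000102000001000002030000020000010400000100000203000000000002040000020000000400000000000103000001000000))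
noncomputable def gs (y : ℕ) : ℕ := (sel (nat_lit 2) y (sel (nat_lit 1) y (nat_lit 0x0) (nat_lit 0x0)) (sel (nat_lit 3) y (nat_lit 0x0) (sel (nat_lit 4) y (nat_lit 0x0) (nat_lit 0x800000580000058000005800000580000058000005800000580000058000005800000200002280000227000022b800000100002280000225800000080000040000222000021f0000219000022180000030000222000021d00002218000000800000080000020000212000020f000021b80000010000216000021b80000008000002000021600002110000215800000080000010000212000020d80000008000004000020a00002070000209000020f80000008000003000020a0000205000020980000008000000800000200002000000100000020380000010000200000020380000008000000))))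
noncomputable def gd (y : ℕ) : ℕ := (nat_lit 0x22800002220000220000021a00002160000212000020e000020a0000208000020200002000000000)
noncomputable def gwh (y : ℕ) : ℕ := (sel (nat_lit 2) y (sel (nat_lit 1) y (nat_lit 0x30303000000003000) (nat_lit 0x3010301000001003001)) (sel (nat_lit 3) y (nat_lit 0x1030103000002002001) (nat_lit 0x101010101000000005002)))
def sg : List (List ℕ) := [[], [7], [8], [9], [10]]
def BL : List ℕ := [0x30303, 0x1030103, 0x101010101]
def Sub : List (List ℕ) := [[7]]
theorem hA : prepA 10927685746723991943512320 PC.R sg 12952076800 BL Sub get gd = true := by decide +kernel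
theorem hw : allR (okW BL gwh) 0 4 = true := by decide +kernel
theorem b0 : allR (blk get gs (gwB gwh 4) gd 12952076800) 4 1 = true := by decide +kernel
theorem hb : ∀ b, 4 ≤ b → b < 5 → blk get gs (gwB gwh 4) gd 12952076800 b = true :=
  (allR_range b0 (by norm_num : 4 + 1 = 5))
noncomputable def gc (y : ℕ) : ℕ := (sel (nat_lit 2) y (sel (nat_lit 1) y (nat_lit 0x22d0000227000022100002220000219000021f000020f00002110000209000020a00002070000100) (nat_lit 0x22c00002230000226000021e000022000002180000210000020b000020e000020600002080000101)) (sel (nat_lit 3) y (nat_lit 0x22b00002250000228000021b000021d00002150000216000020d0000212000020300002050000200) (nat_lit 0x229000022a0000224000021c00002170000213000021a0000214000020c000020400002010000202)))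
def X : List (List ℕ) := [[7], [9]]
theorem hC : prepC sg 12952076800 X 4 12 1 = true := by decide +kernel
theorem c0 : allR (clo get gc 12 576 1) 0 4 = true := by decide +kernel
theorem cover {G : Type*} [Group G] {ev : ℕ → G} (hev : Good ev 10927685746723991943512320) (hR : Rels ev PC.R) :
    Cover (gen ev Sub) (gen ev X) 12 :=
  cert_cover hev hR hA hC hw hb (by norm_num) (allR_range c0 (by norm_num : 0 + 4 = 4 * 1))

end ub_1

namespace ub_2

noncomputable def get (y : ℕ) : ℕ := (sel (nat_lit 1) y (nat_lit 0xa000000000000090000000000000800000000000007000000000000) (sel (nat_lit 2) y (nat_lit 0x400000800001c0400001c0000080300001600001c0300001c0000160600000f00001c0600001c00000f0500001000001c0500001c0000100100001300001c0100001c0000130900000e00001c0a00001c00000e0a00001900001c0900001c0000190800000800001c0700001c0000080700001600001c0800001c0000160200000500001c0200001c0000050400001b0000120400001200001b0300001b00000e0300000e00001b0200001800001b0200001b0000180600000a00001b0600001b00000a0500000b00001b0500001b00000b0900000c00001b0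a00001b00000c0a00001600001b0900001b0000160700001900001b0800001b0000190800000700001b0700001b0000070100000500001b0100001b0000050a00001000001a0900001a0000100700001500001a0800001a0000150400000600001a0400001a0000060300001300001a0300001a0000130200000e00001a0200001a00000e0100000900001a0100001a0000090600000400001a0600001a0000040300000c0000190300001900000c020000080000190200001900000801000012000019010000190000120a00000e0000190900001900000e0700001300001908000019000013050000040000190500001900000405000007000018050000180000070100001800000f0100000f000018060000130000180600001800001304000015000018040000180000150a00000d0000180900001800000d0700001200001808000018000012030000040000180300001800000405000017000011050000110000170300000a0000170300001700000a0600000e0000170600001700000e04000010000017040000170000100a00000f0000170900001700000f0700001100001708000017000011020000040000170200001700000402000016000014020000140000160500001600000d0500000d00001606000009000016060000160000090400000b0000160400001600000b0a00000c0000160900001600000c07000014000016080000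160000140100000400001601000016000004090000150000150a000015000015070000100000150800001500001003000006000015030000150000060200000d0000150200001500000d010000080000150100001500000806000003000015060000150000030100001400000e0100000e00001404000007000014040000140000070a00001300001409000014000013090000120000140a0000140000120700000e0000140800001400000e05000003000014050000140000030200001300000a0200000a0000130500000c0000130500001300000c0a000012000013090000130000120700000d0000130800001300000d040000030000130400001300000305000009000012050000120000090600000d0000120600001200000d03000010000012030000120000100700000c0000120800001200000c02000003000012020000120000030500000e0000080500000800000e0300000f0000090300000900000f0400000f0000110400001100000f06000008000011060000110000080300000b0000110300001100000b0a000011000011090000110000110700000f0000110800001100000f01000003000011010000110000030700000b0000100800001000000b0200000600001002000010000006010000070000100100001000000706000002000010060000100000020700000900000f0800000f0000090500000200000f0500000f000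0020700000800000e0800000e0000080400000200000e0400000e0000020400000a00000d0400000d00000a0700000700000d0800000d0000070300000200000d0300000d0000020600000700000c0600000c0000070200000b00000c0200000c00000b0700000a00000c0800000c00000a0100000200000c0100000c0000020900000b00000b0a00000b00000b0100000600000b0100000b0000060600000100000b0600000b0000010a00000900000a0900000a0000090900000700000a0a00000a0000070500000100000a0500000a0000010a0000070000090900000900000704000001000009040000090000010a0000080000080900000800000803000001000008030000080000010200000100000702000007000001090000060000060a000006000006070000060000060800000600000606000000000006060000060000000a00000400000509000005000004090000020000050a0000050000020800000100000507000005000001070000040000050800000500000405000000000005050000050000000a00000200000409000004000002070000030000040800000400000304000000000004040000040000000a0000030000030900000300000307000002000003080000030000020300000000000303000003000000070000010000020800000200000102000000000002020000020000000a000001000001090000010000010100000000000101000001000000)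 (nat_lit 0xa00001a00001f0900001f00001a0900001000001f0a00001f0000100800000b00001f0700001f00000b0700001a00001f0800001f00001a0500000600001f0500001f0000060400001900001f0400001f0000190300001400001f0300001f0000140200000f00001f0200001f00000f0100000a00001f0100001f00000a0600000500001f0600001f0000050600001900001e0600001e0000190500001a00001e0500001e00001a0300000700001e0300001e0000070200001100001e0200001e0000110100000d00001e0100001e00000d0900000f00001e0a00001e00000f0a00001700001e0900001e0000170800000a00001e0700001e00000a0700001800001e0800001e0000180400000500001e0400001e0000050400000c00001d0400001d00000c0600001400001d0600001d0000140500001500001d0500001d0000150200000900001d0200001d0000090100001700001d0100001d0000170900000d00001d0a00001d00000d0a00001800001d0900001d0000180800000900001d0700001d0000090700001700001d0800001d0000170300000500001d0300001d000005)))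
noncomputable def gs (y : ℕ) : ℕ := (sel (nat_lit 4) y (sel (nat_lit 2) y (sel (nat_lit 1) y (nat_lit 0x0) (nat_lit 0x0)) (sel (nat_lit 3) y (nat_lit 0x0) (nat_lit 0x0))) (sel (nat_lit 6) y (sel (nat_lit 5) y (nat_lit 0x800000f000023a0000204000021f0000237800000e000023a0000206000022f8000000800000c000023400002030000235800000d00002340000200000021f8000000800000a000022e0000202000022b8000009000022e0000203000022580000008000006000022a000020200002258000000800000400002260000202000022780000008000000800000c000021e0000103000021f800000b000021e0000101000021f8000000800000a00002140000102000020f80000090000214000010300002058000008000021400001000000201800000700002140000101000020f80000008000006000020e000010200002058000005000020e0000101000020980000008000004000020800001020000209800000300002080000101000020580000008000002000020400001010000201800000080000010000200000010200002018000000) (nat_lit 0x8000007000027c000020a00002498000000800001b0000247000026f00002680000273800001a000027200002080000205000023b80000060000272000020c000026980000050000272000020a00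0024380000008000019000026e0000242000024d000026580000180000268000020800002050000243800001700002680000208000021f000025580000020000268000020a000023b8000000800001600002610000262000024c00002498000015000024f0000263000025a8000011000025e000023f000023a000024d80000140000258000020800002010000227800001300002580000208000021f000023780000010000258000020c0000259800000e0000258000020a000024d8000000800000b000025000002060000235800001200002500000204000021f800000d0000250000023b000024080000008000007000024c0000206000022b8000000800000500002480000206000022780000008000011000024200002040000201000022f800000300002420000206000022580000008000010000023a000020400002010000225)) (sel (nat_lit 7) y (nat_lit 0x8000000800002a00002bb000024c0000251000025280000290000265000029d000029400002b1800002800002b0000020e00002090000273800002700002b0000020e000021f000028f800000400002b000002120000243800000300002b0000021000002698000000800001900002600000226000022f00002ad800002600002a20000295000029f0000246800002500002a2000020e00002050000249800002400002a2000020e000021f0000255800002300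002a20000212000024d800000200002a2000021000002598000000800002200002840000224000022b000029d8000021000026f0000270000029d80000200000294000020e0000201000022b800001f0000294000020e000021f0000237800000100002940000212000023b800000e00002940000210000027d8000000800000c0000288000020d0000289800000b0000288000020a0000251800001e00002880000208000021f800001200002880000269000026e800000d0000288000025900002608000000800001d000026700002610000258000027d800001c000027c000027300002780000240800000a000027c000020c00002738000009000027c000020d0000269) (sel (nat_lit 8) y (nat_lit 0x800003b00002ee00002fd00002f0800002600002ec00002d900002e2000029b800003a00002ec00002140000205000024d800003900002ec0000214000021f0000255800003800002ec00002d900002e600002b8800003700002ec000021a0000249800002300002ec000021c00002bf800003600002ec00002180000227800000200002ec0000216000029580000008000035000026e000028d00002b700002e7800003400002ab00002a200002b100002e7800003300002d80000214000020f00002b1800003200002d800002140000201000022f800002a00002d80000214000021f0000237800003100002d8000021a000023b800000100002d8000021c0000295800000e00002d8000021600002bf800003000002d8000021800002258000000800002f00002ca00002120000251800000b00002ca00002100000289800002e00002ca000020e000021f800001e00002ca00002b100002b8800001200002ca00002a300002aa800000d00002ca0000295000029c8000000800002d00002be00002b100002bc0000241800002c00002be00002a300002af0000260800002b00002be0000295000029f000026f800000a00002be00002120000249800000700002be00002100000273)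 (nat_lit 0x80000498000049800002f0000328000021c00002cb800000c0000328000021a00002518000048000032800002180000235800000b0000328000021600002cb800002100003280000214000021f800002e000032800003150000326800001e0000328000030100003108000012000032800002ed00002fa800000d000032800002d900002e48000000800004700003140000214000020f00002bf800004600003140000214000021f00002d3800004500003140000301000031200002408000022000031400002ed00002fe00002618000044000031400002d900002eb000026e80000430000314000021a000024d80000060000314000021c00002a3800004200003140000218000022f80000050000314000021600002b180000008000011000030000002ed00002f600002788000041000030000002140000209000027d800004000003000000214000021f000028f800003f000030000002ed00002fc000029c800003e000030000002d900002e900002ab800003d0000300000021a000024380000040000300000021c00002b1800003c00003000000218000022b80000030000300000021600002a38000000)))))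
noncomputable def gd (y : ℕ) : ℕ := (nat_lit 0x3280000314000030000002ec00002d800002ca00002be00002b000002a200002940000288000027c0000272000026800002580000250000024c00002480000242000023a0000234000022e000022a00002260000224000021e0000214000020e0000208000020400002000000000)
noncomputable def gwh_0 (y : ℕ) : ℕ := (sel (nat_lit 8) y (sel (nat_lit 4) y (sel (nat_lit 2) y (sel (nat_lit 1) y (nat_lit 0x109010a000003001000) (nat_lit 0x1080207000001003001)) (sel (nat_lit 3) y (nat_lit 0x2080307000001003002) (nat_lit 0x309030a000003001003))) (sel (nat_lit 6) y (sel (nat_lit 5) y (nat_lit 0x3080407000001003004) (nat_lit 0x209040a000003001005)) (sel (nat_lit 7) y (nat_lit 0x4080507000001003006) (nat_lit 0x1070508000003001007)))) (sel (nat_lit 12) y (sel (nat_lit 10) y (sel (nat_lit 9) y (nat_lit 0x20a0509000001003008) (nat_lit 0x409050a000003001009)) (sel (nat_lit 11) y (nat_lit 0x608060700000200200a) (nat_lit 0x60a060900000200200b))) (sel (nat_lit 14) y (sel (nat_lit 13) y (nat_lit 0x601060100000200200c) (nat_lit 0x5080107000001003007)) (sel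 (nat_lit 15) y (nat_lit 0x10602010200000300200d) (nat_lit 0x20102010600000000500d)))))
noncomputable def gwh_1 (y : ℕ) : ℕ := (sel (nat_lit 24) y (sel (nat_lit 20) y (sel (nat_lit 18) y (sel (nat_lit 17) y (nat_lit 0x50102030400000400100e) (nat_lit 0x602060200000200200f)) (sel (nat_lit 19) y (nat_lit 0x106030103000003002010) (nat_lit 0x301030106000000005010))) (sel (nat_lit 22) y (sel (nat_lit 21) y (nat_lit 0x8040703000002002004) (nat_lit 0x405040605000001004011)) (sel (nat_lit 23) y (nat_lit 0x206030203000003002012) (nat_lit 0x302030206000000005012)))) (sel (nat_lit 28) y (sel (nat_lit 26) y (sel (nat_lit 25) y (nat_lit 0x305030605000001004013) (nat_lit 0x10203040500000000500e)) (sel (nat_lit 27) y (nat_lit 0x402060402000002003014) (nat_lit 0x605040504000004001011))) (sel (nat_lit 30) y (sel (nat_lit 29) y (nat_lit 0x501060501000002003015) (nat_lit 0x6030603000002002016)) (sel (nat_lit 31) y (nat_lit 0x106040104000003002017) (nat_lit 0x401040106000000005017)))))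
noncomputable def gwh_2 (y : ℕ) : ℕ := (sel (nat_lit 40) y (sel (nat_lit 36) y (sel (nat_lit 34) y (sel (nat_lit 33) y (nat_lit 0x6050605000000004018) (nat_lit 0x604020402000004001014)) (sel (nat_lit 35) y (nat_lit 0x509020a000003001008) (nat_lit 0x206040204000003002014))) (sel (nat_lit 38) y (sel (nat_lit 37) y (nat_lit 0x402040206000000005014) (nat_lit 0x40501020300000300200e)) (sel (nat_lit 39) y (nat_lit 0x306040304000003002019) (nat_lit 0x403040306000000005019)))) (sel (nat_lit 44) y (sel (nat_lit 42) y (sel (nat_lit 41) y (nat_lit 0x301060301000002003010) (nat_lit 0x106050105000003002015)) (sel (nat_lit 43) y (nat_lit 0x605010501000004001015) (nat_lit 0x60502050200000400101a))) (sel (nat_lit 46) y (sel (nat_lit 45) y (nat_lit 0x605030503000004001013) (nat_lit 0x604060400000200201b)) (sel (nat_lit 47) y (nat_lit 0x609060a00000000400b) (nat_lit 0x2070108000003001001)))))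
noncomputable def gwh_3 (y : ℕ) : ℕ := (sel (nat_lit 56) y (sel (nat_lit 52) y (sel (nat_lit 50) y (sel (nat_lit 49) y (nat_lit 0x10a0109000001003000) (nat_lit 0x501050106000000005015)) (sel (nat_lit 51) y (nat_lit 0x30405010200000200300e) (nat_lit 0x203020603000001004012))) (sel (nat_lit 54) y (sel (nat_lit 53) y (nat_lit 0x204020604000001004014) (nat_lit 0x3070208000003001002)) (sel (nat_lit 55) y (nat_lit 0x40a0209000001003005) (nat_lit 0x60201020100000400100d)))) (sel (nat_lit 60) y (sel (nat_lit 58) y (sel (nat_lit 57) y (nat_lit 0x20605020500000300201a) (nat_lit 0x50205020600000000501a)) (sel (nat_lit 59) y (nat_lit 0x7030804000000004004) (nat_lit 0x4070308000003001004))) (sel (nat_lit 62) y (sel (nat_lit 61) y (nat_lit 0x30a0309000001003003) (nat_lit 0x603010301000004001010)) (sel (nat_lit 63) y (nat_lit 0x603020302000004001012) (nat_lit 0x306050305000003002013)))))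
noncomputable def gwh_4 (y : ℕ) : ℕ := (sel (nat_lit 68) y (sel (nat_lit 66) y (sel (nat_lit 65) y (nat_lit 0x503050306000000005013) (nat_lit 0x5070408000003001006)) (sel (nat_lit 67) y (nat_lit 0x50a0409000001003009) (nat_lit 0x604010401000004001017))) (sel (nat_lit 70) y (sel (nat_lit 69) y (nat_lit 0x604030403000004001019) (nat_lit 0x406050405000003002011)) (sel (nat_lit 71) y (nat_lit 0x504050406000000005011) (nat_lit 0x607060800000000400a))))
noncomputable def gwh (y : ℕ) : ℕ := (sel (nat_lit 32) y (sel (nat_lit 16) y (gwh_0 y) (gwh_1 y)) (sel (nat_lit 48) y (gwh_2 y) (sel (nat_lit 64) y (gwh_3 y) (gwh_4 y))))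
def sg : List (List ℕ) := [[], [1], [2], [3], [4], [5], [6], [7], [8], [9], [10]]
def BL : List ℕ := [0x9010a01, 0x7010802, 0x7020803, 0x9030a03, 0x7030804, 0x9040a02, 0x7040805, 0x7050801, 0x9020a05, 0x9050a04, 0x6070608, 0x609060a, 0x6010601, 0x201020106, 0x102030405, 0x6020602, 0x301030106, 0x504050406, 0x302030206, 0x503050306, 0x402040206, 0x501050106, 0x6030603, 0x401040106, 0x6050605, 0x403040306, 0x502050206, 0x6040604]
def Sub : List (List ℕ) := [[7], [9]]
theorem hA : prepA 10927685746723991943512320 PC.R sg 10927685746723991943512320 BL Sub get gd = true := by decide +kernel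
theorem hw : allR (okW BL gwh) 0 72 = true := by decide +kernel
theorem b0 : allR (blk get gs (gwB gwh 72) gd 10927685746723991943512320) 4 5 = true := by decide +kernel
theorem hb : ∀ b, 4 ≤ b → b < 9 → blk get gs (gwB gwh 72) gd 10927685746723991943512320 b = true :=
  (allR_range b0 (by norm_num : 4 + 5 = 9))
noncomputable def gc (y : ℕ) : ℕ := (sel (nat_lit 5) y (sel (nat_lit 2) y (sel (nat_lit 1) y (nat_lit 0x32b000031f000030b00002f700002d900002cd00002c500002ba000030a0000295000028b000028600002f600002c40000259000025300002bb0000287000031e000023b0000237000032a00002cc000028a0000252000023600002d800002940000258000023a00002010000200) (nat_lit 0x32d0000321000030d00002ed00002e700002cf00002c700002e600002a300002a0000028d00002a1000027a000026900003200000255000032c00002ce000028c000023f000023e000027b000030c00002c60000225000025400002ec00002a20000268000020500002240000204)) (sel (nat_lit 3) y (nat_lit 0x32f0000323000030100002fd00002e800002d100002c900002b100002ad00002fc000028f000032e00002d0000026d000025f000026c000026400002e9000024300002c8000025e00002ac000026500002270000322000028e000030000002b00000209000024200002260000208)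 (sel (nat_lit 4) y (nat_lit 0x3310000315000031300002ff00002ea00002d3000033000002b700002a9000029b00002b60000285000027300002eb000026300002a80000262000024900002470000312000029a0000246000022b00002fe000028400002d20000314000020f00002720000248000022a000020e) (nat_lit 0x3330000325000030f00002f900002e3000032400002bf00002bd00002ae000029e000030e000027d0000279000027100002af00002f8000024d0000266000029f000027800002e2000022f0000270000026700002bc0000332000021500002be000027c000024c000022e0000214)))) (sel (nat_lit 7) y (sel (nat_lit 6) y (nat_lit 0x3290000327000031100002fb00002e500002cb000032600002b900002ab000029d0000289000031000002b8000026f0000261000025100002fa00002aa000026e0000241000023500002e4000029c00002600000240000021f000032800002ca000028800002500000234000021e) (nat_lit 0x3350000317000030300002ef00002dd00002d500002c100002b300002a500002970000291000027f0000275000026b000025b0000257000024f000024b0000245000023d00003360000318000030400002f000002da000022100002170000211000020b000020700002180000100)) (sel (nat_lit 8) y (nat_lit 0x3370000319000030500002f100002db000033400002dc0000316000030200002ee00002d4000029600002c000002b200002a40000290000025a000027e0000274000026a0000256000023c000024e000024a00002440000220000021900002160000210000020a00002060000101)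 (sel (nat_lit 9) y (nat_lit 0x339000031d000030900002f500002e1000033a00002f20000306000031a00002de0000293000028100002820000276000025c00002d600002a600002c200002b400002980000239000023100002320000228000022c0000223000021b000021c000020c000021200002020000102) (nat_lit 0x33b000031b000030700002f300002df00002d700002c300002b500002a700002990000292000028300002770000280000025d0000338000031c00002f4000030800002e000002380000233000022d000022900002300000222000021d0000213000020d000021a00002030000103)))))
def X : List (List ℕ) := [[1], [2], [3], [4], [5], [6], [7], [9]]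
theorem hC : prepC sg 10927685746723991943512320 X 10 32 1 = true := by decide +kernel
theorem c0 : allR (clo get gc 32 832 1) 0 10 = true := by decide +kernel
theorem cover {G : Type*} [Group G] {ev : ℕ → G} (hev : Good ev 10927685746723991943512320) (hR : Rels ev PC.R) :
    Cover (gen ev Sub) (gen ev X) 32 :=
  cert_cover hev hR hA hC hw hb (by norm_num) (allR_range c0 (by norm_num : 0 + 10 = 10 * 1))

end ub_2

theorem ub {G : Type*} [Group G] {ev : ℕ → G} (hev : Good ev 10927685746723991943512320) (hR : Rels ev R) :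
    UB (gen ev [[1], [2], [3], [4], [5], [6], [7], [9]]) 1920 :=
  (((UB.bot.cover (ub_0.cover hev hR)).cover (ub_1.cover hev hR)).cover (ub_2.cover hev hR))

end PC

/-- Generators of the table groups. -/
def A0.r : A0 := ⟨16, by norm_num⟩
def A0.t : A0 := ⟨10, by norm_num⟩
def Q0.a (i : Fin 5) : Q0 := ![⟨1, by norm_num⟩, ⟨2, by norm_num⟩, ⟨4, by norm_num⟩, ⟨8, by norm_num⟩,
  ⟨15, by norm_num⟩] i
def Q0.z : Q0 := ⟨16, by norm_num⟩
def C0.a0 : C0 := mkC 1 0
def C0.a1 : C0 := mkC 2 0
def C0.a2 : C0 := mkC 4 0
def C0.a3 : C0 := mkC 8 0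
def C0.a4 : C0 := mkC 15 0
def C0.z : C0 := mkC 16 0
def C0.r : C0 := mkC 0 16
def C0.t : C0 := mkC 0 10

theorem A0.rel : PA.Rel A0.r A0.t := by constructor <;> decide +kernel
theorem Q0.rel : PQ.Rel (Q0.a 0) (Q0.a 1) (Q0.a 2) (Q0.a 3) (Q0.a 4) Q0.z := by
  constructor <;> decide +kernel
theorem C0.rel : PC.Rel C0.a0 C0.a1 C0.a2 C0.a3 C0.a4 C0.z C0.r C0.t := by
  constructor
  · constructor <;> decide +kernel
  · constructor <;> decide +kernel
  all_goals decide +kernel

theorem A0.eq_top (K : Subgroup A0) (hr : A0.r ∈ K) (ht : A0.t ∈ K) : K = ⊤ := by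
  have h : ∀ s : A0, ∃ i : TN 9 5, ∃ j : TN 9 3, ∃ k : TN 9 5, ∃ l : TN 9 3, ∃ m : TN 9 5,
      ∃ n : TN 9 3, s = A0.r ^ i.val * A0.t ^ j.val * A0.r ^ k.val * A0.t ^ l.val * A0.r ^ m.val *
        A0.t ^ n.val := by
    decide +kernel
  rw [eq_top_iff]
  intro s _
  obtain ⟨i, j, k, l, m, n, rfl⟩ := h s
  refine K.mul_mem (K.mul_mem (K.mul_mem (K.mul_mem (K.mul_mem ?_ ?_) ?_) ?_) ?_) ?_ <;>
    apply K.pow_mem <;> assumption

theorem Q0.eq_top (K : Subgroup Q0) (h : ∀ i, Q0.a i ∈ K) (hz : Q0.z ∈ K) : K = ⊤ := by
  have h' : ∀ s : Q0, ∃ i j k l m : TN 9 2,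
      s = Q0.a 0 ^ i.val * Q0.a 1 ^ j.val * Q0.a 2 ^ k.val * Q0.a 3 ^ l.val * Q0.z ^ m.val := by
    decide +kernel
  rw [eq_top_iff]
  intro s _
  obtain ⟨i, j, k, l, m, rfl⟩ := h' s
  refine K.mul_mem (K.mul_mem (K.mul_mem (K.mul_mem ?_ ?_) ?_) ?_) ?_ <;> apply K.pow_mem <;>
    first | exact h _ | exact hz

/-- The inclusion of the normal subgroup. -/
def C0.inl : Q0 →* C0 where
  toFun q := ⟨q, 1⟩
  map_one' := rfl
  map_mul' := by decide +kernel

/-- The inclusion of the complement. -/
def C0.inr : A0 →* C0 where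
  toFun s := ⟨1, s⟩
  map_one' := rfl
  map_mul' := by decide +kernel

theorem C0.eq_top (K : Subgroup C0) (h0 : C0.a0 ∈ K) (hr : C0.r ∈ K) (ht : C0.t ∈ K) : K = ⊤ := by
  have R := C0.rel
  have c : ∀ x, x ∈ K → C0.r * x * C0.r⁻¹ ∈ K := fun x hx =>
    K.mul_mem (K.mul_mem hr hx) (K.inv_mem hr)
  have h1 : C0.a1 ∈ K := R.r0 ▸ c _ h0
  have h2 : C0.a2 ∈ K := R.r1 ▸ c _ h1
  have h3 : C0.a3 ∈ K := R.r2 ▸ c _ h2
  have h4 : C0.a4 ∈ K := R.r3 ▸ c _ h3
  have hz : C0.z ∈ K := by
    have : C0.z = C0.a0 * C0.a1 * C0.a0 * C0.a1 := by decide +kernel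
    rw [this]; exact K.mul_mem (K.mul_mem (K.mul_mem h0 h1) h0) h1
  have hq := Q0.eq_top (K.comap C0.inl) (fun i => by fin_cases i <;> assumption) hz
  have hs := A0.eq_top (K.comap C0.inr) hr ht
  have e : ∀ c : C0, c = C0.inl c.q * C0.inr c.s := by decide +kernel
  rw [eq_top_iff]
  intro c _
  rw [e c]
  exact K.mul_mem (show c.q ∈ K.comap C0.inl from hq ▸ Subgroup.mem_top _)
    (show c.s ∈ K.comap C0.inr from hs ▸ Subgroup.mem_top _)

variable {G : Type*} [Group G]

theorem A0.exists_hom {r t : G} (H : PA.Rel r t) : ∃ φ : A0 →* G, φ A0.r = r ∧ φ A0.t = t := by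
  obtain ⟨φ, h⟩ := exists_hom_of_UB (PA.good A0.rel) (PA.rels A0.rel) (PA.good H) (PA.rels H)
    PA.gen_top (PA.ub (pg_good _ _) (pg_rels _ _))
    (A0.eq_top _ (letter_mem _ 1 rfl) (letter_mem _ 3 rfl)) TN.card_eq.ge
  exact ⟨φ, h 1, h 3⟩

theorem Q0.exists_hom {a0 a1 a2 a3 a4 z : G} (H : PQ.Rel a0 a1 a2 a3 a4 z) :
    ∃ φ : Q0 →* G, φ (Q0.a 0) = a0 ∧ φ (Q0.a 1) = a1 ∧ φ (Q0.a 2) = a2 ∧ φ (Q0.a 3) = a3 ∧
      φ (Q0.a 4) = a4 ∧ φ Q0.z = z := by
  obtain ⟨φ, h⟩ := exists_hom_of_UB (PQ.good Q0.rel) (PQ.rels Q0.rel) (PQ.good H) (PQ.rels H)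
    PQ.gen_top (PQ.ub (pg_good _ _) (pg_rels _ _))
    (Q0.eq_top _ (fun i => by
      fin_cases i
      exacts [letter_mem _ 1 rfl, letter_mem _ 2 rfl, letter_mem _ 3 rfl, letter_mem _ 4 rfl,
        letter_mem _ 5 rfl]) (letter_mem _ 6 rfl)) TN.card_eq.ge
  exact ⟨φ, h 1, h 2, h 3, h 4, h 5, h 6⟩

theorem C0.exists_hom {a0 a1 a2 a3 a4 z r t : G} (H : PC.Rel a0 a1 a2 a3 a4 z r t) :
    ∃ φ : C0 →* G, φ C0.a0 = a0 ∧ φ C0.z = z ∧ φ C0.r = r ∧ φ C0.t = t := by
  obtain ⟨φ, h⟩ := exists_hom_of_UB (PC.good C0.rel) (PC.rels C0.rel) (PC.good H) (PC.rels H)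
    PC.gen_top (PC.ub (pg_good _ _) (pg_rels _ _))
    (C0.eq_top _ (letter_mem _ 1 rfl) (letter_mem _ 7 rfl) (letter_mem _ 9 rfl)) card_C0.ge
  exact ⟨φ, h 1, h 6, h 7, h 9⟩

end Cfsg.H5
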