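import Cfsg.Agent.H5.Model2

/-!
Certificates for presentations, checked by evaluation.
-/

set_option autoImplicit false
set_option maxRecDepth 100000
set_option linter.unusedSimpArgs false
set_option linter.unusedVariables false

namespace Cfsg.H5

open Cfsg.H6

/-- The alternating group of degree four. -/
abbrev B0 : Type := TN 3 12

def bmT : ℕ := 0x102030405060708090a0b0607080100020403050b090a0403050706080001020a0b090305040002010a090b070608020001090a0b0305040608070a090b050304020001080706010200060807090b0a030405090b0a0201000806070503040806070b090a0102000405030708060405030b0a090100020504030a0b090708060002010b0a09080706050403020100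
def biT : ℕ := 0xb0705080a04090603010200
def bmN (x y : ℕ) : ℕ := byte bmT (Nat.add (Nat.mul x (nat_lit 12)) y)
theorem bmN_lt : ∀ x y : B0, bmN x.val y.val < 12 := by decide +kernel
theorem biN_lt : ∀ x : B0, byte biT x.val < 12 := by decide +kernel
def B0.mul (x y : B0) : B0 := ⟨bmN x.val y.val, bmN_lt x y⟩
def B0.inv (x : B0) : B0 := ⟨byte biT x.val, biN_lt x⟩
def B0.one : B0 := ⟨0, by norm_num⟩

instance instGroupB0 : Group B0 where
  mul := B0.mul
  one := B0.one
  inv := B0.inv
  mul_assoc := by decide +kernel
  one_mul := by decide +kernel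
  mul_one := by decide +kernel
  inv_mul_cancel := by decide +kernel

def B0.v : B0 := ⟨3, by norm_num⟩
def B0.x : B0 := ⟨10, by norm_num⟩
def A0.w : A0 := ⟨3, by norm_num⟩
def A0.u : A0 := ⟨27, by norm_num⟩

namespace PB

structure Rel {G : Type*} [Group G] (v x : G) : Prop where
  vv : v * v = 1
  x3 : x ^ 3 = 1
  xv : (x * v) ^ 3 = 1

def R : List (List ℕ) := [[1, 1], [2, 2, 2], [2, 1, 2, 1, 2, 1]]

def ev {G : Type*} [Group G] (v x : G) (l : ℕ) : G := [1, v, x, x⁻¹].getD l 1

theorem good {G : Type*} [Group G] {v x : G} (H : Rel v x) : Good (ev v x) 33751296 := by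
  have i_v : v⁻¹ = v := inv_eq_of_mul_eq_one_right H.vv
  refine good_list (n := 4) rfl (by norm_num) rfl fun l hl => ?_
  interval_cases l
  · exact inv_one.symm
  · exact i_v.symm
  · rfl
  · exact (inv_inv _).symm

theorem rels {G : Type*} [Group G] {v x : G} (H : Rel v x) : Rels (ev v x) R := by
  have i_v : v⁻¹ = v := inv_eq_of_mul_eq_one_right H.vv
  unfold R
  refine Rels.cons ?_ ?_
  · show v * (v * 1) = 1
    simpa only [mul_inv_rev, inv_inv, mul_assoc, mul_one, one_mul, inv_one, pow_succ, pow_zero, i_v] using mul_inv_eq_one.mpr H.vv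
  refine Rels.cons ?_ ?_
  · show x * (x * (x * 1)) = 1
    simpa only [mul_inv_rev, inv_inv, mul_assoc, mul_one, one_mul, inv_one, pow_succ, pow_zero, i_v] using mul_inv_eq_one.mpr H.x3
  refine Rels.cons ?_ ?_
  · show x * (v * (x * (v * (x * (v * 1))))) = 1
    simpa only [mul_inv_rev, inv_inv, mul_assoc, mul_one, one_mul, inv_one, pow_succ, pow_zero, i_v] using mul_inv_eq_one.mpr H.xv
  intro r hr
  exact absurd hr List.not_mem_nil

/-- The relations hold for the letters of any assignment satisfying the relators. -/
theorem rel_of {G : Type*} [Group G] {e : ℕ → G} (hg : Good e 33751296) (hR : Rels e R) :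
    Rel (e 1) (e 2) := by
  have j1 : (e 1)⁻¹ = e 1 := (hg.inv 1).symm
  have j2 : (e 2)⁻¹ = e 3 := (hg.inv 2).symm
  have j3 : (e 3)⁻¹ = e 2 := (hg.inv 3).symm
  have r0 : e 1 * (e 1 * 1) = 1 := hR [1, 1] (List.mem_of_elem_eq_true (by decide))
  have r1 : e 2 * (e 2 * (e 2 * 1)) = 1 := hR [2, 2, 2] (List.mem_of_elem_eq_true (by decide))
  have r2 : e 2 * (e 1 * (e 2 * (e 1 * (e 2 * (e 1 * 1))))) = 1 := hR [2, 1, 2, 1, 2, 1] (List.mem_of_elem_eq_true (by decide))
  exact ⟨mul_inv_eq_one.mp (by simpa only [mul_inv_rev, mul_assoc, mul_one, one_mul, inv_one, pow_succ, pow_zero, j1, j2, j3] using r0),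
    mul_inv_eq_one.mp (by simpa only [mul_inv_rev, mul_assoc, mul_one, one_mul, inv_one, pow_succ, pow_zero, j1, j2, j3] using r1),
    mul_inv_eq_one.mp (by simpa only [mul_inv_rev, mul_assoc, mul_one, one_mul, inv_one, pow_succ, pow_zero, j1, j2, j3] using r2)⟩

theorem gen_top : gen (pgEv 33751296 R) [[1], [2]] = ⊤ := pg_gen (n := 4) (by norm_num) (by decide)
namespace ub_0

noncomputable def get (y : ℕ) : ℕ := (sel (nat_lit 1) y (nat_lit 0x0) (nat_lit 0x100000a00000b0100000b00000a0200000800000b0300000b0000080300000700000b0200000b0000070200000a0000090300000900000a0200000600000a0300000a0000060200000900000603000006000009010000050000090100000900000502000007000008030000080000070100000400000801000008000004010000030000070100000700000301000002000006010000060000020200000500000403000004000005020000010000050300000500000103000001000004020000040000010200000300000203000002000003020000000000030300000300000003000000000002020000020000000100000000000101000001000000))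
noncomputable def gs (y : ℕ) : ℕ := (sel (nat_lit 2) y (sel (nat_lit 1) y (nat_lit 0x0) (nat_lit 0x0)) (sel (nat_lit 3) y (nat_lit 0x0) (sel (nat_lit 4) y (nat_lit 0x0) (nat_lit 0x800000480000048000004800000480000048000004800000480000048000004800000480000048000004800000480000048000003000021e00002100000207000020f000021b8000001000021e0000215800000080000010000219000021b80000008000002000020e00002020000201000020b0000217800000080000020000212000020800002000000205000021180000008000000800000080000010000208000020b80000008000000800000100002020000205800000080000008000000))))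
noncomputable def gd (y : ℕ) : ℕ := (nat_lit 0x21e000021a000021600002120000210000020e000020a00002080000204000020200002000000000)
noncomputable def gwh (y : ℕ) : ℕ := (sel (nat_lit 1) y (nat_lit 0x20202000000003000) (sel (nat_lit 2) y (nat_lit 0x10201020102000003003001) (nat_lit 0x20102010201000002004001)))
def sg : List (List ℕ) := [[], [1], [2], [3]]
def BL : List ℕ := [0x20202, 0x20102010201]
def Sub : List (List ℕ) := []
theorem hA : prepA 33751296 PB.R sg 33751296 BL Sub get gd = true := by decide +kernel
theorem hw : allR (okW BL gwh) 0 3 = true := by decide +kernel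
theorem b0 : allR (blk get gs (gwB gwh 3) gd 33751296) 4 1 = true := by decide +kernel
theorem hb : ∀ b, 4 ≤ b → b < 5 → blk get gs (gwB gwh 3) gd 33751296 b = true :=
  (allR_range b0 (by norm_num : 4 + 1 = 5))
noncomputable def gc (y : ℕ) : ℕ := (sel (nat_lit 1) y (nat_lit 0x2230000222000021700002130000211000020f000021600002120000210000020e00002010000200) (sel (nat_lit 2) y (nat_lit 0x221000021b000021d0000215000021e0000219000020b000020d0000205000020700002080000202) (nat_lit 0x21f000021c000021800002200000214000021a000020c000020900002060000203000020a0000204)))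
def X : List (List ℕ) := [[1], [2]]
theorem hC : prepC sg 33751296 X 3 12 1 = true := by decide +kernel
theorem c0 : allR (clo get gc 12 576 1) 0 3 = true := by decide +kernel
theorem cover {G : Type*} [Group G] {ev : ℕ → G} (hev : Good ev 33751296) (hR : Rels ev PB.R) :
    Cover (gen ev Sub) (gen ev X) 12 :=
  cert_cover hev hR hA hC hw hb (by norm_num) (allR_range c0 (by norm_num : 0 + 3 = 3 * 1))

end ub_0

theorem ub {G : Type*} [Group G] {ev : ℕ → G} (hev : Good ev 33751296) (hR : Rels ev R) :
    UB (gen ev [[1], [2]]) 12 :=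
  (UB.bot.cover (ub_0.cover hev hR))

end PB

namespace P5

structure Rel {G : Type*} [Group G] (v x u : G) : Prop where
  hB : PB.Rel v x
  uu : u * u = 1
  ux : u * x * u = x⁻¹
  uv : (u * v) ^ 3 = 1

def R : List (List ℕ) := [[1, 1], [2, 2, 2], [2, 1, 2, 1, 2, 1], [4, 4], [4, 2, 4, 2], [4, 1, 4, 1, 4, 1]]

def ev {G : Type*} [Group G] (v x u : G) (l : ℕ) : G := [1, v, x, x⁻¹, u].getD l 1

theorem good {G : Type*} [Group G] {v x u : G} (H : Rel v x u) : Good (ev v x u) 17213620480 := by
  have i_v : v⁻¹ = v := inv_eq_of_mul_eq_one_right H.hB.vv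
  have i_u : u⁻¹ = u := inv_eq_of_mul_eq_one_right H.uu
  refine good_list (n := 5) rfl (by norm_num) rfl fun l hl => ?_
  interval_cases l
  · exact inv_one.symm
  · exact i_v.symm
  · rfl
  · exact (inv_inv _).symm
  · exact i_u.symm

theorem rels {G : Type*} [Group G] {v x u : G} (H : Rel v x u) : Rels (ev v x u) R := by
  have i_v : v⁻¹ = v := inv_eq_of_mul_eq_one_right H.hB.vv
  have i_u : u⁻¹ = u := inv_eq_of_mul_eq_one_right H.uu
  unfold R
  refine Rels.cons ?_ ?_
  · show v * (v * 1) = 1
    simpa only [mul_inv_rev, inv_inv, mul_assoc, mul_one, one_mul, inv_one, pow_succ, pow_zero, i_v, i_u] using mul_inv_eq_one.mpr H.hB.vv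
  refine Rels.cons ?_ ?_
  · show x * (x * (x * 1)) = 1
    simpa only [mul_inv_rev, inv_inv, mul_assoc, mul_one, one_mul, inv_one, pow_succ, pow_zero, i_v, i_u] using mul_inv_eq_one.mpr H.hB.x3
  refine Rels.cons ?_ ?_
  · show x * (v * (x * (v * (x * (v * 1))))) = 1
    simpa only [mul_inv_rev, inv_inv, mul_assoc, mul_one, one_mul, inv_one, pow_succ, pow_zero, i_v, i_u] using mul_inv_eq_one.mpr H.hB.xv
  refine Rels.cons ?_ ?_
  · show u * (u * 1) = 1
    simpa only [mul_inv_rev, inv_inv, mul_assoc, mul_one, one_mul, inv_one, pow_succ, pow_zero, i_v, i_u] using mul_inv_eq_one.mpr H.uu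
  refine Rels.cons ?_ ?_
  · show u * (x * (u * (x * 1))) = 1
    simpa only [mul_inv_rev, inv_inv, mul_assoc, mul_one, one_mul, inv_one, pow_succ, pow_zero, i_v, i_u] using mul_inv_eq_one.mpr H.ux
  refine Rels.cons ?_ ?_
  · show u * (v * (u * (v * (u * (v * 1))))) = 1
    simpa only [mul_inv_rev, inv_inv, mul_assoc, mul_one, one_mul, inv_one, pow_succ, pow_zero, i_v, i_u] using mul_inv_eq_one.mpr H.uv
  intro r hr
  exact absurd hr List.not_mem_nil

/-- The relations hold for the letters of any assignment satisfying the relators. -/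
theorem rel_of {G : Type*} [Group G] {e : ℕ → G} (hg : Good e 17213620480) (hR : Rels e R) :
    Rel (e 1) (e 2) (e 4) := by
  have j1 : (e 1)⁻¹ = e 1 := (hg.inv 1).symm
  have j2 : (e 2)⁻¹ = e 3 := (hg.inv 2).symm
  have j3 : (e 3)⁻¹ = e 2 := (hg.inv 3).symm
  have j4 : (e 4)⁻¹ = e 4 := (hg.inv 4).symm
  have r0 : e 1 * (e 1 * 1) = 1 := hR [1, 1] (List.mem_of_elem_eq_true (by decide))
  have r1 : e 2 * (e 2 * (e 2 * 1)) = 1 := hR [2, 2, 2] (List.mem_of_elem_eq_true (by decide))
  have r2 : e 2 * (e 1 * (e 2 * (e 1 * (e 2 * (e 1 * 1))))) = 1 := hR [2, 1, 2, 1, 2, 1] (List.mem_of_elem_eq_true (by decide))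
  have r3 : e 4 * (e 4 * 1) = 1 := hR [4, 4] (List.mem_of_elem_eq_true (by decide))
  have r4 : e 4 * (e 2 * (e 4 * (e 2 * 1))) = 1 := hR [4, 2, 4, 2] (List.mem_of_elem_eq_true (by decide))
  have r5 : e 4 * (e 1 * (e 4 * (e 1 * (e 4 * (e 1 * 1))))) = 1 := hR [4, 1, 4, 1, 4, 1] (List.mem_of_elem_eq_true (by decide))
  exact ⟨⟨mul_inv_eq_one.mp (by simpa only [mul_inv_rev, mul_assoc, mul_one, one_mul, inv_one, pow_succ, pow_zero, j1, j2, j3, j4] using r0),
    mul_inv_eq_one.mp (by simpa only [mul_inv_rev, mul_assoc, mul_one, one_mul, inv_one, pow_succ, pow_zero, j1, j2, j3, j4] using r1),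
    mul_inv_eq_one.mp (by simpa only [mul_inv_rev, mul_assoc, mul_one, one_mul, inv_one, pow_succ, pow_zero, j1, j2, j3, j4] using r2)⟩,
    mul_inv_eq_one.mp (by simpa only [mul_inv_rev, mul_assoc, mul_one, one_mul, inv_one, pow_succ, pow_zero, j1, j2, j3, j4] using r3),
    mul_inv_eq_one.mp (by simpa only [mul_inv_rev, mul_assoc, mul_one, one_mul, inv_one, pow_succ, pow_zero, j1, j2, j3, j4] using r4),
    mul_inv_eq_one.mp (by simpa only [mul_inv_rev, mul_assoc, mul_one, one_mul, inv_one, pow_succ, pow_zero, j1, j2, j3, j4] using r5)⟩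

theorem gen_top : gen (pgEv 17213620480 R) [[1], [2], [4]] = ⊤ := pg_gen (n := 5) (by norm_num) (by decide)
namespace ub_0

noncomputable def get (y : ℕ) : ℕ := (sel (nat_lit 1) y (nat_lit 0x0) (nat_lit 0x100000a00000b0100000b00000a0200000800000b0300000b0000080300000700000b0200000b0000070200000a0000090300000900000a0200000600000a0300000a0000060200000900000603000006000009010000050000090100000900000502000007000008030000080000070100000400000801000008000004010000030000070100000700000301000002000006010000060000020200000500000403000004000005020000010000050300000500000103000001000004020000040000010200000300000203000002000003020000000000030300000300000003000000000002020000020000000100000000000101000001000000))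
noncomputable def gs (y : ℕ) : ℕ := (sel (nat_lit 2) y (sel (nat_lit 1) y (nat_lit 0x0) (nat_lit 0x0)) (sel (nat_lit 3) y (nat_lit 0x0) (sel (nat_lit 4) y (nat_lit 0x0) (nat_lit 0x800000480000048000004800000480000048000004800000480000048000004800000480000048000004800000480000048000003000021e00002100000207000020f000021b8000001000021e0000215800000080000010000219000021b80000008000002000020e00002020000201000020b0000217800000080000020000212000020800002000000205000021180000008000000800000080000010000208000020b80000008000000800000100002020000205800000080000008000000))))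
noncomputable def gd (y : ℕ) : ℕ := (nat_lit 0x21e000021a000021600002120000210000020e000020a00002080000204000020200002000000000)
noncomputable def gwh (y : ℕ) : ℕ := (sel (nat_lit 1) y (nat_lit 0x20202000000003000) (sel (nat_lit 2) y (nat_lit 0x10201020102000003003001) (nat_lit 0x20102010201000002004001)))
def sg : List (List ℕ) := [[], [1], [2], [3]]
def BL : List ℕ := [0x20202, 0x20102010201]
def Sub : List (List ℕ) := []
theorem hA : prepA 17213620480 P5.R sg 33751296 BL Sub get gd = true := by decide +kernel
theorem hw : allR (okW BL gwh) 0 3 = true := by decide +kernel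
theorem b0 : allR (blk get gs (gwB gwh 3) gd 33751296) 4 1 = true := by decide +kernel
theorem hb : ∀ b, 4 ≤ b → b < 5 → blk get gs (gwB gwh 3) gd 33751296 b = true :=
  (allR_range b0 (by norm_num : 4 + 1 = 5))
noncomputable def gc (y : ℕ) : ℕ := (sel (nat_lit 1) y (nat_lit 0x2230000222000021700002130000211000020f000021600002120000210000020e00002010000200) (sel (nat_lit 2) y (nat_lit 0x221000021b000021d0000215000021e0000219000020b000020d0000205000020700002080000202) (nat_lit 0x21f000021c000021800002200000214000021a000020c000020900002060000203000020a0000204)))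
def X : List (List ℕ) := [[1], [2]]
theorem hC : prepC sg 33751296 X 3 12 1 = true := by decide +kernel
theorem c0 : allR (clo get gc 12 576 1) 0 3 = true := by decide +kernel
theorem cover {G : Type*} [Group G] {ev : ℕ → G} (hev : Good ev 17213620480) (hR : Rels ev P5.R) :
    Cover (gen ev Sub) (gen ev X) 12 :=
  cert_cover hev hR hA hC hw hb (by norm_num) (allR_range c0 (by norm_num : 0 + 3 = 3 * 1))

end ub_0

namespace ub_1

noncomputable def get (y : ℕ) : ℕ := (sel (nat_lit 1) y (nat_lit 0x3000000000000020000000000000100000000000001000000000000) (nat_lit 0x10000040000030100000300000404000004000003040000030000040200000400000303000003000004020000020000040300000400000203000002000003020000030000020400000200000204000002000002010000010000020100000200000102000001000001030000010000010400000000000104000001000000))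
noncomputable def gs (y : ℕ) : ℕ := (sel (nat_lit 2) y (sel (nat_lit 1) y (nat_lit 0x0) (nat_lit 0x0)) (sel (nat_lit 3) y (nat_lit 0x0) (sel (nat_lit 4) y (nat_lit 0x0) (nat_lit 0x8000006800000680000068000006800000680000068000006800000680000068000006800000680000068000006800000680000068000006800000680000068000006800000680000068000006800000680000050000208000020400002030000205000020b800000400002080000207000020b80000030000208000020b80000008000000800000200002040000200000010000002010000205800000080000010000200000010200002018000000))))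
noncomputable def gd (y : ℕ) : ℕ := (nat_lit 0x20a0000208000020400002000000000)
noncomputable def gwh (y : ℕ) : ℕ := (sel (nat_lit 2) y (sel (nat_lit 1) y (nat_lit 0x4020402000002002000) (nat_lit 0x10401040104000003003001)) (sel (nat_lit 3) y (nat_lit 0x20202000000003002) (sel (nat_lit 4) y (nat_lit 0x2040204000001003000) (nat_lit 0x20102010201000000006003))))
def sg : List (List ℕ) := [[], [1], [2], [3], [4]]
def BL : List ℕ := [0x4020402, 0x40104010401, 0x20202, 0x20102010201]
def Sub : List (List ℕ) := [[1], [2]]
theorem hA : prepA 17213620480 P5.R sg 17213620480 BL Sub get gd = true := by decide +kernel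
theorem hw : allR (okW BL gwh) 0 5 = true := by decide +kernel
theorem b0 : allR (blk get gs (gwB gwh 5) gd 17213620480) 4 1 = true := by decide +kernel
theorem hb : ∀ b, 4 ≤ b → b < 5 → blk get gs (gwB gwh 5) gd 17213620480 b = true :=
  (allR_range b0 (by norm_num : 4 + 1 = 5))
noncomputable def gc (y : ℕ) : ℕ := (sel (nat_lit 2) y (sel (nat_lit 1) y (nat_lit 0x2100000211000020500002040000101) (nat_lit 0x20b000020d000020800002030000102)) (sel (nat_lit 3) y (nat_lit 0x20c0000209000020a00002020000103) (nat_lit 0x20e000020f000020700002010000200)))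
def X : List (List ℕ) := [[1], [2], [4]]
theorem hC : prepC sg 17213620480 X 4 5 1 = true := by decide +kernel
theorem c0 : allR (clo get gc 5 576 1) 0 4 = true := by decide +kernel
theorem cover {G : Type*} [Group G] {ev : ℕ → G} (hev : Good ev 17213620480) (hR : Rels ev P5.R) :
    Cover (gen ev Sub) (gen ev X) 5 :=
  cert_cover hev hR hA hC hw hb (by norm_num) (allR_range c0 (by norm_num : 0 + 4 = 4 * 1))

end ub_1

theorem ub {G : Type*} [Group G] {ev : ℕ → G} (hev : Good ev 17213620480) (hR : Rels ev R) :
    UB (gen ev [[1], [2], [4]]) 60 :=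
  ((UB.bot.cover (ub_0.cover hev hR)).cover (ub_1.cover hev hR))

end P5

namespace PU00

structure Rel {G : Type*} [Group G] (v x u : G) : Prop where
  hB : PB.Rel v x
  uu : u * u = 1
  ux : u * x * u = x⁻¹
  uvu : u * v * u = (1) * (u * x ^ 0) * (1)

def R : List (List ℕ) := [[1, 1], [2, 2, 2], [2, 1, 2, 1, 2, 1], [4, 4], [4, 2, 4, 2], [4, 1, 4, 4]]

def ev {G : Type*} [Group G] (v x u : G) (l : ℕ) : G := [1, v, x, x⁻¹, u].getD l 1

theorem good {G : Type*} [Group G] {v x u : G} (H : Rel v x u) : Good (ev v x u) 17213620480 := by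
  have i_v : v⁻¹ = v := inv_eq_of_mul_eq_one_right H.hB.vv
  have i_u : u⁻¹ = u := inv_eq_of_mul_eq_one_right H.uu
  refine good_list (n := 5) rfl (by norm_num) rfl fun l hl => ?_
  interval_cases l
  · exact inv_one.symm
  · exact i_v.symm
  · rfl
  · exact (inv_inv _).symm
  · exact i_u.symm

theorem rels {G : Type*} [Group G] {v x u : G} (H : Rel v x u) : Rels (ev v x u) R := by
  have i_v : v⁻¹ = v := inv_eq_of_mul_eq_one_right H.hB.vv
  have i_u : u⁻¹ = u := inv_eq_of_mul_eq_one_right H.uu
  unfold R
  refine Rels.cons ?_ ?_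
  · show v * (v * 1) = 1
    simpa only [mul_inv_rev, inv_inv, mul_assoc, mul_one, one_mul, inv_one, pow_succ, pow_zero, i_v, i_u] using mul_inv_eq_one.mpr H.hB.vv
  refine Rels.cons ?_ ?_
  · show x * (x * (x * 1)) = 1
    simpa only [mul_inv_rev, inv_inv, mul_assoc, mul_one, one_mul, inv_one, pow_succ, pow_zero, i_v, i_u] using mul_inv_eq_one.mpr H.hB.x3
  refine Rels.cons ?_ ?_
  · show x * (v * (x * (v * (x * (v * 1))))) = 1
    simpa only [mul_inv_rev, inv_inv, mul_assoc, mul_one, one_mul, inv_one, pow_succ, pow_zero, i_v, i_u] using mul_inv_eq_one.mpr H.hB.xv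
  refine Rels.cons ?_ ?_
  · show u * (u * 1) = 1
    simpa only [mul_inv_rev, inv_inv, mul_assoc, mul_one, one_mul, inv_one, pow_succ, pow_zero, i_v, i_u] using mul_inv_eq_one.mpr H.uu
  refine Rels.cons ?_ ?_
  · show u * (x * (u * (x * 1))) = 1
    simpa only [mul_inv_rev, inv_inv, mul_assoc, mul_one, one_mul, inv_one, pow_succ, pow_zero, i_v, i_u] using mul_inv_eq_one.mpr H.ux
  refine Rels.cons ?_ ?_
  · show u * (v * (u * (u * 1))) = 1
    simpa only [mul_inv_rev, inv_inv, mul_assoc, mul_one, one_mul, inv_one, pow_succ, pow_zero, i_v, i_u] using mul_inv_eq_one.mpr H.uvu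
  intro r hr
  exact absurd hr List.not_mem_nil

/-- The relations hold for the letters of any assignment satisfying the relators. -/
theorem rel_of {G : Type*} [Group G] {e : ℕ → G} (hg : Good e 17213620480) (hR : Rels e R) :
    Rel (e 1) (e 2) (e 4) := by
  have j1 : (e 1)⁻¹ = e 1 := (hg.inv 1).symm
  have j2 : (e 2)⁻¹ = e 3 := (hg.inv 2).symm
  have j3 : (e 3)⁻¹ = e 2 := (hg.inv 3).symm
  have j4 : (e 4)⁻¹ = e 4 := (hg.inv 4).symm
  have r0 : e 1 * (e 1 * 1) = 1 := hR [1, 1] (List.mem_of_elem_eq_true (by decide))
  have r1 : e 2 * (e 2 * (e 2 * 1)) = 1 := hR [2, 2, 2] (List.mem_of_elem_eq_true (by decide))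
  have r2 : e 2 * (e 1 * (e 2 * (e 1 * (e 2 * (e 1 * 1))))) = 1 := hR [2, 1, 2, 1, 2, 1] (List.mem_of_elem_eq_true (by decide))
  have r3 : e 4 * (e 4 * 1) = 1 := hR [4, 4] (List.mem_of_elem_eq_true (by decide))
  have r4 : e 4 * (e 2 * (e 4 * (e 2 * 1))) = 1 := hR [4, 2, 4, 2] (List.mem_of_elem_eq_true (by decide))
  have r5 : e 4 * (e 1 * (e 4 * (e 4 * 1))) = 1 := hR [4, 1, 4, 4] (List.mem_of_elem_eq_true (by decide))
  exact ⟨⟨mul_inv_eq_one.mp (by simpa only [mul_inv_rev, mul_assoc, mul_one, one_mul, inv_one, pow_succ, pow_zero, j1, j2, j3, j4] using r0),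
    mul_inv_eq_one.mp (by simpa only [mul_inv_rev, mul_assoc, mul_one, one_mul, inv_one, pow_succ, pow_zero, j1, j2, j3, j4] using r1),
    mul_inv_eq_one.mp (by simpa only [mul_inv_rev, mul_assoc, mul_one, one_mul, inv_one, pow_succ, pow_zero, j1, j2, j3, j4] using r2)⟩,
    mul_inv_eq_one.mp (by simpa only [mul_inv_rev, mul_assoc, mul_one, one_mul, inv_one, pow_succ, pow_zero, j1, j2, j3, j4] using r3),
    mul_inv_eq_one.mp (by simpa only [mul_inv_rev, mul_assoc, mul_one, one_mul, inv_one, pow_succ, pow_zero, j1, j2, j3, j4] using r4),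
    mul_inv_eq_one.mp (by simpa only [mul_inv_rev, mul_assoc, mul_one, one_mul, inv_one, pow_succ, pow_zero, j1, j2, j3, j4] using r5)⟩

theorem gen_top : gen (pgEv 17213620480 R) [[1], [2], [4]] = ⊤ := pg_gen (n := 5) (by norm_num) (by decide)
namespace c

noncomputable def get (y : ℕ) : ℕ := (sel (nat_lit 1) y (nat_lit 0x0) (nat_lit 0x6000000000000050000000000000100000000000001000000000000000000010000000000000000000100000002000001000000010000020100000200000201000002000002040000020000020400000200000202000001000002030000020000010000000300000100000001000003000000040000000000000000000401000004000003010000030000040400000300000404000004000003030000010000040200000400000102000003000002030000020000030200000000000303000003000000030000000000020200000200000004000000000001040000010000000100000000000101000001000000))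
noncomputable def gs (y : ℕ) : ℕ := (sel (nat_lit 2) y (sel (nat_lit 1) y (nat_lit 0x0) (nat_lit 0x0)) (sel (nat_lit 3) y (nat_lit 0x0) (sel (nat_lit 4) y (nat_lit 0x0) (nat_lit 0x800000a800000a800000a800000a800000a800000a800000a800000a800000a800000a800000a800000a800000a800000a800000a8000009000021f80000080000201000021d80000060000201000021a0000218000021b8000005000021500002190000204000020100002150000219800000400002178000003000020400002030000215800000700002080000213800000600002000000210000020f80000050000207000020e000020a00002000000207000020e8000004000020d8000003000020a00002020000207800000080000020000204000020780000008000000800000100002008000000))))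
noncomputable def gd (y : ℕ) : ℕ := (nat_lit 0x20a0000206000020400002000000000)
noncomputable def gwh (y : ℕ) : ℕ := (sel (nat_lit 4) y (sel (nat_lit 2) y (sel (nat_lit 1) y (nat_lit 0x104000001001000) (nat_lit 0x20202000000003001)) (sel (nat_lit 3) y (nat_lit 0x2040204000003001002) (nat_lit 0x401000000002000))) (sel (nat_lit 6) y (sel (nat_lit 5) y (nat_lit 0x1020102010200001001005003) (nat_lit 0x1000100001000003004)) (sel (nat_lit 7) y (nat_lit 0x302000000002005) (sel (nat_lit 8) y (nat_lit 0x101000000002006) (nat_lit 0x106000000002007)))))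
def sg : List (List ℕ) := [[], [1], [2], [3], [4], [1], [1]]
def BL : List ℕ := [0x401, 0x20202, 0x4020402, 0x20102010201, 0x10001, 0x302, 0x101, 0x106]
def Sub : List (List ℕ) := []
theorem hA : prepA 17213620480 PU00.R sg 1413989166940416 BL Sub get gd = true := by decide +kernel
theorem hw : allR (okW BL gwh) 0 9 = true := by decide +kernel
theorem b0 : allR (blk get gs (gwB gwh 9) gd 1413989166940416) 4 1 = true := by decide +kernel
theorem hb : ∀ b, 4 ≤ b → b < 5 → blk get gs (gwB gwh 9) gd 1413989166940416 b = true :=
  (allR_range b0 (by norm_num : 4 + 1 = 5))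
def TL : List (ℕ × List ℕ) := [(288, [1])]
theorem hM : prepM sg get 5 TL = true := by decide +kernel
theorem mem {G : Type*} [Group G] {ev : ℕ → G} (hev : Good ev 17213620480) (hR : Rels ev PU00.R) :
    ∀ w ∈ TL.map Prod.snd, evL ev w ∈ gen ev Sub :=
  cert_mem hev hR hA hM hw hb

end c

theorem res {G : Type*} [Group G] {v x u : G} (H : Rel v x u) : v = 1 := by
  have i_v : v⁻¹ = v := inv_eq_of_mul_eq_one_right H.hB.vv
  have i_u : u⁻¹ = u := inv_eq_of_mul_eq_one_right H.uu
  have h : v * 1 = 1 := rels_of_mem_nil (c.mem (good H) (rels H)) [1] (List.mem_of_elem_eq_true (by decide))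
  exact mul_inv_eq_one.mp (by simpa only [mul_inv_rev, inv_inv, mul_assoc, mul_one, one_mul, inv_one, pow_succ, pow_zero, i_v, i_u] using h)

end PU00

namespace PU01

structure Rel {G : Type*} [Group G] (v x u : G) : Prop where
  hB : PB.Rel v x
  uu : u * u = 1
  ux : u * x * u = x⁻¹
  uvu : u * v * u = (1) * (u * x ^ 1) * (1)

def R : List (List ℕ) := [[1, 1], [2, 2, 2], [2, 1, 2, 1, 2, 1], [4, 4], [4, 2, 4, 2], [4, 1, 4, 3, 4]]

def ev {G : Type*} [Group G] (v x u : G) (l : ℕ) : G := [1, v, x, x⁻¹, u].getD l 1

theorem good {G : Type*} [Group G] {v x u : G} (H : Rel v x u) : Good (ev v x u) 17213620480 := by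
  have i_v : v⁻¹ = v := inv_eq_of_mul_eq_one_right H.hB.vv
  have i_u : u⁻¹ = u := inv_eq_of_mul_eq_one_right H.uu
  refine good_list (n := 5) rfl (by norm_num) rfl fun l hl => ?_
  interval_cases l
  · exact inv_one.symm
  · exact i_v.symm
  · rfl
  · exact (inv_inv _).symm
  · exact i_u.symm

theorem rels {G : Type*} [Group G] {v x u : G} (H : Rel v x u) : Rels (ev v x u) R := by
  have i_v : v⁻¹ = v := inv_eq_of_mul_eq_one_right H.hB.vv
  have i_u : u⁻¹ = u := inv_eq_of_mul_eq_one_right H.uu
  unfold R
  refine Rels.cons ?_ ?_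
  · show v * (v * 1) = 1
    simpa only [mul_inv_rev, inv_inv, mul_assoc, mul_one, one_mul, inv_one, pow_succ, pow_zero, i_v, i_u] using mul_inv_eq_one.mpr H.hB.vv
  refine Rels.cons ?_ ?_
  · show x * (x * (x * 1)) = 1
    simpa only [mul_inv_rev, inv_inv, mul_assoc, mul_one, one_mul, inv_one, pow_succ, pow_zero, i_v, i_u] using mul_inv_eq_one.mpr H.hB.x3
  refine Rels.cons ?_ ?_
  · show x * (v * (x * (v * (x * (v * 1))))) = 1
    simpa only [mul_inv_rev, inv_inv, mul_assoc, mul_one, one_mul, inv_one, pow_succ, pow_zero, i_v, i_u] using mul_inv_eq_one.mpr H.hB.xv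
  refine Rels.cons ?_ ?_
  · show u * (u * 1) = 1
    simpa only [mul_inv_rev, inv_inv, mul_assoc, mul_one, one_mul, inv_one, pow_succ, pow_zero, i_v, i_u] using mul_inv_eq_one.mpr H.uu
  refine Rels.cons ?_ ?_
  · show u * (x * (u * (x * 1))) = 1
    simpa only [mul_inv_rev, inv_inv, mul_assoc, mul_one, one_mul, inv_one, pow_succ, pow_zero, i_v, i_u] using mul_inv_eq_one.mpr H.ux
  refine Rels.cons ?_ ?_
  · show u * (v * (u * (x⁻¹ * (u * 1)))) = 1
    simpa only [mul_inv_rev, inv_inv, mul_assoc, mul_one, one_mul, inv_one, pow_succ, pow_zero, i_v, i_u] using mul_inv_eq_one.mpr H.uvu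
  intro r hr
  exact absurd hr List.not_mem_nil

/-- The relations hold for the letters of any assignment satisfying the relators. -/
theorem rel_of {G : Type*} [Group G] {e : ℕ → G} (hg : Good e 17213620480) (hR : Rels e R) :
    Rel (e 1) (e 2) (e 4) := by
  have j1 : (e 1)⁻¹ = e 1 := (hg.inv 1).symm
  have j2 : (e 2)⁻¹ = e 3 := (hg.inv 2).symm
  have j3 : (e 3)⁻¹ = e 2 := (hg.inv 3).symm
  have j4 : (e 4)⁻¹ = e 4 := (hg.inv 4).symm
  have r0 : e 1 * (e 1 * 1) = 1 := hR [1, 1] (List.mem_of_elem_eq_true (by decide))
  have r1 : e 2 * (e 2 * (e 2 * 1)) = 1 := hR [2, 2, 2] (List.mem_of_elem_eq_true (by decide))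
  have r2 : e 2 * (e 1 * (e 2 * (e 1 * (e 2 * (e 1 * 1))))) = 1 := hR [2, 1, 2, 1, 2, 1] (List.mem_of_elem_eq_true (by decide))
  have r3 : e 4 * (e 4 * 1) = 1 := hR [4, 4] (List.mem_of_elem_eq_true (by decide))
  have r4 : e 4 * (e 2 * (e 4 * (e 2 * 1))) = 1 := hR [4, 2, 4, 2] (List.mem_of_elem_eq_true (by decide))
  have r5 : e 4 * (e 1 * (e 4 * (e 3 * (e 4 * 1)))) = 1 := hR [4, 1, 4, 3, 4] (List.mem_of_elem_eq_true (by decide))
  exact ⟨⟨mul_inv_eq_one.mp (by simpa only [mul_inv_rev, mul_assoc, mul_one, one_mul, inv_one, pow_succ, pow_zero, j1, j2, j3, j4] using r0),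
    mul_inv_eq_one.mp (by simpa only [mul_inv_rev, mul_assoc, mul_one, one_mul, inv_one, pow_succ, pow_zero, j1, j2, j3, j4] using r1),
    mul_inv_eq_one.mp (by simpa only [mul_inv_rev, mul_assoc, mul_one, one_mul, inv_one, pow_succ, pow_zero, j1, j2, j3, j4] using r2)⟩,
    mul_inv_eq_one.mp (by simpa only [mul_inv_rev, mul_assoc, mul_one, one_mul, inv_one, pow_succ, pow_zero, j1, j2, j3, j4] using r3),
    mul_inv_eq_one.mp (by simpa only [mul_inv_rev, mul_assoc, mul_one, one_mul, inv_one, pow_succ, pow_zero, j1, j2, j3, j4] using r4),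
    mul_inv_eq_one.mp (by simpa only [mul_inv_rev, mul_assoc, mul_one, one_mul, inv_one, pow_succ, pow_zero, j1, j2, j3, j4] using r5)⟩

theorem gen_top : gen (pgEv 17213620480 R) [[1], [2], [4]] = ⊤ := pg_gen (n := 5) (by norm_num) (by decide)
namespace c

noncomputable def get (y : ℕ) : ℕ := (sel (nat_lit 1) y (nat_lit 0x0) (nat_lit 0x6000000000000050000000000000100000000000001000000000000000000000000010000000100000000000002000000000000000000020300000200000102000001000002010000020000020100000200000200000005000002000000020000050000000400000000000000000004010000030000040100000400000301000002000005010000050000020400000500000304000003000005020000050000040300000400000502000001000005030000050000010200000400000103000001000004040000020000010400000100000204000000000004040000040000000200000300000203000002000003020000000000030300000300000003000000000002020000020000000100000000000101000001000000))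
noncomputable def gs (y : ℕ) : ℕ := (sel (nat_lit 2) y (sel (nat_lit 1) y (nat_lit 0x0) (nat_lit 0x0)) (sel (nat_lit 3) y (nat_lit 0x0) (sel (nat_lit 4) y (nat_lit 0x0) (nat_lit 0x800000d800000d800000d800000d800000d800000d800000d800000d800000d800000d800000d800000d800000c0000225800000800002010000222800000b00002000000220000021c0000221800000a0000201000021e000021d00002020000201000021e8000009000020f000021b80000080000215000021b8000007000020200002180000210800000600002050000217000020d00002000000205000021780000050000208000020900002100000213800000500002130000212000020e000020a80000040000207000020b000020f8000001000020d000020f80000008000003000020a00002020000209800000200002000000209000020800002038000000800000100002020000205800000080000008000000))))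
noncomputable def gd (y : ℕ) : ℕ := (nat_lit 0x20e00002080000204000020200002000000000)
noncomputable def gwh (y : ℕ) : ℕ := (sel (nat_lit 6) y (sel (nat_lit 3) y (sel (nat_lit 1) y (nat_lit 0x20202000000003000) (sel (nat_lit 2) y (nat_lit 0x304040104000003002001) (nat_lit 0x4020402000000004002))) (sel (nat_lit 4) y (nat_lit 0x2040204000001003002) (sel (nat_lit 5) y (nat_lit 0x403040401000002003001) (nat_lit 0x1020102010200001001005003)))) (sel (nat_lit 9) y (sel (nat_lit 7) y (nat_lit 0x3000200001000003004) (sel (nat_lit 8) y (nat_lit 0x101000000002005) (nat_lit 0x203000000002006))) (sel (nat_lit 10) y (nat_lit 0x2010201020100001000006003) (sel (nat_lit 11) y (nat_lit 0x1000100001000003007) (nat_lit 0x106000000002008)))))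
def sg : List (List ℕ) := [[], [1], [2], [3], [4], [1], [1]]
def BL : List ℕ := [0x20202, 0x401040304, 0x4020402, 0x20102010201, 0x30002, 0x101, 0x203, 0x10001, 0x106]
def Sub : List (List ℕ) := []
theorem hA : prepA 17213620480 PU01.R sg 1413989166940416 BL Sub get gd = true := by decide +kernel
theorem hw : allR (okW BL gwh) 0 12 = true := by decide +kernel
theorem b0 : allR (blk get gs (gwB gwh 12) gd 1413989166940416) 4 1 = true := by decide +kernel
theorem hb : ∀ b, 4 ≤ b → b < 5 → blk get gs (gwB gwh 12) gd 1413989166940416 b = true :=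
  (allR_range b0 (by norm_num : 4 + 1 = 5))
def TL : List (ℕ × List ℕ) := [(294, [1])]
theorem hM : prepM sg get 5 TL = true := by decide +kernel
theorem mem {G : Type*} [Group G] {ev : ℕ → G} (hev : Good ev 17213620480) (hR : Rels ev PU01.R) :
    ∀ w ∈ TL.map Prod.snd, evL ev w ∈ gen ev Sub :=
  cert_mem hev hR hA hM hw hb

end c

theorem res {G : Type*} [Group G] {v x u : G} (H : Rel v x u) : v = 1 := by
  have i_v : v⁻¹ = v := inv_eq_of_mul_eq_one_right H.hB.vv
  have i_u : u⁻¹ = u := inv_eq_of_mul_eq_one_right H.uu
  have h : v * 1 = 1 := rels_of_mem_nil (c.mem (good H) (rels H)) [1] (List.mem_of_elem_eq_true (by decide))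
  exact mul_inv_eq_one.mp (by simpa only [mul_inv_rev, inv_inv, mul_assoc, mul_one, one_mul, inv_one, pow_succ, pow_zero, i_v, i_u] using h)

end PU01

namespace PU02

structure Rel {G : Type*} [Group G] (v x u : G) : Prop where
  hB : PB.Rel v x
  uu : u * u = 1
  ux : u * x * u = x⁻¹
  uvu : u * v * u = (1) * (u * x ^ 2) * (1)

def R : List (List ℕ) := [[1, 1], [2, 2, 2], [2, 1, 2, 1, 2, 1], [4, 4], [4, 2, 4, 2], [4, 1, 4, 3, 3, 4]]

def ev {G : Type*} [Group G] (v x u : G) (l : ℕ) : G := [1, v, x, x⁻¹, u].getD l 1

theorem good {G : Type*} [Group G] {v x u : G} (H : Rel v x u) : Good (ev v x u) 17213620480 := by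
  have i_v : v⁻¹ = v := inv_eq_of_mul_eq_one_right H.hB.vv
  have i_u : u⁻¹ = u := inv_eq_of_mul_eq_one_right H.uu
  refine good_list (n := 5) rfl (by norm_num) rfl fun l hl => ?_
  interval_cases l
  · exact inv_one.symm
  · exact i_v.symm
  · rfl
  · exact (inv_inv _).symm
  · exact i_u.symm

theorem rels {G : Type*} [Group G] {v x u : G} (H : Rel v x u) : Rels (ev v x u) R := by
  have i_v : v⁻¹ = v := inv_eq_of_mul_eq_one_right H.hB.vv
  have i_u : u⁻¹ = u := inv_eq_of_mul_eq_one_right H.uu
  unfold R
  refine Rels.cons ?_ ?_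
  · show v * (v * 1) = 1
    simpa only [mul_inv_rev, inv_inv, mul_assoc, mul_one, one_mul, inv_one, pow_succ, pow_zero, i_v, i_u] using mul_inv_eq_one.mpr H.hB.vv
  refine Rels.cons ?_ ?_
  · show x * (x * (x * 1)) = 1
    simpa only [mul_inv_rev, inv_inv, mul_assoc, mul_one, one_mul, inv_one, pow_succ, pow_zero, i_v, i_u] using mul_inv_eq_one.mpr H.hB.x3
  refine Rels.cons ?_ ?_
  · show x * (v * (x * (v * (x * (v * 1))))) = 1
    simpa only [mul_inv_rev, inv_inv, mul_assoc, mul_one, one_mul, inv_one, pow_succ, pow_zero, i_v, i_u] using mul_inv_eq_one.mpr H.hB.xv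
  refine Rels.cons ?_ ?_
  · show u * (u * 1) = 1
    simpa only [mul_inv_rev, inv_inv, mul_assoc, mul_one, one_mul, inv_one, pow_succ, pow_zero, i_v, i_u] using mul_inv_eq_one.mpr H.uu
  refine Rels.cons ?_ ?_
  · show u * (x * (u * (x * 1))) = 1
    simpa only [mul_inv_rev, inv_inv, mul_assoc, mul_one, one_mul, inv_one, pow_succ, pow_zero, i_v, i_u] using mul_inv_eq_one.mpr H.ux
  refine Rels.cons ?_ ?_
  · show u * (v * (u * (x⁻¹ * (x⁻¹ * (u * 1))))) = 1
    simpa only [mul_inv_rev, inv_inv, mul_assoc, mul_one, one_mul, inv_one, pow_succ, pow_zero, i_v, i_u] using mul_inv_eq_one.mpr H.uvu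
  intro r hr
  exact absurd hr List.not_mem_nil

/-- The relations hold for the letters of any assignment satisfying the relators. -/
theorem rel_of {G : Type*} [Group G] {e : ℕ → G} (hg : Good e 17213620480) (hR : Rels e R) :
    Rel (e 1) (e 2) (e 4) := by
  have j1 : (e 1)⁻¹ = e 1 := (hg.inv 1).symm
  have j2 : (e 2)⁻¹ = e 3 := (hg.inv 2).symm
  have j3 : (e 3)⁻¹ = e 2 := (hg.inv 3).symm
  have j4 : (e 4)⁻¹ = e 4 := (hg.inv 4).symm
  have r0 : e 1 * (e 1 * 1) = 1 := hR [1, 1] (List.mem_of_elem_eq_true (by decide))
  have r1 : e 2 * (e 2 * (e 2 * 1)) = 1 := hR [2, 2, 2] (List.mem_of_elem_eq_true (by decide))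
  have r2 : e 2 * (e 1 * (e 2 * (e 1 * (e 2 * (e 1 * 1))))) = 1 := hR [2, 1, 2, 1, 2, 1] (List.mem_of_elem_eq_true (by decide))
  have r3 : e 4 * (e 4 * 1) = 1 := hR [4, 4] (List.mem_of_elem_eq_true (by decide))
  have r4 : e 4 * (e 2 * (e 4 * (e 2 * 1))) = 1 := hR [4, 2, 4, 2] (List.mem_of_elem_eq_true (by decide))
  have r5 : e 4 * (e 1 * (e 4 * (e 3 * (e 3 * (e 4 * 1))))) = 1 := hR [4, 1, 4, 3, 3, 4] (List.mem_of_elem_eq_true (by decide))
  exact ⟨⟨mul_inv_eq_one.mp (by simpa only [mul_inv_rev, mul_assoc, mul_one, one_mul, inv_one, pow_succ, pow_zero, j1, j2, j3, j4] using r0),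
    mul_inv_eq_one.mp (by simpa only [mul_inv_rev, mul_assoc, mul_one, one_mul, inv_one, pow_succ, pow_zero, j1, j2, j3, j4] using r1),
    mul_inv_eq_one.mp (by simpa only [mul_inv_rev, mul_assoc, mul_one, one_mul, inv_one, pow_succ, pow_zero, j1, j2, j3, j4] using r2)⟩,
    mul_inv_eq_one.mp (by simpa only [mul_inv_rev, mul_assoc, mul_one, one_mul, inv_one, pow_succ, pow_zero, j1, j2, j3, j4] using r3),
    mul_inv_eq_one.mp (by simpa only [mul_inv_rev, mul_assoc, mul_one, one_mul, inv_one, pow_succ, pow_zero, j1, j2, j3, j4] using r4),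
    mul_inv_eq_one.mp (by simpa only [mul_inv_rev, mul_assoc, mul_one, one_mul, inv_one, pow_succ, pow_zero, j1, j2, j3, j4] using r5)⟩

theorem gen_top : gen (pgEv 17213620480 R) [[1], [2], [4]] = ⊤ := pg_gen (n := 5) (by norm_num) (by decide)
namespace c

noncomputable def get (y : ℕ) : ℕ := (sel (nat_lit 1) y (nat_lit 0x0) (nat_lit 0x6000000000000050000000000000100000000000001000000000000000000000000010000000100000000000003000000000000000000030100000300000301000003000003020000030000010300000100000303000000000001020000010000000000000300000500000005000003000000040000000000000000000400000002000001000000010000020100000200000401000004000002040000020000050400000500000203000001000005020000050000010200000100000403000004000001040000030000010400000100000304000000000004040000040000000200000300000203000002000003020000000000030300000300000003000000000002020000020000000100000000000101000001000000))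
noncomputable def gs (y : ℕ) : ℕ := (sel (nat_lit 2) y (sel (nat_lit 1) y (nat_lit 0x0) (nat_lit 0x0)) (sel (nat_lit 3) y (nat_lit 0x0) (sel (nat_lit 4) y (nat_lit 0x0) (nat_lit 0x800000d800000d800000d800000d800000d800000d800000d800000d800000d800000d800000d800000d800000c0000225800000b00002010000222800000700002000000220000021e000022180000060000205000021f000021d00002000000205000021f8000005000020b000020a0000204000021b000020a800000a000020f00002188000009000020d00002178000008000020e0000214000020680000070000201000021400002138000006000020d000021200002020000201000020d0000212800000500002080000209000020c000020f00002108000004000020e000020a00002078000000800000300002080000205000020b8000002000020000002090000208000020300002068000000800000100002020000205800000080000008000000))))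
noncomputable def gd (y : ℕ) : ℕ := (nat_lit 0x20e00002080000204000020200002000000000)
noncomputable def gwh (y : ℕ) : ℕ := (sel (nat_lit 6) y (sel (nat_lit 3) y (sel (nat_lit 1) y (nat_lit 0x20202000000003000) (sel (nat_lit 2) y (nat_lit 0x30304040104000003003001) (nat_lit 0x4020402000000004002))) (sel (nat_lit 4) y (nat_lit 0x2040204000003001002) (sel (nat_lit 5) y (nat_lit 0x40303040401000002004001) (nat_lit 0x1020102010200001001005003)))) (sel (nat_lit 9) y (sel (nat_lit 7) y (nat_lit 0x1000100001000003004) (sel (nat_lit 8) y (nat_lit 0x3000200001000003005) (nat_lit 0x203000000002006))) (sel (nat_lit 10) y (nat_lit 0x302000000002007) (sel (nat_lit 11) y (nat_lit 0x101000000002008) (nat_lit 0x106000000002009)))))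
def sg : List (List ℕ) := [[], [1], [2], [3], [4], [1], [1]]
def BL : List ℕ := [0x20202, 0x40104030304, 0x4020402, 0x20102010201, 0x10001, 0x30002, 0x203, 0x302, 0x101, 0x106]
def Sub : List (List ℕ) := []
theorem hA : prepA 17213620480 PU02.R sg 1413989166940416 BL Sub get gd = true := by decide +kernel
theorem hw : allR (okW BL gwh) 0 12 = true := by decide +kernel
theorem b0 : allR (blk get gs (gwB gwh 12) gd 1413989166940416) 4 1 = true := by decide +kernel
theorem hb : ∀ b, 4 ≤ b → b < 5 → blk get gs (gwB gwh 12) gd 1413989166940416 b = true :=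
  (allR_range b0 (by norm_num : 4 + 1 = 5))
def TL : List (ℕ × List ℕ) := [(294, [1])]
theorem hM : prepM sg get 5 TL = true := by decide +kernel
theorem mem {G : Type*} [Group G] {ev : ℕ → G} (hev : Good ev 17213620480) (hR : Rels ev PU02.R) :
    ∀ w ∈ TL.map Prod.snd, evL ev w ∈ gen ev Sub :=
  cert_mem hev hR hA hM hw hb

end c

theorem res {G : Type*} [Group G] {v x u : G} (H : Rel v x u) : v = 1 := by
  have i_v : v⁻¹ = v := inv_eq_of_mul_eq_one_right H.hB.vv
  have i_u : u⁻¹ = u := inv_eq_of_mul_eq_one_right H.uu
  have h : v * 1 = 1 := rels_of_mem_nil (c.mem (good H) (rels H)) [1] (List.mem_of_elem_eq_true (by decide))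
  exact mul_inv_eq_one.mp (by simpa only [mul_inv_rev, inv_inv, mul_assoc, mul_one, one_mul, inv_one, pow_succ, pow_zero, i_v, i_u] using h)

end PU02

namespace PU10

structure Rel {G : Type*} [Group G] (v x u : G) : Prop where
  hB : PB.Rel v x
  uu : u * u = 1
  ux : u * x * u = x⁻¹
  uvu : u * v * u = (v) * (u * x ^ 0) * (v)

def R : List (List ℕ) := [[1, 1], [2, 2, 2], [2, 1, 2, 1, 2, 1], [4, 4], [4, 2, 4, 2], [4, 1, 4, 1, 4, 1]]

def ev {G : Type*} [Group G] (v x u : G) (l : ℕ) : G := [1, v, x, x⁻¹, u].getD l 1

theorem good {G : Type*} [Group G] {v x u : G} (H : Rel v x u) : Good (ev v x u) 17213620480 := by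
  have i_v : v⁻¹ = v := inv_eq_of_mul_eq_one_right H.hB.vv
  have i_u : u⁻¹ = u := inv_eq_of_mul_eq_one_right H.uu
  refine good_list (n := 5) rfl (by norm_num) rfl fun l hl => ?_
  interval_cases l
  · exact inv_one.symm
  · exact i_v.symm
  · rfl
  · exact (inv_inv _).symm
  · exact i_u.symm

theorem rels {G : Type*} [Group G] {v x u : G} (H : Rel v x u) : Rels (ev v x u) R := by
  have i_v : v⁻¹ = v := inv_eq_of_mul_eq_one_right H.hB.vv
  have i_u : u⁻¹ = u := inv_eq_of_mul_eq_one_right H.uu
  unfold R
  refine Rels.cons ?_ ?_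
  · show v * (v * 1) = 1
    simpa only [mul_inv_rev, inv_inv, mul_assoc, mul_one, one_mul, inv_one, pow_succ, pow_zero, i_v, i_u] using mul_inv_eq_one.mpr H.hB.vv
  refine Rels.cons ?_ ?_
  · show x * (x * (x * 1)) = 1
    simpa only [mul_inv_rev, inv_inv, mul_assoc, mul_one, one_mul, inv_one, pow_succ, pow_zero, i_v, i_u] using mul_inv_eq_one.mpr H.hB.x3
  refine Rels.cons ?_ ?_
  · show x * (v * (x * (v * (x * (v * 1))))) = 1
    simpa only [mul_inv_rev, inv_inv, mul_assoc, mul_one, one_mul, inv_one, pow_succ, pow_zero, i_v, i_u] using mul_inv_eq_one.mpr H.hB.xv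
  refine Rels.cons ?_ ?_
  · show u * (u * 1) = 1
    simpa only [mul_inv_rev, inv_inv, mul_assoc, mul_one, one_mul, inv_one, pow_succ, pow_zero, i_v, i_u] using mul_inv_eq_one.mpr H.uu
  refine Rels.cons ?_ ?_
  · show u * (x * (u * (x * 1))) = 1
    simpa only [mul_inv_rev, inv_inv, mul_assoc, mul_one, one_mul, inv_one, pow_succ, pow_zero, i_v, i_u] using mul_inv_eq_one.mpr H.ux
  refine Rels.cons ?_ ?_
  · show u * (v * (u * (v * (u * (v * 1))))) = 1
    simpa only [mul_inv_rev, inv_inv, mul_assoc, mul_one, one_mul, inv_one, pow_succ, pow_zero, i_v, i_u] using mul_inv_eq_one.mpr H.uvu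
  intro r hr
  exact absurd hr List.not_mem_nil

/-- The relations hold for the letters of any assignment satisfying the relators. -/
theorem rel_of {G : Type*} [Group G] {e : ℕ → G} (hg : Good e 17213620480) (hR : Rels e R) :
    Rel (e 1) (e 2) (e 4) := by
  have j1 : (e 1)⁻¹ = e 1 := (hg.inv 1).symm
  have j2 : (e 2)⁻¹ = e 3 := (hg.inv 2).symm
  have j3 : (e 3)⁻¹ = e 2 := (hg.inv 3).symm
  have j4 : (e 4)⁻¹ = e 4 := (hg.inv 4).symm
  have r0 : e 1 * (e 1 * 1) = 1 := hR [1, 1] (List.mem_of_elem_eq_true (by decide))
  have r1 : e 2 * (e 2 * (e 2 * 1)) = 1 := hR [2, 2, 2] (List.mem_of_elem_eq_true (by decide))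
  have r2 : e 2 * (e 1 * (e 2 * (e 1 * (e 2 * (e 1 * 1))))) = 1 := hR [2, 1, 2, 1, 2, 1] (List.mem_of_elem_eq_true (by decide))
  have r3 : e 4 * (e 4 * 1) = 1 := hR [4, 4] (List.mem_of_elem_eq_true (by decide))
  have r4 : e 4 * (e 2 * (e 4 * (e 2 * 1))) = 1 := hR [4, 2, 4, 2] (List.mem_of_elem_eq_true (by decide))
  have r5 : e 4 * (e 1 * (e 4 * (e 1 * (e 4 * (e 1 * 1))))) = 1 := hR [4, 1, 4, 1, 4, 1] (List.mem_of_elem_eq_true (by decide))
  exact ⟨⟨mul_inv_eq_one.mp (by simpa only [mul_inv_rev, mul_assoc, mul_one, one_mul, inv_one, pow_succ, pow_zero, j1, j2, j3, j4] using r0),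
    mul_inv_eq_one.mp (by simpa only [mul_inv_rev, mul_assoc, mul_one, one_mul, inv_one, pow_succ, pow_zero, j1, j2, j3, j4] using r1),
    mul_inv_eq_one.mp (by simpa only [mul_inv_rev, mul_assoc, mul_one, one_mul, inv_one, pow_succ, pow_zero, j1, j2, j3, j4] using r2)⟩,
    mul_inv_eq_one.mp (by simpa only [mul_inv_rev, mul_assoc, mul_one, one_mul, inv_one, pow_succ, pow_zero, j1, j2, j3, j4] using r3),
    mul_inv_eq_one.mp (by simpa only [mul_inv_rev, mul_assoc, mul_one, one_mul, inv_one, pow_succ, pow_zero, j1, j2, j3, j4] using r4),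
    mul_inv_eq_one.mp (by simpa only [mul_inv_rev, mul_assoc, mul_one, one_mul, inv_one, pow_succ, pow_zero, j1, j2, j3, j4] using r5)⟩

theorem gen_top : gen (pgEv 17213620480 R) [[1], [2], [4]] = ⊤ := pg_gen (n := 5) (by norm_num) (by decide)
namespace c

noncomputable def get (y : ℕ) : ℕ := (sel (nat_lit 1) y (nat_lit 0x0) (nat_lit 0x60000000000000500000000000001000000000005010000050000000000000000000600000006000000010000050000060100000600000504000004000005040000050000040100000300000401000004000003040000020000030400000300000201000001000002010000020000010400000000000104000001000000))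
noncomputable def gs (y : ℕ) : ℕ := (sel (nat_lit 2) y (sel (nat_lit 1) y (nat_lit 0x0) (nat_lit 0x0)) (sel (nat_lit 3) y (nat_lit 0x0) (sel (nat_lit 4) y (nat_lit 0x0) (nat_lit 0x800000480000048000004800000480000048000004800000480000048000004800000480000048000004800000480000048000004800000480000048000004800000480000048000004800000480000048000003000020f000020800002060000204000020200002008000002000020b000020c8000001000020a00002080000206000020400002020000200800000080000008000000800000080000008000000))))
noncomputable def gd (y : ℕ) : ℕ := (nat_lit 0x20a000020800002060000204000020200002000000000)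
noncomputable def gwh (y : ℕ) : ℕ := (sel (nat_lit 1) y (nat_lit 0x4010401040100001002004000) (sel (nat_lit 2) y (nat_lit 0x101000000002001) (nat_lit 0x4010401040106000000007002)))
def sg : List (List ℕ) := [[], [1], [2], [3], [4], [4, 1, 4, 1, 4, 1], [1, 4, 1, 4, 1, 4]]
def BL : List ℕ := [0x40104010401, 0x101, 0x4010401040106]
def Sub : List (List ℕ) := []
theorem hA : prepA 17213620480 PU10.R sg 1413989166940416 BL Sub get gd = true := by decide +kernel
theorem hw : allR (okW BL gwh) 0 3 = true := by decide +kernel
theorem b0 : allR (blk get gs (gwB gwh 3) gd 1413989166940416) 4 1 = true := by decide +kernel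
theorem hb : ∀ b, 4 ≤ b → b < 5 → blk get gs (gwB gwh 3) gd 1413989166940416 b = true :=
  (allR_range b0 (by norm_num : 4 + 1 = 5))
def TL : List (ℕ × List ℕ) := [(272, [4, 1, 4, 1, 4, 1])]
theorem hM : prepM sg get 5 TL = true := by decide +kernel
theorem mem {G : Type*} [Group G] {ev : ℕ → G} (hev : Good ev 17213620480) (hR : Rels ev PU10.R) :
    ∀ w ∈ TL.map Prod.snd, evL ev w ∈ gen ev Sub :=
  cert_mem hev hR hA hM hw hb

end c

theorem res {G : Type*} [Group G] {v x u : G} (H : Rel v x u) : (u * x ^ 0 * v) ^ 3 = 1 := by
  have i_v : v⁻¹ = v := inv_eq_of_mul_eq_one_right H.hB.vv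
  have i_u : u⁻¹ = u := inv_eq_of_mul_eq_one_right H.uu
  have h : u * (v * (u * (v * (u * (v * 1))))) = 1 := rels_of_mem_nil (c.mem (good H) (rels H)) [4, 1, 4, 1, 4, 1] (List.mem_of_elem_eq_true (by decide))
  exact mul_inv_eq_one.mp (by simpa only [mul_inv_rev, inv_inv, mul_assoc, mul_one, one_mul, inv_one, pow_succ, pow_zero, i_v, i_u] using h)

end PU10

namespace PU11

structure Rel {G : Type*} [Group G] (v x u : G) : Prop where
  hB : PB.Rel v x
  uu : u * u = 1
  ux : u * x * u = x⁻¹
  uvu : u * v * u = (v) * (u * x ^ 1) * (v)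

def R : List (List ℕ) := [[1, 1], [2, 2, 2], [2, 1, 2, 1, 2, 1], [4, 4], [4, 2, 4, 2], [4, 1, 4, 1, 3, 4, 1]]

def ev {G : Type*} [Group G] (v x u : G) (l : ℕ) : G := [1, v, x, x⁻¹, u].getD l 1

theorem good {G : Type*} [Group G] {v x u : G} (H : Rel v x u) : Good (ev v x u) 17213620480 := by
  have i_v : v⁻¹ = v := inv_eq_of_mul_eq_one_right H.hB.vv
  have i_u : u⁻¹ = u := inv_eq_of_mul_eq_one_right H.uu
  refine good_list (n := 5) rfl (by norm_num) rfl fun l hl => ?_
  interval_cases l
  · exact inv_one.symm
  · exact i_v.symm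
  · rfl
  · exact (inv_inv _).symm
  · exact i_u.symm

theorem rels {G : Type*} [Group G] {v x u : G} (H : Rel v x u) : Rels (ev v x u) R := by
  have i_v : v⁻¹ = v := inv_eq_of_mul_eq_one_right H.hB.vv
  have i_u : u⁻¹ = u := inv_eq_of_mul_eq_one_right H.uu
  unfold R
  refine Rels.cons ?_ ?_
  · show v * (v * 1) = 1
    simpa only [mul_inv_rev, inv_inv, mul_assoc, mul_one, one_mul, inv_one, pow_succ, pow_zero, i_v, i_u] using mul_inv_eq_one.mpr H.hB.vv
  refine Rels.cons ?_ ?_
  · show x * (x * (x * 1)) = 1
    simpa only [mul_inv_rev, inv_inv, mul_assoc, mul_one, one_mul, inv_one, pow_succ, pow_zero, i_v, i_u] using mul_inv_eq_one.mpr H.hB.x3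
  refine Rels.cons ?_ ?_
  · show x * (v * (x * (v * (x * (v * 1))))) = 1
    simpa only [mul_inv_rev, inv_inv, mul_assoc, mul_one, one_mul, inv_one, pow_succ, pow_zero, i_v, i_u] using mul_inv_eq_one.mpr H.hB.xv
  refine Rels.cons ?_ ?_
  · show u * (u * 1) = 1
    simpa only [mul_inv_rev, inv_inv, mul_assoc, mul_one, one_mul, inv_one, pow_succ, pow_zero, i_v, i_u] using mul_inv_eq_one.mpr H.uu
  refine Rels.cons ?_ ?_
  · show u * (x * (u * (x * 1))) = 1
    simpa only [mul_inv_rev, inv_inv, mul_assoc, mul_one, one_mul, inv_one, pow_succ, pow_zero, i_v, i_u] using mul_inv_eq_one.mpr H.ux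
  refine Rels.cons ?_ ?_
  · show u * (v * (u * (v * (x⁻¹ * (u * (v * 1)))))) = 1
    simpa only [mul_inv_rev, inv_inv, mul_assoc, mul_one, one_mul, inv_one, pow_succ, pow_zero, i_v, i_u] using mul_inv_eq_one.mpr H.uvu
  intro r hr
  exact absurd hr List.not_mem_nil

/-- The relations hold for the letters of any assignment satisfying the relators. -/
theorem rel_of {G : Type*} [Group G] {e : ℕ → G} (hg : Good e 17213620480) (hR : Rels e R) :
    Rel (e 1) (e 2) (e 4) := by
  have j1 : (e 1)⁻¹ = e 1 := (hg.inv 1).symm
  have j2 : (e 2)⁻¹ = e 3 := (hg.inv 2).symm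
  have j3 : (e 3)⁻¹ = e 2 := (hg.inv 3).symm
  have j4 : (e 4)⁻¹ = e 4 := (hg.inv 4).symm
  have r0 : e 1 * (e 1 * 1) = 1 := hR [1, 1] (List.mem_of_elem_eq_true (by decide))
  have r1 : e 2 * (e 2 * (e 2 * 1)) = 1 := hR [2, 2, 2] (List.mem_of_elem_eq_true (by decide))
  have r2 : e 2 * (e 1 * (e 2 * (e 1 * (e 2 * (e 1 * 1))))) = 1 := hR [2, 1, 2, 1, 2, 1] (List.mem_of_elem_eq_true (by decide))
  have r3 : e 4 * (e 4 * 1) = 1 := hR [4, 4] (List.mem_of_elem_eq_true (by decide))
  have r4 : e 4 * (e 2 * (e 4 * (e 2 * 1))) = 1 := hR [4, 2, 4, 2] (List.mem_of_elem_eq_true (by decide))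
  have r5 : e 4 * (e 1 * (e 4 * (e 1 * (e 3 * (e 4 * (e 1 * 1)))))) = 1 := hR [4, 1, 4, 1, 3, 4, 1] (List.mem_of_elem_eq_true (by decide))
  exact ⟨⟨mul_inv_eq_one.mp (by simpa only [mul_inv_rev, mul_assoc, mul_one, one_mul, inv_one, pow_succ, pow_zero, j1, j2, j3, j4] using r0),
    mul_inv_eq_one.mp (by simpa only [mul_inv_rev, mul_assoc, mul_one, one_mul, inv_one, pow_succ, pow_zero, j1, j2, j3, j4] using r1),
    mul_inv_eq_one.mp (by simpa only [mul_inv_rev, mul_assoc, mul_one, one_mul, inv_one, pow_succ, pow_zero, j1, j2, j3, j4] using r2)⟩,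
    mul_inv_eq_one.mp (by simpa only [mul_inv_rev, mul_assoc, mul_one, one_mul, inv_one, pow_succ, pow_zero, j1, j2, j3, j4] using r3),
    mul_inv_eq_one.mp (by simpa only [mul_inv_rev, mul_assoc, mul_one, one_mul, inv_one, pow_succ, pow_zero, j1, j2, j3, j4] using r4),
    mul_inv_eq_one.mp (by simpa only [mul_inv_rev, mul_assoc, mul_one, one_mul, inv_one, pow_succ, pow_zero, j1, j2, j3, j4] using r5)⟩

theorem gen_top : gen (pgEv 17213620480 R) [[1], [2], [4]] = ⊤ := pg_gen (n := 5) (by norm_num) (by decide)
namespace c

noncomputable def get (y : ℕ) : ℕ := (sel (nat_lit 1) y (nat_lit 0x0) (nat_lit 0x600000000000005000000000000010000000000000100000000000000000001000000000000000000010000000700000100000001000007000000060000010000000100000600000004000000000000000000040000000600000a0000000a0000060000000c0000040000000400000c0300000c00000a0200000a00000c0400000c00000c0400000c00000c020000060000040300000400000603000006000007020000070000060000000d00000c0000000c00000d0000000900000600000006000009030000010000000200000000000100000001000003000000030000010000000500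0000000000000000050000000100000b0000000b0000010400000c00000d0400000d00000c0100000900000d0100000d0000090100000600000c0100000c0000060200000800000b0300000b0000080100000500000b0100000b0000050100000400000a0100000a0000040200000900000403000004000009020000070000090300000900000704000003000009040000090000030100000300000801000008000003020000040000070300000700000404000002000007040000070000020400000100000604000006000001030000010000050200000500000104000000000004040000040000000200000300000203000002000003020000000000030300000300000003000000000002020000020000000100000000000101000001000000))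
noncomputable def gs (y : ℕ) : ℕ := (sel (nat_lit 3) y (sel (nat_lit 1) y (nat_lit 0x0) (sel (nat_lit 2) y (nat_lit 0x0) (nat_lit 0x0))) (sel (nat_lit 4) y (nat_lit 0x0) (sel (nat_lit 5) y (nat_lit 0x80000090000209000023a0000236000023b8000006000021a000023a0000220800000d000021b000023800002200000235000021b0000238800000c000021a00002080000201000020d00002210000237800000b00002250000231800000a0000218000022f80000080000217000022f80000060000220000022e00002238000009000020c000022b000021580000080000205000022a800000700002040000228000020a800000600002010000227000021c8000005000021e00002120000215000022300002240000220000020c80000040000222000021400002040000201000020d0000221800000080000008000003000021c000020a000020000002050000213800000080000008000002000020800002050000215800000200002140000207000020f800000080000008000002000020e000020200002098000000800000080000008000000800000100002020000205800000080000008000000) (nat_lit 0x80000118000011800001180000118000011800001180000118000011800001180000118000011800001180000118000011800001180000118000011800001180000118000011800001180000118000011800001180000118000011800001180000100000247800000f00002010000245800000e000022c0000240000023300002438000007000022d000023e000021180000060000200000023e000021b000023c))))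
noncomputable def gd (y : ℕ) : ℕ := (nat_lit 0x2220000220000021c000021a00002140000212000020e000020c000020a00002080000204000020200002000000000)
noncomputable def gwh (y : ℕ) : ℕ := (sel (nat_lit 8) y (sel (nat_lit 4) y (sel (nat_lit 2) y (sel (nat_lit 1) y (nat_lit 0x20202000000003000) (nat_lit 0x4020402000002002001)) (sel (nat_lit 3) y (nat_lit 0x10201020102000003003002) (nat_lit 0x1040103040104000001006003))) (sel (nat_lit 6) y (sel (nat_lit 5) y (nat_lit 0x401040104010300001005002003) (nat_lit 0x1000100001000003004)) (sel (nat_lit 7) y (nat_lit 0x2000300001000003005) (nat_lit 0x203000000002006)))) (sel (nat_lit 12) y (sel (nat_lit 10) y (sel (nat_lit 9) y (nat_lit 0x4000400001000003007) (nat_lit 0x302000000002008)) (sel (nat_lit 11) y (nat_lit 0x404000000002009) (nat_lit 0x4010401040103000005002003))) (sel (nat_lit 14) y (sel (nat_lit 13) y (nat_lit 0x2010201020100001000006002) (nat_lit 0x300020000100000300a)) (sel (nat_lit 15) y (nat_lit 0x10100000000200b) (nat_lit 0x10600000000200c)))))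
def sg : List (List ℕ) := [[], [1], [2], [3], [4], [1], [1]]
def BL : List ℕ := [0x20202, 0x4020402, 0x20102010201, 0x4010401030401, 0x10001, 0x20003, 0x203, 0x40004, 0x302, 0x404, 0x30002, 0x101, 0x106]
def Sub : List (List ℕ) := []
theorem hA : prepA 17213620480 PU11.R sg 1413989166940416 BL Sub get gd = true := by decide +kernel
theorem hw : allR (okW BL gwh) 0 16 = true := by decide +kernel
theorem b0 : allR (blk get gs (gwB gwh 16) gd 1413989166940416) 4 2 = true := by decide +kernel
theorem hb : ∀ b, 4 ≤ b → b < 6 → blk get gs (gwB gwh 16) gd 1413989166940416 b = true :=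
  (allR_range b0 (by norm_num : 4 + 2 = 6))
def TL : List (ℕ × List ℕ) := [(328, [1])]
theorem hM : prepM sg get 6 TL = true := by decide +kernel
theorem mem {G : Type*} [Group G] {ev : ℕ → G} (hev : Good ev 17213620480) (hR : Rels ev PU11.R) :
    ∀ w ∈ TL.map Prod.snd, evL ev w ∈ gen ev Sub :=
  cert_mem hev hR hA hM hw hb

end c

theorem res {G : Type*} [Group G] {v x u : G} (H : Rel v x u) : v = 1 := by
  have i_v : v⁻¹ = v := inv_eq_of_mul_eq_one_right H.hB.vv
  have i_u : u⁻¹ = u := inv_eq_of_mul_eq_one_right H.uu
  have h : v * 1 = 1 := rels_of_mem_nil (c.mem (good H) (rels H)) [1] (List.mem_of_elem_eq_true (by decide))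
  exact mul_inv_eq_one.mp (by simpa only [mul_inv_rev, inv_inv, mul_assoc, mul_one, one_mul, inv_one, pow_succ, pow_zero, i_v, i_u] using h)

end PU11

namespace PU12

structure Rel {G : Type*} [Group G] (v x u : G) : Prop where
  hB : PB.Rel v x
  uu : u * u = 1
  ux : u * x * u = x⁻¹
  uvu : u * v * u = (v) * (u * x ^ 2) * (v)

def R : List (List ℕ) := [[1, 1], [2, 2, 2], [2, 1, 2, 1, 2, 1], [4, 4], [4, 2, 4, 2], [4, 1, 4, 1, 3, 3, 4, 1]]

def ev {G : Type*} [Group G] (v x u : G) (l : ℕ) : G := [1, v, x, x⁻¹, u].getD l 1

theorem good {G : Type*} [Group G] {v x u : G} (H : Rel v x u) : Good (ev v x u) 17213620480 := by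
  have i_v : v⁻¹ = v := inv_eq_of_mul_eq_one_right H.hB.vv
  have i_u : u⁻¹ = u := inv_eq_of_mul_eq_one_right H.uu
  refine good_list (n := 5) rfl (by norm_num) rfl fun l hl => ?_
  interval_cases l
  · exact inv_one.symm
  · exact i_v.symm
  · rfl
  · exact (inv_inv _).symm
  · exact i_u.symm

theorem rels {G : Type*} [Group G] {v x u : G} (H : Rel v x u) : Rels (ev v x u) R := by
  have i_v : v⁻¹ = v := inv_eq_of_mul_eq_one_right H.hB.vv
  have i_u : u⁻¹ = u := inv_eq_of_mul_eq_one_right H.uu
  unfold R
  refine Rels.cons ?_ ?_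
  · show v * (v * 1) = 1
    simpa only [mul_inv_rev, inv_inv, mul_assoc, mul_one, one_mul, inv_one, pow_succ, pow_zero, i_v, i_u] using mul_inv_eq_one.mpr H.hB.vv
  refine Rels.cons ?_ ?_
  · show x * (x * (x * 1)) = 1
    simpa only [mul_inv_rev, inv_inv, mul_assoc, mul_one, one_mul, inv_one, pow_succ, pow_zero, i_v, i_u] using mul_inv_eq_one.mpr H.hB.x3
  refine Rels.cons ?_ ?_
  · show x * (v * (x * (v * (x * (v * 1))))) = 1
    simpa only [mul_inv_rev, inv_inv, mul_assoc, mul_one, one_mul, inv_one, pow_succ, pow_zero, i_v, i_u] using mul_inv_eq_one.mpr H.hB.xv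
  refine Rels.cons ?_ ?_
  · show u * (u * 1) = 1
    simpa only [mul_inv_rev, inv_inv, mul_assoc, mul_one, one_mul, inv_one, pow_succ, pow_zero, i_v, i_u] using mul_inv_eq_one.mpr H.uu
  refine Rels.cons ?_ ?_
  · show u * (x * (u * (x * 1))) = 1
    simpa only [mul_inv_rev, inv_inv, mul_assoc, mul_one, one_mul, inv_one, pow_succ, pow_zero, i_v, i_u] using mul_inv_eq_one.mpr H.ux
  refine Rels.cons ?_ ?_
  · show u * (v * (u * (v * (x⁻¹ * (x⁻¹ * (u * (v * 1))))))) = 1
    simpa only [mul_inv_rev, inv_inv, mul_assoc, mul_one, one_mul, inv_one, pow_succ, pow_zero, i_v, i_u] using mul_inv_eq_one.mpr H.uvu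
  intro r hr
  exact absurd hr List.not_mem_nil

/-- The relations hold for the letters of any assignment satisfying the relators. -/
theorem rel_of {G : Type*} [Group G] {e : ℕ → G} (hg : Good e 17213620480) (hR : Rels e R) :
    Rel (e 1) (e 2) (e 4) := by
  have j1 : (e 1)⁻¹ = e 1 := (hg.inv 1).symm
  have j2 : (e 2)⁻¹ = e 3 := (hg.inv 2).symm
  have j3 : (e 3)⁻¹ = e 2 := (hg.inv 3).symm
  have j4 : (e 4)⁻¹ = e 4 := (hg.inv 4).symm
  have r0 : e 1 * (e 1 * 1) = 1 := hR [1, 1] (List.mem_of_elem_eq_true (by decide))
  have r1 : e 2 * (e 2 * (e 2 * 1)) = 1 := hR [2, 2, 2] (List.mem_of_elem_eq_true (by decide))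
  have r2 : e 2 * (e 1 * (e 2 * (e 1 * (e 2 * (e 1 * 1))))) = 1 := hR [2, 1, 2, 1, 2, 1] (List.mem_of_elem_eq_true (by decide))
  have r3 : e 4 * (e 4 * 1) = 1 := hR [4, 4] (List.mem_of_elem_eq_true (by decide))
  have r4 : e 4 * (e 2 * (e 4 * (e 2 * 1))) = 1 := hR [4, 2, 4, 2] (List.mem_of_elem_eq_true (by decide))
  have r5 : e 4 * (e 1 * (e 4 * (e 1 * (e 3 * (e 3 * (e 4 * (e 1 * 1))))))) = 1 := hR [4, 1, 4, 1, 3, 3, 4, 1] (List.mem_of_elem_eq_true (by decide))
  exact ⟨⟨mul_inv_eq_one.mp (by simpa only [mul_inv_rev, mul_assoc, mul_one, one_mul, inv_one, pow_succ, pow_zero, j1, j2, j3, j4] using r0),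
    mul_inv_eq_one.mp (by simpa only [mul_inv_rev, mul_assoc, mul_one, one_mul, inv_one, pow_succ, pow_zero, j1, j2, j3, j4] using r1),
    mul_inv_eq_one.mp (by simpa only [mul_inv_rev, mul_assoc, mul_one, one_mul, inv_one, pow_succ, pow_zero, j1, j2, j3, j4] using r2)⟩,
    mul_inv_eq_one.mp (by simpa only [mul_inv_rev, mul_assoc, mul_one, one_mul, inv_one, pow_succ, pow_zero, j1, j2, j3, j4] using r3),
    mul_inv_eq_one.mp (by simpa only [mul_inv_rev, mul_assoc, mul_one, one_mul, inv_one, pow_succ, pow_zero, j1, j2, j3, j4] using r4),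
    mul_inv_eq_one.mp (by simpa only [mul_inv_rev, mul_assoc, mul_one, one_mul, inv_one, pow_succ, pow_zero, j1, j2, j3, j4] using r5)⟩

theorem gen_top : gen (pgEv 17213620480 R) [[1], [2], [4]] = ⊤ := pg_gen (n := 5) (by norm_num) (by decide)
namespace c

noncomputable def get (y : ℕ) : ℕ := (sel (nat_lit 1) y (nat_lit 0x0) (nat_lit 0x6000000000000050000000000000100000000000001000000000000000000000000010000000100000000000003000000000000000000030000000a0000000000000000000a0000000400000b0000000b00000400000004000012000000120000040400000c0000130400001300000c0100000b0000130100001300000b02000012000012030000120000120400000a0000120400001200000a0300000a00000a0200000a00000a0000000d00000a0000000a00000d02000001000000030000000000010000000500000300000003000005000000010000020000000200000100000006000000000000000000060000000100000e0000000e0000010400000f0000110400001100000f01000009000011010000110000090200001000000e0300000e00001002000008000010030000100000080100000700000f0100000f0000070200000e0000080300000800000e0100000600000e0100000e0000060200000a00000d0300000d00000a0100000500000d0100000d0000050100000400000c0100000c0000040200000b0000040300000400000b0400000300000b0400000b0000030100000300000a0100000a00000304000002000009040000090000020100000200000801000008000002040000010000070400000700000102000006000005030000050000060200000100000603000006000001030000010000050200000500000104000000000004040000040000000200000300000203000002000003020000000000030300000300000003000000000002020000020000000100000000000101000001000000))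
noncomputable def gs (y : ℕ) : ℕ := (sel (nat_lit 3) y (sel (nat_lit 1) y (nat_lit 0x0) (sel (nat_lit 2) y (nat_lit 0x0) (nat_lit 0x0))) (sel (nat_lit 4) y (nat_lit 0x0) (sel (nat_lit 5) y (nat_lit 0x8000000800000a0000221000023b800000600002160000236000021f800000900002030000234800000800002040000232000020f800000700002020000232000020c80000060000201000023100002228000005000022a000022800002120000215000022d000022e000022600002108000004000022c0000214000020600002040000201000021100002278000000800000100002250000229800000080000008000003000021200002020000201000020d000022380000008000003000021e000020a000020000002050000217800000080000008000002000020800002050000219800000080000008000000800000080000008000001000020a000020d800000080000008000000800000100002020000205800000080000008000000) (nat_lit 0x800000f800000f800000f800000f800000f800000f800000f800000f800000f800000f800000f800000f800000f800000f800000f800000f800000f800000f800000f800000f800000f800000f800000e0000251800000d0000201000024e80000060000200000024a0000216000024d800000c000020900002490000218800000c00002090000247000023e8000007000021b000024700002400000246800000b000023e000023d000023d0000216000021900002430000244000021c8000004000024200002180000204000023800002000000209000021d80000008000002000023e000023c000023f))))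
noncomputable def gd (y : ℕ) : ℕ := (nat_lit 0x242000023e000022c000022800002260000222000021e000021c00002180000216000021400002120000210000020c000020a00002080000204000020200002000000000)
noncomputable def gwh (y : ℕ) : ℕ := (sel (nat_lit 7) y (sel (nat_lit 3) y (sel (nat_lit 1) y (nat_lit 0x20202000000003000) (sel (nat_lit 2) y (nat_lit 0x4020402000000004001) (nat_lit 0x10201020102000003003002))) (sel (nat_lit 5) y (sel (nat_lit 4) y (nat_lit 0x104010303040104000001007003) (nat_lit 0x40104010401030300001006002003)) (sel (nat_lit 6) y (nat_lit 0x1000100001000003004) (nat_lit 0x3000200001000003005)))) (sel (nat_lit 10) y (sel (nat_lit 8) y (nat_lit 0x2000300001000003006) (sel (nat_lit 9) y (nat_lit 0x302000000002007) (nat_lit 0x203000000002008))) (sel (nat_lit 12) y (sel (nat_lit 11) y (nat_lit 0x10401040103030400001007001003) (nat_lit 0x4000400001000003009)) (sel (nat_lit 13) y (nat_lit 0x10100000000200a) (nat_lit 0x10600000000200b)))))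
def sg : List (List ℕ) := [[], [1], [2], [3], [4], [1], [1]]
def BL : List ℕ := [0x20202, 0x4020402, 0x20102010201, 0x401040103030401, 0x10001, 0x30002, 0x20003, 0x302, 0x203, 0x40004, 0x101, 0x106]
def Sub : List (List ℕ) := []
theorem hA : prepA 17213620480 PU12.R sg 1413989166940416 BL Sub get gd = true := by decide +kernel
theorem hw : allR (okW BL gwh) 0 14 = true := by decide +kernel
theorem b0 : allR (blk get gs (gwB gwh 14) gd 1413989166940416) 4 2 = true := by decide +kernel
theorem hb : ∀ b, 4 ≤ b → b < 6 → blk get gs (gwB gwh 14) gd 1413989166940416 b = true :=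
  (allR_range b0 (by norm_num : 4 + 2 = 6))
def TL : List (ℕ × List ℕ) := [(338, [1])]
theorem hM : prepM sg get 6 TL = true := by decide +kernel
theorem mem {G : Type*} [Group G] {ev : ℕ → G} (hev : Good ev 17213620480) (hR : Rels ev PU12.R) :
    ∀ w ∈ TL.map Prod.snd, evL ev w ∈ gen ev Sub :=
  cert_mem hev hR hA hM hw hb

end c

theorem res {G : Type*} [Group G] {v x u : G} (H : Rel v x u) : v = 1 := by
  have i_v : v⁻¹ = v := inv_eq_of_mul_eq_one_right H.hB.vv
  have i_u : u⁻¹ = u := inv_eq_of_mul_eq_one_right H.uu
  have h : v * 1 = 1 := rels_of_mem_nil (c.mem (good H) (rels H)) [1] (List.mem_of_elem_eq_true (by decide))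
  exact mul_inv_eq_one.mp (by simpa only [mul_inv_rev, inv_inv, mul_assoc, mul_one, one_mul, inv_one, pow_succ, pow_zero, i_v, i_u] using h)

end PU12

namespace PU20

structure Rel {G : Type*} [Group G] (v x u : G) : Prop where
  hB : PB.Rel v x
  uu : u * u = 1
  ux : u * x * u = x⁻¹
  uvu : u * v * u = (x * v * x⁻¹) * (u * x ^ 0) * (x * v * x⁻¹)

def R : List (List ℕ) := [[1, 1], [2, 2, 2], [2, 1, 2, 1, 2, 1], [4, 4], [4, 2, 4, 2], [4, 1, 4, 2, 1, 3, 4, 2, 1, 3]]

def ev {G : Type*} [Group G] (v x u : G) (l : ℕ) : G := [1, v, x, x⁻¹, u].getD l 1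

theorem good {G : Type*} [Group G] {v x u : G} (H : Rel v x u) : Good (ev v x u) 17213620480 := by
  have i_v : v⁻¹ = v := inv_eq_of_mul_eq_one_right H.hB.vv
  have i_u : u⁻¹ = u := inv_eq_of_mul_eq_one_right H.uu
  refine good_list (n := 5) rfl (by norm_num) rfl fun l hl => ?_
  interval_cases l
  · exact inv_one.symm
  · exact i_v.symm
  · rfl
  · exact (inv_inv _).symm
  · exact i_u.symm

theorem rels {G : Type*} [Group G] {v x u : G} (H : Rel v x u) : Rels (ev v x u) R := by
  have i_v : v⁻¹ = v := inv_eq_of_mul_eq_one_right H.hB.vv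
  have i_u : u⁻¹ = u := inv_eq_of_mul_eq_one_right H.uu
  unfold R
  refine Rels.cons ?_ ?_
  · show v * (v * 1) = 1
    simpa only [mul_inv_rev, inv_inv, mul_assoc, mul_one, one_mul, inv_one, pow_succ, pow_zero, i_v, i_u] using mul_inv_eq_one.mpr H.hB.vv
  refine Rels.cons ?_ ?_
  · show x * (x * (x * 1)) = 1
    simpa only [mul_inv_rev, inv_inv, mul_assoc, mul_one, one_mul, inv_one, pow_succ, pow_zero, i_v, i_u] using mul_inv_eq_one.mpr H.hB.x3
  refine Rels.cons ?_ ?_
  · show x * (v * (x * (v * (x * (v * 1))))) = 1
    simpa only [mul_inv_rev, inv_inv, mul_assoc, mul_one, one_mul, inv_one, pow_succ, pow_zero, i_v, i_u] using mul_inv_eq_one.mpr H.hB.xv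
  refine Rels.cons ?_ ?_
  · show u * (u * 1) = 1
    simpa only [mul_inv_rev, inv_inv, mul_assoc, mul_one, one_mul, inv_one, pow_succ, pow_zero, i_v, i_u] using mul_inv_eq_one.mpr H.uu
  refine Rels.cons ?_ ?_
  · show u * (x * (u * (x * 1))) = 1
    simpa only [mul_inv_rev, inv_inv, mul_assoc, mul_one, one_mul, inv_one, pow_succ, pow_zero, i_v, i_u] using mul_inv_eq_one.mpr H.ux
  refine Rels.cons ?_ ?_
  · show u * (v * (u * (x * (v * (x⁻¹ * (u * (x * (v * (x⁻¹ * 1))))))))) = 1
    simpa only [mul_inv_rev, inv_inv, mul_assoc, mul_one, one_mul, inv_one, pow_succ, pow_zero, i_v, i_u] using mul_inv_eq_one.mpr H.uvu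
  intro r hr
  exact absurd hr List.not_mem_nil

/-- The relations hold for the letters of any assignment satisfying the relators. -/
theorem rel_of {G : Type*} [Group G] {e : ℕ → G} (hg : Good e 17213620480) (hR : Rels e R) :
    Rel (e 1) (e 2) (e 4) := by
  have j1 : (e 1)⁻¹ = e 1 := (hg.inv 1).symm
  have j2 : (e 2)⁻¹ = e 3 := (hg.inv 2).symm
  have j3 : (e 3)⁻¹ = e 2 := (hg.inv 3).symm
  have j4 : (e 4)⁻¹ = e 4 := (hg.inv 4).symm
  have r0 : e 1 * (e 1 * 1) = 1 := hR [1, 1] (List.mem_of_elem_eq_true (by decide))
  have r1 : e 2 * (e 2 * (e 2 * 1)) = 1 := hR [2, 2, 2] (List.mem_of_elem_eq_true (by decide))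
  have r2 : e 2 * (e 1 * (e 2 * (e 1 * (e 2 * (e 1 * 1))))) = 1 := hR [2, 1, 2, 1, 2, 1] (List.mem_of_elem_eq_true (by decide))
  have r3 : e 4 * (e 4 * 1) = 1 := hR [4, 4] (List.mem_of_elem_eq_true (by decide))
  have r4 : e 4 * (e 2 * (e 4 * (e 2 * 1))) = 1 := hR [4, 2, 4, 2] (List.mem_of_elem_eq_true (by decide))
  have r5 : e 4 * (e 1 * (e 4 * (e 2 * (e 1 * (e 3 * (e 4 * (e 2 * (e 1 * (e 3 * 1))))))))) = 1 := hR [4, 1, 4, 2, 1, 3, 4, 2, 1, 3] (List.mem_of_elem_eq_true (by decide))
  exact ⟨⟨mul_inv_eq_one.mp (by simpa only [mul_inv_rev, mul_assoc, mul_one, one_mul, inv_one, pow_succ, pow_zero, j1, j2, j3, j4] using r0),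
    mul_inv_eq_one.mp (by simpa only [mul_inv_rev, mul_assoc, mul_one, one_mul, inv_one, pow_succ, pow_zero, j1, j2, j3, j4] using r1),
    mul_inv_eq_one.mp (by simpa only [mul_inv_rev, mul_assoc, mul_one, one_mul, inv_one, pow_succ, pow_zero, j1, j2, j3, j4] using r2)⟩,
    mul_inv_eq_one.mp (by simpa only [mul_inv_rev, mul_assoc, mul_one, one_mul, inv_one, pow_succ, pow_zero, j1, j2, j3, j4] using r3),
    mul_inv_eq_one.mp (by simpa only [mul_inv_rev, mul_assoc, mul_one, one_mul, inv_one, pow_succ, pow_zero, j1, j2, j3, j4] using r4),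
    mul_inv_eq_one.mp (by simpa only [mul_inv_rev, mul_assoc, mul_one, one_mul, inv_one, pow_succ, pow_zero, j1, j2, j3, j4] using r5)⟩

theorem gen_top : gen (pgEv 17213620480 R) [[1], [2], [4]] = ⊤ := pg_gen (n := 5) (by norm_num) (by decide)
namespace c

noncomputable def get (y : ℕ) : ℕ := (sel (nat_lit 1) y (nat_lit 0x0) (nat_lit 0x6000000000000050000000000000100000000000001000000000000000000010000000000000000000100000007000004000000040000070000000f0000040000000400000f0000000b0000190000001900000b04000015000015040000150000150100001500000d0100000d00001500000017000015000000150000170000000b00001b0000001b00000b040000170000170400001700001702000017000010030000100000170300001700001b0200001b0000170000001700001a0000001a0000170400001a00001a0400001a00001a0400001b0000100400001000001b0000001c00001b0000001b00001c0000001d0000100000001000001d0300000400000402000004000004000000120000070000000700001201000006000005010000050000060000000900000400000004000009020000000000000300000000000000000008000001000000010000080000000600001100000011000006010000050000110100001100000500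000000000002000000020000000000000500000e0000000e000005000000130000050000000500001300000003000000000000000000030000000c0000060000000600000c0000000a0000010000000100000a0000001600000f0000000f00001600000007000014000000140000070200001d00001c0300001c00001d0400001b00001d0400001d00001b0100001200001d0100001d0000120400001000001c0400001c0000100200001b00001a0300001a00001b0200001000001b0300001b0000100300001000001a0200001a0000100100000f0000190100001900000f02000012000018030000180000120400000e0000180400001800000e0100000d0000170100001700000d02000016000014030000140000160400000c0000160400001600000c0200000b0000150300001500000b0400000a0000140400001400000a01000011000013010000130000110300000a0000130200001300000a04000008000012040000120000080200001100000e0300000e000011020000080000110300001100000801000007000010010000100000070200000f0000070300000700000f0200000d00000f0300000f00000d0400000600000f0400000f0000060200000e0000080300000800000e0100000600000e0100000e0000060200000700000d0300000d0000070400000500000d0400000d0000050200000a00000c0300000c00000a0100000500000c0100000c0000050100000400000b0100000b0000040100000300000a0100000a000003020000040000090300000900000404000002000009040000090000020100000200000801000008000002040000010000070400000700000102000006000005030000050000060200000100000603000006000001030000010000050200000500000104000000000004040000040000000200000300000203000002000003020000000000030300000300000003000000000002020000020000000100000000000101000001000000))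
noncomputable def gs (y : ℕ) : ℕ := (sel (nat_lit 3) y (sel (nat_lit 1) y (nat_lit 0x0) (sel (nat_lit 2) y (nat_lit 0x0) (nat_lit 0x0))) (sel (nat_lit 5) y (sel (nat_lit 4) y (nat_lit 0x0) (nat_lit 0x800000080000008000000800000400002360000218000020700002130000231800000080000008000001000022700002318000000800000080000020000210000020d000022980000020000228000020f000022180000008000003000021200002020000201000020d0000225800000080000020000220000020a000021180000008000003000021c000020a00002000000205000021980000008000000800000080000020000214000020200002098000000800000080000008000001000020a000020d800000080000008000000800000100002020000205800000080000008000000)) (sel (nat_lit 6) y (nat_lit 0x800000f000024a000027c000024f800000e0000251000027b800000b000024c000027800002578000009000022e00002740000253800000d0000217000027180000080000210000026c0000235800000a0000269000026a8000008000020800002670000215800000c00002030000266800000b000020b000026500002278000009000026800002650000224800000a00002390000263800000700002020000260000020480000090000224000025e000021c8000007000020a000025c000023780000090000201000025c000021880000080000229000025a000023e800000800002110000259000023a8000007000022d000025900002408000006000023a00002370000238000023300002450000246000025300002570000250000022e80000020000250000024d000025580000050000252000023400002260000224000020f00002210000222000022f000024d800000080000008000001000024a000024d8000000800000080000008000002000024400002270000235800000080000008000002000023a000021f000023f)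 (nat_lit 0x80000148000014800001480000148000014800001480000148000014800001480000148000014800001480000148000014800001480000148000014800001480000130000299800000a000020100002978000008000020900002940000210800000b00002770000292000022d8000009000021b0000291000024880000120000248000022d0000210000020b0000272000020f0000221000028c000028f000023c8000011000028a0000287000028b800000a0000243000028b800000b000023c000028900002828000006000027d00002840000242000022b0000228000020c0000200000026f0000209000021b80000110000281000027f0000280800000c000024b0000280800000d000024f00002808000010000024a000027c000024c000022e0000223000022000002720000229000022a0000243))))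
noncomputable def gd (y : ℕ) : ℕ := (nat_lit 0x2520000250000024c000024a000024800002440000242000023e000023c000023a000023600002340000230000022e000022800002240000220000021c000021a0000218000021400002120000210000020c000020a00002080000204000020200002000000000)
noncomputable def gwh_0 (y : ℕ) : ℕ := (sel (nat_lit 8) y (sel (nat_lit 4) y (sel (nat_lit 2) y (sel (nat_lit 1) y (nat_lit 0x20202000000003000) (nat_lit 0x4020402000002002001)) (sel (nat_lit 3) y (nat_lit 0x10201020102000003003002) (nat_lit 0x20102010201000002004002))) (sel (nat_lit 6) y (sel (nat_lit 5) y (nat_lit 0x2010304020103040104000003007003) (nat_lit 0x104020103040201030400001001009003)) (sel (nat_lit 7) y (nat_lit 0x3000200001000003004) (nat_lit 0x4000400001000003005)))) (sel (nat_lit 12) y (sel (nat_lit 10) y (sel (nat_lit 9) y (nat_lit 0x1000100001000003006) (nat_lit 0x101000000002007)) (sel (nat_lit 11) y (nat_lit 0x2000300001000003008) (nat_lit 0x302000000002009))) (sel (nat_lit 14) y (sel (nat_lit 13) y (nat_lit 0x20300000000200a) (nat_lit 0x40400000000200b)) (sel (nat_lit 15) y (nat_lit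 0x2040204000003001001) (nat_lit 0x103040104020103040200001008002003)))))
noncomputable def gwh_1 (y : ℕ) : ℕ := (sel (nat_lit 17) y (nat_lit 0x40004000000003005) (sel (nat_lit 18) y (nat_lit 0x304010402010304020100001009001003) (nat_lit 0x10600000000200c)))
noncomputable def gwh (y : ℕ) : ℕ := (sel (nat_lit 16) y (gwh_0 y) (gwh_1 y))
def sg : List (List ℕ) := [[], [1], [2], [3], [4], [1], [1]]
def BL : List ℕ := [0x20202, 0x4020402, 0x20102010201, 0x4010402010304020103, 0x30002, 0x40004, 0x10001, 0x101, 0x20003, 0x302, 0x203, 0x404, 0x106]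
def Sub : List (List ℕ) := []
theorem hA : prepA 17213620480 PU20.R sg 1413989166940416 BL Sub get gd = true := by decide +kernel
theorem hw : allR (okW BL gwh) 0 19 = true := by decide +kernel
theorem b0 : allR (blk get gs (gwB gwh 19) gd 1413989166940416) 4 3 = true := by decide +kernel
theorem hb : ∀ b, 4 ≤ b → b < 7 → blk get gs (gwB gwh 19) gd 1413989166940416 b = true :=
  (allR_range b0 (by norm_num : 4 + 3 = 7))
def TL : List (ℕ × List ℕ) := [(410, [1])]
theorem hM : prepM sg get 7 TL = true := by decide +kernel
theorem mem {G : Type*} [Group G] {ev : ℕ → G} (hev : Good ev 17213620480) (hR : Rels ev PU20.R) :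
    ∀ w ∈ TL.map Prod.snd, evL ev w ∈ gen ev Sub :=
  cert_mem hev hR hA hM hw hb

end c

theorem res {G : Type*} [Group G] {v x u : G} (H : Rel v x u) : v = 1 := by
  have i_v : v⁻¹ = v := inv_eq_of_mul_eq_one_right H.hB.vv
  have i_u : u⁻¹ = u := inv_eq_of_mul_eq_one_right H.uu
  have h : v * 1 = 1 := rels_of_mem_nil (c.mem (good H) (rels H)) [1] (List.mem_of_elem_eq_true (by decide))
  exact mul_inv_eq_one.mp (by simpa only [mul_inv_rev, inv_inv, mul_assoc, mul_one, one_mul, inv_one, pow_succ, pow_zero, i_v, i_u] using h)

end PU20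

namespace PU21

structure Rel {G : Type*} [Group G] (v x u : G) : Prop where
  hB : PB.Rel v x
  uu : u * u = 1
  ux : u * x * u = x⁻¹
  uvu : u * v * u = (x * v * x⁻¹) * (u * x ^ 1) * (x * v * x⁻¹)

def R : List (List ℕ) := [[1, 1], [2, 2, 2], [2, 1, 2, 1, 2, 1], [4, 4], [4, 2, 4, 2], [4, 1, 4, 2, 1, 3, 3, 4, 2, 1, 3]]

def ev {G : Type*} [Group G] (v x u : G) (l : ℕ) : G := [1, v, x, x⁻¹, u].getD l 1

theorem good {G : Type*} [Group G] {v x u : G} (H : Rel v x u) : Good (ev v x u) 17213620480 := by
  have i_v : v⁻¹ = v := inv_eq_of_mul_eq_one_right H.hB.vv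
  have i_u : u⁻¹ = u := inv_eq_of_mul_eq_one_right H.uu
  refine good_list (n := 5) rfl (by norm_num) rfl fun l hl => ?_
  interval_cases l
  · exact inv_one.symm
  · exact i_v.symm
  · rfl
  · exact (inv_inv _).symm
  · exact i_u.symm

theorem rels {G : Type*} [Group G] {v x u : G} (H : Rel v x u) : Rels (ev v x u) R := by
  have i_v : v⁻¹ = v := inv_eq_of_mul_eq_one_right H.hB.vv
  have i_u : u⁻¹ = u := inv_eq_of_mul_eq_one_right H.uu
  unfold R
  refine Rels.cons ?_ ?_
  · show v * (v * 1) = 1
    simpa only [mul_inv_rev, inv_inv, mul_assoc, mul_one, one_mul, inv_one, pow_succ, pow_zero, i_v, i_u] using mul_inv_eq_one.mpr H.hB.vv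
  refine Rels.cons ?_ ?_
  · show x * (x * (x * 1)) = 1
    simpa only [mul_inv_rev, inv_inv, mul_assoc, mul_one, one_mul, inv_one, pow_succ, pow_zero, i_v, i_u] using mul_inv_eq_one.mpr H.hB.x3
  refine Rels.cons ?_ ?_
  · show x * (v * (x * (v * (x * (v * 1))))) = 1
    simpa only [mul_inv_rev, inv_inv, mul_assoc, mul_one, one_mul, inv_one, pow_succ, pow_zero, i_v, i_u] using mul_inv_eq_one.mpr H.hB.xv
  refine Rels.cons ?_ ?_
  · show u * (u * 1) = 1
    simpa only [mul_inv_rev, inv_inv, mul_assoc, mul_one, one_mul, inv_one, pow_succ, pow_zero, i_v, i_u] using mul_inv_eq_one.mpr H.uu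
  refine Rels.cons ?_ ?_
  · show u * (x * (u * (x * 1))) = 1
    simpa only [mul_inv_rev, inv_inv, mul_assoc, mul_one, one_mul, inv_one, pow_succ, pow_zero, i_v, i_u] using mul_inv_eq_one.mpr H.ux
  refine Rels.cons ?_ ?_
  · show u * (v * (u * (x * (v * (x⁻¹ * (x⁻¹ * (u * (x * (v * (x⁻¹ * 1)))))))))) = 1
    simpa only [mul_inv_rev, inv_inv, mul_assoc, mul_one, one_mul, inv_one, pow_succ, pow_zero, i_v, i_u] using mul_inv_eq_one.mpr H.uvu
  intro r hr
  exact absurd hr List.not_mem_nil

/-- The relations hold for the letters of any assignment satisfying the relators. -/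
theorem rel_of {G : Type*} [Group G] {e : ℕ → G} (hg : Good e 17213620480) (hR : Rels e R) :
    Rel (e 1) (e 2) (e 4) := by
  have j1 : (e 1)⁻¹ = e 1 := (hg.inv 1).symm
  have j2 : (e 2)⁻¹ = e 3 := (hg.inv 2).symm
  have j3 : (e 3)⁻¹ = e 2 := (hg.inv 3).symm
  have j4 : (e 4)⁻¹ = e 4 := (hg.inv 4).symm
  have r0 : e 1 * (e 1 * 1) = 1 := hR [1, 1] (List.mem_of_elem_eq_true (by decide))
  have r1 : e 2 * (e 2 * (e 2 * 1)) = 1 := hR [2, 2, 2] (List.mem_of_elem_eq_true (by decide))
  have r2 : e 2 * (e 1 * (e 2 * (e 1 * (e 2 * (e 1 * 1))))) = 1 := hR [2, 1, 2, 1, 2, 1] (List.mem_of_elem_eq_true (by decide))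
  have r3 : e 4 * (e 4 * 1) = 1 := hR [4, 4] (List.mem_of_elem_eq_true (by decide))
  have r4 : e 4 * (e 2 * (e 4 * (e 2 * 1))) = 1 := hR [4, 2, 4, 2] (List.mem_of_elem_eq_true (by decide))
  have r5 : e 4 * (e 1 * (e 4 * (e 2 * (e 1 * (e 3 * (e 3 * (e 4 * (e 2 * (e 1 * (e 3 * 1)))))))))) = 1 := hR [4, 1, 4, 2, 1, 3, 3, 4, 2, 1, 3] (List.mem_of_elem_eq_true (by decide))
  exact ⟨⟨mul_inv_eq_one.mp (by simpa only [mul_inv_rev, mul_assoc, mul_one, one_mul, inv_one, pow_succ, pow_zero, j1, j2, j3, j4] using r0),
    mul_inv_eq_one.mp (by simpa only [mul_inv_rev, mul_assoc, mul_one, one_mul, inv_one, pow_succ, pow_zero, j1, j2, j3, j4] using r1),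
    mul_inv_eq_one.mp (by simpa only [mul_inv_rev, mul_assoc, mul_one, one_mul, inv_one, pow_succ, pow_zero, j1, j2, j3, j4] using r2)⟩,
    mul_inv_eq_one.mp (by simpa only [mul_inv_rev, mul_assoc, mul_one, one_mul, inv_one, pow_succ, pow_zero, j1, j2, j3, j4] using r3),
    mul_inv_eq_one.mp (by simpa only [mul_inv_rev, mul_assoc, mul_one, one_mul, inv_one, pow_succ, pow_zero, j1, j2, j3, j4] using r4),
    mul_inv_eq_one.mp (by simpa only [mul_inv_rev, mul_assoc, mul_one, one_mul, inv_one, pow_succ, pow_zero, j1, j2, j3, j4] using r5)⟩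

theorem gen_top : gen (pgEv 17213620480 R) [[1], [2], [4]] = ⊤ := pg_gen (n := 5) (by norm_num) (by decide)
namespace c

noncomputable def get (y : ℕ) : ℕ := (sel (nat_lit 1) y (nat_lit 0x0) (nat_lit 0x60000000000000500000000000001000000000000010000000000000000000100000000000000000001000000070000040000000400000700000007000014000000140000070200001100000c0300000c00001100000011000016000000160000110400001500000c0400000c0000150300001500000c0200000c00001500000017000015000000150000170400001700000c0400000c000017020000140000140300001400001400000018000017000000170000180300000b0000070200000700000b000000190000140000001400001902000004000007030000070000040000001b00000c0000000c00001b0000000e00000b0000000b00000e0000000d00000a0000000a00000d000000100000040000000400001003000000000001020000010000000000000300000500000005000003000000060000000000000000000600000012000003000000030000120000000f0000010000000100000f00000002000001000000010000020000000f0000020000000200000f00000008000000000000000000080000001a0000090000000900001a00000004000013000000130000040200001b000018030000180000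1b0400001700001b0400001b0000170100001000001b0100001b0000100200001300001a0300001a0000130400000f00001a0400001a00000f02000019000014030000140000190400000d0000190400001900000d0400000c0000180400001800000c02000017000016030000160000170200000c0000170300001700000c0300000c0000160200001600000c0100000b0000150100001500000b0400000a0000140400001400000a04000008000013040000130000080200001200000f0300000f00001202000008000012030000120000080100000700001101000011000007020000100000070300000700001004000006000010040000100000060200000f0000080300000800000f0100000600000f0100000f0000060200000700000e0300000e0000070400000500000e0400000e0000050200000a00000d0300000d00000a0100000500000d0100000d0000050100000400000c0100000c0000040200000b0000040300000400000b0200000900000b0300000b0000090400000300000b0400000b0000030100000300000a0100000a000003020000040000090300000900000404000002000009040000090000020100000200000801000008000002040000010000070400000700000102000006000005030000050000060200000100000603000006000001030000010000050200000500000104000000000004040000040000000200000300000203000002000003020000000000030300000300000003000000000002020000020000000100000000000101000001000000))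
noncomputable def gs (y : ℕ) : ℕ := (sel (nat_lit 3) y (sel (nat_lit 1) y (nat_lit 0x0) (sel (nat_lit 2) y (nat_lit 0x0) (nat_lit 0x0))) (sel (nat_lit 5) y (sel (nat_lit 4) y (nat_lit 0x0) (nat_lit 0x80000008000000800000080000008000001000022d00002358000000800000080000020000210000020d000022f80000008000003000021200002020000201000020d000022b800000080000020000226000020a0000211800000080000030000222000020a00002000000205000021980000008000000800000200002080000205000021b8000002000021a000020700002158000000800000080000020000214000020200002098000000800000080000008000001000020a000020d800000080000008000000800000100002020000205800000080000008000000)) (sel (nat_lit 6) y (nat_lit 0x800000a0000241000027d800000d000023c000021f000020800002010000211000027000002210000241000027b000023f0000242800000c00002450000277800000b0000248000027380000060000240000026e0000253800000a0000229000026d8000007000023a000026a0000247800000b00002300000269800000800002200000268000024f8000007000021a000026500002278000008000021800002650000223800000700002080000262000022f800000a000020d00002638000009000020a000025e0000236000026180000080000201000025e000022a80000060000204000025800002358000011000025c000025a8000008000020000002580000212800000700002150000256000024a8000007000020900002550000238800000600002160000255000024d80000050000238000022c000022a000020f000022700002280000230000024f00002530000244000022080000020000244000024100002518000004000024e000022e000020c00002000000205000021b000021c00002160000221000024180000008000002000024a000022d000023980000008000002000023a00002250000247800000080000008000001000023e00002418000000)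 (nat_lit 0x8000011800001180000118000011800001180000118000011800001180000118000011800001180000118000011800001180000118000011800001180000118000011800001180000118000011800001180000118000010000028d800000f0000201000028b800000700002090000288000021080000090000271000028700002780000286800000e0000279000023a0000218000021b0000275000023300002850000280000027f00002840000232800000b000023f0000282800000e000023e0000280000023c000021a0000204000020100002660000209000021e00002750000233800000c000027a000027d))))
noncomputable def gd (y : ℕ) : ℕ := (nat_lit 0x24e000024a000024600002440000240000023e000023c000023a000023800002340000232000022e000022a000022600002220000220000021a0000218000021400002120000210000020c000020a00002080000204000020200002000000000)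
noncomputable def gwh (y : ℕ) : ℕ := (sel (nat_lit 8) y (sel (nat_lit 4) y (sel (nat_lit 2) y (sel (nat_lit 1) y (nat_lit 0x20202000000003000) (nat_lit 0x4020402000002002001)) (sel (nat_lit 3) y (nat_lit 0x10201020102000003003002) (nat_lit 0x201030304020103040104000003008003))) (sel (nat_lit 6) y (sel (nat_lit 5) y (nat_lit 0x1040201030304020103040000100100a003) (nat_lit 0x2000300001000003004)) (sel (nat_lit 7) y (nat_lit 0x4000400001000003005) (nat_lit 0x1000100001000003006)))) (sel (nat_lit 12) y (sel (nat_lit 10) y (sel (nat_lit 9) y (nat_lit 0x3000200001000003007) (nat_lit 0x203000000002008)) (sel (nat_lit 11) y (nat_lit 0x302000000002009) (nat_lit 0x40400000000200a))) (sel (nat_lit 14) y (sel (nat_lit 13) y (nat_lit 0x30304020103040104020100001005006003) (nat_lit 0x10303040201030401040200001004007003)) (sel (nat_lit 15) y (nat_lit 0x10100000000200b) (nat_lit 0x10600000000200c)))))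
def sg : List (List ℕ) := [[], [1], [2], [3], [4], [1], [1]]
def BL : List ℕ := [0x20202, 0x4020402, 0x20102010201, 0x401040201030304020103, 0x20003, 0x40004, 0x10001, 0x30002, 0x203, 0x302, 0x404, 0x101, 0x106]
def Sub : List (List ℕ) := []
theorem hA : prepA 17213620480 PU21.R sg 1413989166940416 BL Sub get gd = true := by decide +kernel
theorem hw : allR (okW BL gwh) 0 16 = true := by decide +kernel
theorem b0 : allR (blk get gs (gwB gwh 16) gd 1413989166940416) 4 3 = true := by decide +kernel
theorem hb : ∀ b, 4 ≤ b → b < 7 → blk get gs (gwB gwh 16) gd 1413989166940416 b = true :=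
  (allR_range b0 (by norm_num : 4 + 3 = 7))
def TL : List (ℕ × List ℕ) := [(398, [1])]
theorem hM : prepM sg get 7 TL = true := by decide +kernel
theorem mem {G : Type*} [Group G] {ev : ℕ → G} (hev : Good ev 17213620480) (hR : Rels ev PU21.R) :
    ∀ w ∈ TL.map Prod.snd, evL ev w ∈ gen ev Sub :=
  cert_mem hev hR hA hM hw hb

end c

theorem res {G : Type*} [Group G] {v x u : G} (H : Rel v x u) : v = 1 := by
  have i_v : v⁻¹ = v := inv_eq_of_mul_eq_one_right H.hB.vv
  have i_u : u⁻¹ = u := inv_eq_of_mul_eq_one_right H.uu
  have h : v * 1 = 1 := rels_of_mem_nil (c.mem (good H) (rels H)) [1] (List.mem_of_elem_eq_true (by decide))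
  exact mul_inv_eq_one.mp (by simpa only [mul_inv_rev, inv_inv, mul_assoc, mul_one, one_mul, inv_one, pow_succ, pow_zero, i_v, i_u] using h)

end PU21

namespace PU22

structure Rel {G : Type*} [Group G] (v x u : G) : Prop where
  hB : PB.Rel v x
  uu : u * u = 1
  ux : u * x * u = x⁻¹
  uvu : u * v * u = (x * v * x⁻¹) * (u * x ^ 2) * (x * v * x⁻¹)

def R : List (List ℕ) := [[1, 1], [2, 2, 2], [2, 1, 2, 1, 2, 1], [4, 4], [4, 2, 4, 2], [4, 1, 4, 2, 1, 3, 3, 3, 4, 2, 1, 3]]

def ev {G : Type*} [Group G] (v x u : G) (l : ℕ) : G := [1, v, x, x⁻¹, u].getD l 1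

theorem good {G : Type*} [Group G] {v x u : G} (H : Rel v x u) : Good (ev v x u) 17213620480 := by
  have i_v : v⁻¹ = v := inv_eq_of_mul_eq_one_right H.hB.vv
  have i_u : u⁻¹ = u := inv_eq_of_mul_eq_one_right H.uu
  refine good_list (n := 5) rfl (by norm_num) rfl fun l hl => ?_
  interval_cases l
  · exact inv_one.symm
  · exact i_v.symm
  · rfl
  · exact (inv_inv _).symm
  · exact i_u.symm

theorem rels {G : Type*} [Group G] {v x u : G} (H : Rel v x u) : Rels (ev v x u) R := by
  have i_v : v⁻¹ = v := inv_eq_of_mul_eq_one_right H.hB.vv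
  have i_u : u⁻¹ = u := inv_eq_of_mul_eq_one_right H.uu
  unfold R
  refine Rels.cons ?_ ?_
  · show v * (v * 1) = 1
    simpa only [mul_inv_rev, inv_inv, mul_assoc, mul_one, one_mul, inv_one, pow_succ, pow_zero, i_v, i_u] using mul_inv_eq_one.mpr H.hB.vv
  refine Rels.cons ?_ ?_
  · show x * (x * (x * 1)) = 1
    simpa only [mul_inv_rev, inv_inv, mul_assoc, mul_one, one_mul, inv_one, pow_succ, pow_zero, i_v, i_u] using mul_inv_eq_one.mpr H.hB.x3
  refine Rels.cons ?_ ?_
  · show x * (v * (x * (v * (x * (v * 1))))) = 1
    simpa only [mul_inv_rev, inv_inv, mul_assoc, mul_one, one_mul, inv_one, pow_succ, pow_zero, i_v, i_u] using mul_inv_eq_one.mpr H.hB.xv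
  refine Rels.cons ?_ ?_
  · show u * (u * 1) = 1
    simpa only [mul_inv_rev, inv_inv, mul_assoc, mul_one, one_mul, inv_one, pow_succ, pow_zero, i_v, i_u] using mul_inv_eq_one.mpr H.uu
  refine Rels.cons ?_ ?_
  · show u * (x * (u * (x * 1))) = 1
    simpa only [mul_inv_rev, inv_inv, mul_assoc, mul_one, one_mul, inv_one, pow_succ, pow_zero, i_v, i_u] using mul_inv_eq_one.mpr H.ux
  refine Rels.cons ?_ ?_
  · show u * (v * (u * (x * (v * (x⁻¹ * (x⁻¹ * (x⁻¹ * (u * (x * (v * (x⁻¹ * 1))))))))))) = 1
    simpa only [mul_inv_rev, inv_inv, mul_assoc, mul_one, one_mul, inv_one, pow_succ, pow_zero, i_v, i_u] using mul_inv_eq_one.mpr H.uvu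
  intro r hr
  exact absurd hr List.not_mem_nil

/-- The relations hold for the letters of any assignment satisfying the relators. -/
theorem rel_of {G : Type*} [Group G] {e : ℕ → G} (hg : Good e 17213620480) (hR : Rels e R) :
    Rel (e 1) (e 2) (e 4) := by
  have j1 : (e 1)⁻¹ = e 1 := (hg.inv 1).symm
  have j2 : (e 2)⁻¹ = e 3 := (hg.inv 2).symm
  have j3 : (e 3)⁻¹ = e 2 := (hg.inv 3).symm
  have j4 : (e 4)⁻¹ = e 4 := (hg.inv 4).symm
  have r0 : e 1 * (e 1 * 1) = 1 := hR [1, 1] (List.mem_of_elem_eq_true (by decide))
  have r1 : e 2 * (e 2 * (e 2 * 1)) = 1 := hR [2, 2, 2] (List.mem_of_elem_eq_true (by decide))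
  have r2 : e 2 * (e 1 * (e 2 * (e 1 * (e 2 * (e 1 * 1))))) = 1 := hR [2, 1, 2, 1, 2, 1] (List.mem_of_elem_eq_true (by decide))
  have r3 : e 4 * (e 4 * 1) = 1 := hR [4, 4] (List.mem_of_elem_eq_true (by decide))
  have r4 : e 4 * (e 2 * (e 4 * (e 2 * 1))) = 1 := hR [4, 2, 4, 2] (List.mem_of_elem_eq_true (by decide))
  have r5 : e 4 * (e 1 * (e 4 * (e 2 * (e 1 * (e 3 * (e 3 * (e 3 * (e 4 * (e 2 * (e 1 * (e 3 * 1))))))))))) = 1 := hR [4, 1, 4, 2, 1, 3, 3, 3, 4, 2, 1, 3] (List.mem_of_elem_eq_true (by decide))
  exact ⟨⟨mul_inv_eq_one.mp (by simpa only [mul_inv_rev, mul_assoc, mul_one, one_mul, inv_one, pow_succ, pow_zero, j1, j2, j3, j4] using r0),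
    mul_inv_eq_one.mp (by simpa only [mul_inv_rev, mul_assoc, mul_one, one_mul, inv_one, pow_succ, pow_zero, j1, j2, j3, j4] using r1),
    mul_inv_eq_one.mp (by simpa only [mul_inv_rev, mul_assoc, mul_one, one_mul, inv_one, pow_succ, pow_zero, j1, j2, j3, j4] using r2)⟩,
    mul_inv_eq_one.mp (by simpa only [mul_inv_rev, mul_assoc, mul_one, one_mul, inv_one, pow_succ, pow_zero, j1, j2, j3, j4] using r3),
    mul_inv_eq_one.mp (by simpa only [mul_inv_rev, mul_assoc, mul_one, one_mul, inv_one, pow_succ, pow_zero, j1, j2, j3, j4] using r4),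
    mul_inv_eq_one.mp (by simpa only [mul_inv_rev, mul_assoc, mul_one, one_mul, inv_one, pow_succ, pow_zero, j1, j2, j3, j4] using r5)⟩

theorem gen_top : gen (pgEv 17213620480 R) [[1], [2], [4]] = ⊤ := pg_gen (n := 5) (by norm_num) (by decide)
namespace c

noncomputable def get (y : ℕ) : ℕ := (sel (nat_lit 1) y (nat_lit 0x0) (nat_lit 0x600000000000005000000000000010000000000080100000800000000000000000009000000090000000000000800000a0000000a0000080400000d0000050400000500000d0200000300000d0300000d0000030200000c0000020300000200000c0200000100000c0300000c0000010400000b0000020400000200000b0200000000000b0300000b0000000100000000000a0100000a000000010000080000090100000900000803000007000008020000080000070400000600000704000007000006010000050000060100000600000503000004000005020000050000040400000300000404000004000003010000020000030100000300000203000001000002020000020000010400000000000104000001000000))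
noncomputable def gs (y : ℕ) : ℕ := (sel (nat_lit 2) y (sel (nat_lit 1) y (nat_lit 0x0) (nat_lit 0x0)) (sel (nat_lit 3) y (nat_lit 0x0) (sel (nat_lit 4) y (nat_lit 0x0) (nat_lit 0x80000078000007800000780000078000007800000780000078000007800000780000078000007800000780000060000225000020e000020c000020a0000208000020600002040000202000020080000050000211000022280000040000210000022100002128000003000021200002150000217000021a000021800002030000205000021d000021f000020b000020d000020f800000100002080000206000021d80000008000002000020200002198000000800000100002020000200000021580000008000000800000080000008000000800000080000008000000800000080000008000000))))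
noncomputable def gd (y : ℕ) : ℕ := (nat_lit 0x21c0000218000021400002120000210000020e000020c000020a000020800002060000204000020200002000000000)
noncomputable def gwh (y : ℕ) : ℕ := (sel (nat_lit 3) y (sel (nat_lit 1) y (nat_lit 0x2040204000001003000) (sel (nat_lit 2) y (nat_lit 0x20202000000003001) (nat_lit 0x304010402010303030402010000100b001002))) (sel (nat_lit 4) y (nat_lit 0x1000100001000003003) (sel (nat_lit 5) y (nat_lit 0x101000000002004) (nat_lit 0x402010402010402010600000000a005))))
def sg : List (List ℕ) := [[], [1], [2], [3], [4], [4, 2, 1, 4, 2, 1, 4, 2, 1], [1, 3, 4, 1, 3, 4, 1, 3, 4]]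
def BL : List ℕ := [0x4020402, 0x20202, 0x40104020103030304020103, 0x10001, 0x101, 0x4020104020104020106]
def Sub : List (List ℕ) := []
theorem hA : prepA 17213620480 PU22.R sg 1413989166940416 BL Sub get gd = true := by decide +kernel
theorem hw : allR (okW BL gwh) 0 6 = true := by decide +kernel
theorem b0 : allR (blk get gs (gwB gwh 6) gd 1413989166940416) 4 1 = true := by decide +kernel
theorem hb : ∀ b, 4 ≤ b → b < 5 → blk get gs (gwB gwh 6) gd 1413989166940416 b = true :=
  (allR_range b0 (by norm_num : 4 + 1 = 5))
def TL : List (ℕ × List ℕ) := [(294, [4, 2, 1, 4, 2, 1, 4, 2, 1])]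
theorem hM : prepM sg get 5 TL = true := by decide +kernel
theorem mem {G : Type*} [Group G] {ev : ℕ → G} (hev : Good ev 17213620480) (hR : Rels ev PU22.R) :
    ∀ w ∈ TL.map Prod.snd, evL ev w ∈ gen ev Sub :=
  cert_mem hev hR hA hM hw hb

end c

theorem res {G : Type*} [Group G] {v x u : G} (H : Rel v x u) : (u * x ^ 1 * v) ^ 3 = 1 := by
  have i_v : v⁻¹ = v := inv_eq_of_mul_eq_one_right H.hB.vv
  have i_u : u⁻¹ = u := inv_eq_of_mul_eq_one_right H.uu
  have h : u * (x * (v * (u * (x * (v * (u * (x * (v * 1)))))))) = 1 := rels_of_mem_nil (c.mem (good H) (rels H)) [4, 2, 1, 4, 2, 1, 4, 2, 1] (List.mem_of_elem_eq_true (by decide))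
  exact mul_inv_eq_one.mp (by simpa only [mul_inv_rev, inv_inv, mul_assoc, mul_one, one_mul, inv_one, pow_succ, pow_zero, i_v, i_u] using h)

end PU22

namespace PU30

structure Rel {G : Type*} [Group G] (v x u : G) : Prop where
  hB : PB.Rel v x
  uu : u * u = 1
  ux : u * x * u = x⁻¹
  uvu : u * v * u = (x⁻¹ * v * x) * (u * x ^ 0) * (x⁻¹ * v * x)

def R : List (List ℕ) := [[1, 1], [2, 2, 2], [2, 1, 2, 1, 2, 1], [4, 4], [4, 2, 4, 2], [4, 1, 4, 3, 1, 2, 4, 3, 1, 2]]

def ev {G : Type*} [Group G] (v x u : G) (l : ℕ) : G := [1, v, x, x⁻¹, u].getD l 1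

theorem good {G : Type*} [Group G] {v x u : G} (H : Rel v x u) : Good (ev v x u) 17213620480 := by
  have i_v : v⁻¹ = v := inv_eq_of_mul_eq_one_right H.hB.vv
  have i_u : u⁻¹ = u := inv_eq_of_mul_eq_one_right H.uu
  refine good_list (n := 5) rfl (by norm_num) rfl fun l hl => ?_
  interval_cases l
  · exact inv_one.symm
  · exact i_v.symm
  · rfl
  · exact (inv_inv _).symm
  · exact i_u.symm

theorem rels {G : Type*} [Group G] {v x u : G} (H : Rel v x u) : Rels (ev v x u) R := by
  have i_v : v⁻¹ = v := inv_eq_of_mul_eq_one_right H.hB.vv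
  have i_u : u⁻¹ = u := inv_eq_of_mul_eq_one_right H.uu
  unfold R
  refine Rels.cons ?_ ?_
  · show v * (v * 1) = 1
    simpa only [mul_inv_rev, inv_inv, mul_assoc, mul_one, one_mul, inv_one, pow_succ, pow_zero, i_v, i_u] using mul_inv_eq_one.mpr H.hB.vv
  refine Rels.cons ?_ ?_
  · show x * (x * (x * 1)) = 1
    simpa only [mul_inv_rev, inv_inv, mul_assoc, mul_one, one_mul, inv_one, pow_succ, pow_zero, i_v, i_u] using mul_inv_eq_one.mpr H.hB.x3
  refine Rels.cons ?_ ?_
  · show x * (v * (x * (v * (x * (v * 1))))) = 1
    simpa only [mul_inv_rev, inv_inv, mul_assoc, mul_one, one_mul, inv_one, pow_succ, pow_zero, i_v, i_u] using mul_inv_eq_one.mpr H.hB.xv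
  refine Rels.cons ?_ ?_
  · show u * (u * 1) = 1
    simpa only [mul_inv_rev, inv_inv, mul_assoc, mul_one, one_mul, inv_one, pow_succ, pow_zero, i_v, i_u] using mul_inv_eq_one.mpr H.uu
  refine Rels.cons ?_ ?_
  · show u * (x * (u * (x * 1))) = 1
    simpa only [mul_inv_rev, inv_inv, mul_assoc, mul_one, one_mul, inv_one, pow_succ, pow_zero, i_v, i_u] using mul_inv_eq_one.mpr H.ux
  refine Rels.cons ?_ ?_
  · show u * (v * (u * (x⁻¹ * (v * (x * (u * (x⁻¹ * (v * (x * 1))))))))) = 1
    simpa only [mul_inv_rev, inv_inv, mul_assoc, mul_one, one_mul, inv_one, pow_succ, pow_zero, i_v, i_u] using mul_inv_eq_one.mpr H.uvu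
  intro r hr
  exact absurd hr List.not_mem_nil

/-- The relations hold for the letters of any assignment satisfying the relators. -/
theorem rel_of {G : Type*} [Group G] {e : ℕ → G} (hg : Good e 17213620480) (hR : Rels e R) :
    Rel (e 1) (e 2) (e 4) := by
  have j1 : (e 1)⁻¹ = e 1 := (hg.inv 1).symm
  have j2 : (e 2)⁻¹ = e 3 := (hg.inv 2).symm
  have j3 : (e 3)⁻¹ = e 2 := (hg.inv 3).symm
  have j4 : (e 4)⁻¹ = e 4 := (hg.inv 4).symm
  have r0 : e 1 * (e 1 * 1) = 1 := hR [1, 1] (List.mem_of_elem_eq_true (by decide))
  have r1 : e 2 * (e 2 * (e 2 * 1)) = 1 := hR [2, 2, 2] (List.mem_of_elem_eq_true (by decide))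
  have r2 : e 2 * (e 1 * (e 2 * (e 1 * (e 2 * (e 1 * 1))))) = 1 := hR [2, 1, 2, 1, 2, 1] (List.mem_of_elem_eq_true (by decide))
  have r3 : e 4 * (e 4 * 1) = 1 := hR [4, 4] (List.mem_of_elem_eq_true (by decide))
  have r4 : e 4 * (e 2 * (e 4 * (e 2 * 1))) = 1 := hR [4, 2, 4, 2] (List.mem_of_elem_eq_true (by decide))
  have r5 : e 4 * (e 1 * (e 4 * (e 3 * (e 1 * (e 2 * (e 4 * (e 3 * (e 1 * (e 2 * 1))))))))) = 1 := hR [4, 1, 4, 3, 1, 2, 4, 3, 1, 2] (List.mem_of_elem_eq_true (by decide))
  exact ⟨⟨mul_inv_eq_one.mp (by simpa only [mul_inv_rev, mul_assoc, mul_one, one_mul, inv_one, pow_succ, pow_zero, j1, j2, j3, j4] using r0),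
    mul_inv_eq_one.mp (by simpa only [mul_inv_rev, mul_assoc, mul_one, one_mul, inv_one, pow_succ, pow_zero, j1, j2, j3, j4] using r1),
    mul_inv_eq_one.mp (by simpa only [mul_inv_rev, mul_assoc, mul_one, one_mul, inv_one, pow_succ, pow_zero, j1, j2, j3, j4] using r2)⟩,
    mul_inv_eq_one.mp (by simpa only [mul_inv_rev, mul_assoc, mul_one, one_mul, inv_one, pow_succ, pow_zero, j1, j2, j3, j4] using r3),
    mul_inv_eq_one.mp (by simpa only [mul_inv_rev, mul_assoc, mul_one, one_mul, inv_one, pow_succ, pow_zero, j1, j2, j3, j4] using r4),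
    mul_inv_eq_one.mp (by simpa only [mul_inv_rev, mul_assoc, mul_one, one_mul, inv_one, pow_succ, pow_zero, j1, j2, j3, j4] using r5)⟩

theorem gen_top : gen (pgEv 17213620480 R) [[1], [2], [4]] = ⊤ := pg_gen (n := 5) (by norm_num) (by decide)
namespace c

noncomputable def get (y : ℕ) : ℕ := (sel (nat_lit 1) y (nat_lit 0x0) (nat_lit 0x600000000000005000000000000010000000000000100000000000000000001000000000000000000010000000c0000000000000000000c0000000a0000000000000000000a0000000f0000000000000000000f0000000e0000000000000000000e00000007000001000000010000070000000a00000c0000000c00000a0000000e00000f0000000f00000e00000014000007000000070000140200000f0000140300001400000f0300000f00000a0200000a00000f04000014000014040000140000140100001400000e0100000e0000140000000f0000150000001500000f00000017000014000000140000170000000a0000180000001800000a040000170000170400001700001702000017000018030000180000170300001700000f0200000f00001700000017000019000000190000170400001800000f0400000f0000180000001a0000180000001800001a0000001c00000f0000000f00001c000000110000070000000700001101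00000600000501000005000006020000000000000300000000000000000008000001000000010000080000000600001000000010000006010000050000100100001000000500000000000002000000020000000000000500000d0000000d000005000000120000050000000500001200000003000000000000000000030000000b0000060000000600000b00000009000001000000010000090000001600000e0000000e00001600000007000013000000130000070400001c0000180400001800001c0200001a00001c0300001c00001a0100001100001c0100001c0000110200001b0000110300001100001b0400001000001b0400001b0000100400000f00001a0400001a00000f02000019000018030000180000190200000f0000190300001900000f0300000f0000180200001800000f0100000e0000170100001700000e02000016000013030000130000160400000b0000160400001600000b02000015000014030000140000150200000a0000150300001500000a0300000a0000140200001400000a040000090000130400001300000901000010000012010000120000100200000b0000120300001200000b030000090000120200001200000904000008000011040000110000080200001000000d0300000d00001002000008000010030000100000080100000700000f0100000f0000070200000e0000070300000700000e0200000c00000e0300000e00000c0400000600000e0400000e0000060200000d0000080300000800000d0100000600000d0100000d0000060200000700000c0300000c0000070400000500000c0400000c0000050200000900000b0300000b0000090100000500000b0100000b0000050100000400000a0100000a00000401000003000009010000090000030100000200000801000008000002040000010000070400000700000102000006000005030000050000060200000100000603000006000001030000010000050200000500000104000000000004040000040000000200000300000203000002000003020000000000030300000300000003000000000002020000020000000100000000000101000001000000))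
noncomputable def gs (y : ℕ) : ℕ := (sel (nat_lit 3) y (sel (nat_lit 1) y (nat_lit 0x0) (sel (nat_lit 2) y (nat_lit 0x0) (nat_lit 0x0))) (sel (nat_lit 5) y (sel (nat_lit 4) y (nat_lit 0x0) (nat_lit 0x8000001000023a000023d80000008000000800000080000040000232000021400002070000213000022d80000010000232000021b8000000800000080000010000223000022d8000000800000080000030000210000020d000022580000030000224000020f000021d80000008000002000021200002020000201000020d000022180000008000003000021c000020a0000211800000080000020000218000020a000020000002050000215800000080000008000000800000080000008000001000020a000020d800000080000008000000800000100002020000205800000080000008000000)) (sel (nat_lit 6) y (nat_lit 0x800000d000024a000027a800000f0000249000027a8000007000024800002780000246000022a000022800002240000271000021d00002270000245800000e000024d00002778000008000024600002740000254800000a000022a0000272000025380000090000210000026c0000231800000b0000269000026a800000d00002030000266800000c000020b00002650000223800000a000026800002650000220800000b000023700002638000008000020200002600000204800000a0000220000025e00002188000008000020a000025c0000233800000a0000201000025c000021480000090000225000025a00002408000009000021100002590000238800000800002290000259000024280000070000242000024000002350000236000022c0000231000025300002570000246000022a80000060000246000024d0000255800000500002520000250000024e000022f0000220000020c0000211000022b000024d800000080000030000230000022d000024f8000000800000080000010000246000024980000008000000800000080000030000238000021b00002418000000)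 (nat_lit 0x8000014800001480000148000014800001480000148000014800001480000148000014800001480000148000014800001300002a3800000b000020100002a18000008000026f000029e000021e00002978000014000029c00002958000008000026f000029a000028d800001400002980000293800000a00002010000296000022b0000292800000900002110000290000028a0000291800000c000021e0000290000023a800000a000022a000029000002898000012000022b000028f00002890000229000022b000028f800000d000023e0000286800000f000023d00002868000011000028400002810000285800000b00002450000285800000c000023c000028300002468000008000023a0000283000027e80000100000279000027c00002440000226000021c000020a0000200000026e000020900002178000006000027f0000279000027c))))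
noncomputable def gd (y : ℕ) : ℕ := (nat_lit 0x252000024e000024c0000248000024600002440000240000023c000023a000023800002320000230000022c000022a00002240000220000021c00002180000216000021400002120000210000020c000020a00002080000204000020200002000000000)
noncomputable def gwh_0 (y : ℕ) : ℕ := (sel (nat_lit 8) y (sel (nat_lit 4) y (sel (nat_lit 2) y (sel (nat_lit 1) y (nat_lit 0x20202000000003000) (nat_lit 0x10201020102000003003001)) (sel (nat_lit 3) y (nat_lit 0x4020402000002002002) (nat_lit 0x20102010201000002004001))) (sel (nat_lit 6) y (sel (nat_lit 5) y (nat_lit 0x401040301020403010200000000a003) (nat_lit 0x2040204000001003002)) (sel (nat_lit 7) y (nat_lit 0x102040104030102040300001008002003) (nat_lit 0x3000200001000003004)))) (sel (nat_lit 12) y (sel (nat_lit 10) y (sel (nat_lit 9) y (nat_lit 0x4000400001000003005) (nat_lit 0x1000100001000003006)) (sel (nat_lit 11) y (nat_lit 0x101000000002007) (nat_lit 0x2000300001000003008))) (sel (nat_lit 14) y (sel (nat_lit 13) y (nat_lit 0x302000000002009) (nat_lit 0x40400000000200a)) (sel (nat_lit 15) y (nat_lit 0x20300000000200b)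 (nat_lit 0x104030102040301020400001001009003)))))
noncomputable def gwh_1 (y : ℕ) : ℕ := (sel (nat_lit 17) y (nat_lit 0x40004000000003005) (sel (nat_lit 18) y (nat_lit 0x2010201020100001000006001) (nat_lit 0x10600000000200c)))
noncomputable def gwh (y : ℕ) : ℕ := (sel (nat_lit 16) y (gwh_0 y) (gwh_1 y))
def sg : List (List ℕ) := [[], [1], [2], [3], [4], [1], [1]]
def BL : List ℕ := [0x20202, 0x20102010201, 0x4020402, 0x4010403010204030102, 0x30002, 0x40004, 0x10001, 0x101, 0x20003, 0x302, 0x404, 0x203, 0x106]
def Sub : List (List ℕ) := []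
theorem hA : prepA 17213620480 PU30.R sg 1413989166940416 BL Sub get gd = true := by decide +kernel
theorem hw : allR (okW BL gwh) 0 19 = true := by decide +kernel
theorem b0 : allR (blk get gs (gwB gwh 19) gd 1413989166940416) 4 3 = true := by decide +kernel
theorem hb : ∀ b, 4 ≤ b → b < 7 → blk get gs (gwB gwh 19) gd 1413989166940416 b = true :=
  (allR_range b0 (by norm_num : 4 + 3 = 7))
def TL : List (ℕ × List ℕ) := [(420, [1])]
theorem hM : prepM sg get 7 TL = true := by decide +kernel
theorem mem {G : Type*} [Group G] {ev : ℕ → G} (hev : Good ev 17213620480) (hR : Rels ev PU30.R) :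
    ∀ w ∈ TL.map Prod.snd, evL ev w ∈ gen ev Sub :=
  cert_mem hev hR hA hM hw hb

end c

theorem res {G : Type*} [Group G] {v x u : G} (H : Rel v x u) : v = 1 := by
  have i_v : v⁻¹ = v := inv_eq_of_mul_eq_one_right H.hB.vv
  have i_u : u⁻¹ = u := inv_eq_of_mul_eq_one_right H.uu
  have h : v * 1 = 1 := rels_of_mem_nil (c.mem (good H) (rels H)) [1] (List.mem_of_elem_eq_true (by decide))
  exact mul_inv_eq_one.mp (by simpa only [mul_inv_rev, inv_inv, mul_assoc, mul_one, one_mul, inv_one, pow_succ, pow_zero, i_v, i_u] using h)

end PU30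

namespace PU31

structure Rel {G : Type*} [Group G] (v x u : G) : Prop where
  hB : PB.Rel v x
  uu : u * u = 1
  ux : u * x * u = x⁻¹
  uvu : u * v * u = (x⁻¹ * v * x) * (u * x ^ 1) * (x⁻¹ * v * x)

def R : List (List ℕ) := [[1, 1], [2, 2, 2], [2, 1, 2, 1, 2, 1], [4, 4], [4, 2, 4, 2], [4, 1, 4, 3, 1, 2, 3, 4, 3, 1, 2]]

def ev {G : Type*} [Group G] (v x u : G) (l : ℕ) : G := [1, v, x, x⁻¹, u].getD l 1

theorem good {G : Type*} [Group G] {v x u : G} (H : Rel v x u) : Good (ev v x u) 17213620480 := by
  have i_v : v⁻¹ = v := inv_eq_of_mul_eq_one_right H.hB.vv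
  have i_u : u⁻¹ = u := inv_eq_of_mul_eq_one_right H.uu
  refine good_list (n := 5) rfl (by norm_num) rfl fun l hl => ?_
  interval_cases l
  · exact inv_one.symm
  · exact i_v.symm
  · rfl
  · exact (inv_inv _).symm
  · exact i_u.symm

theorem rels {G : Type*} [Group G] {v x u : G} (H : Rel v x u) : Rels (ev v x u) R := by
  have i_v : v⁻¹ = v := inv_eq_of_mul_eq_one_right H.hB.vv
  have i_u : u⁻¹ = u := inv_eq_of_mul_eq_one_right H.uu
  unfold R
  refine Rels.cons ?_ ?_
  · show v * (v * 1) = 1
    simpa only [mul_inv_rev, inv_inv, mul_assoc, mul_one, one_mul, inv_one, pow_succ, pow_zero, i_v, i_u] using mul_inv_eq_one.mpr H.hB.vv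
  refine Rels.cons ?_ ?_
  · show x * (x * (x * 1)) = 1
    simpa only [mul_inv_rev, inv_inv, mul_assoc, mul_one, one_mul, inv_one, pow_succ, pow_zero, i_v, i_u] using mul_inv_eq_one.mpr H.hB.x3
  refine Rels.cons ?_ ?_
  · show x * (v * (x * (v * (x * (v * 1))))) = 1
    simpa only [mul_inv_rev, inv_inv, mul_assoc, mul_one, one_mul, inv_one, pow_succ, pow_zero, i_v, i_u] using mul_inv_eq_one.mpr H.hB.xv
  refine Rels.cons ?_ ?_
  · show u * (u * 1) = 1
    simpa only [mul_inv_rev, inv_inv, mul_assoc, mul_one, one_mul, inv_one, pow_succ, pow_zero, i_v, i_u] using mul_inv_eq_one.mpr H.uu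
  refine Rels.cons ?_ ?_
  · show u * (x * (u * (x * 1))) = 1
    simpa only [mul_inv_rev, inv_inv, mul_assoc, mul_one, one_mul, inv_one, pow_succ, pow_zero, i_v, i_u] using mul_inv_eq_one.mpr H.ux
  refine Rels.cons ?_ ?_
  · show u * (v * (u * (x⁻¹ * (v * (x * (x⁻¹ * (u * (x⁻¹ * (v * (x * 1)))))))))) = 1
    simpa only [mul_inv_rev, inv_inv, mul_assoc, mul_one, one_mul, inv_one, pow_succ, pow_zero, i_v, i_u] using mul_inv_eq_one.mpr H.uvu
  intro r hr
  exact absurd hr List.not_mem_nil

/-- The relations hold for the letters of any assignment satisfying the relators. -/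
theorem rel_of {G : Type*} [Group G] {e : ℕ → G} (hg : Good e 17213620480) (hR : Rels e R) :
    Rel (e 1) (e 2) (e 4) := by
  have j1 : (e 1)⁻¹ = e 1 := (hg.inv 1).symm
  have j2 : (e 2)⁻¹ = e 3 := (hg.inv 2).symm
  have j3 : (e 3)⁻¹ = e 2 := (hg.inv 3).symm
  have j4 : (e 4)⁻¹ = e 4 := (hg.inv 4).symm
  have r0 : e 1 * (e 1 * 1) = 1 := hR [1, 1] (List.mem_of_elem_eq_true (by decide))
  have r1 : e 2 * (e 2 * (e 2 * 1)) = 1 := hR [2, 2, 2] (List.mem_of_elem_eq_true (by decide))
  have r2 : e 2 * (e 1 * (e 2 * (e 1 * (e 2 * (e 1 * 1))))) = 1 := hR [2, 1, 2, 1, 2, 1] (List.mem_of_elem_eq_true (by decide))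
  have r3 : e 4 * (e 4 * 1) = 1 := hR [4, 4] (List.mem_of_elem_eq_true (by decide))
  have r4 : e 4 * (e 2 * (e 4 * (e 2 * 1))) = 1 := hR [4, 2, 4, 2] (List.mem_of_elem_eq_true (by decide))
  have r5 : e 4 * (e 1 * (e 4 * (e 3 * (e 1 * (e 2 * (e 3 * (e 4 * (e 3 * (e 1 * (e 2 * 1)))))))))) = 1 := hR [4, 1, 4, 3, 1, 2, 3, 4, 3, 1, 2] (List.mem_of_elem_eq_true (by decide))
  exact ⟨⟨mul_inv_eq_one.mp (by simpa only [mul_inv_rev, mul_assoc, mul_one, one_mul, inv_one, pow_succ, pow_zero, j1, j2, j3, j4] using r0),
    mul_inv_eq_one.mp (by simpa only [mul_inv_rev, mul_assoc, mul_one, one_mul, inv_one, pow_succ, pow_zero, j1, j2, j3, j4] using r1),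
    mul_inv_eq_one.mp (by simpa only [mul_inv_rev, mul_assoc, mul_one, one_mul, inv_one, pow_succ, pow_zero, j1, j2, j3, j4] using r2)⟩,
    mul_inv_eq_one.mp (by simpa only [mul_inv_rev, mul_assoc, mul_one, one_mul, inv_one, pow_succ, pow_zero, j1, j2, j3, j4] using r3),
    mul_inv_eq_one.mp (by simpa only [mul_inv_rev, mul_assoc, mul_one, one_mul, inv_one, pow_succ, pow_zero, j1, j2, j3, j4] using r4),
    mul_inv_eq_one.mp (by simpa only [mul_inv_rev, mul_assoc, mul_one, one_mul, inv_one, pow_succ, pow_zero, j1, j2, j3, j4] using r5)⟩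

theorem gen_top : gen (pgEv 17213620480 R) [[1], [2], [4]] = ⊤ := pg_gen (n := 5) (by norm_num) (by decide)
namespace c

noncomputable def get (y : ℕ) : ℕ := (sel (nat_lit 1) y (nat_lit 0x0) (nat_lit 0x6000000000000050000000000000100000b0000000100000000000b0000000b00000d0000000d00000b0000000000000c0000000c0000000400000300000e0400000e0000030300000000000e0200000e0000000100000000000d0100000d000000020000010000030300000300000102000005000007030000070000050200000900000b0300000b0000090100000b00000c0100000c00000b0300000a00000b0200000b00000a0300000900000a0200000a000009040000080000090400000900000801000007000008010000080000070300000600000702000007000006030000050000060200000600000504000004000005040000050000040100000300000401000004000003030000020000030200000300000203000001000002020000020000010400000000000104000001000000))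
noncomputable def gs (y : ℕ) : ℕ := (sel (nat_lit 2) y (sel (nat_lit 1) y (nat_lit 0x0) (nat_lit 0x0)) (sel (nat_lit 3) y (nat_lit 0x0) (sel (nat_lit 4) y (nat_lit 0x0) (nat_lit 0x800000780000078000007800000780000078000007800000780000078000007800000780000060000228000021400002120000210000020e000020c000020a000020800002060000204000020200002008000005000021f00002268000004000021e000022500002168000003000021600002180000210000020e000021a0000208000020600002230000220800000200002200000201000021d800000080000008000001000020400002028000001000020c000020a800000100002140000212800000080000008000000800000080000008000000800000080000008000000800000080000008000000))))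
noncomputable def gd (y : ℕ) : ℕ := (nat_lit 0x220000021e0000216000021400002120000210000020e000020c000020a000020800002060000204000020200002000000000)
noncomputable def gwh (y : ℕ) : ℕ := (sel (nat_lit 3) y (sel (nat_lit 1) y (nat_lit 0x20202000002001000) (sel (nat_lit 2) y (nat_lit 0x2040204000003001001) (nat_lit 0x2040104030104030100001008001002))) (sel (nat_lit 4) y (nat_lit 0x1000100001000003003) (sel (nat_lit 5) y (nat_lit 0x101000000002004) (nat_lit 0x402020104020201040202010600000000d005))))
def sg : List (List ℕ) := [[], [1], [2], [3], [4], [4, 2, 2, 1, 4, 2, 2, 1, 4, 2, 2, 1], [1, 3, 3, 4, 1, 3, 3, 4, 1, 3, 3, 4]]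
def BL : List ℕ := [0x20202, 0x4020402, 0x40104030104030102, 0x10001, 0x101, 0x4020201040202010402020106]
def Sub : List (List ℕ) := []
theorem hA : prepA 17213620480 PU31.R sg 1413989166940416 BL Sub get gd = true := by decide +kernel
theorem hw : allR (okW BL gwh) 0 6 = true := by decide +kernel
theorem b0 : allR (blk get gs (gwB gwh 6) gd 1413989166940416) 4 1 = true := by decide +kernel
theorem hb : ∀ b, 4 ≤ b → b < 5 → blk get gs (gwB gwh 6) gd 1413989166940416 b = true :=
  (allR_range b0 (by norm_num : 4 + 1 = 5))
def TL : List (ℕ × List ℕ) := [(298, [4, 2, 2, 1, 4, 2, 2, 1, 4, 2, 2, 1])]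
theorem hM : prepM sg get 5 TL = true := by decide +kernel
theorem mem {G : Type*} [Group G] {ev : ℕ → G} (hev : Good ev 17213620480) (hR : Rels ev PU31.R) :
    ∀ w ∈ TL.map Prod.snd, evL ev w ∈ gen ev Sub :=
  cert_mem hev hR hA hM hw hb

end c

theorem res {G : Type*} [Group G] {v x u : G} (H : Rel v x u) : (u * x ^ 2 * v) ^ 3 = 1 := by
  have i_v : v⁻¹ = v := inv_eq_of_mul_eq_one_right H.hB.vv
  have i_u : u⁻¹ = u := inv_eq_of_mul_eq_one_right H.uu
  have h : u * (x * (x * (v * (u * (x * (x * (v * (u * (x * (x * (v * 1))))))))))) = 1 := rels_of_mem_nil (c.mem (good H) (rels H)) [4, 2, 2, 1, 4, 2, 2, 1, 4, 2, 2, 1] (List.mem_of_elem_eq_true (by decide))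
  exact mul_inv_eq_one.mp (by simpa only [mul_inv_rev, inv_inv, mul_assoc, mul_one, one_mul, inv_one, pow_succ, pow_zero, i_v, i_u] using h)

end PU31

namespace PU32

structure Rel {G : Type*} [Group G] (v x u : G) : Prop where
  hB : PB.Rel v x
  uu : u * u = 1
  ux : u * x * u = x⁻¹
  uvu : u * v * u = (x⁻¹ * v * x) * (u * x ^ 2) * (x⁻¹ * v * x)

def R : List (List ℕ) := [[1, 1], [2, 2, 2], [2, 1, 2, 1, 2, 1], [4, 4], [4, 2, 4, 2], [4, 1, 4, 3, 1, 2, 3, 3, 4, 3, 1, 2]]

def ev {G : Type*} [Group G] (v x u : G) (l : ℕ) : G := [1, v, x, x⁻¹, u].getD l 1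

theorem good {G : Type*} [Group G] {v x u : G} (H : Rel v x u) : Good (ev v x u) 17213620480 := by
  have i_v : v⁻¹ = v := inv_eq_of_mul_eq_one_right H.hB.vv
  have i_u : u⁻¹ = u := inv_eq_of_mul_eq_one_right H.uu
  refine good_list (n := 5) rfl (by norm_num) rfl fun l hl => ?_
  interval_cases l
  · exact inv_one.symm
  · exact i_v.symm
  · rfl
  · exact (inv_inv _).symm
  · exact i_u.symm

theorem rels {G : Type*} [Group G] {v x u : G} (H : Rel v x u) : Rels (ev v x u) R := by
  have i_v : v⁻¹ = v := inv_eq_of_mul_eq_one_right H.hB.vv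
  have i_u : u⁻¹ = u := inv_eq_of_mul_eq_one_right H.uu
  unfold R
  refine Rels.cons ?_ ?_
  · show v * (v * 1) = 1
    simpa only [mul_inv_rev, inv_inv, mul_assoc, mul_one, one_mul, inv_one, pow_succ, pow_zero, i_v, i_u] using mul_inv_eq_one.mpr H.hB.vv
  refine Rels.cons ?_ ?_
  · show x * (x * (x * 1)) = 1
    simpa only [mul_inv_rev, inv_inv, mul_assoc, mul_one, one_mul, inv_one, pow_succ, pow_zero, i_v, i_u] using mul_inv_eq_one.mpr H.hB.x3
  refine Rels.cons ?_ ?_
  · show x * (v * (x * (v * (x * (v * 1))))) = 1
    simpa only [mul_inv_rev, inv_inv, mul_assoc, mul_one, one_mul, inv_one, pow_succ, pow_zero, i_v, i_u] using mul_inv_eq_one.mpr H.hB.xv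
  refine Rels.cons ?_ ?_
  · show u * (u * 1) = 1
    simpa only [mul_inv_rev, inv_inv, mul_assoc, mul_one, one_mul, inv_one, pow_succ, pow_zero, i_v, i_u] using mul_inv_eq_one.mpr H.uu
  refine Rels.cons ?_ ?_
  · show u * (x * (u * (x * 1))) = 1
    simpa only [mul_inv_rev, inv_inv, mul_assoc, mul_one, one_mul, inv_one, pow_succ, pow_zero, i_v, i_u] using mul_inv_eq_one.mpr H.ux
  refine Rels.cons ?_ ?_
  · show u * (v * (u * (x⁻¹ * (v * (x * (x⁻¹ * (x⁻¹ * (u * (x⁻¹ * (v * (x * 1))))))))))) = 1
    simpa only [mul_inv_rev, inv_inv, mul_assoc, mul_one, one_mul, inv_one, pow_succ, pow_zero, i_v, i_u] using mul_inv_eq_one.mpr H.uvu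
  intro r hr
  exact absurd hr List.not_mem_nil

/-- The relations hold for the letters of any assignment satisfying the relators. -/
theorem rel_of {G : Type*} [Group G] {e : ℕ → G} (hg : Good e 17213620480) (hR : Rels e R) :
    Rel (e 1) (e 2) (e 4) := by
  have j1 : (e 1)⁻¹ = e 1 := (hg.inv 1).symm
  have j2 : (e 2)⁻¹ = e 3 := (hg.inv 2).symm
  have j3 : (e 3)⁻¹ = e 2 := (hg.inv 3).symm
  have j4 : (e 4)⁻¹ = e 4 := (hg.inv 4).symm
  have r0 : e 1 * (e 1 * 1) = 1 := hR [1, 1] (List.mem_of_elem_eq_true (by decide))
  have r1 : e 2 * (e 2 * (e 2 * 1)) = 1 := hR [2, 2, 2] (List.mem_of_elem_eq_true (by decide))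
  have r2 : e 2 * (e 1 * (e 2 * (e 1 * (e 2 * (e 1 * 1))))) = 1 := hR [2, 1, 2, 1, 2, 1] (List.mem_of_elem_eq_true (by decide))
  have r3 : e 4 * (e 4 * 1) = 1 := hR [4, 4] (List.mem_of_elem_eq_true (by decide))
  have r4 : e 4 * (e 2 * (e 4 * (e 2 * 1))) = 1 := hR [4, 2, 4, 2] (List.mem_of_elem_eq_true (by decide))
  have r5 : e 4 * (e 1 * (e 4 * (e 3 * (e 1 * (e 2 * (e 3 * (e 3 * (e 4 * (e 3 * (e 1 * (e 2 * 1))))))))))) = 1 := hR [4, 1, 4, 3, 1, 2, 3, 3, 4, 3, 1, 2] (List.mem_of_elem_eq_true (by decide))
  exact ⟨⟨mul_inv_eq_one.mp (by simpa only [mul_inv_rev, mul_assoc, mul_one, one_mul, inv_one, pow_succ, pow_zero, j1, j2, j3, j4] using r0),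
    mul_inv_eq_one.mp (by simpa only [mul_inv_rev, mul_assoc, mul_one, one_mul, inv_one, pow_succ, pow_zero, j1, j2, j3, j4] using r1),
    mul_inv_eq_one.mp (by simpa only [mul_inv_rev, mul_assoc, mul_one, one_mul, inv_one, pow_succ, pow_zero, j1, j2, j3, j4] using r2)⟩,
    mul_inv_eq_one.mp (by simpa only [mul_inv_rev, mul_assoc, mul_one, one_mul, inv_one, pow_succ, pow_zero, j1, j2, j3, j4] using r3),
    mul_inv_eq_one.mp (by simpa only [mul_inv_rev, mul_assoc, mul_one, one_mul, inv_one, pow_succ, pow_zero, j1, j2, j3, j4] using r4),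
    mul_inv_eq_one.mp (by simpa only [mul_inv_rev, mul_assoc, mul_one, one_mul, inv_one, pow_succ, pow_zero, j1, j2, j3, j4] using r5)⟩

theorem gen_top : gen (pgEv 17213620480 R) [[1], [2], [4]] = ⊤ := pg_gen (n := 5) (by norm_num) (by decide)
namespace c

noncomputable def get (y : ℕ) : ℕ := (sel (nat_lit 1) y (nat_lit 0x0) (nat_lit 0x60000000000000500000000000001000000000000010000000000000000000100000000000000000001000000020000010000000100000201000002000002010000020000020000000800000200000002000008000000090000110000001100000902000010000012030000120000100300001000000b0200000b00001000000010000015000000150000100400001200000b0400000b000012030000120000150200001500001200000014000012000000120000140400001400000b0400000b00001400000016000014000000140000160200000900000703000007000009020000080000080300000800000803000004000007020000070000040000001800000b0000000b0000180000000f0000090000000900000f03000002000001020000010000020000000e0000080000000800000e0000000d0000040000000400000d02000000000001030000010000000000000200000600000006000002000000050000000000000000000500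000003000001000000010000030000000c0000010000000100000c0000000a0000050000000500000a00000017000007000000070000170000000d0000130000001300000d020000160000180300001800001604000014000018040000180000140100000d0000180100001800000d02000017000013030000130000170400000c0000170400001700000c0400000b0000160400001600000b02000015000014030000140000150200000b0000150300001500000b0300000b0000140200001400000b0400000a0000130400001300000a0100000900001201000012000009040000080000110400001100000801000007000010010000100000070200000f0000070300000700000f0400000600000f0400000f0000060200000e0000080300000800000e0100000600000e0100000e0000060200000700000d0300000d0000070400000500000d0400000d0000050200000a00000c0300000c00000a0100000500000c0100000c0000050100000400000b0100000b0000040100000300000a0100000a00000302000004000009030000090000040400000200000904000009000002010000020000080100000800000204000001000007040000070000010200000100000603000006000001030000010000050200000500000104000000000004040000040000000200000300000203000002000003020000000000030300000300000003000000000002020000020000000100000000000101000001000000))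
noncomputable def gs (y : ℕ) : ℕ := (sel (nat_lit 3) y (sel (nat_lit 1) y (nat_lit 0x0) (sel (nat_lit 2) y (nat_lit 0x0) (nat_lit 0x0))) (sel (nat_lit 5) y (sel (nat_lit 4) y (nat_lit 0x0) (nat_lit 0x800000080000020000230000021d000023b800000080000008000001000023200002358000000800000080000008000000800000080000008000002000020e000020d000022780000008000003000021000002020000201000020d000022380000008000002000021e000020a000020f80000008000003000021a000020a0000200000020500002178000000800000080000008000002000021200002020000209800000080000008000000800000080000008000000800000100002020000205800000080000008000000)) (sel (nat_lit 6) y (nat_lit 0x80000110000201000027d80000090000201000027a0000278000027b80000060000258000027600002600000277800001100002110000277800000700002130000275000022c8000010000022c000021000002130000263000022b0000271000026c0000272000022a0000262800000b000026b000026e800000c0000235000026e800000f0000234000026c000022e00002120000202000020100002520000209000025f000022b800000d00002660000269800000c00002370000269800000e000022e000021400002080000201000020f000025e00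00219000023300002670000233800000d0000239000026580000060000232000025c0000242800000b0000228000025b800000b00002240000257800000c00002210000255800000900002180000254000023f8000007000021200002510000227800000c000020d0000250800000900002100000251000022380000070000208000024e000021f800000b000020b000024f800000a000020c000024c000020780000090000201000024a000021a8000008000024a000021a000024800002168000007000020f0000246000023a8000007000021f00002450000230800000600002210000245000023c8000005000023c000023a000021c000021600002040000209000021900002390000243000023e80000020000240000023200002398000004000023e000021e000020a000020000002030000213000021400002190000233) (nat_lit 0x80000138000013800001380000138000013800001380000138000013800001380000138000013800001380000138000013800001380000138000013800001380000138000013800001380000138000013800001380000138000013800001380000138000013800001380000138000012000027f))))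
noncomputable def gd (y : ℕ) : ℕ := (nat_lit 0x23e000023a0000238000023400002320000230000022e000022c000022a00002260000222000021e000021a0000218000021600002120000210000020e000020c000020a00002080000204000020200002000000000)
noncomputable def gwh_0 (y : ℕ) : ℕ := (sel (nat_lit 8) y (sel (nat_lit 4) y (sel (nat_lit 2) y (sel (nat_lit 1) y (nat_lit 0x20202000000003000) (nat_lit 0x4020402000002002001)) (sel (nat_lit 3) y (nat_lit 0x10201020102000003003002) (nat_lit 0x3010304030102040104000003007003))) (sel (nat_lit 6) y (sel (nat_lit 5) y (nat_lit 0x102040104030103040300001008002003) (nat_lit 0x3000200001000003004)) (sel (nat_lit 7) y (nat_lit 0x4000400001000003005) (nat_lit 0x100010000002000003006)))) (sel (nat_lit 12) y (sel (nat_lit 10) y (sel (nat_lit 9) y (nat_lit 0x1000100001000003006) (nat_lit 0x2000300001000003007)) (sel (nat_lit 11) y (nat_lit 0x302000000002008) (nat_lit 0x203000000002009))) (sel (nat_lit 14) y (sel (nat_lit 13) y (nat_lit 0x40400000000200a) (nat_lit 0x304030102040104030100001005005003)) (sel (nat_lit 15) y (nat_lit 0x103040301020401040300001004006003)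 (nat_lit 0x301030403010204010400001003007003)))))
noncomputable def gwh_1 (y : ℕ) : ℕ := (sel (nat_lit 17) y (nat_lit 0x10100000000200b) (nat_lit 0x10600000000200c))
noncomputable def gwh (y : ℕ) : ℕ := (sel (nat_lit 16) y (gwh_0 y) (gwh_1 y))
def sg : List (List ℕ) := [[], [1], [2], [3], [4], [1], [1]]
def BL : List ℕ := [0x20202, 0x4020402, 0x20102010201, 0x4010403010304030102, 0x30002, 0x40004, 0x10001, 0x20003, 0x302, 0x203, 0x404, 0x101, 0x106]
def Sub : List (List ℕ) := []
theorem hA : prepA 17213620480 PU32.R sg 1413989166940416 BL Sub get gd = true := by decide +kernel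
theorem hw : allR (okW BL gwh) 0 18 = true := by decide +kernel
theorem b0 : allR (blk get gs (gwB gwh 18) gd 1413989166940416) 4 3 = true := by decide +kernel
theorem hb : ∀ b, 4 ≤ b → b < 7 → blk get gs (gwB gwh 18) gd 1413989166940416 b = true :=
  (allR_range b0 (by norm_num : 4 + 3 = 7))
def TL : List (ℕ × List ℕ) := [(384, [1])]
theorem hM : prepM sg get 7 TL = true := by decide +kernel
theorem mem {G : Type*} [Group G] {ev : ℕ → G} (hev : Good ev 17213620480) (hR : Rels ev PU32.R) :
    ∀ w ∈ TL.map Prod.snd, evL ev w ∈ gen ev Sub :=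
  cert_mem hev hR hA hM hw hb

end c

theorem res {G : Type*} [Group G] {v x u : G} (H : Rel v x u) : v = 1 := by
  have i_v : v⁻¹ = v := inv_eq_of_mul_eq_one_right H.hB.vv
  have i_u : u⁻¹ = u := inv_eq_of_mul_eq_one_right H.uu
  have h : v * 1 = 1 := rels_of_mem_nil (c.mem (good H) (rels H)) [1] (List.mem_of_elem_eq_true (by decide))
  exact mul_inv_eq_one.mp (by simpa only [mul_inv_rev, inv_inv, mul_assoc, mul_one, one_mul, inv_one, pow_succ, pow_zero, i_v, i_u] using h)

end PU32

theorem B0.rel : PB.Rel B0.v B0.x := by constructor <;> decide +kernel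
theorem A0.rel5 : P5.Rel A0.w A0.t A0.u := by
  constructor
  · constructor <;> decide +kernel
  all_goals decide +kernel

theorem B0.eq_top (K : Subgroup B0) (hv : B0.v ∈ K) (hx : B0.x ∈ K) : K = ⊤ := by
  have h : ∀ s : B0, ∃ i : TN 9 3, ∃ j : TN 9 2, ∃ k : TN 9 3,
      s = B0.x ^ i.val * B0.v ^ j.val * B0.x ^ k.val := by decide +kernel
  rw [eq_top_iff]
  intro s _
  obtain ⟨i, j, k, rfl⟩ := h s
  refine K.mul_mem (K.mul_mem ?_ ?_) ?_ <;> apply K.pow_mem <;> assumption

variable {G : Type*} [Group G]

theorem B0.exists_hom {v x : G} (H : PB.Rel v x) : ∃ φ : B0 →* G, φ B0.v = v ∧ φ B0.x = x := by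
  obtain ⟨φ, h⟩ := exists_hom_of_UB (PB.good B0.rel) (PB.rels B0.rel) (PB.good H) (PB.rels H)
    PB.gen_top (PB.ub (pg_good _ _) (pg_rels _ _))
    (B0.eq_top _ (letter_mem _ 1 rfl) (letter_mem _ 2 rfl)) TN.card_eq.ge
  exact ⟨φ, h 1, h 2⟩

theorem A0.eq_top5 (K : Subgroup A0) (hw : A0.w ∈ K) (ht : A0.t ∈ K) (hu : A0.u ∈ K) : K = ⊤ := by
  refine A0.eq_top K ?_ ht
  have : A0.r = A0.w * A0.u * A0.w * A0.t * A0.w := by decide +kernel
  rw [this]
  repeat first | assumption | apply K.mul_mem

theorem A0.exists_hom5 {v x u : G} (H : P5.Rel v x u) :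
    ∃ φ : A0 →* G, φ A0.w = v ∧ φ A0.t = x ∧ φ A0.u = u := by
  obtain ⟨φ, h⟩ := exists_hom_of_UB (P5.good A0.rel5) (P5.rels A0.rel5) (P5.good H) (P5.rels H)
    P5.gen_top (P5.ub (pg_good _ _) (pg_rels _ _))
    (A0.eq_top5 _ (letter_mem _ 1 rfl) (letter_mem _ 2 rfl) (letter_mem _ 4 rfl)) TN.card_eq.ge
  exact ⟨φ, h 1, h 2, h 4⟩

theorem exists_third {v x u : G} (hB : PB.Rel v x) (hv : v ≠ 1) (uu : u * u = 1)
    (ux : u * x * u = x⁻¹) {y : G} (hy : y = 1 ∨ y = v ∨ y = x * v * x⁻¹ ∨ y = x⁻¹ * v * x) (i : ℕ)
    (hi : i < 3) (h : u * v * u = y * (u * x ^ i) * y) : ∃ j : ℕ, (u * x ^ j * v) ^ 3 = 1 := by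
  rcases hy with rfl | rfl | rfl | rfl <;> interval_cases i
  · exact absurd (PU00.res ⟨hB, uu, ux, h⟩) hv
  · exact absurd (PU01.res ⟨hB, uu, ux, h⟩) hv
  · exact absurd (PU02.res ⟨hB, uu, ux, h⟩) hv
  · exact ⟨_, PU10.res ⟨hB, uu, ux, h⟩⟩
  · exact absurd (PU11.res ⟨hB, uu, ux, h⟩) hv
  · exact absurd (PU12.res ⟨hB, uu, ux, h⟩) hv
  · exact absurd (PU20.res ⟨hB, uu, ux, h⟩) hv
  · exact absurd (PU21.res ⟨hB, uu, ux, h⟩) hv
  · exact ⟨_, PU22.res ⟨hB, uu, ux, h⟩⟩
  · exact absurd (PU30.res ⟨hB, uu, ux, h⟩) hv
  · exact ⟨_, PU31.res ⟨hB, uu, ux, h⟩⟩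
  · exact absurd (PU32.res ⟨hB, uu, ux, h⟩) hv

end Cfsg.H5
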