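import Cfsg.Agent.H5.OutSolv3

/-! Final forms, given the odd order theorem. -/

set_option autoImplicit false

namespace Cfsg.H5.GA

theorem out_of_criteria (hFT : FT) {G : Type*} [Group G] [Finite G] [IsSimpleGroup G]
    (hG : ¬ IsMulCommutative G) (S : Sylow 2 G) (hS1 : (S : Subgroup G) ≠ ⊥)
    (h : (∃ a b : ↥S, Subgroup.closure ({a, b} : Set ↥S) = ⊤) ∨
      ((∃ a b c : ↥S, Subgroup.closure ({a, b, c} : Set ↥S) = ⊤) ∧
        ∃ g ∈ Subgroup.normalizer ((S : Subgroup G) : Set G), Odd (orderOf g) ∧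
          g ∉ Subgroup.centralizer ((S : Subgroup G) : Set G)) ∨
      ((∀ s ∈ S, ∀ t ∈ S, orderOf s = 2 → orderOf t = 2 → s * t = t * s) ∧
        (∀ s ∈ S, ∀ t ∈ S, orderOf s = 2 → orderOf t = 2 → ∃ g : G, g * s * g⁻¹ = t))) :
    Group.IsSolvable (Cfsg.Out G) := by
  rcases h with ⟨a, b, h⟩ | ⟨⟨a, b, c, h⟩, g, h1, h2, h3⟩ | ⟨h1, h2⟩
  · exact out_of_two hFT hG S hS1 h
  · exact out_of_three hFT hG S hS1 h h1 h2 h3
  · exact out_of_inv hFT hG S hS1 h1 h2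

theorem commutator_odd {G : Type*} [Group G] [Finite G] (N Q : Subgroup G) [N.Normal] (hG : Q ⊔ N = ⊤)
    (hQ : IsPGroup 2 ↥Q) (hdisj : Q ⊓ N = ⊥) (t : G) (htQ : t ∈ ⁅Q, Q⁆)
    (hC : N ⊓ Subgroup.centralizer (Q : Set G) = N ⊓ Subgroup.centralizer ({t} : Set G)) :
    Odd (Nat.card ↥⁅N, Q⁆) :=
  Nat.coprime_two_right.1 (Nat.Coprime.coprime_dvd_left
    (Subgroup.card_dvd_of_le (commutator_le_core hQ hdisj hG htQ (hC ▸ inf_le_right)))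
    (H7.coprime_card_pPrimeCoreOf 2 N))

theorem commutator_sol_odd (hFT : FT) {G : Type*} [Group G] [Finite G] (N Q : Subgroup G) [N.Normal]
    (hG : Q ⊔ N = ⊤) (hQ : IsPGroup 2 ↥Q) (hdisj : Q ⊓ N = ⊥) (t : G) (htQ : t ∈ ⁅Q, Q⁆)
    (hC : N ⊓ Subgroup.centralizer (Q : Set G) = N ⊓ Subgroup.centralizer ({t} : Set G)) :
    Group.IsSolvable ↥⁅N, Q⁆ ∧ Odd (Nat.card ↥⁅N, Q⁆) :=
  ⟨hFT.solvable (commutator_odd N Q hG hQ hdisj t htQ hC), commutator_odd N Q hG hQ hdisj t htQ hC⟩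

end Cfsg.H5.GA
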