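import Cfsg.Agent.H5.GlaubAut
import Cfsg.Agent.H5.Burnside
import Cfsg.Agent.H9.Generation
import Cfsg.Agent.H8.Omega
import Cfsg.Agent.H8.Up
import Cfsg.Prelude.Def_KGroupFacts

/-! Solvability of outer automorphism groups (Glauberman), assuming the odd order theorem. -/

set_option autoImplicit false

universe u

namespace Cfsg.H5.GA

open Subgroup Cfsg.L0 Cfsg.H8
open scoped commutatorElement

section sol
variable {Γ : Type*} [Group Γ]

theorem sol_of_hom {E Q : Type*} [Group E] [Group Q] (f : E →* Q) (hk : Group.IsSolvable f.ker)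
    (hr : Group.IsSolvable f.range) : Group.IsSolvable E :=
  Group.isSolvable_of_ker_le_range f.ker.subtype f.rangeRestrict (by
    rw [MonoidHom.ker_rangeRestrict, range_subtype])

theorem sol_of_le {H K : Subgroup Γ} (h : H ≤ K) (hK : Group.IsSolvable K) : Group.IsSolvable H :=
  Group.isSolvable_of_isSolvable_injective (inclusion_injective h)

theorem sol_subgroupOf {H : Subgroup Γ} (K : Subgroup Γ) (hH : Group.IsSolvable H) :
    Group.IsSolvable (H.subgroupOf K) :=
  Group.isSolvable_of_isSolvable_injective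
    (f := (K.subtype.comp (H.subgroupOf K).subtype).codRestrict H fun x => x.2)
    fun _ _ h => Subtype.ext (Subtype.ext (congrArg (fun z : H => (z : Γ)) h))

theorem sol_of_quot {N K : Subgroup Γ} (h : K ≤ normalizer (N : Set Γ)) (hN : Group.IsSolvable N)
    (hq : ∀ [(N.subgroupOf K).Normal], Group.IsSolvable (K ⧸ N.subgroupOf K)) : Group.IsSolvable K := by
  have : (N.subgroupOf K).Normal := normal_subgroupOf_of_le_normalizer h
  have h1 := sol_subgroupOf K hN
  have h2 : Group.IsSolvable (K ⧸ N.subgroupOf K) := hq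
  exact (Group.isSolvable_iff_subgroup_quotient (N.subgroupOf K)).2 ⟨h1, h2⟩

theorem sol_of_comm_le {N K : Subgroup Γ} (h : ⁅K, K⁆ ≤ N) (hN : Group.IsSolvable N) :
    Group.IsSolvable K := by
  refine sol_of_quot (N := ⁅K, K⁆) (le_normalizer_commutator le_normalizer le_normalizer) (sol_of_le h hN) ?_
  intro _
  refine Group.isSolvable_of_comm fun a b => ?_
  induction a using QuotientGroup.induction_on with | H a =>
  induction b using QuotientGroup.induction_on with | H b =>
  rw [← QuotientGroup.mk_mul, ← QuotientGroup.mk_mul, QuotientGroup.eq, mem_subgroupOf]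
  have : (((a * b)⁻¹ * (b * a) : K) : Γ) = ⁅(b : Γ)⁻¹, (a : Γ)⁻¹⁆ := by
    rw [commutatorElement_def]; push_cast; group
  rw [this]
  exact commutator_mem_commutator (inv_mem b.2) (inv_mem a.2)

theorem sol_of_pow [Finite Γ] {p : ℕ} [Fact p.Prime] {N K : Subgroup Γ} (h : K ≤ normalizer (N : Set Γ))
    (hN : Group.IsSolvable N) (hp : ∀ x ∈ K, ∃ k, x ^ p ^ k ∈ N) : Group.IsSolvable K := by
  refine sol_of_quot h hN ?_
  intro _
  refine H9.isSolvable_of_isPGroup (p := p) fun a => ?_
  induction a using QuotientGroup.induction_on with | H a =>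
  obtain ⟨k, hk⟩ := hp a a.2
  exact ⟨k, by rw [← QuotientGroup.mk_pow, QuotientGroup.eq_one_iff]; exact hk⟩

theorem sol_of_actsP [Finite Γ] {p : ℕ} [Fact p.Prime] {U K : Subgroup Γ} (h : ActsP p K U)
    (hC : Group.IsSolvable (centralizer (U : Set Γ))) : Group.IsSolvable K :=
  sol_of_pow (p := p) (le_normalizer_centralizer h.1) hC h.2

theorem sol_quot_of_sup {N E : Subgroup Γ} [N.Normal] (h : N ⊔ E = ⊤) (hE : Group.IsSolvable E) :
    Group.IsSolvable (Γ ⧸ N) := by
  refine Group.isSolvable_of_surjective (f := (QuotientGroup.mk' N).comp E.subtype) fun x => ?_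
  induction x using QuotientGroup.induction_on with | H x =>
  obtain ⟨n, hn, e, he, rfl⟩ := (mem_sup_of_le_normalizer_left (N := N) (H := E)
    (by rw [normalizer_eq_top]; exact le_top)).1 (h ▸ mem_top x)
  refine ⟨⟨e, he⟩, ?_⟩
  show (e : Γ ⧸ N) = ((n * e : Γ) : Γ ⧸ N)
  rw [QuotientGroup.mk_mul, (QuotientGroup.eq_one_iff n).2 hn, one_mul]

theorem sol_of_npc [Finite Γ] (hFT : FT) {K : Subgroup Γ} (h : NPC 2 K) : Group.IsSolvable K :=
  sol_of_pow (p := 2) (H7.le_normalizer_pResidualOf 2 K) (hFT.solvable (Nat.coprime_two_right.1 h))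
    fun _ hx => H7.exists_pow_mem_pResidualOf hx

theorem sol_of_not_four_dvd (hFT : FT) {X : Type*} [Group X] [Finite X] (h : ¬ 4 ∣ Nat.card X) :
    Group.IsSolvable X := by
  obtain ⟨P⟩ : Nonempty (Sylow 2 X) := inferInstance
  have hP := isSyl_sylow P
  have hc : Nat.card P ∣ 2 := by
    obtain ⟨k, hk⟩ := P.isPGroup'.exists_card_eq
    have h1 : Nat.card P ∣ Nat.card X := card_subgroup_dvd_card _
    rw [hk] at h1 ⊢
    rcases k with _ | _ | k
    · simp
    · simp
    · exact absurd (Dvd.dvd.trans ⟨2 ^ k, by ring⟩ h1) h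
  have : Group.IsSolvable (⊤ : Subgroup X) := sol_of_npc hFT (burnside_npc hP fun g hg =>
    mem_centralizer_iff.2 fun x hx => by
      by_cases hx1 : x = 1
      · simp [hx1]
      have h2 : g * x * g⁻¹ ∈ (P : Subgroup X) := conj_mem_of_mem_normalizer hg.2 hx
      have h3 : g * x * g⁻¹ ≠ 1 := by simpa [mul_inv_eq_one] using hx1
      have h4 : Nat.card P = 2 := by
        rcases (Nat.dvd_prime Nat.prime_two).1 hc with h | h
        · exact absurd (card_eq_one.1 h ▸ hx : x ∈ (⊥ : Subgroup X)) (by simpa using hx1)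
        · exact h
      obtain ⟨y, -, hy⟩ := (Nat.card_eq_two_iff' (1 : (P : Subgroup X))).1 h4
      have e1 := hy ⟨x, hx⟩ fun h => hx1 (congrArg Subtype.val h)
      have e2 := hy ⟨_, h2⟩ fun h => h3 (congrArg Subtype.val h)
      exact (mul_inv_eq_iff_eq_mul.1 (congrArg Subtype.val (e2.trans e1.symm))).symm)
  exact Group.isSolvable_of_surjective (f := (⊤ : Subgroup X).subtype) fun x => ⟨⟨x, mem_top x⟩, rfl⟩

end sol

section aut
variable {V : Type*} [Group V] [Finite V]

theorem exists_dvd_of_prime_dvd_aut {p d r : ℕ} [Fact p.Prime] (hV : Nat.card V = p ^ d) (hr : r.Prime)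
    (h : r ∣ Nat.card (MulAut V)) : ∃ k < d, r ∣ p ^ d - p ^ k := by
  have := Fact.mk hr
  obtain ⟨α, hα⟩ := exists_prime_orderOf_dvd_card' r h
  have hP : IsPGroup r (zpowers α) := isPGroup_zpowers (k := 1) (by rw [pow_one, ← hα, pow_orderOf_eq_one])
  have h1 := hP.card_modEq_card_fixedPoints V
  let F : Subgroup V := α.toMonoidHom.eqLocus (MonoidHom.id V)
  have h2 : Nat.card (MulAction.fixedPoints (zpowers α) V) = Nat.card F := by
    refine Nat.card_congr (Equiv.setCongr ?_)
    ext x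
    rw [MulAction.mem_fixedPoints]
    constructor
    · intro hx; exact hx ⟨α, mem_zpowers α⟩
    · rintro hx ⟨β, hβ⟩
      exact MulAction.mem_stabilizer_iff.1 (zpowers_le.2 (show α ∈ MulAction.stabilizer (MulAut V) x from hx) hβ)
  obtain ⟨k, hk, hF⟩ := (Nat.dvd_prime_pow (Fact.out : p.Prime)).1 (hV ▸ card_subgroup_dvd_card F)
  rw [h2, hV, hF] at h1
  refine ⟨k, lt_of_le_of_ne hk fun e => ?_, (Nat.modEq_iff_dvd' (Nat.pow_le_pow_right
    (Fact.out : p.Prime).pos hk)).1 h1.symm⟩
  have : F = ⊤ := eq_top_of_card_eq F (by rw [hF, hV, e])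
  have h3 : α = 1 := by
    ext x
    exact (this ▸ mem_top x : x ∈ F)
  rw [h3, orderOf_one] at hα
  exact hr.one_lt.ne hα

theorem sol_aut_of_dvd_four (h : Nat.card V ∣ 4) : Group.IsSolvable (MulAut V) := by
  obtain ⟨d, hd, hV⟩ := (Nat.dvd_prime_pow Nat.prime_two (m := 2)).1 h
  refine isSolvable_of_prime_dvd_two Nat.prime_two Nat.prime_three fun r hr hd' => ?_
  obtain ⟨k, hk, h1⟩ := exists_dvd_of_prime_dvd_aut hV hr hd'
  have h2 : r ∣ 2 * 3 := by
    interval_cases d <;> interval_cases k <;> exact h1.trans (by decide)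
  rcases (Nat.Prime.dvd_mul hr).1 h2 with h | h
  · exact Or.inl ((Nat.prime_dvd_prime_iff_eq hr Nat.prime_two).1 h)
  · exact Or.inr ((Nat.prime_dvd_prime_iff_eq hr Nat.prime_three).1 h)

omit [Finite V] in
theorem card_sup_zpowers_dvd (hc : ∀ a b : V, a * b = b * a) (h2 : ∀ a : V, a ^ 2 = 1) (B : Subgroup V)
    (a : V) : Nat.card ↥(B ⊔ zpowers a) ∣ Nat.card B * 2 := by
  have hB : B.Normal := ⟨fun x hx g => by rw [hc g x]; simpa using hx⟩
  rw [← card_mul_relIndex (le_sup_left : B ≤ B ⊔ zpowers a)]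
  exact Nat.mul_dvd_mul_left _ (H9.relIndex_sup_zpowers_dvd (by rw [normalizer_eq_top]; trivial)
    (by rw [h2]; exact one_mem _))

omit [Finite V] in
theorem card_dvd_four (hc : ∀ a b : V, a * b = b * a) (h2 : ∀ a : V, a ^ 2 = 1) {a b : V}
    (h : closure ({a, b} : Set V) = ⊤) : Nat.card V ∣ 4 := by
  have e : (⊥ ⊔ zpowers a) ⊔ zpowers b = (⊤ : Subgroup V) := by
    rw [eq_top_iff, ← h, closure_le]
    rintro x (rfl | rfl)
    · exact mem_sup_left (mem_sup_right (mem_zpowers _))
    · exact mem_sup_right (mem_zpowers _)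
  rw [← card_top, ← e]
  refine (card_sup_zpowers_dvd hc h2 _ _).trans ?_
  exact (Nat.mul_dvd_mul_right (card_sup_zpowers_dvd hc h2 _ _) 2).trans (by simp)

omit [Finite V] in
theorem card_dvd_eight (hc : ∀ a b : V, a * b = b * a) (h2 : ∀ a : V, a ^ 2 = 1) {a b c : V}
    (h : closure ({a, b, c} : Set V) = ⊤) : Nat.card V ∣ 8 := by
  have e : ((⊥ ⊔ zpowers a) ⊔ zpowers b) ⊔ zpowers c = (⊤ : Subgroup V) := by
    rw [eq_top_iff, ← h, closure_le]
    rintro x (rfl | rfl | rfl)
    · exact mem_sup_left (mem_sup_left (mem_sup_right (mem_zpowers _)))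
    · exact mem_sup_left (mem_sup_right (mem_zpowers _))
    · exact mem_sup_right (mem_zpowers _)
  rw [← card_top, ← e]
  refine (card_sup_zpowers_dvd hc h2 _ _).trans ?_
  refine (Nat.mul_dvd_mul_right (card_sup_zpowers_dvd hc h2 _ _) 2).trans ?_
  exact (Nat.mul_dvd_mul_right (Nat.mul_dvd_mul_right (card_sup_zpowers_dvd hc h2 _ _) 2) 2).trans (by simp)

theorem card_aut_le {a b c : V} (h : closure ({a, b, c} : Set V) = ⊤) (hV : Nat.card V = 8)
    (ha : a ≠ 1) (hb : b ≠ 1) (hc : c ≠ 1) (hab : a ≠ b) (hac : a ≠ c) (hbc : b ≠ c) :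
    Nat.card (MulAut V) ≤ 210 := by
  classical
  have := Fintype.ofFinite V
  let v : Fin 3 → V := ![a, b, c]
  have hv1 : ∀ i, v i ≠ 1 := by intro i; fin_cases i <;> assumption
  have hv : Function.Injective v := by
    intro i j hij
    fin_cases i <;> fin_cases j <;> simp_all [v]
  let f : MulAut V → (Fin 3 ↪ {x : V // x ≠ 1}) := fun α =>
    ⟨fun i => ⟨α (v i), by simpa using hv1 i⟩, fun i j hij => hv (α.injective (congrArg Subtype.val hij))⟩
  have hf : Function.Injective f := fun α β e => by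
    have h1 : ∀ i, α (v i) = β (v i) := fun i => congrArg Subtype.val (DFunLike.congr_fun e i)
    apply MulEquiv.toMonoidHom_injective
    refine MonoidHom.eq_of_eqOn_dense h ?_
    rintro x (rfl | rfl | rfl)
    · exact h1 0
    · exact h1 1
    · exact h1 2
  refine (Nat.card_le_card_of_injective f hf).trans ?_
  rw [Nat.card_eq_fintype_card, Fintype.card_embedding_eq, Fintype.card_subtype_compl, Fintype.card_subtype_eq,
    ← Nat.card_eq_fintype_card, hV]
  decide

theorem sol_of_three_gen (hFT : FT) (hc : ∀ a b : V, a * b = b * a) (h2 : ∀ a : V, a ^ 2 = 1) {a b c : V}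
    (h : closure ({a, b, c} : Set V) = ⊤) {X Y : Subgroup (MulAut V)} (hY : Y ≤ X)
    (hn : X ≤ normalizer (Y : Set (MulAut V))) (h1 : Y ≠ ⊥) (ho : Odd (Nat.card Y)) : Group.IsSolvable X := by
  by_cases h4 : Nat.card V ∣ 4
  · have := sol_aut_of_dvd_four h4
    infer_instance
  have hV : Nat.card V = 2 ^ 3 := by
    obtain ⟨d, hd, hV⟩ := (Nat.dvd_prime_pow Nat.prime_two (m := 3)).1 (card_dvd_eight hc h2 h)
    rw [hV] at h4 ⊢
    interval_cases d <;> simp_all
  have two : ∀ x y : V, a ∈ closure ({x, y} : Set V) → b ∈ closure ({x, y} : Set V) →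
      c ∈ closure ({x, y} : Set V) → False := fun x y h1 h2' h3 => h4 (card_dvd_four hc h2 (a := x) (b := y) (by
    rw [eq_top_iff, ← h, closure_le]
    rintro x (rfl | rfl | rfl) <;> assumption))
  have m1 : ∀ x y : V, x ∈ closure ({x, y} : Set V) := fun x y => subset_closure (by simp)
  have m2 : ∀ x y : V, y ∈ closure ({x, y} : Set V) := fun x y => subset_closure (by simp)
  have hle := card_aut_le h hV (fun e => two b c (e ▸ one_mem _) (m1 _ _) (m2 _ _))
    (fun e => two a c (m1 _ _) (e ▸ one_mem _) (m2 _ _)) (fun e => two a b (m1 _ _) (m2 _ _) (e ▸ one_mem _))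
    (fun e => two a c (m1 _ _) (e ▸ m1 _ _) (m2 _ _)) (fun e => two a b (m1 _ _) (m2 _ _) (e ▸ m1 _ _))
    (fun e => two a b (m1 _ _) (m2 _ _) (e ▸ m2 _ _))
  refine sol_of_quot hn (hFT.solvable ho) ?_
  intro _
  by_contra hns
  set m := Nat.card (X ⧸ Y.subgroupOf X) with hm
  have hmX : m * Nat.card Y = Nat.card X := by
    rw [← card_mul_relIndex hY, mul_comm]; rfl
  have hXle : Nat.card X ≤ 210 := (Nat.le_of_dvd Nat.card_pos (card_subgroup_dvd_card X)).trans hle
  have hpr : ∀ r : ℕ, r.Prime → r ∣ m → r = 2 ∨ r = 3 ∨ r = 7 := fun r hr hd => by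
    obtain ⟨k, hk, h1⟩ := exists_dvd_of_prime_dvd_aut hV hr
      ((hd.trans (Dvd.intro _ hmX)).trans (card_subgroup_dvd_card X))
    have h2 : r ∣ 2 ^ 2 * 3 * 7 := by interval_cases k <;> exact h1.trans (by decide)
    rcases (Nat.Prime.dvd_mul hr).1 h2 with h | h
    · rcases (Nat.Prime.dvd_mul hr).1 h with h | h
      · exact Or.inl ((Nat.prime_dvd_prime_iff_eq hr Nat.prime_two).1 (hr.dvd_of_dvd_pow h))
      · exact Or.inr (Or.inl ((Nat.prime_dvd_prime_iff_eq hr Nat.prime_three).1 h))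
    · exact Or.inr (Or.inr ((Nat.prime_dvd_prime_iff_eq hr (by norm_num)).1 h))
  have d4 : 4 ∣ m := by_contra fun h => hns (sol_of_not_four_dvd hFT h)
  have d3 : 3 ∣ m := by_contra fun h => hns (isSolvable_of_prime_dvd_two Nat.prime_two (by norm_num : Nat.Prime 7)
    fun r hr hd => by
      rcases hpr r hr hd with h' | h' | h'
      · exact Or.inl h'
      · exact absurd (h' ▸ hd) h
      · exact Or.inr h')
  have d7 : 7 ∣ m := by_contra fun h => hns (isSolvable_of_prime_dvd_two Nat.prime_two Nat.prime_three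
    fun r hr hd => by
      rcases hpr r hr hd with h' | h' | h'
      · exact Or.inl h'
      · exact Or.inr h'
      · exact absurd (h' ▸ hd) h)
  have hm0 : 0 < m := Nat.card_pos
  have hY3 : 3 ≤ Nat.card Y := by
    have h5 : Nat.card Y ≠ 1 := fun e => h1 (card_eq_one.1 e)
    obtain ⟨j, hj⟩ := ho
    omega
  have : 84 ≤ m := by omega
  nlinarith

end aut

variable {Γ : Type u} [Group Γ] [Finite Γ]

theorem sol_centralizer (hFT : FT) {N S : Subgroup Γ} [N.Normal] (hS : IsSyl 2 S N)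
    (hO : H7.pPrimeCoreOf 2 N = ⊥) (hC : centralizer (N : Set Γ) = ⊥) :
    Group.IsSolvable (centralizer (S : Set Γ)) := by
  refine sol_of_comm_le le_rfl (hFT.solvable ?_)
  rw [← Nat.not_even_iff_odd, even_iff_two_dvd]
  intro hd
  obtain ⟨t, ht, ht2⟩ := exists_orderOf_eq_of_dvd_card hd
  have : t ∈ centralizer (N : Set Γ) := mem_centralizer_iff.2 fun n hn => by
    have := comm_mem_core hS ⟨1, by rw [pow_one, ← ht2, pow_orderOf_eq_one]⟩ ht hn
    rwa [hO, mem_bot, mul_inv_eq_one, mul_inv_eq_iff_eq_mul] at this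
  rw [hC, mem_bot] at this
  rw [this, orderOf_one] at ht2
  exact absurd ht2 (by decide)

omit [Finite Γ] in
theorem sol_normalizer {U : Subgroup Γ} (h1 : Group.IsSolvable (centralizer (U : Set Γ)))
    (h2 : Group.IsSolvable (MulAut U)) : Group.IsSolvable (normalizer (U : Set Γ)) :=
  sol_of_hom U.normalizerMonoidHom (by rw [normalizerMonoidHom_ker]; exact sol_subgroupOf _ h1) inferInstance

theorem sup_normalizer_eq_top {p : ℕ} [Fact p.Prime] {N S : Subgroup Γ} [N.Normal] (hS : IsSyl p S N) :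
    N ⊔ normalizer (S : Set Γ) = ⊤ := by
  rw [eq_top_iff]
  intro g _
  obtain ⟨k, hk, n, hn, rfl⟩ := hS.frattini (g := g) (by rw [normalizer_eq_top]; trivial)
  exact mul_mem (mem_sup_left hk) (mem_sup_right hn)

section simple
variable {G : Type u} [Group G] [Finite G] [IsSimpleGroup G]

omit [Finite G] in
theorem conj_injective (hG : ¬ IsMulCommutative G) : Function.Injective (MulAut.conj : G →* MulAut G) := by
  rw [← MonoidHom.ker_eq_bot_iff]
  rcases (MulAut.conj : G →* MulAut G).normal_ker.eq_bot_or_eq_top with h | h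
  · exact h
  · refine absurd ⟨⟨fun a b => ?_⟩⟩ hG
    have : a ∈ (MulAut.conj : G →* MulAut G).ker := h ▸ Subgroup.mem_top a
    have h2 := congrArg (fun f : MulAut G => f b) (MonoidHom.mem_ker.1 this)
    simp only [MulAut.conj_apply, MulAut.one_apply] at h2
    exact mul_inv_eq_iff_eq_mul.1 h2

omit [Finite G] in
theorem centralizer_inn (hG : ¬ IsMulCommutative G) : centralizer (Inn G : Set (MulAut G)) = ⊥ := by
  rw [eq_bot_iff]
  intro β hβ
  rw [mem_bot]
  ext g
  apply conj_injective hG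
  have h1 : β * MulAut.conj g * β⁻¹ = MulAut.conj (β g) := by ext x; simp
  rw [← h1, ← mem_centralizer_iff.1 hβ _ ⟨g, rfl⟩]
  simp

theorem core_inn (hG : ¬ IsMulCommutative G) (h2 : 2 ∣ Nat.card G) : H7.pPrimeCoreOf 2 (Inn G) = ⊥ := by
  have e : Inn G = (⊤ : Subgroup G).map MulAut.conj := MonoidHom.range_eq_map _
  rw [e, ← H7.map_pPrimeCoreOf_of_injective (conj_injective hG), H7.pPrimeCoreOf_top]
  rcases (inferInstance : (pPrimeCore 2 G).Normal).eq_bot_or_eq_top with h | h
  · rw [h, Subgroup.map_bot]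
  · have := H7.pPrimeCore_eq_top_iff.1 h
    exact absurd (Nat.dvd_gcd h2 dvd_rfl) (by rw [this]; decide)

omit [IsSimpleGroup G] in
theorem syl_inn (S : Sylow 2 G) : IsSyl 2 ((S : Subgroup G).map MulAut.conj) (Inn G) := by
  have e : Inn G = (⊤ : Subgroup G).map MulAut.conj := MonoidHom.range_eq_map _
  rw [e]; exact (isSyl_sylow S).map _

omit [IsSimpleGroup G] in
theorem two_dvd_card (S : Sylow 2 G) (hS1 : (S : Subgroup G) ≠ ⊥) : 2 ∣ Nat.card G :=
  (dvd_card_of_ne_bot S.isPGroup' hS1).trans (card_subgroup_dvd_card _)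

theorem out_of_aut (hFT : FT) (hG : ¬ IsMulCommutative G) (S : Sylow 2 G) (hS1 : (S : Subgroup G) ≠ ⊥)
    (hS : Group.IsSolvable (MulAut ↥S)) : Group.IsSolvable (Out G) := by
  refine sol_quot_of_sup (sup_normalizer_eq_top (syl_inn S)) (sol_normalizer
    (sol_centralizer hFT (syl_inn S) (core_inn hG (two_dvd_card S hS1)) (centralizer_inn hG)) ?_)
  let e := MulAut.congr ((S : Subgroup G).equivMapOfInjective _ (conj_injective hG))
  exact Group.isSolvable_of_surjective (f := e.toMonoidHom) e.surjective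

end simple

end Cfsg.H5.GA
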