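import Cfsg.Agent.H5.OutSolv

/-! Solvability of `Out(G)` for Sylow `2`-subgroups with few generators. -/

set_option autoImplicit false

universe u

namespace Cfsg.H5.GA

open Subgroup Cfsg.L0 Cfsg.H8
open scoped commutatorElement

theorem closure_image_top {A B : Type*} [Group A] [Group B] {g : A →* B} (hg : Function.Surjective g)
    {s : Set A} (h : closure s = ⊤) : closure (g '' s) = ⊤ := by
  rw [← MonoidHom.map_closure, h, map_top_of_surjective _ hg]

variable {Γ : Type u} [Group Γ] [Finite Γ]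

theorem exists_frattini_rep {S : Subgroup Γ} (hS : IsPGroup 2 S) :
    ∃ (V : Type u) (_ : Group V) (_ : Finite V) (g : S →* V) (ψ : normalizer (S : Set Γ) →* MulAut V),
      Function.Surjective g ∧ (∀ a b : V, a * b = b * a) ∧ (∀ a : V, a ^ 2 = 1) ∧
      (∀ x : normalizer (S : Set Γ), (x : Γ) ∈ S → ψ x = 1) ∧
      ∀ x : normalizer (S : Set Γ), ψ x = 1 → (orderOf (x : Γ)).Coprime 2 → (x : Γ) ∈ centralizer (S : Set Γ) := by
  have hn : ((phi 2 S).subgroupOf (normalizer (S : Set Γ))).Normal :=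
    normal_subgroupOf_of_le_normalizer (normalizer_le_normalizer_phi S)
  let f := QuotientGroup.mk' ((phi 2 S).subgroupOf (normalizer (S : Set Γ)))
  have hf : Function.Surjective f := QuotientGroup.mk'_surjective _
  have hk : ∀ x : normalizer (S : Set Γ), f x = 1 ↔ (x : Γ) ∈ phi 2 S := fun x =>
    QuotientGroup.eq_one_iff x
  have hV : (down f S).Normal := normal_down hf le_rfl
  let g : S →* down f S := (f.comp (inclusion le_normalizer)).codRestrict _ fun x => mem_down_of_mem x.2
  have hg : Function.Surjective g := by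
    rintro ⟨y, hy⟩
    obtain ⟨x, hx, rfl⟩ := mem_down.1 hy
    exact ⟨⟨x, hx⟩, rfl⟩
  have hc : ∀ a b : down f S, a * b = b * a := fun a b => by
    obtain ⟨a, rfl⟩ := hg a
    obtain ⟨b, rfl⟩ := hg b
    rw [← commutatorElement_eq_one_iff_mul_comm, ← map_commutatorElement]
    exact Subtype.ext ((hk _).2 (commutator_le_phi S (commutator_mem_commutator a.2 b.2)))
  refine ⟨down f S, inferInstance, inferInstance, g, (MulAut.conjNormal (H := down f S)).comp f, hg, hc,
    fun a => ?_, fun x hx => ?_, fun x hx ho => ?_⟩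
  · obtain ⟨a, rfl⟩ := hg a
    rw [← map_pow]
    exact Subtype.ext ((hk _).2 (pow_mem_phi a.2))
  · ext y
    have := congrArg Subtype.val (hc (g ⟨x, hx⟩) y)
    exact mul_inv_eq_iff_eq_mul.2 this
  · have hca : H9.CoprimeAct (zpowers (x : Γ)) S := H9.coprimeAct_zpowers (isOfFinOrder_of_finite _) x.2 (by
      obtain ⟨k, hk⟩ := hS.exists_card_eq
      rw [hk]; exact ho.pow_right k)
    have h1 : ⁅S, zpowers (x : Γ)⁆ ≤ phi 2 S := by
      rw [commutator_le]
      rintro s hs _ ⟨n, rfl⟩
      have h2 : (MulAut.conjNormal (H := down f S)).comp f (x ^ n) = 1 := by rw [map_zpow, hx, one_zpow]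
      have h3 := congrArg (fun β : MulAut (down f S) => (β (g ⟨s, hs⟩)⁻¹).1) h2
      refine (hk ⁅(⟨s, le_normalizer hs⟩ : normalizer (S : Set Γ)), x ^ n⁆).1 ?_
      rw [map_commutatorElement, commutatorElement_def, mul_assoc, mul_assoc, ← mul_assoc (f (x ^ n))]
      exact mul_eq_one_iff_eq_inv'.2 h3
    have h4 := (hca.mono le_rfl (phi_le S) ((zpowers_le.2 x.2).trans
      (normalizer_le_normalizer_phi S))).le_sup_of_commutator_le (phi_le S) h1
    have h5 := le_of_le_phi_sup hS inf_le_left h4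
    exact mem_centralizer_iff.2 fun s hs => (mem_centralizer_iff.1 (h5 hs).2 _ (mem_zpowers _)).symm

theorem sol_normalizer_of_rep {S : Subgroup Γ} (hC : Group.IsSolvable (centralizer (S : Set Γ)))
    {Q : Type*} [Group Q] (ψ : normalizer (S : Set Γ) →* Q)
    (h : ∀ x : normalizer (S : Set Γ), ψ x = 1 → (orderOf (x : Γ)).Coprime 2 → (x : Γ) ∈ centralizer (S : Set Γ))
    (hr : Group.IsSolvable ψ.range) : Group.IsSolvable (normalizer (S : Set Γ)) := by
  refine sol_of_hom ψ ?_ hr
  have h1 : ActsP 2 (ψ.ker.map (normalizer (S : Set Γ)).subtype) S :=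
    actsP_of_coprime (map_subtype_le _) (by
      rintro _ ⟨x, hx, rfl⟩ ho
      exact h x hx ho)
  have := sol_of_actsP h1 hC
  let e := ψ.ker.equivMapOfInjective _ (normalizer (S : Set Γ)).subtype_injective
  exact Group.isSolvable_of_isSolvable_injective (f := e.toMonoidHom) e.injective

theorem sol_normalizer_two {S : Subgroup Γ} (hS : IsPGroup 2 S)
    (hC : Group.IsSolvable (centralizer (S : Set Γ))) {a b : S} (h : closure ({a, b} : Set S) = ⊤) :
    Group.IsSolvable (normalizer (S : Set Γ)) := by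
  obtain ⟨V, _, _, g, ψ, hg, hc, h2, -, h4⟩ := exists_frattini_rep hS
  have h5 := closure_image_top hg h
  rw [Set.image_pair] at h5
  have := sol_aut_of_dvd_four (card_dvd_four hc h2 h5)
  exact sol_normalizer_of_rep hC ψ h4 inferInstance

theorem sol_normalizer_three (hFT : FT) {N S : Subgroup Γ} [N.Normal] (hS : IsSyl 2 S N)
    (hC : Group.IsSolvable (centralizer (S : Set Γ))) {a b c : S} (h : closure ({a, b, c} : Set S) = ⊤)
    {y : Γ} (hy : y ∈ N) (hyn : y ∈ normalizer (S : Set Γ)) (ho : Odd (orderOf y))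
    (hyc : y ∉ centralizer (S : Set Γ)) : Group.IsSolvable (normalizer (S : Set Γ)) := by
  obtain ⟨V, _, _, g, ψ, hg, hc, h2, h3, h4⟩ := exists_frattini_rep hS.isPGroup
  have h5 := closure_image_top hg h
  rw [Set.image_insert_eq, Set.image_pair] at h5
  refine sol_normalizer_of_rep hC ψ h4 (sol_of_three_gen hFT hc h2 h5
    (Y := (N.subgroupOf (normalizer (S : Set Γ))).map ψ) (map_le_range _ _) ?_ ?_ ?_)
  · rintro _ ⟨x, rfl⟩
    refine mem_normalizer_of_forall ?_
    rintro _ ⟨n, hn, rfl⟩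
    exact ⟨x * n * x⁻¹, Normal.conj_mem inferInstance n hn x, by simp⟩
  · intro e
    have : ψ ⟨y, hyn⟩ ∈ (N.subgroupOf (normalizer (S : Set Γ))).map ψ := ⟨⟨y, hyn⟩, hy, rfl⟩
    rw [e, mem_bot] at this
    exact hyc (h4 _ this (Nat.coprime_two_right.2 ho))
  · rw [← Nat.not_even_iff_odd, even_iff_two_dvd]
    intro hd
    obtain ⟨_, ⟨n, hn, rfl⟩, ht2⟩ := exists_orderOf_eq_of_dvd_card hd
    obtain ⟨u, v, hu, hv, hup, hvo, e⟩ := exists_pPart 2 n
    have huS : (u : Γ) ∈ S := hS.mem_of_mem_normalizer (zpowers_le.2 hn hu)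
      (by obtain ⟨k, hk⟩ := hup; exact ⟨k, congrArg Subtype.val hk⟩) u.2
    rw [e, map_mul, h3 u huS, one_mul] at ht2
    have := hvo.coprime_dvd_left (orderOf_map_dvd ψ v)
    rw [ht2] at this
    exact absurd this (by decide)

variable {G : Type u} [Group G] [Finite G] [IsSimpleGroup G]

theorem out_of_two (hFT : FT) (hG : ¬ IsMulCommutative G) (S : Sylow 2 G) (hS1 : (S : Subgroup G) ≠ ⊥)
    {a b : S} (h : closure ({a, b} : Set S) = ⊤) : Group.IsSolvable (Out G) := by
  let e := (S : Subgroup G).equivMapOfInjective _ (conj_injective hG)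
  have h5 := closure_image_top (g := e.toMonoidHom) e.surjective h
  rw [Set.image_pair] at h5
  exact sol_quot_of_sup (sup_normalizer_eq_top (syl_inn S)) (sol_normalizer_two (syl_inn S).isPGroup
    (sol_centralizer hFT (syl_inn S) (core_inn hG (two_dvd_card S hS1)) (centralizer_inn hG)) h5)

theorem out_of_three (hFT : FT) (hG : ¬ IsMulCommutative G) (S : Sylow 2 G) (hS1 : (S : Subgroup G) ≠ ⊥)
    {a b c : S} (h : closure ({a, b, c} : Set S) = ⊤) {g : G}
    (hg : g ∈ normalizer ((S : Subgroup G) : Set G)) (ho : Odd (orderOf g))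
    (hc : g ∉ centralizer ((S : Subgroup G) : Set G)) : Group.IsSolvable (Out G) := by
  let e := (S : Subgroup G).equivMapOfInjective _ (conj_injective hG)
  have h5 := closure_image_top (g := e.toMonoidHom) e.surjective h
  rw [Set.image_insert_eq, Set.image_pair] at h5
  refine sol_quot_of_sup (sup_normalizer_eq_top (syl_inn S)) (sol_normalizer_three hFT (syl_inn S)
    (sol_centralizer hFT (syl_inn S) (core_inn hG (two_dvd_card S hS1)) (centralizer_inn hG)) h5
    (y := MulAut.conj g) ⟨g, rfl⟩ (le_normalizer_map _ ⟨g, hg, rfl⟩)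
    (by rwa [orderOf_injective _ (conj_injective hG)]) fun h' => hc (mem_centralizer_iff.2 fun s hs => ?_))
  apply conj_injective hG
  rw [map_mul, map_mul]
  exact mem_centralizer_iff.1 h' _ ⟨s, hs, rfl⟩

end Cfsg.H5.GA
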