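import Cfsg.Agent.H5.OutSolv2
import Cfsg.Agent.H5.Anis2
import Cfsg.Agent.H8.Omega
import Cfsg.Agent.FT.Basic5

/-! Solvability of `Out(G)` when the involutions of a Sylow `2`-subgroup commute and are conjugate. -/

set_option autoImplicit false

universe u

namespace Cfsg.H5.GA

open Subgroup Cfsg.L0 Cfsg.H8
open scoped commutatorElement

variable {Γ : Type u} [Group Γ] [Finite Γ]

theorem weakly_closed' {p : ℕ} [Fact p.Prime] {M N S Q : Subgroup Γ} (hNM : N ≤ M)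
    (hM : M ≤ normalizer (N : Set Γ)) (hC : centralizer (S : Set Γ) ≤ M) (hS : IsSyl p S N) {t : Γ}
    (ht : t ∈ ⁅centralizer (S : Set Γ), centralizer (S : Set Γ)⁆) (hQ : IsPGroup p Q) (hSQ : S ≤ Q)
    (htQ : t ∈ Q) {k : Γ} (hk : k ∈ N) (h : k * t * k⁻¹ ∈ Q) : k * t * k⁻¹ = t := by
  have : (N.subgroupOf M).Normal := normal_subgroupOf_of_le_normalizer hM
  rw [← map_subgroupOf_eq_of_le hC, ← Subgroup.map_commutator] at ht
  obtain ⟨t, ht, rfl⟩ := ht
  have h1 : (centralizer (S : Set Γ)).subgroupOf M ≤ centralizer (S.subgroupOf M : Set M) := fun x hx =>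
    mem_centralizer_iff.2 fun y hy => Subtype.ext (mem_centralizer_iff.1 (mem_subgroupOf.1 hx) _ hy)
  obtain ⟨hP, hw⟩ := weakly_closed (hS.subgroupOf hNM) (t := t) (by
    obtain ⟨j, hj⟩ := isPGroup_iff_forall.1 hQ _ htQ
    exact ⟨j, Subtype.ext hj⟩) (commutator_mono h1 h1 ht)
  have hk' : (⟨k, hNM hk⟩ : M) ∈ N.subgroupOf M ⊔ zpowers t := mem_sup_left hk
  have h2 := hP.eq_of_le (Q := Q.subgroupOf M ⊓ (N.subgroupOf M ⊔ zpowers t))
    ((hQ.comap_subtype (K := M)).to_le inf_le_left)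
    (le_inf (sup_le (comap_mono hSQ) (zpowers_le.2 htQ)) hP.le) inf_le_right
  refine congrArg Subtype.val (hw _ hk' (h2 ▸ mem_inf.2 ⟨h, ?_⟩))
  exact mul_mem (mul_mem hk' (mem_sup_right (mem_zpowers t))) (inv_mem hk')

/-- `A` is the set of elements of order at most `2` of a Sylow `2`-subgroup `S` of `N` -/
structure IC (N S A : Subgroup Γ) : Prop where
  syl : IsSyl 2 S N
  mem : ∀ x, x ∈ A ↔ x ∈ S ∧ x * x = 1
  ab : A ≤ centralizer (A : Set Γ)

namespace IC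

variable {N S A : Subgroup Γ}

omit [Finite Γ] in
theorem le (h : IC N S A) : A ≤ S := fun x hx => ((h.mem x).1 hx).1

omit [Finite Γ] in
theorem leT (h : IC N S A) : A ≤ S ⊓ centralizer (A : Set Γ) := le_inf h.le h.ab

omit [Finite Γ] in
theorem sq (h : IC N S A) {x : Γ} (hx : x ∈ A) : x * x = 1 := ((h.mem x).1 hx).2

omit [Finite Γ] in
theorem sq_conj {x : Γ} (hx : x * x = 1) (g : Γ) : g * x * g⁻¹ * (g * x * g⁻¹) = 1 := by
  have : g * x * g⁻¹ * (g * x * g⁻¹) = g * (x * x) * g⁻¹ := by group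
  rw [this, hx]; group

theorem mem_of (h : IC N S A) {Q : Subgroup Γ} (hQ : IsPGroup 2 Q) (h1 : A ≤ Q) (h2 : Q ≤ N) {x : Γ}
    (hx : x ∈ Q) (hx2 : x * x = 1) : x ∈ A := by
  obtain ⟨g, -, hg⟩ := h.syl.exists_cj_le hQ h2
  have h3 : g ∈ normalizer (A : Set Γ) := mem_normalizer_of_forall fun y hy =>
    (h.mem _).2 ⟨hg (conj_mem_cj (h1 hy)), sq_conj (h.sq hy) g⟩
  have := conj_mem_of_mem_normalizer' h3 ((h.mem _).2 ⟨hg (conj_mem_cj hx), sq_conj hx2 g⟩)
  simpa [mul_assoc] using this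

theorem normT (h : IC N S A) :
    normalizer ((S ⊓ centralizer (A : Set Γ) : Subgroup Γ) : Set Γ) ≤ normalizer (A : Set Γ) :=
  fun g hg => mem_normalizer_of_forall fun _ hy =>
    (h.mem _).2 ⟨(conj_mem_of_mem_normalizer hg (h.leT hy)).1, sq_conj (h.sq hy) g⟩

theorem normS (h : IC N S A) : normalizer (S : Set Γ) ≤ normalizer (A : Set Γ) :=
  fun g hg => mem_normalizer_of_forall fun _ hy =>
    (h.mem _).2 ⟨conj_mem_of_mem_normalizer hg (h.le hy), sq_conj (h.sq hy) g⟩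

variable [hN : N.Normal]

omit [Finite Γ] in
theorem nn (H : Subgroup Γ) : H ≤ normalizer (N : Set Γ) := by rw [normalizer_eq_top]; exact le_top

theorem sylT (h : IC N S A) : IsSyl 2 (S ⊓ centralizer (A : Set Γ)) (N ⊓ centralizer (A : Set Γ)) := by
  have h1 : S ≤ normalizer (A : Set Γ) := le_normalizer.trans h.normS
  have h2 := (h.syl.mono (le_inf h.syl.le h1) inf_le_left).inf (K := N ⊓ centralizer (A : Set Γ))
    (inf_le_inf_left _ (centralizer_le_normalizer _)) (le_normalizer_inf (nn _) (le_normalizer_centralizer h1))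
  rwa [← inf_assoc, inf_eq_left.2 h.syl.le] at h2

theorem split (h : IC N S A) {g : Γ} (hg : g ∈ N) (hgA : g ∈ normalizer (A : Set Γ)) :
    ∃ k ∈ N ⊓ centralizer (A : Set Γ), ∃ m ∈ N,
      m ∈ normalizer ((S ⊓ centralizer (A : Set Γ) : Subgroup Γ) : Set Γ) ∧ g = k * m := by
  obtain ⟨k, hk, m, hm, rfl⟩ := h.sylT.frattini (g := g)
    (le_normalizer_inf (nn _) (le_normalizer_centralizer le_rfl) hgA)
  exact ⟨k, hk, m, by simpa using N.mul_mem (N.inv_mem hk.1) hg, hm, rfl⟩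

theorem trans (h : IC N S A) {s t g : Γ} (hs : s ∈ A) (ht : t ∈ A) (hg : g ∈ N) (e : g * s * g⁻¹ = t) :
    ∃ m ∈ N, m ∈ normalizer ((S ⊓ centralizer (A : Set Γ) : Subgroup Γ) : Set Γ) ∧ m * s * m⁻¹ = t := by
  have hA : IsPGroup 2 A := h.syl.isPGroup.to_le h.le
  have hAN : A ≤ N := h.le.trans h.syl.le
  obtain ⟨Q, hQ, hAQ⟩ := exists_isSyl_ge (H := N ⊓ centralizer ({t} : Set Γ)) hA (le_inf hAN fun a ha =>
    mem_centralizer_singleton_iff.2 (mem_centralizer_iff.1 (h.ab ht) a ha))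
  obtain ⟨c, hc, hcQ⟩ := hQ.exists_cj_le (isPGroup_cj hA g) (cj_le_iff_forall.2 fun a ha =>
    ⟨hN.conj_mem _ (hAN ha) g, mem_centralizer_singleton_iff.2 (by
      rw [← e]
      have := mem_centralizer_iff.1 (h.ab hs) a ha
      calc g * a * g⁻¹ * (g * s * g⁻¹) = g * (a * s) * g⁻¹ := by group
        _ = g * (s * a) * g⁻¹ := by rw [this]
        _ = _ := by group)⟩)
  have h1 : c * g ∈ normalizer (A : Set Γ) := mem_normalizer_of_forall fun a ha =>
    h.mem_of hQ.isPGroup hAQ (hQ.le.trans inf_le_left) (by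
      have := hcQ (conj_mem_cj (conj_mem_cj ha))
      convert this using 1; group) (sq_conj (h.sq ha) _)
  obtain ⟨k, hk, m, hm, hm', e2⟩ := h.split (mul_mem hc.1 hg) h1
  refine ⟨m, hm, hm', ?_⟩
  have e3 : m = k⁻¹ * (c * g) := by rw [e2]; group
  have e4 := mem_centralizer_singleton_iff.1 hc.2
  have e5 := mem_centralizer_iff.1 hk.2 t ht
  calc m * s * m⁻¹ = k⁻¹ * (c * (g * s * g⁻¹)) * c⁻¹ * k := by rw [e3]; group
    _ = k⁻¹ * (t * k) := by rw [e, e4]; group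
    _ = t := by rw [e5]; group

theorem sol_cent (hFT : FT) (h : IC N S A) (hO : H7.pPrimeCoreOf 2 N = ⊥) (hC : centralizer (N : Set Γ) = ⊥) :
    Group.IsSolvable (centralizer ((S ⊓ centralizer (A : Set Γ) : Subgroup Γ) : Set Γ)) := by
  set T := S ⊓ centralizer (A : Set Γ) with hT
  refine sol_of_comm_le le_rfl (hFT.solvable ?_)
  rw [← Nat.not_even_iff_odd, even_iff_two_dvd]
  intro hd
  obtain ⟨u, hu, hu2⟩ := exists_orderOf_eq_of_dvd_card hd
  have hup : u ^ 2 ^ 1 = 1 := by rw [pow_one, ← hu2, pow_orderOf_eq_one]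
  have huC : u ∈ centralizer (T : Set Γ) :=
    (commutator_le.2 fun a ha b hb => mul_mem (mul_mem (mul_mem ha hb) (inv_mem ha)) (inv_mem hb)) hu
  have hCA : centralizer (T : Set Γ) ≤ centralizer (A : Set Γ) := centralizer_le h.leT
  have hTN : T ≤ N := inf_le_left.trans h.syl.le
  obtain ⟨P, hP, hTP⟩ := exists_isSyl_ge (H := N ⊔ zpowers u) (Q := T ⊔ zpowers u)
    (IsPGroup.to_sup_of_normal_left' h.sylT.isPGroup (isPGroup_zpowers hup)
      ((zpowers_le.2 huC).trans (centralizer_le_normalizer _))) (sup_le_sup_right hTN _)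
  have hAP : A ≤ P := h.leT.trans (le_sup_left.trans hTP)
  have hAN : A ≤ N := h.le.trans h.syl.le
  have hsc : ∀ g, ∀ a ∈ A, g * a * g⁻¹ ∈ P → g * a * g⁻¹ ∈ A := fun g a ha hg =>
    h.mem_of (Q := P ⊓ N) (hP.isPGroup.to_le inf_le_left) (le_inf hAP hAN) inf_le_right
      ⟨hg, hN.conj_mem _ (hAN ha) g⟩ (sq_conj (h.sq ha) g)
  have huP : u ∈ P := hTP (mem_sup_right (mem_zpowers u))
  have hw : ∀ g ∈ N ⊔ zpowers u, g * u * g⁻¹ ∈ P → g * u * g⁻¹ = u := fun g hg hgu => by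
    obtain ⟨m, ⟨hm, hmA⟩, e⟩ := controls_of_radical (M := (N ⊔ zpowers u) ⊓ normalizer (A : Set Γ)) hP
      (fun U hU _ hcr g hg hgU => by
        refine ⟨g, ⟨hg, ?_⟩, fun _ _ => rfl⟩
        have hAU : A ≤ U := hcr.le_of_abelian hP.isPGroup hP.le hU hAP h.ab
          (fun x hx => mem_normalizer_of_forall fun a ha =>
            hsc x a ha (mul_mem (mul_mem (hU hx) (hAP ha)) (inv_mem (hU hx))))
          (fun x hx => mem_normalizer_of_forall fun a ha =>
            ⟨conj_mem_of_mem_normalizer hx.2 ha.1, hsc x a ha.2 (hU (conj_mem_of_mem_normalizer hx.2 ha.1))⟩)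
        exact mem_normalizer_of_forall fun a ha => hsc g a ha (hU (conj_mem_of_mem_normalizer hgU (hAU ha))))
      (zpowers u) (zpowers_le.2 huP) g hg (by rw [cj_zpowers, zpowers_le]; exact hgu)
    obtain ⟨n, hn, s, hs, rfl⟩ := (mem_sup_of_le_normalizer_left (nn _)).1 hm
    have hsu : s * u * s⁻¹ = u := by
      obtain ⟨i, rfl⟩ := hs
      show u ^ i * u * (u ^ i)⁻¹ = u
      group
    have hnA : n ∈ normalizer (A : Set Γ) := by
      simpa using (normalizer (A : Set Γ)).mul_mem hmA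
        (inv_mem (zpowers_le.2 (centralizer_le_normalizer _ (hCA huC)) hs))
    obtain ⟨k, hk, m, hmN, hmT, rfl⟩ := h.split hn hnA
    set K := N ⊓ centralizer (T : Set Γ) with hK
    have hKn : normalizer (T : Set Γ) ≤ normalizer (K : Set Γ) :=
      le_normalizer_inf (nn _) (le_normalizer_centralizer le_rfl)
    have hZ : IsSyl 2 (T ⊓ K) K := (h.sylT.mono (K := N ⊓ centralizer (A : Set Γ) ⊓ normalizer (T : Set Γ))
      (le_inf h.sylT.le le_normalizer) inf_le_left).inf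
      (le_inf (inf_le_inf_left _ hCA) (inf_le_right.trans (centralizer_le_normalizer _))) (le_normalizer.trans hKn)
    have hnpc : NPC 2 K := burnside_npc hZ fun x hx => mem_centralizer_iff.2 fun z hz =>
      mem_centralizer_iff.1 hx.1.2 z hz.1
    have hOn := hKn.trans (H7.normalizer_le_normalizer_pResidualOf 2 K)
    have h1 : m * u * m⁻¹ * u⁻¹ ∈ pResidualOf 2 K := by
      refine local_step (N := N) (U := T) (fun k hk => ?_) hOn hmN hmT hu
      obtain ⟨o, ho, z, hz, e⟩ := hZ.exists_mul_of_forall (N := pResidualOf 2 K)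
        (H7.le_normalizer_pResidualOf 2 K) (fun x hx => H7.exists_pow_mem_pResidualOf hx) hk
      refine ⟨z, hz.1, hz.2.2, z⁻¹ * o * z, conj_mem_of_mem_normalizer'
        (H7.le_normalizer_pResidualOf 2 K (hZ.le hz)) ho, ?_⟩
      rw [← e]; group
    obtain ⟨o, ho, hc⟩ := H9.exists_mul_mem_centralizer_singleton (N := pResidualOf 2 K) (a := u) (x := m⁻¹)
      (isOfFinOrder_of_finite u) (hOn (centralizer_le_normalizer _ huC)) (by rw [hu2]; exact hnpc.symm)
      (by convert h1 using 1; group)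
    have hoK : o ∈ K := H7.pResidualOf_le 2 K ho
    have e1 : g * u * g⁻¹ = k * o * u * (k * o)⁻¹ := by
      have e2 := mem_centralizer_singleton_iff.1 hc
      rw [e u (mem_zpowers u)]
      calc k * m * s * u * (k * m * s)⁻¹ = k * m * (s * u * s⁻¹) * (m⁻¹ * o) * (k * o)⁻¹ := by group
        _ = k * m * (m⁻¹ * o * u) * (k * o)⁻¹ := by rw [hsu, e2]; group
        _ = _ := by group
    rw [e1] at hgu ⊢
    exact weakly_closed' (M := normalizer (A : Set Γ)) (inf_le_right.trans (centralizer_le_normalizer _))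
      (le_normalizer_inf (nn _) (le_normalizer_centralizer le_rfl)) (hCA.trans (centralizer_le_normalizer _))
      h.sylT hu hP.isPGroup (le_sup_left.trans hTP) huP (mul_mem hk ⟨hoK.1, hCA hoK.2⟩) hgu
  have htH : u ∈ N ⊔ zpowers u := mem_sup_right (mem_zpowers u)
  have hi : IsIsolated (⟨u, htH⟩ : (N ⊔ zpowers u : Subgroup Γ)) :=
    isIsolated_of_weaklyClosed hP.subgroupOf_top (mem_subgroupOf.2 huP)
      fun g hg => Subtype.ext (hw g g.2 (mem_subgroupOf.1 hg))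
  have hz := zstar_pow ⟨1, Subtype.ext hup⟩ hi
  have : u ∈ centralizer (N : Set Γ) := mem_centralizer_iff.2 fun n hn => by
    have h1 := (inZStar_subgroup_iff htH).1 hz n (mem_sup_left hn)
    have h2 : ⁅n, u⁆ ∈ H7.pPrimeCoreOf 2 N := H7.pPrimeCoreOf_inf_le le_sup_left ⟨h1, by
      have : ⁅n, u⁆ = n * (u * n⁻¹ * u⁻¹) := by rw [commutatorElement_def]; group
      show _ ∈ N
      rw [this]
      exact mul_mem hn (hN.conj_mem _ (inv_mem hn) u)⟩
    rwa [hO, mem_bot, commutatorElement_eq_one_iff_mul_comm] at h2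
  rw [hC, mem_bot] at this
  rw [this, orderOf_one] at hu2
  exact absurd hu2 (by decide)

end IC

open Cfsg.FT in
theorem exists_crit {p : ℕ} [Fact p.Prime] {P : Subgroup Γ} (hP : IsPGroup p P) :
    ∃ C, C ≤ P ∧ 𝒩 P ≤ 𝒩 C ∧ ⁅C, P⁆ ≤ 𝒞 C ∧ P ⊓ 𝒞 C ≤ C := by
  obtain ⟨A, -, ⟨a1, a2, a3⟩, a4⟩ := exists_maximal_ge
    (S := fun A => A ≤ P ∧ 𝒩 P ≤ 𝒩 A ∧ Abel A) (A := ⊥) ⟨bot_le, (Nrm.bot _).norm, abel_bot⟩
  have hA : A ⊴ P := ⟨a1, (le_norm P).trans a2⟩
  let C := P ⊓ 𝒞 A ⊓ H7.stab P A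
  have c1 : 𝒩 P ≤ 𝒩 C := le_norm_inf (le_norm_inf le_rfl (le_norm_cent a2))
    (H7.le_normalizer_stab le_rfl a2)
  have c2 : A ≤ C := le_inf (le_inf a1 a3) (H7.le_stab_iff.2 ⟨le_norm A, comm_le_right hA.norm⟩)
  have c3 : ⁅C, P⁆ ≤ A := by
    rw [commutator_comm]; exact (comm_mono le_rfl inf_le_right).trans (H7.commutator_stab_le P A)
  have c4 : A ≤ 𝒞 C := cent_symm (inf_le_left.trans inf_le_right)
  have c5 : C ≤ P := inf_le_left.trans inf_le_left
  refine ⟨C, c5, c1, c3.trans c4, le_trans ?_ c2⟩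
  by_contra hn
  obtain ⟨W, w1, w2, w3, -⟩ := H7.exists_not_le_commutator_le hP (V := P ⊓ 𝒞 C) inf_le_left
    (le_norm_inf (le_norm P) (le_norm_cent ((le_norm P).trans c1))) hn
  have w4 : W ≤ C := le_inf (w1.trans (inf_le_inf_left _ (cent_anti c2))) (H7.le_stab_iff.2
    ⟨w1.trans (inf_le_left.trans hA.norm), by rw [commutator_comm]; exact w3.trans inf_le_left⟩)
  exact w2 ((le_inf w4 (w1.trans inf_le_right)).trans
    (a4 (𝒵 C) ⟨inf_le_left.trans c5, c1.trans (norm_le_norm_ctr C), abel_ctr C⟩ (le_inf c2 c4)).le)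

/-- a characteristic subgroup of exponent `4` on which automorphisms of odd order act faithfully -/
theorem exists_crit_four {T A : Subgroup Γ} (hT : IsPGroup 2 T) (hA : ∀ x, x ∈ A ↔ x ∈ T ∧ x * x = 1)
    (hZ : A ≤ centralizer (T : Set Γ)) :
    ∃ D, A ≤ D ∧ D ≤ T ∧ normalizer (T : Set Γ) ≤ normalizer (D : Set Γ) ∧ (∀ a ∈ D, a * a ∈ A) ∧
      (∀ a ∈ D, ∀ b ∈ D, ⁅a, b⁆ ∈ A) ∧ ∀ x ∈ normalizer (T : Set Γ), (orderOf x).Coprime 2 →
        x ∈ centralizer (D : Set Γ) → x ∈ centralizer (T : Set Γ) := by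
  obtain ⟨C, c1, c2, c3, c4⟩ := exists_crit hT
  have hc : ∀ a ∈ C, ∀ b ∈ C, ∀ c ∈ C, Commute ⁅a, b⁆ c := fun a ha b hb c hc =>
    (mem_centralizer_iff.1 (c3 (commutator_mem_commutator ha (c1 hb))) c hc).symm
  have hsq : ∀ a ∈ C, a ^ 4 = 1 → a * a ∈ A := fun a ha h4 =>
    (hA _).2 ⟨mul_mem (c1 ha) (c1 ha), by rw [← h4]; simp [pow_succ, mul_assoc]⟩
  have hcm : ∀ a ∈ C, a ^ 4 = 1 → ∀ b ∈ C, ⁅a, b⁆ * ⁅a, b⁆ = 1 := fun a ha h4 b hb => by
    have e1 := mem_centralizer_iff.1 (hZ (hsq a ha h4)) b (c1 hb)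
    have e2 := (hc a ha b hb a ha).eq
    calc ⁅a, b⁆ * ⁅a, b⁆ = a⁻¹ * (a * ⁅a, b⁆) * ⁅a, b⁆ := by group
      _ = a⁻¹ * (⁅a, b⁆ * a) * ⁅a, b⁆ := by rw [e2]
      _ = a⁻¹ * (a * ⁅a, b⁆ * a⁻¹ * ⁅a, b⁆) * a := by
        rw [← e2, mul_assoc a⁻¹, mul_assoc _ a, ← e2]; group
      _ = a⁻¹ * ((a * a * b) * (a * a)⁻¹ * b⁻¹) * a := by simp only [commutatorElement_def]; group
      _ = 1 := by rw [← e1]; group
  let D : Subgroup Γ :=
    { carrier := {x | x ∈ C ∧ x ^ 4 = 1}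
      one_mem' := ⟨one_mem _, one_pow _⟩
      mul_mem' := by
        rintro a b ⟨ha, ha4⟩ ⟨hb, hb4⟩
        refine ⟨mul_mem ha hb, ?_⟩
        rw [mul_pow_eq_of_class_two (hc b hb a ha a ha) (hc b hb a ha b hb), ha4, hb4,
          show Nat.choose 4 2 = 2 * 3 from rfl, pow_mul, pow_two, hcm b hb hb4 a ha]
        simp
      inv_mem' := by
        rintro a ⟨ha, ha4⟩
        exact ⟨inv_mem ha, by rw [inv_pow, ha4, inv_one]⟩ }
  refine ⟨D, fun a ha => ⟨c4 ⟨((hA a).1 ha).1, centralizer_le c1 (hZ ha)⟩, ?_⟩, fun a ha => c1 ha.1,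
    fun g hg => mem_normalizer_of_forall fun a ha => ⟨conj_mem_of_mem_normalizer (c2 hg) ha.1, ?_⟩,
    fun a ha => hsq a ha.1 ha.2, fun a ha b hb => (hA _).2 ⟨?_, hcm a ha.1 ha.2 b hb.1⟩, fun x hx ho hxD => ?_⟩
  · rw [show a ^ 4 = (a * a) * (a * a) by simp [pow_succ, mul_assoc], ((hA a).1 ha).2, one_mul]
  · rw [conj_pow, ha.2]; group
  · exact mul_mem (mul_mem (mul_mem (c1 ha.1) (c1 hb.1)) (inv_mem (c1 ha.1))) (inv_mem (c1 hb.1))
  · have h1 := mem_centralizer_of_omega_two (hT.to_le c1) (c2 hx) ho fun y hy h4 =>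
      mem_centralizer_iff.1 hxD y ⟨hy, h4⟩
    refine zpowers_le.1 (FT.cent_of_selfcent (le_normalizer.trans c2) c4 (zpowers_le.2 hx) ?_ (zpowers_le.2 h1))
    obtain ⟨k, hk⟩ := hT.exists_card_eq
    rw [hk, Nat.card_zpowers]
    exact ho.symm.pow_left k

theorem exists_sol_normalizer (hFT : FT) {T A Y : Subgroup Γ} [Y.Normal] (hT : IsPGroup 2 T)
    (hA : ∀ x, x ∈ A ↔ x ∈ T ∧ x * x = 1) (hZ : A ≤ centralizer (T : Set Γ))
    (hC : Group.IsSolvable (centralizer (T : Set Γ)))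
    (htr : ∀ s ∈ A, ∀ t ∈ A, s ≠ 1 → t ≠ 1 → ∃ y ∈ Y, y ∈ normalizer (T : Set Γ) ∧ y * s * y⁻¹ = t)
    {n : ℕ} (hn : 2 ≤ n) (hcard : Nat.card A = 2 ^ n) :
    ∃ E : Subgroup Γ, Group.IsSolvable E ∧ normalizer (T : Set Γ) ≤ Y ⊔ E := by
  obtain ⟨D, d1, d2, d3, d4, d5, d6⟩ := exists_crit_four hT hA hZ
  set M := normalizer (T : Set Γ) with hM
  have hTM : T ≤ M := le_normalizer
  have hMA : M ≤ normalizer (A : Set Γ) := fun g hg => mem_normalizer_of_forall fun a ha =>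
    (hA _).2 ⟨conj_mem_of_mem_normalizer hg ((hA a).1 ha).1, IC.sq_conj ((hA a).1 ha).2 g⟩
  have hnA : (A.subgroupOf M).Normal := normal_subgroupOf_of_le_normalizer hMA
  have hnC : ((centralizer (T : Set Γ)).subgroupOf M).Normal :=
    normal_subgroupOf_of_le_normalizer (le_normalizer_centralizer le_rfl)
  let f := QuotientGroup.mk' (A.subgroupOf M)
  have hf : Function.Surjective f := QuotientGroup.mk'_surjective _
  have hk : ∀ x : M, f x = 1 ↔ (x : Γ) ∈ A := fun x => QuotientGroup.eq_one_iff x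
  have hV : (down f D).Normal := normal_down hf d3
  let g : D →* down f D := (f.comp (inclusion (d2.trans hTM))).codRestrict _ fun x => mem_down_of_mem x.2
  have hg : Function.Surjective g := by
    rintro ⟨y, hy⟩
    obtain ⟨x, hx, rfl⟩ := mem_down.1 hy
    exact ⟨⟨x, hx⟩, rfl⟩
  have hg1 : ∀ a : D, g a = 1 ↔ (a : Γ) ∈ A := fun a =>
    ⟨fun e => (hk _).1 (congrArg Subtype.val e), fun e => Subtype.ext ((hk _).2 e)⟩
  have hcz : ∀ z ∈ A, ∀ a : D, Commute z a := fun z hz a => (mem_centralizer_iff.1 (hZ hz) a (d2 a.2)).symm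
  have hge : ∀ a b : D, g a = g b → ∃ z ∈ A, (b : Γ) = a * z := fun a b e =>
    ⟨(a : Γ)⁻¹ * b, (hg1 (a⁻¹ * b)).1 (by rw [map_mul, map_inv, e, inv_mul_cancel]), by group⟩
  let iV : CommGroup (down f D) := { (inferInstance : Group (down f D)) with
    mul_comm := fun a b => by
      obtain ⟨a, rfl⟩ := hg a
      obtain ⟨b, rfl⟩ := hg b
      rw [← commutatorElement_eq_one_iff_mul_comm, ← map_commutatorElement]
      exact (hg1 _).2 (d5 _ a.2 _ b.2) }
  let iA : CommGroup A := { (inferInstance : Group A) with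
    mul_comm := fun a b => Subtype.ext (hcz a a.2 ⟨b, d1 b.2⟩).eq }
  let σ := Function.surjInv hg
  have hσ : ∀ v, g (σ v) = v := Function.surjInv_eq hg
  let q : down f D → A := fun v => ⟨σ v * σ v, d4 _ (σ v).2⟩
  let β : down f D → down f D → A := fun v w => ⟨⁅(σ w : Γ), (σ v : Γ)⁆, d5 _ (σ w).2 _ (σ v).2⟩
  have hq : ∀ a : D, (q (g a) : Γ) = a * a := fun a => by
    obtain ⟨z, hz, e⟩ := hge _ _ (hσ (g a)).symm
    show (σ (g a) : Γ) * σ (g a) = _
    rw [e, mul_assoc, ← mul_assoc z, (hcz z hz a).eq, mul_assoc, ((hA z).1 hz).2, mul_one]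
  have hβ : ∀ a b : D, (β (g a) (g b) : Γ) = ⁅(b : Γ), (a : Γ)⁆ := fun a b => by
    obtain ⟨z, hz, e⟩ := hge _ _ (hσ (g a)).symm
    obtain ⟨y, hy, e'⟩ := hge _ _ (hσ (g b)).symm
    show ⁅(σ (g b) : Γ), (σ (g a) : Γ)⁆ = _
    rw [e, e', ← (hcz z hz a).eq, ← (hcz y hy b).eq]
    exact comm_central (hcz y hy b) (hcz y hy a) (hcz z hz b) (hcz z hz a) (hcz y hy ⟨z, d1 hz⟩)
  have hQD : QD q β :=
    { sqV := fun v => by
        obtain ⟨a, rfl⟩ := hg v
        rw [← map_mul]; exact (hg1 _).2 (d4 _ a.2)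
      sqΩ := fun t => Subtype.ext ((hA _).1 t.2).2
      mul := fun u v => by
        obtain ⟨a, rfl⟩ := hg u
        obtain ⟨b, rfl⟩ := hg v
        refine Subtype.ext ?_
        rw [← map_mul, hq, coe_mul, coe_mul, coe_mul, hq, hq, hβ, ← pow_two, ← pow_two, ← pow_two,
          mul_pow_eq_of_class_two (hcz _ (d5 _ b.2 _ a.2) a) (hcz _ (d5 _ b.2 _ a.2) b)]
        simp
      left := fun u u' v => by
        obtain ⟨a, rfl⟩ := hg u
        obtain ⟨a', rfl⟩ := hg u'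
        obtain ⟨b, rfl⟩ := hg v
        refine Subtype.ext ?_
        rw [← map_mul, hβ, coe_mul, coe_mul, hβ, hβ]
        have := (hcz _ (d5 _ b.2 _ a'.2) a).eq
        calc ⁅(b : Γ), (a : Γ) * a'⁆ = ⁅(b : Γ), (a : Γ)⁆ * (a * ⁅(b : Γ), (a' : Γ)⁆) * (a : Γ)⁻¹ := by
              simp only [commutatorElement_def]; group
          _ = _ := by rw [← this]; group
      one := Subtype.ext (by rw [← map_one g, hq]; simp)
      anis := fun v hv => by
        obtain ⟨a, rfl⟩ := hg v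
        exact (hg1 a).2 ((hA _).2 ⟨d2 a.2, (hq a).symm.trans (congrArg Subtype.val hv)⟩) }
  let ψ0 : M →* MulAut (down f D) := (MulAut.conjNormal (H := down f D)).comp f
  let χ0 : M →* MulAut A := A.normalizerMonoidHom.comp (inclusion hMA)
  have hψ : ∀ (x : M) (a : D), ψ0 x (g a) = g ⟨x * a * x⁻¹, conj_mem_of_mem_normalizer (d3 x.2) a.2⟩ :=
    fun x a => Subtype.ext (by
      show f x * f _ * (f x)⁻¹ = f _
      rw [← map_inv, ← map_mul, ← map_mul]; rfl)
  have hχ : ∀ (x : M) (t : A), (χ0 x t : Γ) = x * t * (x : Γ)⁻¹ := fun x t => rfl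
  let ψ := QuotientGroup.lift ((centralizer (T : Set Γ)).subgroupOf M) ψ0 fun x hx => by
    refine MulEquiv.ext fun v => ?_
    obtain ⟨a, rfl⟩ := hg v
    rw [hψ]
    refine congrArg g (Subtype.ext ?_)
    show (x : Γ) * a * (x : Γ)⁻¹ = a
    rw [← mem_centralizer_iff.1 (mem_subgroupOf.1 hx) a (d2 a.2)]; group
  let χ := QuotientGroup.lift ((centralizer (T : Set Γ)).subgroupOf M) χ0 fun x hx => by
    refine MulEquiv.ext fun a => Subtype.ext ?_
    rw [hχ, ← mem_centralizer_iff.1 (mem_subgroupOf.1 hx) a (d2 (d1 a.2))]; simp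
  let π := QuotientGroup.mk' ((centralizer (T : Set Γ)).subgroupOf M)
  have hπ : Function.Surjective π := QuotientGroup.mk'_surjective _
  have hY : ((Y.subgroupOf M).map π).Normal := Normal.map inferInstance _ hπ
  obtain ⟨E, hE, hYE⟩ := exists_sol (ψ := ψ) (χ := χ) (Y := (Y.subgroupOf M).map π) hFT hQD (fun x v => by
      obtain ⟨x, rfl⟩ := hπ x
      obtain ⟨a, rfl⟩ := hg v
      refine Subtype.ext ?_
      show (q (ψ0 x (g a)) : Γ) = χ0 x (q (g a))
      rw [hψ, hq, hχ, hq]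
      show (x : Γ) * a * (x : Γ)⁻¹ * (x * a * (x : Γ)⁻¹) = _
      group)
    (fun x h1 h2 => by
      obtain ⟨x, rfl⟩ := hπ x
      obtain ⟨k, hk⟩ := exists_pow_coprime 2 (x : Γ)
      refine ⟨k, ?_⟩
      rw [← map_pow]
      refine (QuotientGroup.eq_one_iff _).2 (mem_subgroupOf.2 (d6 _ (x ^ 2 ^ k).2 hk ?_))
      have h3 : ψ0 (x ^ 2 ^ k) = 1 := by rw [map_pow, show ψ0 x = 1 from h1, one_pow]
      have h4 : χ0 (x ^ 2 ^ k) = 1 := by rw [map_pow, show χ0 x = 1 from h2, one_pow]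
      change ((x ^ 2 ^ k : M) : Γ) ∈ _
      have hk' : (orderOf ((x ^ 2 ^ k : M) : Γ)).Coprime 2 := hk
      generalize x ^ 2 ^ k = y at h3 h4 hk'
      refine zpowers_le.1 (FT.cent_of_stable (H := A) (zpowers_le.2 (d3 y.2)) ?_ ?_ (zpowers_le.2 ?_))
      · obtain ⟨j, hj⟩ := (hT.to_le d2).exists_card_eq
        rw [hj, Nat.card_zpowers]
        exact hk'.symm.pow_left j
      · rw [commutator_le]
        rintro a ha _ ⟨i, rfl⟩
        have h5 := hψ (y ^ i) ⟨a, ha⟩⁻¹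
        rw [map_zpow, h3, one_zpow, MulAut.one_apply, map_inv, inv_eq_iff_mul_eq_one, ← map_mul, hg1] at h5
        convert h5 using 1
        simp [commutatorElement_def, mul_assoc]
      · refine mem_centralizer_iff.2 fun a ha => ?_
        have h5 := hχ y ⟨a, ha⟩
        rw [h4, MulAut.one_apply] at h5
        exact eq_mul_inv_iff_mul_eq.1 h5)
    (fun s t hs ht => by
      obtain ⟨y, hy, hyM, e⟩ := htr s s.2 t t.2 (fun e => hs (Subtype.ext e)) fun e => ht (Subtype.ext e)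
      exact ⟨π ⟨y, hyM⟩, mem_map_of_mem _ hy, Subtype.ext e⟩) hn hcard
  refine ⟨(E.comap π).map M.subtype, ?_, fun x hx => ?_⟩
  · have h1 : Group.IsSolvable (E.comap π) := by
      refine sol_of_hom (π.subgroupComap E) ?_ inferInstance
      have := sol_subgroupOf M hC
      have h2 := sol_subgroupOf (E.comap π) this
      refine sol_of_le (fun x hx => ?_) h2
      exact (QuotientGroup.eq_one_iff (x : M)).1 (congrArg Subtype.val (MonoidHom.mem_ker.1 hx))
    exact Group.isSolvable_of_surjective (M.subtype.subgroupMap_surjective (E.comap π))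
  · obtain ⟨_, ⟨y, hy, rfl⟩, e, he, h1⟩ := (mem_sup_of_le_normalizer_left (N := (Y.subgroupOf M).map π) (H := E)
      (by rw [normalizer_eq_top]; exact le_top)).1 (hYE ▸ mem_top (π ⟨x, hx⟩))
    have h2 : y⁻¹ * ⟨x, hx⟩ ∈ E.comap π := by
      rw [mem_comap, map_mul, map_inv, ← h1, inv_mul_cancel_left]; exact he
    have : x = y * (y⁻¹ * ⟨x, hx⟩ : M) := by simp
    rw [this]
    exact mul_mem (mem_sup_left hy) (mem_sup_right (mem_map_of_mem _ h2))

variable {G : Type u} [Group G] [Finite G] [IsSimpleGroup G]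

theorem out_of_inv (hFT : FT) (hG : ¬ IsMulCommutative G) (S : Sylow 2 G) (hS1 : (S : Subgroup G) ≠ ⊥)
    (h1 : ∀ s ∈ S, ∀ t ∈ S, orderOf s = 2 → orderOf t = 2 → s * t = t * s)
    (h2 : ∀ s ∈ S, ∀ t ∈ S, orderOf s = 2 → orderOf t = 2 → ∃ g : G, g * s * g⁻¹ = t) :
    Group.IsSolvable (Out G) := by
  have hinj := conj_injective hG
  have ho : ∀ s : G, MulAut.conj s * MulAut.conj s = 1 → s = 1 ∨ orderOf s = 2 := fun s hs => by
    rw [← map_mul, ← map_one MulAut.conj] at hs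
    rcases eq_or_ne s 1 with h | h
    · exact Or.inl h
    · exact Or.inr (orderOf_eq_prime (by rw [pow_two]; exact hinj hs) h)
  have hc : ∀ a ∈ (S : Subgroup G).map MulAut.conj, a * a = 1 → ∀ b ∈ (S : Subgroup G).map MulAut.conj,
      b * b = 1 → Commute a b := by
    rintro _ ⟨a, ha, rfl⟩ ha2 _ ⟨b, hb, rfl⟩ hb2
    refine Commute.map ?_ _
    rcases ho a ha2 with rfl | ha'
    · exact Commute.one_left _
    rcases ho b hb2 with rfl | hb'
    · exact Commute.one_right _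
    exact h1 a ha b hb ha' hb'
  let A : Subgroup (MulAut G) :=
    { carrier := {x | x ∈ (S : Subgroup G).map MulAut.conj ∧ x * x = 1}
      one_mem' := ⟨one_mem _, one_mul _⟩
      mul_mem' := by
        rintro a b ⟨ha, ha2⟩ ⟨hb, hb2⟩
        refine ⟨mul_mem ha hb, ?_⟩
        rw [mul_assoc, ← mul_assoc b, ← (hc a ha ha2 b hb hb2).eq, mul_assoc, hb2, mul_one, ha2]
      inv_mem' := by
        rintro a ⟨ha, ha2⟩
        exact ⟨inv_mem ha, by rw [← mul_inv_rev, ha2, inv_one]⟩ }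
  have h : IC (Inn G) ((S : Subgroup G).map MulAut.conj) A :=
    ⟨syl_inn S, fun _ => Iff.rfl, fun a ha => mem_centralizer_iff.2 fun b hb => hc b hb.1 hb.2 a ha.1 ha.2⟩
  have hO := core_inn hG (two_dvd_card S hS1)
  have hC := centralizer_inn hG
  have htr : ∀ s ∈ A, ∀ t ∈ A, s ≠ 1 → t ≠ 1 → ∃ y ∈ Inn G, y * s * y⁻¹ = t := by
    rintro _ ⟨⟨s, hs, rfl⟩, hs2⟩ _ ⟨⟨t, ht, rfl⟩, ht2⟩ hs1 ht1
    obtain ⟨g, rfl⟩ := h2 s hs t ht ((ho s hs2).resolve_left fun e => hs1 (by rw [e, map_one]))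
      ((ho t ht2).resolve_left fun e => ht1 (by rw [e, map_one]))
    exact ⟨MulAut.conj g, ⟨g, rfl⟩, by rw [map_mul, map_mul, map_inv]⟩
  obtain ⟨n, hn⟩ := (h.syl.isPGroup.to_le h.le).exists_card_eq
  have hn2 : 2 ≤ n := by
    by_contra hlt
    obtain ⟨t, ht, ht2⟩ := exists_orderOf_eq_of_dvd_card (dvd_card_of_ne_bot S.isPGroup' hS1)
    have hm : ∀ s ∈ S, orderOf s = 2 → MulAut.conj s ∈ A ∧ MulAut.conj s ≠ 1 := fun s hs hs2 =>
      ⟨⟨mem_map_of_mem _ hs, by rw [← map_mul, ← pow_two, ← hs2, pow_orderOf_eq_one, map_one]⟩, fun e => by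
        rw [← map_one MulAut.conj] at e
        rw [hinj e, orderOf_one] at hs2
        exact absurd hs2 (by decide)⟩
    have hz := zstar_of_unique_involution ht2 S ht fun s hs hs2 => by
      by_contra hne
      obtain ⟨a1, a2⟩ := hm s hs hs2
      obtain ⟨b1, b2⟩ := hm t ht ht2
      have h3 : 2 < Nat.card A := by
        have := Fintype.ofFinite A
        rw [Nat.card_eq_fintype_card, Fintype.two_lt_card_iff]
        exact ⟨1, ⟨_, a1⟩, ⟨_, b1⟩, fun e => a2 (congrArg Subtype.val e).symm,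
          fun e => b2 (congrArg Subtype.val e).symm, fun e => hne (hinj (congrArg Subtype.val e))⟩
      rw [hn] at h3
      interval_cases n <;> simp at h3
    have h4 : pPrimeCore 2 G = ⊥ := by
      rcases (inferInstance : (pPrimeCore 2 G).Normal).eq_bot_or_eq_top with h | h
      · exact h
      · have := H7.pPrimeCore_eq_top_iff.1 h
        exact absurd (Nat.dvd_gcd (two_dvd_card S hS1) dvd_rfl) (by rw [this]; decide)
    refine (hm t ht ht2).2 (MulEquiv.ext fun g => ?_)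
    have h5 := hz g
    rw [h4, mem_bot, mul_inv_eq_one, mul_inv_eq_iff_eq_mul] at h5
    rw [MulAut.conj_apply, ← h5]; simp
  obtain ⟨E, hE, hle⟩ := exists_sol_normalizer (Y := Inn G) hFT h.sylT.isPGroup
    (fun x => ⟨fun hx => ⟨h.leT hx, hx.2⟩, fun hx => ⟨hx.1.1, hx.2⟩⟩) (le_centralizer_iff.1 inf_le_right)
    (h.sol_cent hFT hO hC) (fun s hs t ht hs1 ht1 => by
      obtain ⟨y, hy, e⟩ := htr s hs t ht hs1 ht1
      exact h.trans hs ht hy e) hn2 hn
  refine sol_quot_of_sup (E := E) ?_ hE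
  rw [eq_top_iff, ← sup_normalizer_eq_top h.syl]
  exact sup_le le_sup_left ((le_normalizer_inf le_rfl (le_normalizer_centralizer h.normS)).trans hle)

end Cfsg.H5.GA
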